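import Mathlib.GroupTheory.OrderOfElement
import Mathlib.GroupTheory.SemidirectProduct
import Mathlib.GroupTheory.QuotientGroup.Basic

set_option autoImplicit false

namespace Cfsg.Agent.Lib.Helper10

open SemidirectProduct

variable {G : Type*} [Group G]

/-- If `V` is normal of exponent dividing the prime `p`, the order of `h` is `m` or `m * p`, where `m` is the order
of the image of `h` in `G ⧸ V`. -/
theorem orderOf_eq_or_of_exponent (V : Subgroup G) [V.Normal] (p : ℕ) (hp : p.Prime)
    (hexp : ∀ x : V, x ^ p = 1) (h : G) :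
    orderOf h = orderOf (QuotientGroup.mk' V h) ∨ orderOf h = orderOf (QuotientGroup.mk' V h) * p := by
  set m := orderOf (QuotientGroup.mk' V h) with hm
  have h1 : m ∣ orderOf h := orderOf_map_dvd (QuotientGroup.mk' V) h
  have h2 : h ^ m ∈ V := by
    have : (QuotientGroup.mk' V h) ^ m = 1 := pow_orderOf_eq_one _
    rw [← map_pow] at this
    exact (QuotientGroup.eq_one_iff _).1 this
  have h3 : h ^ (m * p) = 1 := by
    have := hexp ⟨h ^ m, h2⟩
    rw [pow_mul]
    exact congrArg Subtype.val this
  have h4 : orderOf h ∣ m * p := orderOf_dvd_of_pow_eq_one h3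
  obtain ⟨d, hd⟩ := h1
  rcases Nat.eq_zero_or_pos m with h0 | h0
  · left
    rw [hd, h0, zero_mul]
  · rw [hd] at h4
    have h5 : d ∣ p := Nat.dvd_of_mul_dvd_mul_left h0 h4
    rcases (Nat.dvd_prime hp).1 h5 with rfl | rfl
    · left; rw [hd, mul_one]
    · right; exact hd

/-- The homomorphism `V ⋊ G → G`, `(v, g) ↦ v * g`, for the conjugation action. -/
noncomputable def semidirectMulHom (V : Subgroup G) [V.Normal] : V ⋊[MulAut.conjNormal] G →* G :=
  SemidirectProduct.lift V.subtype (MonoidHom.id G) (by
    intro g
    ext v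
    simp [MulAut.conjNormal_apply])

theorem semidirectMulHom_apply (V : Subgroup G) [V.Normal] (x : V ⋊[MulAut.conjNormal] G) :
    semidirectMulHom V x = (x.left : G) * x.right := rfl

/-- The injective homomorphism `V ⋊ G → G × G`, `(v, g) ↦ (v * g, g)`. -/
noncomputable def semidirectProdHom (V : Subgroup G) [V.Normal] : V ⋊[MulAut.conjNormal] G →* G × G :=
  (semidirectMulHom V).prod SemidirectProduct.rightHom

theorem semidirectProdHom_injective (V : Subgroup G) [V.Normal] :
    Function.Injective (semidirectProdHom V) := by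
  intro x y hxy
  have h1 : (x.left : G) * x.right = (y.left : G) * y.right := congrArg Prod.fst hxy
  have h2 : x.right = y.right := congrArg Prod.snd hxy
  rw [h2] at h1
  have h3 : (x.left : G) = y.left := mul_right_cancel h1
  exact SemidirectProduct.ext (Subtype.ext h3) h2

/-- The semidirect product `V ⋊ G` of a group `G` with a normal subgroup `V` of prime exponent (for the conjugation
action) has the same set of element orders as `G`. -/
theorem range_orderOf_semidirect_conj (V : Subgroup G) [V.Normal] (p : ℕ) (hp : p.Prime)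
    (hexp : ∀ x : V, x ^ p = 1) :
    Set.range (orderOf : V ⋊[MulAut.conjNormal] G → ℕ) = Set.range (orderOf : G → ℕ) := by
  apply Set.Subset.antisymm
  · rintro n ⟨x, rfl⟩
    have hx : orderOf x = Nat.lcm (orderOf ((x.left : G) * x.right)) (orderOf x.right) := by
      rw [← orderOf_injective (semidirectProdHom V) (semidirectProdHom_injective V) x, Prod.orderOf]
      rfl
    have hq : QuotientGroup.mk' V ((x.left : G) * x.right) = QuotientGroup.mk' V x.right := by
      rw [map_mul]
      have : QuotientGroup.mk' V (x.left : G) = 1 := (QuotientGroup.eq_one_iff _).2 x.left.2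
      rw [this, one_mul]
    have ha := orderOf_eq_or_of_exponent V p hp hexp ((x.left : G) * x.right)
    have hb := orderOf_eq_or_of_exponent V p hp hexp x.right
    rw [hq] at ha
    set m := orderOf (QuotientGroup.mk' V x.right)
    rcases ha with ha | ha <;> rcases hb with hb | hb
    · exact ⟨x.right, by rw [hx, ha, hb, Nat.lcm_self]⟩
    · refine ⟨x.right, ?_⟩
      rw [hx, ha, hb]
      exact (Nat.lcm_eq_right (Dvd.intro _ rfl)).symm
    · refine ⟨(x.left : G) * x.right, ?_⟩
      rw [hx, ha, hb]
      exact (Nat.lcm_eq_left (Dvd.intro _ rfl)).symm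
    · exact ⟨x.right, by rw [hx, ha, hb, Nat.lcm_self]⟩
  · rintro n ⟨g, rfl⟩
    exact ⟨SemidirectProduct.inr g, orderOf_injective _ SemidirectProduct.inr_injective g⟩

end Cfsg.Agent.Lib.Helper10
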