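import Mathlib.GroupTheory.Solvable
import Mathlib.GroupTheory.Perm.Cycle.Type
import Mathlib.GroupTheory.SemidirectProduct
import Mathlib.Algebra.Group.Shrink
import Mathlib.Logic.Small.Basic
import Cfsg.Agent.Lib.Helper10.SemidirectSpectrum

set_option autoImplicit false

namespace Cfsg.Agent.Lib.Helper10

open SemidirectProduct

universe u

/-- A nontrivial solvable group has a nontrivial abelian characteristic subgroup
(the last nontrivial term of the derived series). -/
theorem exists_abelian_characteristic (K : Type*) [Group K] [Nontrivial K] (hs : Group.IsSolvable K) :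
    ∃ A : Subgroup K, A.Characteristic ∧ A ≠ ⊥ ∧ ∀ x ∈ A, ∀ y ∈ A, x * y = y * x := by
  classical
  have hex : ∃ n, derivedSeries K n = ⊥ := hs.solvable
  have h0 : Nat.find hex ≠ 0 := by
    intro h
    have := Nat.find_spec hex
    rw [h, derivedSeries_zero] at this
    exact top_ne_bot this
  obtain ⟨m, hm⟩ := Nat.exists_eq_succ_of_ne_zero h0
  refine ⟨derivedSeries K m, derivedSeries_characteristic K m, ?_, ?_⟩
  · exact Nat.find_min hex (by omega)
  · have h1 : derivedSeries K (m + 1) = ⊥ := by
      have := Nat.find_spec hex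
      rwa [hm] at this
    rw [derivedSeries_succ, Subgroup.commutator_eq_bot_iff_le_centralizer] at h1
    intro x hx y hy
    exact ((Subgroup.mem_centralizer_iff.1 (h1 hx)) y hy).symm

/-- A finite group with a nontrivial solvable normal subgroup has a nontrivial normal subgroup of prime exponent. -/
theorem exists_normal_prime_exponent {G : Type*} [Group G] [Finite G] (K : Subgroup G) [K.Normal] (hK : K ≠ ⊥)
    (hs : Group.IsSolvable K) :
    ∃ (V : Subgroup G) (p : ℕ), V.Normal ∧ V ≠ ⊥ ∧ p.Prime ∧ ∀ x : V, x ^ p = 1 := by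
  classical
  have : Nontrivial K := (Subgroup.nontrivial_iff_ne_bot K).2 hK
  obtain ⟨A, hAchar, hAne, hAcomm⟩ := exists_abelian_characteristic K hs
  have := hAchar
  set A' : Subgroup G := A.map K.subtype with hA'
  have hA'normal : A'.Normal := ConjAct.normal_of_characteristic_of_normal
  have hA'ne : A' ≠ ⊥ := by
    intro h
    exact hAne ((Subgroup.map_eq_bot_iff_of_injective A K.subtype_injective).1 h)
  have hA'comm : ∀ x ∈ A', ∀ y ∈ A', x * y = y * x := by
    rintro _ ⟨x, hx, rfl⟩ _ ⟨y, hy, rfl⟩
    have := hAcomm x hx y hy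
    rw [← map_mul, ← map_mul, this]
  have : Nontrivial A' := (Subgroup.nontrivial_iff_ne_bot A').2 hA'ne
  have hcard : Nat.card A' ≠ 1 := by
    intro h
    have := (Nat.card_eq_one_iff_unique.1 h).1
    exact not_subsingleton A' this
  obtain ⟨p, hp, hpdvd⟩ := Nat.exists_prime_and_dvd hcard
  have : Fact p.Prime := ⟨hp⟩
  obtain ⟨a, ha⟩ := exists_prime_orderOf_dvd_card' p hpdvd
  let V : Subgroup G :=
    { carrier := {x | x ∈ A' ∧ x ^ p = 1}
      one_mem' := ⟨A'.one_mem, one_pow p⟩
      mul_mem' := by
        rintro x y ⟨hx, hxp⟩ ⟨hy, hyp⟩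
        refine ⟨A'.mul_mem hx hy, ?_⟩
        have hc : Commute x y := hA'comm x hx y hy
        rw [hc.mul_pow, hxp, hyp, one_mul]
      inv_mem' := by
        rintro x ⟨hx, hxp⟩
        exact ⟨A'.inv_mem hx, by rw [inv_pow, hxp, inv_one]⟩ }
  refine ⟨V, p, ⟨?_⟩, ?_, hp, ?_⟩
  · rintro x ⟨hx, hxp⟩ g
    refine ⟨hA'normal.conj_mem x hx g, ?_⟩
    rw [conj_pow, hxp, mul_one, mul_inv_cancel]
  · intro hV
    have haV : (a : G) ∈ V := by
      refine ⟨a.2, ?_⟩
      have : a ^ p = 1 := by rw [← ha]; exact pow_orderOf_eq_one a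
      exact_mod_cast congrArg Subtype.val this
    rw [hV, Subgroup.mem_bot] at haV
    have : a = 1 := Subtype.ext haV
    rw [this, orderOf_one] at ha
    exact hp.one_lt.ne ha
  · rintro ⟨x, hx, hxp⟩
    exact Subtype.ext hxp

/-- Iterating the semidirect product construction: a finite group with a nontrivial normal subgroup of prime exponent
is isospectral to finite groups (in the same universe) of arbitrarily large order. -/
theorem exists_isospectral_large (p : ℕ) (hp : p.Prime) (k : ℕ) :
    ∀ (G : Type u) [Group G] [Finite G] (V : Subgroup G) [V.Normal], V ≠ ⊥ → (∀ x : V, x ^ p = 1) →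
      ∃ (H : Type u) (_ : Group H) (_ : Finite H), 2 ^ k * Nat.card G ≤ Nat.card H ∧
        Set.range (orderOf : H → ℕ) = Set.range (orderOf : G → ℕ) := by
  induction k with
  | zero =>
    intro G _ _ V _ _ _
    exact ⟨G, inferInstance, inferInstance, by simp, rfl⟩
  | succ k ih =>
    intro G _ _ V _ hV hexp
    -- the new group
    let G' := V ⋊[MulAut.conjNormal] G
    have : Finite G' := by
      have : Nat.card G' ≠ 0 := by
        rw [SemidirectProduct.card]
        exact Nat.mul_ne_zero Nat.card_pos.ne' Nat.card_pos.ne'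
      exact Nat.finite_of_card_ne_zero this
    let V' : Subgroup G' := (SemidirectProduct.inl : V →* G').range
    have : V'.Normal := by
      show (SemidirectProduct.inl : V →* G').range.Normal
      rw [SemidirectProduct.range_inl_eq_ker_rightHom]
      infer_instance
    have : Nontrivial V := (Subgroup.nontrivial_iff_ne_bot V).2 hV
    have hV' : V' ≠ ⊥ := by
      intro h
      obtain ⟨v, hv⟩ := exists_ne (1 : V)
      have : (SemidirectProduct.inl v : G') ∈ V' := ⟨v, rfl⟩
      rw [h, Subgroup.mem_bot] at this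
      exact hv (SemidirectProduct.inl_injective (by rw [this, map_one]))
    have hexp' : ∀ x : V', x ^ p = 1 := by
      rintro ⟨_, v, rfl⟩
      apply Subtype.ext
      show (SemidirectProduct.inl v : G') ^ p = 1
      rw [← map_pow, hexp v, map_one]
    obtain ⟨H, hHg, hHf, hcard, hspec⟩ := ih G' V' hV' hexp'
    refine ⟨H, hHg, hHf, ?_, ?_⟩
    · have h1 : Nat.card G' = Nat.card V * Nat.card G := SemidirectProduct.card
      have h2 : 2 ≤ Nat.card V := by
        have := Finite.one_lt_card (α := V)
        omega
      calc 2 ^ (k + 1) * Nat.card G = 2 ^ k * (2 * Nat.card G) := by ring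
        _ ≤ 2 ^ k * (Nat.card V * Nat.card G) := by gcongr
        _ = 2 ^ k * Nat.card G' := by rw [h1]
        _ ≤ Nat.card H := hcard
    · rw [hspec]
      exact range_orderOf_semidirect_conj V p hp hexp

/-- Every finite group is isomorphic to a group structure on some `Fin n`; in particular there is an isospectral
group in `Type` of the same order. -/
theorem exists_small_copy (H : Type*) [Group H] [Finite H] :
    ∃ (H' : Type) (_ : Group H') (_ : Fintype H'), Fintype.card H' = Nat.card H ∧
      Set.range (orderOf : H' → ℕ) = Set.range (orderOf : H → ℕ) := by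
  have hfin : Finite (Shrink.{0} H) := Finite.of_equiv H (equivShrink.{0} H)
  let f : Shrink.{0} H ≃* H := Shrink.mulEquiv
  let hft : Fintype (Shrink.{0} H) := Fintype.ofFinite _
  refine ⟨Shrink.{0} H, inferInstance, hft, ?_, ?_⟩
  · rw [← Nat.card_eq_fintype_card]
    exact Nat.card_congr (equivShrink.{0} H).symm
  apply Set.Subset.antisymm
  · rintro n ⟨x, rfl⟩
    exact ⟨f x, f.orderOf_eq x⟩
  · rintro n ⟨y, rfl⟩
    exact ⟨f.symm y, by rw [← f.orderOf_eq (f.symm y), MulEquiv.apply_symm_apply]⟩

end Cfsg.Agent.Lib.Helper10
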