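import Mathlib
import Cfsg.Agent.Lib.Helper2.NilpotentBasic

/-!
Elements central modulo a normal subgroup in finite `p`-groups, and the power formula in
class-two situations (helper10).
-/

set_option autoImplicit false

namespace Cfsg.Agent.Lib.Helper10

open scoped commutatorElement

/-- In a finite `p`-group, if `N` and `M` are normal with `N` not contained in `M`, some element of
`N` outside `M` is central of order `p` modulo `M`. -/
theorem exists_central_mod {P : Type*} [Group P] [Finite P] {p : ℕ} [Fact p.Prime]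
    (hP : IsPGroup p P) (M N : Subgroup P) [M.Normal] [N.Normal] (hNM : ¬ N ≤ M) :
    ∃ x ∈ N, x ∉ M ∧ x ^ p ∈ M ∧ ∀ g : P, ⁅x, g⁆ ∈ M := by
  have hPQ : IsPGroup p (P ⧸ M) := hP.to_quotient M
  haveI : Group.IsNilpotent (P ⧸ M) := hPQ.isNilpotent
  haveI hNbar : (N.map (QuotientGroup.mk' M)).Normal :=
    Subgroup.Normal.map inferInstance _ (QuotientGroup.mk'_surjective M)
  have hne : N.map (QuotientGroup.mk' M) ≠ ⊥ := by
    intro h
    apply hNM
    intro x hx
    have : QuotientGroup.mk' M x ∈ N.map (QuotientGroup.mk' M) := Subgroup.mem_map_of_mem _ hx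
    rw [h, Subgroup.mem_bot] at this
    exact (QuotientGroup.eq_one_iff x).mp this
  have hmeet := Cfsg.Agent.Lib.Helper2.normal_inf_center_ne_bot (N.map (QuotientGroup.mk' M)) hne
  obtain ⟨z, hz, hz1⟩ : ∃ z ∈ N.map (QuotientGroup.mk' M) ⊓ Subgroup.center (P ⧸ M), z ≠ 1 := by
    by_contra hcon
    push Not at hcon
    exact hmeet ((Subgroup.eq_bot_iff_forall _).mpr hcon)
  obtain ⟨k, hk⟩ := IsPGroup.iff_orderOf.mp hPQ z
  have hk1 : 1 ≤ k := by
    rcases Nat.eq_zero_or_pos k with h0 | h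
    · exfalso
      rw [h0, pow_zero, orderOf_eq_one_iff] at hk
      exact hz1 hk
    · exact h
  have hp : p.Prime := Fact.out
  have hz'1 : z ^ (p ^ (k - 1)) ≠ 1 := by
    apply pow_ne_one_of_lt_orderOf (pow_ne_zero _ hp.ne_zero)
    rw [hk]
    exact Nat.pow_lt_pow_right hp.one_lt (by omega)
  have hz'p : (z ^ (p ^ (k - 1))) ^ p = 1 := by
    rw [← pow_mul, ← pow_succ, show k - 1 + 1 = k by omega, ← hk, pow_orderOf_eq_one]
  have hz' : z ^ (p ^ (k - 1)) ∈ N.map (QuotientGroup.mk' M) ⊓ Subgroup.center (P ⧸ M) :=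
    Subgroup.pow_mem _ hz _
  obtain ⟨⟨x, hxN, hxz⟩, hcen⟩ := Subgroup.mem_inf.mp hz'
  refine ⟨x, hxN, ?_, ?_, ?_⟩
  · intro hxM
    apply hz'1
    rw [← hxz]
    exact (QuotientGroup.eq_one_iff x).mpr hxM
  · rw [← QuotientGroup.eq_one_iff, QuotientGroup.mk_pow]
    have : (QuotientGroup.mk' M) x = (x : P ⧸ M) := rfl
    rw [← this, hxz]
    exact hz'p
  · intro g
    rw [← QuotientGroup.eq_one_iff]
    have h1 : ((⁅x, g⁆ : P) : P ⧸ M) = ⁅(QuotientGroup.mk' M) x, (QuotientGroup.mk' M) g⁆ :=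
      map_commutatorElement (QuotientGroup.mk' M) x g
    rw [h1, hxz, commutatorElement_eq_one_iff_commute]
    exact (Subgroup.mem_center_iff.mp hcen ((QuotientGroup.mk' M) g)).symm

/-- Relative version: `M` and `Q` are normalized by the subgroup `H`, `Q ≤ H` and `Q` is not
contained in `M`; then some element of `Q` outside `M` is central of order `p` modulo `M` in `H`. -/
theorem exists_central_mod_rel {P : Type*} [Group P] [Finite P] {p : ℕ} [Fact p.Prime]
    (hP : IsPGroup p P) (H M Q : Subgroup P)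
    (hMH : ∀ h ∈ H, ∀ m ∈ M, h * m * h⁻¹ ∈ M) (hQH : ∀ h ∈ H, ∀ w ∈ Q, h * w * h⁻¹ ∈ Q)
    (hQ : Q ≤ H) (hQM : ¬ Q ≤ M) :
    ∃ x ∈ Q, x ∉ M ∧ x ^ p ∈ M ∧ ∀ g ∈ H, ⁅x, g⁆ ∈ M := by
  haveI : (M.subgroupOf H).Normal := ⟨fun m hm h => by
    rw [Subgroup.mem_subgroupOf] at hm ⊢
    exact hMH h.1 h.2 _ hm⟩
  haveI : (Q.subgroupOf H).Normal := ⟨fun w hw h => by
    rw [Subgroup.mem_subgroupOf] at hw ⊢
    exact hQH h.1 h.2 _ hw⟩
  have hne : ¬ Q.subgroupOf H ≤ M.subgroupOf H := by
    intro hle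
    apply hQM
    intro w hw
    have : (⟨w, hQ hw⟩ : H) ∈ M.subgroupOf H := hle (Subgroup.mem_subgroupOf.mpr hw)
    exact Subgroup.mem_subgroupOf.mp this
  obtain ⟨x, hx1, hx2, hx3, hx4⟩ :=
    exists_central_mod (hP.to_subgroup H) (M.subgroupOf H) (Q.subgroupOf H) hne
  refine ⟨x.1, Subgroup.mem_subgroupOf.mp hx1, fun h => hx2 (Subgroup.mem_subgroupOf.mpr h), ?_, ?_⟩
  · have := Subgroup.mem_subgroupOf.mp hx3
    simpa using this
  · intro g hg
    have := Subgroup.mem_subgroupOf.mp (hx4 ⟨g, hg⟩)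
    simpa [commutatorElement_def] using this

/-- The centralizer of a normal subgroup of order at most `p ^ 2` of a finite `p`-group has index at
most `p`. -/
theorem index_centralizer_le_of_card_le_sq {P : Type*} [Group P] [Finite P] {p : ℕ} [Fact p.Prime]
    (hP : IsPGroup p P) (A : Subgroup P) [A.Normal] (hA : Nat.card A ≤ p ^ 2) :
    (Subgroup.centralizer (A : Set P)).index ≤ p := by
  classical
  have hp : p.Prime := Fact.out
  by_cases hAZ : A ≤ Subgroup.center P
  · have : Subgroup.centralizer (A : Set P) = ⊤ := by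
      rw [Subgroup.centralizer_eq_top_iff_subset]
      exact hAZ
    rw [this, Subgroup.index_top]
    exact hp.one_lt.le
  · have hnle : ¬ A ≤ A ⊓ Subgroup.center P := fun h => hAZ (h.trans inf_le_right)
    obtain ⟨a, haA, haZ, _, hac⟩ := exists_central_mod hP (A ⊓ Subgroup.center P) A hnle
    -- the homomorphism `g ↦ ⁅a, g⁆`
    let φ : P →* ↥(A ⊓ Subgroup.center P) :=
      { toFun := fun g => ⟨⁅a, g⁆, hac g⟩
        map_one' := by
          apply Subtype.ext
          simp
        map_mul' := by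
          intro g h
          apply Subtype.ext
          show ⁅a, g * h⁆ = ⁅a, g⁆ * ⁅a, h⁆
          have e : ⁅a, g * h⁆ = ⁅a, g⁆ * (g * ⁅a, h⁆ * g⁻¹) := by
            simp only [commutatorElement_def]; group
          have hc : g * ⁅a, h⁆ = ⁅a, h⁆ * g :=
            Subgroup.mem_center_iff.mp (Subgroup.mem_inf.mp (hac h)).2 g
          rw [e, hc]; group }
    have hker : φ.ker ≤ Subgroup.centralizer ({a} : Set P) := by
      intro g hg
      rw [MonoidHom.mem_ker] at hg
      have h1 : ⁅a, g⁆ = 1 := congrArg Subtype.val hg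
      rw [Subgroup.mem_centralizer_iff]
      intro x hx
      rw [Set.mem_singleton_iff.mp hx]
      exact (commutatorElement_eq_one_iff_commute.mp h1).eq
    -- cardinalities
    obtain ⟨m, hm⟩ := (hP.to_subgroup A).exists_card_eq
    obtain ⟨i, hi⟩ := (hP.to_subgroup (A ⊓ Subgroup.center P)).exists_card_eq
    have hm2 : m ≤ 2 := by
      by_contra hcon
      have : p ^ 2 < p ^ m := Nat.pow_lt_pow_right hp.one_lt (by omega)
      omega
    have hlt : A ⊓ Subgroup.center P < A := lt_of_le_of_ne inf_le_left (fun h => haZ (by rw [h]; exact haA))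
    have hcardlt : Nat.card ↥(A ⊓ Subgroup.center P) < Nat.card A :=
      Set.ncard_lt_ncard (s := ((A ⊓ Subgroup.center P : Subgroup P) : Set P)) (t := (A : Set P)) hlt
    have him : i < m := by
      rw [hi, hm] at hcardlt
      exact (Nat.pow_lt_pow_iff_right hp.one_lt).mp hcardlt
    have hi0 : i ≠ 0 := by
      intro h0
      rw [h0, pow_zero] at hi
      have hbot : A ⊓ Subgroup.center P = ⊥ := Subgroup.card_eq_one.mp hi
      apply haZ
      refine Subgroup.mem_inf.mpr ⟨haA, ?_⟩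
      rw [Subgroup.mem_center_iff]
      intro g
      have := hac g
      rw [hbot, Subgroup.mem_bot] at this
      exact ((commutatorElement_eq_one_iff_commute.mp this).eq).symm
    have hi1 : i = 1 := by omega
    have hm2' : m = 2 := by omega
    -- `A = Z₀ ⊔ zpowers a`
    have hB : A ⊓ Subgroup.center P ⊔ Subgroup.zpowers a = A := by
      have hle : A ⊓ Subgroup.center P ⊔ Subgroup.zpowers a ≤ A :=
        sup_le inf_le_left (by rw [Subgroup.zpowers_le]; exact haA)
      have hlt' : A ⊓ Subgroup.center P < A ⊓ Subgroup.center P ⊔ Subgroup.zpowers a := by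
        refine lt_of_le_of_ne le_sup_left (fun h => haZ ?_)
        rw [h]
        exact Subgroup.mem_sup_right (Subgroup.mem_zpowers a)
      have hcardlt' : Nat.card ↥(A ⊓ Subgroup.center P) <
          Nat.card ↥(A ⊓ Subgroup.center P ⊔ Subgroup.zpowers a) :=
        Set.ncard_lt_ncard (s := ((A ⊓ Subgroup.center P : Subgroup P) : Set P))
          (t := ((A ⊓ Subgroup.center P ⊔ Subgroup.zpowers a : Subgroup P) : Set P)) hlt'
      obtain ⟨j, hj⟩ := (hP.to_subgroup (A ⊓ Subgroup.center P ⊔ Subgroup.zpowers a)).exists_card_eq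
      have hij : i < j := by
        rw [hi, hj] at hcardlt'
        exact (Nat.pow_lt_pow_iff_right hp.one_lt).mp hcardlt'
      apply Subgroup.eq_of_le_of_card_ge hle
      rw [hj, hm, hm2']
      exact Nat.pow_le_pow_right hp.pos (by omega)
    have hcen : Subgroup.centralizer ({a} : Set P) ≤ Subgroup.centralizer (A : Set P) := by
      intro g hg
      rw [Subgroup.mem_centralizer_iff] at hg ⊢
      have hga : a * g = g * a := hg a rfl
      have hsub : A ≤ Subgroup.centralizer ({g} : Set P) := by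
        rw [← hB]
        refine sup_le ?_ ?_
        · intro z hz
          rw [Subgroup.mem_centralizer_iff]
          intro x hx
          rw [Set.mem_singleton_iff.mp hx]
          exact (Subgroup.mem_center_iff.mp (Subgroup.mem_inf.mp hz).2 g)
        · rw [Subgroup.zpowers_le, Subgroup.mem_centralizer_iff]
          intro x hx
          rw [Set.mem_singleton_iff.mp hx]
          exact hga.symm
      intro b hb
      have := Subgroup.mem_centralizer_iff.mp (hsub hb) g rfl
      exact this.symm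
    have h1 : (Subgroup.centralizer (A : Set P)).index ∣ φ.ker.index :=
      Subgroup.index_dvd_of_le (hker.trans hcen)
    have h2 : φ.ker.index = Nat.card φ.range := Subgroup.index_ker φ
    have h3 : Nat.card φ.range ≤ Nat.card ↥(A ⊓ Subgroup.center P) :=
      Nat.card_le_card_of_injective _ Subtype.val_injective
    have h4 : 0 < φ.ker.index := Nat.pos_of_ne_zero Subgroup.index_ne_zero_of_finite
    have h5 := Nat.le_of_dvd h4 h1
    rw [hi, hi1, pow_one] at h3
    omega

section supZpowers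

variable {G : Type*} [Group G]

theorem mem_sup_zpowers_iff (A : Subgroup G) [A.Normal] (y k : G) :
    k ∈ A ⊔ Subgroup.zpowers y ↔ ∃ a ∈ A, ∃ i : ℤ, k = a * y ^ i := by
  rw [← SetLike.mem_coe, Subgroup.normal_mul, Set.mem_mul]
  constructor
  · rintro ⟨a, ha, z, hz, rfl⟩
    obtain ⟨i, rfl⟩ := Subgroup.mem_zpowers_iff.mp hz
    exact ⟨a, ha, i, rfl⟩
  · rintro ⟨a, ha, i, rfl⟩
    exact ⟨a, ha, y ^ i, Subgroup.mem_zpowers_iff.mpr ⟨i, rfl⟩, rfl⟩

/-- adjoining a centralizing element to a commutative normal subgroup keeps it commutative -/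
theorem sup_zpowers_comm (A : Subgroup G) [A.Normal] (hA : ∀ a ∈ A, ∀ b ∈ A, a * b = b * a)
    (y : G) (hy : y ∈ Subgroup.centralizer (A : Set G)) :
    ∀ u ∈ A ⊔ Subgroup.zpowers y, ∀ v ∈ A ⊔ Subgroup.zpowers y, u * v = v * u := by
  have hyCa : ∀ a ∈ A, a * y = y * a := fun a ha => Subgroup.mem_centralizer_iff.mp hy a ha
  have hyzc : ∀ (a : G), a ∈ A → ∀ i : ℤ, a * y ^ i = y ^ i * a := by
    intro a ha i
    exact ((Commute.zpow_right (hyCa a ha) i)).eq
  intro u hu v hv
  obtain ⟨a, ha, i, rfl⟩ := (mem_sup_zpowers_iff A y u).mp hu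
  obtain ⟨b, hb, j, rfl⟩ := (mem_sup_zpowers_iff A y v).mp hv
  calc a * y ^ i * (b * y ^ j) = a * (y ^ i * b) * y ^ j := by group
    _ = a * (b * y ^ i) * y ^ j := by rw [hyzc b hb i]
    _ = (a * b) * (y ^ i * y ^ j) := by group
    _ = (b * a) * (y ^ j * y ^ i) := by
        rw [hA a ha b hb, ← zpow_add, ← zpow_add, add_comm]
    _ = b * (a * y ^ j) * y ^ i := by group
    _ = b * (y ^ j * a) * y ^ i := by rw [hyzc a ha j]
    _ = b * y ^ j * (a * y ^ i) := by group

/-- adjoining an element central modulo `A` keeps normality -/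
theorem sup_zpowers_normal (A : Subgroup G) [hAn : A.Normal] (y : G) (hy : ∀ g : G, ⁅y, g⁆ ∈ A) :
    (A ⊔ Subgroup.zpowers y).Normal := by
  constructor
  intro k hk g
  obtain ⟨a, ha, i, rfl⟩ := (mem_sup_zpowers_iff A y k).mp hk
  have hgy : g * y * g⁻¹ ∈ A ⊔ Subgroup.zpowers y := by
    have e : g * y * g⁻¹ = (⁅y, g⁆)⁻¹ * y := by
      simp only [commutatorElement_def]; group
    rw [e]
    exact Subgroup.mul_mem _ (Subgroup.mem_sup_left (A.inv_mem (hy g)))
      (Subgroup.mem_sup_right (Subgroup.mem_zpowers y))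
  have e : g * (a * y ^ i) * g⁻¹ = (g * a * g⁻¹) * (g * y * g⁻¹) ^ i := by
    rw [← MulAut.conj_apply, ← MulAut.conj_apply, ← MulAut.conj_apply, map_mul, map_zpow]
  rw [e]
  exact Subgroup.mul_mem _ (Subgroup.mem_sup_left (hAn.conj_mem a ha g))
    (Subgroup.zpow_mem _ hgy i)

end supZpowers

/-- Every normal abelian subgroup of a finite `p`-group lies in a self-centralizing normal abelian
subgroup. -/
theorem exists_normal_abelian_self_centralizing {P : Type*} [Group P] [Finite P] {p : ℕ}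
    [Fact p.Prime] (hP : IsPGroup p P) (A₀ : Subgroup P) [A₀.Normal]
    (hA₀ : ∀ a ∈ A₀, ∀ b ∈ A₀, a * b = b * a) :
    ∃ A : Subgroup P, A₀ ≤ A ∧ A.Normal ∧ (∀ a ∈ A, ∀ b ∈ A, a * b = b * a) ∧
      Subgroup.centralizer (A : Set P) = A := by
  classical
  let S : Set (Subgroup P) := {A | A₀ ≤ A ∧ A.Normal ∧ ∀ a ∈ A, ∀ b ∈ A, a * b = b * a}
  have hSne : S.Nonempty := ⟨A₀, le_rfl, inferInstance, hA₀⟩
  obtain ⟨A, hAmax⟩ := (Set.toFinite S).exists_maximal hSne
  obtain ⟨hA0, hAn, hAc⟩ : A₀ ≤ A ∧ A.Normal ∧ ∀ a ∈ A, ∀ b ∈ A, a * b = b * a := hAmax.prop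
  haveI := hAn
  refine ⟨A, hA0, hAn, hAc, le_antisymm ?_ ?_⟩
  · by_contra hcon
    obtain ⟨x, hxC, hxA, _, hxc⟩ := exists_central_mod hP A (Subgroup.centralizer (A : Set P)) hcon
    have hmem : A ⊔ Subgroup.zpowers x ∈ S :=
      ⟨hA0.trans le_sup_left, sup_zpowers_normal A x hxc, sup_zpowers_comm A hAc x hxC⟩
    have := hAmax.le_of_ge hmem le_sup_left
    exact hxA (this (Subgroup.mem_sup_right (Subgroup.mem_zpowers x)))
  · intro a ha
    rw [Subgroup.mem_centralizer_iff]
    intro b hb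
    exact hAc b hb a ha

section elemAb

variable {G : Type*} [Group G]

/-- pairwise commuting elements of order dividing `p` generate an elementary abelian subgroup -/
theorem closure_elemAb {p : ℕ} (S : Set G) (hcomm : ∀ x ∈ S, ∀ y ∈ S, x * y = y * x)
    (hexp : ∀ x ∈ S, x ^ p = 1) :
    (∀ x ∈ Subgroup.closure S, ∀ y ∈ Subgroup.closure S, x * y = y * x) ∧
      ∀ x ∈ Subgroup.closure S, x ^ p = 1 := by
  have hc : ∀ x ∈ Subgroup.closure S, ∀ y ∈ Subgroup.closure S, x * y = y * x := by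
    intro x hx y hy
    have := (Subgroup.isMulCommutative_closure hcomm).is_comm.comm
      (⟨x, hx⟩ : Subgroup.closure S) ⟨y, hy⟩
    exact congrArg Subtype.val this
  refine ⟨hc, fun x hx => ?_⟩
  induction hx using Subgroup.closure_induction with
  | mem x hx => exact hexp x hx
  | one => exact one_pow p
  | mul x y hx hy ihx ihy =>
    have : Commute x y := hc x hx y hy
    rw [this.mul_pow, ihx, ihy, one_mul]
  | inv x hx ih => rw [inv_pow, ih, inv_one]

/-- adjoining to an elementary abelian subgroup an element of order dividing `p` in its centralizer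
gives an elementary abelian subgroup -/
theorem elemAb_sup_zpowers {p : ℕ} (E : Subgroup G) (hEc : ∀ a ∈ E, ∀ b ∈ E, a * b = b * a)
    (hEe : ∀ a ∈ E, a ^ p = 1) (f : G) (hf : f ∈ Subgroup.centralizer (E : Set G))
    (hfp : f ^ p = 1) :
    (∀ x ∈ E ⊔ Subgroup.zpowers f, ∀ y ∈ E ⊔ Subgroup.zpowers f, x * y = y * x) ∧
      ∀ x ∈ E ⊔ Subgroup.zpowers f, x ^ p = 1 := by
  have hcl : E ⊔ Subgroup.zpowers f = Subgroup.closure ((E : Set G) ∪ {f}) := by
    rw [Subgroup.closure_union, Subgroup.closure_eq, Subgroup.zpowers_eq_closure]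
  rw [hcl]
  apply closure_elemAb
  · intro x hx y hy
    rcases hx with hx | hx <;> rcases hy with hy | hy
    · exact hEc x hx y hy
    · rw [Set.mem_singleton_iff.mp hy]
      exact (Subgroup.mem_centralizer_iff.mp hf x hx)
    · rw [Set.mem_singleton_iff.mp hx]
      exact (Subgroup.mem_centralizer_iff.mp hf y hy).symm
    · rw [Set.mem_singleton_iff.mp hx, Set.mem_singleton_iff.mp hy]
  · intro x hx
    rcases hx with hx | hx
    · exact hEe x hx
    · rw [Set.mem_singleton_iff.mp hx]; exact hfp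

end elemAb

section centralComm

variable {G : Type*} [Group G]

theorem commElt_mul_left_of_central {x y g : G} (h : ⁅y, g⁆ ∈ Subgroup.center G) :
    ⁅x * y, g⁆ = ⁅x, g⁆ * ⁅y, g⁆ := by
  have e : ⁅x * y, g⁆ = x * ⁅y, g⁆ * x⁻¹ * ⁅x, g⁆ := by
    simp only [commutatorElement_def]; group
  have h1 : x * ⁅y, g⁆ = ⁅y, g⁆ * x := Subgroup.mem_center_iff.mp h x
  have h2 : ⁅x, g⁆ * ⁅y, g⁆ = ⁅y, g⁆ * ⁅x, g⁆ := Subgroup.mem_center_iff.mp h _
  rw [e, h1, h2]; group

theorem commElt_mul_right_of_central {x g h : G} (hc : ⁅x, h⁆ ∈ Subgroup.center G) :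
    ⁅x, g * h⁆ = ⁅x, g⁆ * ⁅x, h⁆ := by
  have e : ⁅x, g * h⁆ = ⁅x, g⁆ * (g * ⁅x, h⁆ * g⁻¹) := by
    simp only [commutatorElement_def]; group
  have h1 : g * ⁅x, h⁆ = ⁅x, h⁆ * g := Subgroup.mem_center_iff.mp hc g
  rw [e, h1]; group

theorem commElt_pow_left_of_central {x g : G} (h : ⁅x, g⁆ ∈ Subgroup.center G) (n : ℕ) :
    ⁅x ^ n, g⁆ = ⁅x, g⁆ ^ n := by
  induction n with
  | zero => simp
  | succ n ih => rw [pow_succ, commElt_mul_left_of_central h, ih, pow_succ]

theorem commElt_pow_right_of_central {x g : G} (h : ⁅x, g⁆ ∈ Subgroup.center G) (n : ℕ) :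
    ⁅x, g ^ n⁆ = ⁅x, g⁆ ^ n := by
  have h' : ⁅g, x⁆ ∈ Subgroup.center G := by
    rw [← commutatorElement_inv]; exact Subgroup.inv_mem _ h
  rw [← commutatorElement_inv, commElt_pow_left_of_central h', ← inv_pow, commutatorElement_inv]

end centralComm

section classTwo

variable {G : Type*} [Group G]

/-- `b ^ m * a = a * b ^ m * c ^ m` when `c = ⁅b, a⁆` commutes with `a` and `b`. -/
theorem pow_mul_class_two {a b c : G} (hc : c = ⁅b, a⁆) (hca : Commute c a) (hcb : Commute c b)
    (m : ℕ) : b ^ m * a = a * b ^ m * c ^ m := by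
  have hba : b * a = a * b * c := by
    have : b * a = c * (a * b) := by rw [hc, commutatorElement_def]; group
    rw [this]
    exact ((hca.mul_right hcb).eq)
  induction m with
  | zero => simp
  | succ m ih =>
    have h1 : Commute c (b ^ m) := hcb.pow_right m
    calc b ^ (m + 1) * a = b * (b ^ m * a) := by rw [pow_succ']; group
      _ = b * (a * b ^ m * c ^ m) := by rw [ih]
      _ = (b * a) * b ^ m * c ^ m := by group
      _ = (a * b * c) * b ^ m * c ^ m := by rw [hba]
      _ = a * b * (c * b ^ m) * c ^ m := by group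
      _ = a * b * (b ^ m * c) * c ^ m := by rw [h1.eq]
      _ = a * (b * b ^ m) * (c * c ^ m) := by group
      _ = a * b ^ (m + 1) * c ^ (m + 1) := by rw [← pow_succ', ← pow_succ']

/-- the class-two power formula -/
theorem mul_pow_class_two {a b c : G} (hc : c = ⁅b, a⁆) (hca : Commute c a) (hcb : Commute c b)
    (m : ℕ) : (a * b) ^ m = a ^ m * b ^ m * c ^ (m.choose 2) := by
  induction m with
  | zero => simp
  | succ m ih =>
    have h1 : Commute (c ^ (m.choose 2)) a := hca.pow_left _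
    have h2 : Commute (c ^ m) b := hcb.pow_left _
    have h3 := pow_mul_class_two hc hca hcb m
    have hch : (m + 1).choose 2 = m + m.choose 2 := by
      rw [Nat.choose_succ_succ' m 1, Nat.choose_one_right]
    calc (a * b) ^ (m + 1) = (a * b) ^ m * (a * b) := pow_succ _ _
      _ = a ^ m * b ^ m * c ^ (m.choose 2) * (a * b) := by rw [ih]
      _ = a ^ m * b ^ m * (c ^ (m.choose 2) * a) * b := by group
      _ = a ^ m * b ^ m * (a * c ^ (m.choose 2)) * b := by rw [h1.eq]
      _ = a ^ m * (b ^ m * a) * c ^ (m.choose 2) * b := by group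
      _ = a ^ m * (a * b ^ m * c ^ m) * c ^ (m.choose 2) * b := by rw [h3]
      _ = a ^ m * a * b ^ m * c ^ m * (c ^ (m.choose 2) * b) := by group
      _ = a ^ m * a * b ^ m * c ^ m * (b * c ^ (m.choose 2)) := by
          rw [(hcb.pow_left (m.choose 2)).eq]
      _ = a ^ m * a * b ^ m * (c ^ m * b) * c ^ (m.choose 2) := by group
      _ = a ^ m * a * b ^ m * (b * c ^ m) * c ^ (m.choose 2) := by rw [h2.eq]
      _ = (a ^ m * a) * (b ^ m * b) * (c ^ m * c ^ (m.choose 2)) := by group
      _ = a ^ (m + 1) * b ^ (m + 1) * c ^ ((m + 1).choose 2) := by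
          rw [← pow_succ, ← pow_succ, ← pow_add, hch]

end classTwo

end Cfsg.Agent.Lib.Helper10
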