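import Mathlib
import Cfsg.Prelude.Def_GeometricClasses
import Cfsg.Agent.S0752

set_option autoImplicit false

namespace Cfsg.Agent.Lib.Helper10.Alt

open Matrix Module

variable {F : Type*} [Field F]

/-- the standard alternating Gram matrix -/
def J0 (m : ℕ) (F : Type*) [Field F] : Matrix (Fin m ⊕ Fin m) (Fin m ⊕ Fin m) F :=
  Matrix.fromBlocks 0 1 (-1) 0

theorem dot_conj {ι κ : Type*} [Fintype ι] [Fintype κ] (A : Matrix ι κ F) (S : Matrix ι ι F)
    (u v : κ → F) : (A *ᵥ u) ⬝ᵥ S *ᵥ (A *ᵥ v) = u ⬝ᵥ (Aᵀ * S * A) *ᵥ v := by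
  rw [← Matrix.vecMul_transpose, Matrix.mulVec_mulVec, Matrix.dotProduct_mulVec,
    Matrix.vecMul_vecMul, ← Matrix.dotProduct_mulVec, Matrix.mul_assoc]

theorem exists_sympl_frame {n : ℕ} (f : (Fin n → F) → (Fin n → F) → F)
    (hf : Cfsg.Geo.IsSymplecticForm f) :
    ∃ (m : ℕ) (G : Matrix (Fin n) (Fin m ⊕ Fin m) F) (G' : Matrix (Fin m ⊕ Fin m) (Fin n) F),
      G * G' = 1 ∧ G' * G = 1 ∧ m + m = n ∧
      ∀ (Y : Matrix (Fin m ⊕ Fin m) (Fin m ⊕ Fin m) F) (μ : F), Yᵀ * J0 m F * Y = μ • J0 m F →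
        ∀ u v, f ((G * Y * G') *ᵥ u) ((G * Y * G') *ᵥ v) = μ * f u v := by
  classical
  let B : LinearMap.BilinForm F (Fin n → F) :=
    LinearMap.mk₂ F f hf.bilinear.add_left hf.bilinear.smul_left hf.bilinear.add_right
      hf.bilinear.smul_right
  have hBf : ∀ u v, B u v = f u v := fun u v => rfl
  let S : Matrix (Fin n) (Fin n) F := LinearMap.BilinForm.toMatrix' B
  have hB : ∀ x y, B x y = x ⬝ᵥ S *ᵥ y := by
    intro x y
    rw [← Matrix.toBilin'_apply', Matrix.toBilin'_toMatrix']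
  have hA : B.IsAlt := fun x => hf.alternating x
  obtain ⟨m, k, b, h1, h2, h3, h4⟩ := Cfsg.Agent.S0752.result B hA
  have hneg : ∀ x y, B x y = -B y x := fun x y => hf.skew x y
  have hk : k = 0 := by
    by_contra hk0
    have hpos : 0 < k := Nat.pos_of_ne_zero hk0
    have hv0 := b.ne_zero (Sum.inr ⟨0, hpos⟩)
    obtain ⟨-, x, hx⟩ := hf.nondegenerate _ hv0
    exact hx (h4 ⟨0, hpos⟩ x)
  subst hk
  let b' : Basis (Fin m ⊕ Fin m) F (Fin n → F) :=
    b.reindex (Equiv.sumEmpty (Fin m ⊕ Fin m) (Fin 0))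
  have hb' : ∀ s, b' s = b (Sum.inl s) := by
    intro s
    rw [Basis.reindex_apply]
    rfl
  let P : Matrix (Fin n) (Fin m ⊕ Fin m) F := (Pi.basisFun F (Fin n)).toMatrix b'
  let Pinv : Matrix (Fin m ⊕ Fin m) (Fin n) F := b'.toMatrix (Pi.basisFun F (Fin n))
  have hPPi : P * Pinv = 1 := Basis.toMatrix_mul_toMatrix_flip _ _
  have hPiP : Pinv * P = 1 := Basis.toMatrix_mul_toMatrix_flip _ _
  have hPentry : ∀ i s, P i s = b' s i := by
    intro i s
    show (Pi.basisFun F (Fin n)).toMatrix b' i s = b' s i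
    rw [Basis.toMatrix_apply, Pi.basisFun_repr]
  have hGram : ∀ s s', (Pᵀ * S * P) s s' = B (b' s) (b' s') := by
    intro s s'
    rw [hB]
    simp only [Matrix.mul_apply, Matrix.transpose_apply, hPentry, dotProduct, Matrix.mulVec,
      Finset.sum_mul, Finset.mul_sum]
    rw [Finset.sum_comm]
    apply Finset.sum_congr rfl
    intro i _
    apply Finset.sum_congr rfl
    intro j _
    ring
  have hG : Pᵀ * S * P = J0 m F := by
    ext s s'
    rw [hGram, hb', hb']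
    unfold J0
    rcases s with i | i <;> rcases s' with j | j
    · rw [h2, Matrix.fromBlocks_apply₁₁, Matrix.zero_apply]
    · rw [h1, Matrix.fromBlocks_apply₁₂, Matrix.one_apply]
    · rw [hneg, h1, Matrix.fromBlocks_apply₂₁, Matrix.neg_apply, Matrix.one_apply]
      by_cases hij : i = j
      · rw [if_pos hij, if_pos hij.symm]
      · rw [if_neg hij, if_neg (Ne.symm hij)]
    · rw [h3, Matrix.fromBlocks_apply₂₂, Matrix.zero_apply]
  have hcard : m + m = n := by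
    have h5 := Module.finrank_eq_card_basis b'
    rw [Module.finrank_fintype_fun_eq_card, Fintype.card_fin, Fintype.card_sum,
      Fintype.card_fin] at h5
    exact h5.symm
  refine ⟨m, P, Pinv, hPPi, hPiP, hcard, ?_⟩
  intro Y μ hY u v
  have hPiT : Pinvᵀ * Pᵀ = 1 := by
    rw [← Matrix.transpose_mul, hPPi, Matrix.transpose_one]
  have hAS : (P * Y * Pinv)ᵀ * S * (P * Y * Pinv) = μ • S := by
    rw [Matrix.transpose_mul, Matrix.transpose_mul]
    calc Pinvᵀ * (Yᵀ * Pᵀ) * S * (P * Y * Pinv)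
        = Pinvᵀ * (Yᵀ * (Pᵀ * S * P) * Y) * Pinv := by simp only [Matrix.mul_assoc]
      _ = Pinvᵀ * (μ • (Pᵀ * S * P)) * Pinv := by rw [hG, hY]
      _ = μ • ((Pinvᵀ * Pᵀ) * S * (P * Pinv)) := by
          simp only [Matrix.mul_smul, Matrix.smul_mul, Matrix.mul_assoc]
      _ = μ • S := by rw [hPiT, hPPi, Matrix.one_mul, Matrix.mul_one]
  rw [← hBf, ← hBf, hB, hB, dot_conj, hAS, Matrix.smul_mulVec, dotProduct_smul, smul_eq_mul]

end Cfsg.Agent.Lib.Helper10.Alt
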