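import Mathlib
import Cfsg.Agent.Lib.Helper10.AltA

set_option autoImplicit false

namespace Cfsg.Agent.Lib.Helper10.Alt

open Matrix

variable {F : Type*} [Field F] {m : ℕ}

/-- block matrix with diagonal blocks -/
def FB (u v w u' : Fin m → F) : Matrix (Fin m ⊕ Fin m) (Fin m ⊕ Fin m) F :=
  Matrix.fromBlocks (Matrix.diagonal u) (Matrix.diagonal v) (Matrix.diagonal w) (Matrix.diagonal u')

theorem FB_mul (u v w u' a b c d : Fin m → F) :
    FB u v w u' * FB a b c d =
      FB (fun i => u i * a i + v i * c i) (fun i => u i * b i + v i * d i)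
        (fun i => w i * a i + u' i * c i) (fun i => w i * b i + u' i * d i) := by
  unfold FB
  rw [Matrix.fromBlocks_multiply]
  simp only [Matrix.diagonal_mul_diagonal, Matrix.diagonal_add]

theorem FB_comm (u v w u' a b c d : Fin m → F)
    (h1 : ∀ i, v i * c i = b i * w i) (h2 : ∀ i, u i * b i + v i * d i = a i * v i + b i * u' i)
    (h3 : ∀ i, w i * a i + u' i * c i = c i * u i + d i * w i) :
    FB u v w u' * FB a b c d = FB a b c d * FB u v w u' := by
  rw [FB_mul, FB_mul]
  congr 1
  · funext i
    rw [h1 i, mul_comm (u i)]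
  · funext i
    exact h2 i
  · funext i
    exact h3 i
  · funext i
    have := h1 i
    linear_combination -this

theorem FB_sim (a b c d : Fin m → F) (μ : F) (hμ : ∀ i, a i * d i - b i * c i = μ) :
    (FB a b c d)ᵀ * J0 m F * FB a b c d = μ • J0 m F := by
  have hJ : J0 m F = FB 0 1 (-1) 0 := by
    unfold J0 FB
    have h1 : (Matrix.diagonal (-1 : Fin m → F)) = -1 := by
      ext i j
      simp [Matrix.diagonal_apply, Matrix.one_apply]
      split_ifs <;> simp
    have h2 : (Matrix.diagonal (1 : Fin m → F)) = 1 := Matrix.diagonal_one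
    have h3 : (Matrix.diagonal (0 : Fin m → F)) = 0 := Matrix.diagonal_zero
    rw [h1, h2, h3]
  have hT : (FB a b c d)ᵀ = FB a c b d := by
    unfold FB
    rw [Matrix.fromBlocks_transpose]
    simp only [Matrix.diagonal_transpose]
  rw [hT, hJ, FB_mul, FB_mul]
  unfold FB
  rw [Matrix.fromBlocks_smul]
  congr 1
  · ext i j
    simp only [Matrix.diagonal_apply, Matrix.smul_apply, Pi.zero_apply]
    split_ifs <;> simp <;> ring
  · ext i j
    simp only [Matrix.diagonal_apply, Matrix.smul_apply, Pi.zero_apply, Pi.one_apply,
      Pi.neg_apply]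
    split_ifs
    · have := hμ i
      simp
      linear_combination this
    · simp
  · ext i j
    simp only [Matrix.diagonal_apply, Matrix.smul_apply, Pi.zero_apply, Pi.one_apply,
      Pi.neg_apply]
    split_ifs
    · have := hμ i
      simp
      linear_combination -this
    · simp
  · ext i j
    simp only [Matrix.diagonal_apply, Matrix.smul_apply, Pi.zero_apply]
    split_ifs <;> simp <;> ring

/-- the index bijection used for the determinant -/
def pairEquiv (m : ℕ) : Fin 2 × Fin m ≃ Fin m ⊕ Fin m where
  toFun p := if p.1 = 0 then Sum.inl p.2 else Sum.inr p.2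
  invFun s := Sum.elim (fun i => (0, i)) (fun i => (1, i)) s
  left_inv := by
    rintro ⟨k, i⟩
    fin_cases k <;> simp
  right_inv := by
    rintro (i | i) <;> simp

theorem FB_det (u v w u' : Fin m → F) : (FB u v w u').det = ∏ i, (u i * u' i - v i * w i) := by
  have h : FB u v w u' = Matrix.reindex (pairEquiv m) (pairEquiv m)
      (Matrix.blockDiagonal (fun i : Fin m => !![u i, v i; w i, u' i])) := by
    ext s t
    rw [Matrix.reindex_apply, Matrix.submatrix_apply, Matrix.blockDiagonal_apply]
    unfold FB
    rcases s with i | i <;> rcases t with j | j <;>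
      simp [pairEquiv, Matrix.diagonal_apply] <;> split_ifs with h1 <;> simp_all
  rw [h, Matrix.det_reindex_self, Matrix.det_blockDiagonal]
  apply Finset.prod_congr rfl
  intro i _
  rw [Matrix.det_fin_two_of]

end Cfsg.Agent.Lib.Helper10.Alt
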