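import Mathlib
import Cfsg.Agent.Lib.Helper10.AltB

set_option autoImplicit false

namespace Cfsg.Agent.Lib.Helper10.Alt

open Matrix

variable {F : Type*} [Field F] {n : ℕ}

theorem conj_of_planes (f : (Fin n → F) → (Fin n → F) → F) (hf : Cfsg.Geo.IsSymplecticForm f)
    (x : Matrix.SpecialLinearGroup (Fin n) F) (m : ℕ) (hm : m + m = n)
    (E : Matrix (Fin n) (Fin m ⊕ Fin m) F) (E' : Matrix (Fin m ⊕ Fin m) (Fin n) F)
    (hEE' : E * E' = 1) (hE'E : E' * E = 1) (a b c d : Fin m → F) (μ : F) (hμ0 : μ ≠ 0)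
    (hμ : ∀ i, a i * d i - b i * c i = μ)
    (hxE : (x : Matrix (Fin n) (Fin n) F) * E = E * FB a b c d)
    (hadj : ∀ r : F, r ≠ 0 → ∃ C : Matrix (Fin m ⊕ Fin m) (Fin m ⊕ Fin m) F,
      C * FB a b c d = FB a b c d * C ∧ C.det = r) :
    ∃ P : Matrix.SpecialLinearGroup (Fin n) F,
      P⁻¹ * x * P ∈ (Cfsg.Geo.similarityGroup f).comap
        (Matrix.SpecialLinearGroup.toGL : Matrix.SpecialLinearGroup (Fin n) F →* GL (Fin n) F) := by
  classical
  obtain ⟨m₁, G, G', hGG', hG'G, hm₁, hsim⟩ := exists_sympl_frame f hf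
  have hmm : m₁ = m := by omega
  subst hmm
  obtain ⟨Y, hYdef⟩ : ∃ Y, Y = FB a b c d := ⟨_, rfl⟩
  rw [← hYdef] at hxE hadj
  have hY : Yᵀ * J0 m₁ F * Y = μ • J0 m₁ F := by
    rw [hYdef]
    exact FB_sim a b c d μ hμ
  have hdet0 : (G' * E).det ≠ 0 := by
    have h1 : (G' * E) * (E' * G) = 1 := by
      calc (G' * E) * (E' * G) = G' * (E * E') * G := by simp only [Matrix.mul_assoc]
        _ = 1 := by rw [hEE', Matrix.mul_one, hG'G]
    intro h0
    have h2 := congrArg Matrix.det h1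
    rw [Matrix.det_mul, h0, zero_mul, Matrix.det_one] at h2
    exact zero_ne_one h2
  obtain ⟨C, hC1, hC2⟩ := hadj ((G' * E).det)⁻¹ (inv_ne_zero hdet0)
  have hPdet : (E * C * G').det = 1 := by
    rw [Matrix.mul_assoc, Matrix.det_comm' hEE' hE'E, Matrix.mul_assoc, Matrix.det_mul, hC2,
      inv_mul_cancel₀ hdet0]
  let P : Matrix.SpecialLinearGroup (Fin n) F := ⟨E * C * G', hPdet⟩
  refine ⟨P, ?_⟩
  rw [Subgroup.mem_comap]
  have hkey : (x : Matrix (Fin n) (Fin n) F) * (P : Matrix (Fin n) (Fin n) F) =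
      (P : Matrix (Fin n) (Fin n) F) * (G * Y * G') := by
    show (x : Matrix (Fin n) (Fin n) F) * (E * C * G') = (E * C * G') * (G * Y * G')
    calc (x : Matrix (Fin n) (Fin n) F) * (E * C * G')
        = ((x : Matrix (Fin n) (Fin n) F) * E) * C * G' := by simp only [Matrix.mul_assoc]
      _ = E * (Y * C) * G' := by rw [hxE]; simp only [Matrix.mul_assoc]
      _ = E * (C * Y) * G' := by rw [hC1]
      _ = E * C * (G' * G) * Y * G' := by rw [hG'G]; simp only [Matrix.mul_assoc, Matrix.mul_one]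
      _ = (E * C * G') * (G * Y * G') := by simp only [Matrix.mul_assoc]
  have hPP : ((P⁻¹ : Matrix.SpecialLinearGroup (Fin n) F) : Matrix (Fin n) (Fin n) F) *
      (P : Matrix (Fin n) (Fin n) F) = 1 := by
    rw [← Matrix.SpecialLinearGroup.coe_mul, inv_mul_cancel, Matrix.SpecialLinearGroup.coe_one]
  have hval : ((Matrix.SpecialLinearGroup.toGL (P⁻¹ * x * P) : GL (Fin n) F) :
      Matrix (Fin n) (Fin n) F) = G * Y * G' := by
    rw [Matrix.SpecialLinearGroup.coe_GL_coe_matrix, Matrix.SpecialLinearGroup.coe_mul,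
      Matrix.SpecialLinearGroup.coe_mul, Matrix.mul_assoc, hkey, ← Matrix.mul_assoc, hPP,
      Matrix.one_mul]
  refine ⟨Units.mk0 μ hμ0, ?_⟩
  intro u v
  rw [hval, Units.val_mk0]
  exact hsim Y μ hY u v

end Cfsg.Agent.Lib.Helper10.Alt
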