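import Mathlib

set_option autoImplicit false

namespace Cfsg.Agent.Lib.Helper10.Alt

theorem exists_pairing {ι : Type} [Fintype ι] (τ : ι → ι) (hτ : ∀ i, τ (τ i) = i)
    (hfix : ∀ i, τ i ≠ i) :
    ∃ (m : ℕ) (ε : Fin m ⊕ Fin m ≃ ι), ∀ k, τ (ε (Sum.inl k)) = ε (Sum.inr k) := by
  classical
  let o : ι ≃ Fin (Fintype.card ι) := Fintype.equivFin ι
  let R := {i : ι // o i < o (τ i)}
  have hlt : ∀ i, ¬ o i < o (τ i) → o (τ i) < o (τ (τ i)) := by
    intro i h
    rw [hτ]
    have hne : o (τ i) ≠ o i := fun h' => hfix i (o.injective h')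
    exact lt_of_le_of_ne (not_lt.1 h) hne
  let g : ι → R ⊕ R := fun i =>
    if h : o i < o (τ i) then Sum.inl ⟨i, h⟩ else Sum.inr ⟨τ i, hlt i h⟩
  have g1 : ∀ i (h : o i < o (τ i)), g i = Sum.inl ⟨i, h⟩ := fun i h => dif_pos h
  have g2 : ∀ i (h : ¬ o i < o (τ i)), g i = Sum.inr ⟨τ i, hlt i h⟩ := fun i h => dif_neg h
  let φ : R ⊕ R ≃ ι :=
    { toFun := Sum.elim (fun r => r.1) (fun r => τ r.1)
      invFun := g
      left_inv := by
        rintro (r | r)
        · show g r.1 = Sum.inl r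
          rw [g1 r.1 r.2]
        · show g (τ r.1) = Sum.inr r
          have h : ¬ o (τ r.1) < o (τ (τ r.1)) := by
            rw [hτ]
            exact not_lt.2 (le_of_lt r.2)
          rw [g2 (τ r.1) h]
          congr 1
          exact Subtype.ext (hτ r.1)
      right_inv := by
        intro i
        by_cases h : o i < o (τ i)
        · rw [g1 i h]
          rfl
        · rw [g2 i h]
          exact hτ i }
  let eR : R ≃ Fin (Fintype.card R) := Fintype.equivFin R
  refine ⟨Fintype.card R, (Equiv.sumCongr eR.symm eR.symm).trans φ, ?_⟩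
  intro k
  rfl

end Cfsg.Agent.Lib.Helper10.Alt
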