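import Mathlib
import Cfsg.Agent.Lib.Helper10.AltB

set_option autoImplicit false

namespace Cfsg.Agent.Lib.Helper10.Alt

open Matrix Module

variable {F : Type*} [Field F] {n m : ℕ}

theorem frame_of_basis (X : Matrix (Fin n) (Fin n) F)
    (b : Basis (Fin m ⊕ Fin m) F (Fin n → F)) (a bb c d : Fin m → F)
    (hl : ∀ k, X *ᵥ b (Sum.inl k) = a k • b (Sum.inl k) + c k • b (Sum.inr k))
    (hr : ∀ k, X *ᵥ b (Sum.inr k) = bb k • b (Sum.inl k) + d k • b (Sum.inr k)) :
    ∃ (E : Matrix (Fin n) (Fin m ⊕ Fin m) F) (E' : Matrix (Fin m ⊕ Fin m) (Fin n) F),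
      E * E' = 1 ∧ E' * E = 1 ∧ X * E = E * FB a bb c d := by
  classical
  let E : Matrix (Fin n) (Fin m ⊕ Fin m) F := (Pi.basisFun F (Fin n)).toMatrix b
  let E' : Matrix (Fin m ⊕ Fin m) (Fin n) F := b.toMatrix (Pi.basisFun F (Fin n))
  have hEE' : E * E' = 1 := Basis.toMatrix_mul_toMatrix_flip _ _
  have hE'E : E' * E = 1 := Basis.toMatrix_mul_toMatrix_flip _ _
  have hEentry : ∀ i s, E i s = b s i := by
    intro i s
    show (Pi.basisFun F (Fin n)).toMatrix b i s = b s i
    rw [Basis.toMatrix_apply, Pi.basisFun_repr]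
  refine ⟨E, E', hEE', hE'E, ?_⟩
  ext i s
  have hXE : (X * E) i s = (X *ᵥ b s) i := by
    rw [Matrix.mul_apply, Matrix.mulVec, dotProduct]
    apply Finset.sum_congr rfl
    intro j _
    rw [hEentry]
  rw [hXE, Matrix.mul_apply, Fintype.sum_sum_type]
  simp only [hEentry]
  unfold FB
  rcases s with k | k
  · rw [hl k]
    simp only [Matrix.fromBlocks_apply₁₁, Matrix.fromBlocks_apply₂₁, Matrix.diagonal_apply,
      Pi.add_apply, Pi.smul_apply, smul_eq_mul]
    rw [Finset.sum_eq_single k, Finset.sum_eq_single k]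
    · rw [if_pos rfl, if_pos rfl]
      ring
    · intro k' _ hk'
      rw [if_neg hk', mul_zero]
    · intro h
      exact absurd (Finset.mem_univ k) h
    · intro k' _ hk'
      rw [if_neg hk', mul_zero]
    · intro h
      exact absurd (Finset.mem_univ k) h
  · rw [hr k]
    simp only [Matrix.fromBlocks_apply₁₂, Matrix.fromBlocks_apply₂₂, Matrix.diagonal_apply,
      Pi.add_apply, Pi.smul_apply, smul_eq_mul]
    rw [Finset.sum_eq_single k, Finset.sum_eq_single k]
    · rw [if_pos rfl, if_pos rfl]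
      ring
    · intro k' _ hk'
      rw [if_neg hk', mul_zero]
    · intro h
      exact absurd (Finset.mem_univ k) h
    · intro k' _ hk'
      rw [if_neg hk', mul_zero]
    · intro h
      exact absurd (Finset.mem_univ k) h

end Cfsg.Agent.Lib.Helper10.Alt
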