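import Mathlib
import Cfsg.Agent.Lib.Helper10.AltC
import Cfsg.Agent.Lib.Helper10.AltD
import Cfsg.Agent.Lib.Helper10.AltE
import Cfsg.Agent.Lib.Helper24.InvolDecomp

set_option autoImplicit false

namespace Cfsg.Agent.Lib.Helper10.Alt

open Matrix Module Polynomial

variable {F : Type*} [Field F] [Fintype F] {n : ℕ}

theorem exists_norm_form (hodd : Fintype.card F % 2 = 1) (z : F) (hz : z ≠ 0) (r : F) :
    ∃ s t : F, s ^ 2 - z * t ^ 2 = r := by
  have h1 : degree ((X : F[X]) ^ 2 - C r) = 2 := degree_X_pow_sub_C (by decide) r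
  have h2 : degree (C (-z) * (X : F[X]) ^ 2) = 2 := by
    rw [degree_C_mul_X_pow 2 (neg_ne_zero.2 hz)]
    rfl
  obtain ⟨s, t, hst⟩ := FiniteField.exists_root_sum_quadratic h1 h2 hodd
  refine ⟨s, t, ?_⟩
  simp only [eval_sub, eval_pow, eval_X, eval_C, eval_mul] at hst
  linear_combination hst

theorem caseB (hodd : Fintype.card F % 2 = 1) (hn : 1 ≤ n)
    (f : (Fin n → F) → (Fin n → F) → F) (hf : Cfsg.Geo.IsSymplecticForm f)
    (x : Matrix.SpecialLinearGroup (Fin n) F) (z : F) (hz : ¬ IsSquare z)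
    (hx : (x : Matrix (Fin n) (Fin n) F) * (x : Matrix (Fin n) (Fin n) F) =
      z • (1 : Matrix (Fin n) (Fin n) F)) :
    ∃ P : Matrix.SpecialLinearGroup (Fin n) F,
      P⁻¹ * x * P ∈ (Cfsg.Geo.similarityGroup f).comap
        (Matrix.SpecialLinearGroup.toGL : Matrix.SpecialLinearGroup (Fin n) F →* GL (Fin n) F) := by
  classical
  have hz0 : z ≠ 0 := by
    rintro rfl
    exact hz ⟨0, by simp⟩
  obtain ⟨X, hX⟩ : ∃ X : Matrix (Fin n) (Fin n) F, X = (x : Matrix (Fin n) (Fin n) F) := ⟨_, rfl⟩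
  rw [← hX] at hx
  let xl : (Fin n → F) →ₗ[F] (Fin n → F) := Matrix.toLin' X
  have hxl : ∀ v, xl v = X *ᵥ v := fun v => Matrix.toLin'_apply X v
  have hx' : ∀ v, xl (xl v) = z • v := by
    intro v
    rw [hxl, hxl, Matrix.mulVec_mulVec, hx, Matrix.smul_mulVec, Matrix.one_mulVec]
  obtain ⟨ι, _, b, τ, c, hτ, hc, hxb⟩ :=
    Cfsg.Agent.Lib.Helper24.InvolDecomp.exists_monomial_basis n xl z hz0 hx' (by simp)
  have hcc : ∀ i, c i * c (τ i) = z := by
    intro i
    have h2 := hx' (b i)
    rw [hxb i, map_smul, hxb (τ i), hτ, smul_smul] at h2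
    have h3 := sub_eq_zero.2 h2
    rw [← sub_smul] at h3
    rcases smul_eq_zero.1 h3 with h | h
    · exact sub_eq_zero.1 h
    · exact absurd h (b.ne_zero i)
  have hfix : ∀ i, τ i ≠ i := by
    intro i h
    have h1 := hcc i
    rw [h] at h1
    exact hz ⟨c i, h1.symm⟩
  obtain ⟨m, ε, hε⟩ := exists_pairing τ hτ hfix
  have hε' : ∀ k, τ (ε (Sum.inr k)) = ε (Sum.inl k) := by
    intro k
    rw [← hε k, hτ]
  let b' : Basis (Fin m ⊕ Fin m) F (Fin n → F) := b.reindex ε.symm
  have hb' : ∀ s, b' s = b (ε s) := by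
    intro s
    rw [Basis.reindex_apply, Equiv.symm_symm]
  have hm : m + m = n := by
    have h5 := Module.finrank_eq_card_basis b'
    rw [Module.finrank_fintype_fun_eq_card, Fintype.card_fin, Fintype.card_sum,
      Fintype.card_fin] at h5
    exact h5.symm
  have hl : ∀ k, X *ᵥ b' (Sum.inl k) =
      (0 : Fin m → F) k • b' (Sum.inl k) + c (ε (Sum.inl k)) • b' (Sum.inr k) := by
    intro k
    rw [← hxl, hb', hb', hxb, hε k, Pi.zero_apply, zero_smul, zero_add]
  have hr : ∀ k, X *ᵥ b' (Sum.inr k) =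
      c (ε (Sum.inr k)) • b' (Sum.inl k) + (0 : Fin m → F) k • b' (Sum.inr k) := by
    intro k
    rw [← hxl, hb', hb', hxb, hε' k, Pi.zero_apply, zero_smul, add_zero]
  obtain ⟨E, E', h1, h2, h3⟩ := frame_of_basis X b' 0 (fun k => c (ε (Sum.inr k)))
    (fun k => c (ε (Sum.inl k))) 0 hl hr
  have hβγ : ∀ k, c (ε (Sum.inr k)) * c (ε (Sum.inl k)) = z := by
    intro k
    have := hcc (ε (Sum.inr k))
    rwa [hε' k] at this
  refine conj_of_planes f hf x m hm E E' h1 h2 0 (fun k => c (ε (Sum.inr k)))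
    (fun k => c (ε (Sum.inl k))) 0 (-z) (neg_ne_zero.2 hz0) ?_ (hX ▸ h3) ?_
  · intro k
    simp only [Pi.zero_apply, mul_zero, zero_sub]
    rw [hβγ k]
  · intro r _
    obtain ⟨s, t, hst⟩ := exists_norm_form hodd z hz0 r
    let i₀ : Fin m := ⟨0, by omega⟩
    refine ⟨FB (Function.update 1 i₀ s) (Function.update 0 i₀ (t * c (ε (Sum.inr i₀))))
      (Function.update 0 i₀ (t * c (ε (Sum.inl i₀)))) (Function.update 1 i₀ s), ?_, ?_⟩
    · apply FB_comm
      · intro i
        by_cases hi : i = i₀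
        · subst hi
          simp only [Function.update_self]
          ring
        · simp only [Function.update_of_ne hi, Pi.zero_apply, zero_mul, mul_zero]
      · intro i
        simp only [Pi.zero_apply, mul_zero, zero_mul, add_zero, zero_add]
        ring
      · intro i
        simp only [Pi.zero_apply, mul_zero, zero_mul, add_zero, zero_add]
        ring
    · rw [FB_det, Finset.prod_eq_single i₀]
      · simp only [Function.update_self]
        have := hβγ i₀
        linear_combination hst - t ^ 2 * this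
      · intro i _ hi
        simp only [Function.update_of_ne hi, Pi.zero_apply, Pi.one_apply, mul_zero, mul_one,
          sub_zero]
      · intro h
        exact absurd (Finset.mem_univ _) h

end Cfsg.Agent.Lib.Helper10.Alt
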