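import Mathlib.GroupTheory.OrderOfElement
import Mathlib.GroupTheory.SpecificGroups.Alternating

set_option autoImplicit false

namespace Cfsg.Agent.Lib.Helper10

/-- Every element of `A₅` is killed by 2, 3 or 5. -/
theorem altFive_pow (g : alternatingGroup (Fin 5)) : g ^ 2 = 1 ∨ g ^ 3 = 1 ∨ g ^ 5 = 1 := by
  revert g
  decide +kernel

theorem altFive_exists_two : ∃ g : alternatingGroup (Fin 5), g ≠ 1 ∧ g ^ 2 = 1 := by
  decide +kernel

theorem altFive_exists_three : ∃ g : alternatingGroup (Fin 5), g ≠ 1 ∧ g ^ 3 = 1 := by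
  decide +kernel

theorem altFive_exists_five : ∃ g : alternatingGroup (Fin 5), g ≠ 1 ∧ g ^ 5 = 1 := by
  decide +kernel

theorem altFive_orderOf_mem (g : alternatingGroup (Fin 5)) :
    orderOf g = 1 ∨ orderOf g = 2 ∨ orderOf g = 3 ∨ orderOf g = 5 := by
  rcases altFive_pow g with h | h | h
  · have := orderOf_dvd_of_pow_eq_one h
    rcases (Nat.dvd_prime Nat.prime_two).1 this with h1 | h1 <;> simp [h1]
  · have := orderOf_dvd_of_pow_eq_one h
    rcases (Nat.dvd_prime Nat.prime_three).1 this with h1 | h1 <;> simp [h1]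
  · have := orderOf_dvd_of_pow_eq_one h
    rcases (Nat.dvd_prime Nat.prime_five).1 this with h1 | h1 <;> simp [h1]

theorem altFive_exists_orderOf_two : ∃ g : alternatingGroup (Fin 5), orderOf g = 2 := by
  obtain ⟨g, h1, h2⟩ := altFive_exists_two
  have : Fact (Nat.Prime 2) := ⟨Nat.prime_two⟩
  exact ⟨g, orderOf_eq_prime h2 h1⟩

theorem altFive_exists_orderOf_three : ∃ g : alternatingGroup (Fin 5), orderOf g = 3 := by
  obtain ⟨g, h1, h2⟩ := altFive_exists_three
  have : Fact (Nat.Prime 3) := ⟨Nat.prime_three⟩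
  exact ⟨g, orderOf_eq_prime h2 h1⟩

theorem altFive_exists_orderOf_five : ∃ g : alternatingGroup (Fin 5), orderOf g = 5 := by
  obtain ⟨g, h1, h2⟩ := altFive_exists_five
  have : Fact (Nat.Prime 5) := ⟨Nat.prime_five⟩
  exact ⟨g, orderOf_eq_prime h2 h1⟩

/-- For every `n ∈ {1, 2, 3, 5}` there is an element of `A₅` of order `n`. -/
theorem altFive_exists_orderOf {n : ℕ} (hn : n = 1 ∨ n = 2 ∨ n = 3 ∨ n = 5) :
    ∃ g : alternatingGroup (Fin 5), orderOf g = n := by
  rcases hn with rfl | rfl | rfl | rfl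
  · exact ⟨1, orderOf_one⟩
  · exact altFive_exists_orderOf_two
  · exact altFive_exists_orderOf_three
  · exact altFive_exists_orderOf_five

end Cfsg.Agent.Lib.Helper10
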