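import Mathlib
import Cfsg.Agent.Lib.Helper5.NilK

set_option autoImplicit false

namespace Cfsg.Agent.Lib.Helper10.GUOrdP

open Polynomial Module Cfsg.Agent.Lib.Helper5.Nil

variable {F : Type*} [Field F] {n : ℕ}

/-- kernel cardinality -/
noncomputable def kc (M : Matrix (Fin n) (Fin n) F) : ℕ :=
  Nat.card {v : Fin n → F // M.mulVec v = 0}

theorem kappa_MN (N : Matrix (Fin n) (Fin n) F) (j : ℕ) : kappa F (MN N) j = kc (N ^ j) := by
  unfold kappa kc
  apply Nat.card_congr
  refine ((AEval'.of (Matrix.toLin' N)).symm.toEquiv).subtypeEquiv (fun y => ?_)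
  obtain ⟨v, rfl⟩ := (AEval'.of (Matrix.toLin' N)).surjective y
  rw [AEval'.X_pow_smul_of]
  show AEval'.of (Matrix.toLin' N) ((Matrix.toLin' N ^ j) • v) = 0 ↔
    (N ^ j).mulVec ((AEval'.of (Matrix.toLin' N)).symm (AEval'.of (Matrix.toLin' N) v)) = 0
  rw [LinearEquiv.symm_apply_apply, LinearEquiv.map_eq_zero_iff]
  have : (Matrix.toLin' N ^ j) = Matrix.toLin' (N ^ j) := by
    rw [Matrix.toLin'_pow]
  rw [this]
  rfl

theorem conj_of_kc [Finite F] (N N' : Matrix (Fin n) (Fin n) F) (hN : ∃ m, N ^ m = 0)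
    (hN' : ∃ m, N' ^ m = 0) (h : ∀ j, kc (N ^ j) = kc (N' ^ j)) :
    ∃ G : GL (Fin n) F, (G : Matrix (Fin n) (Fin n) F) * N = N' * (G : Matrix (Fin n) (Fin n) F) := by
  obtain ⟨s, hs⟩ := exists_hasType N hN
  obtain ⟨s', hs'⟩ := exists_hasType N' hN'
  have hss : s = s' := by
    obtain ⟨d, k, ⟨e⟩, rfl⟩ := id hs
    obtain ⟨d', k', ⟨e'⟩, rfl⟩ := id hs'
    apply partsOf_eq_of_prof
    apply prof_of_kappa (F := F)
    intro j
    rw [← kappa_congr e j, ← kappa_congr e' j, kappa_MN, kappa_MN, h]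
  subst hss
  exact hs.conj_of_eq hs'

theorem kc_map (φ : F →+* F) (hφ : Function.Bijective φ) (M : Matrix (Fin n) (Fin n) F) :
    kc (M.map φ) = kc M := by
  unfold kc
  symm
  apply Nat.card_congr
  let E : (Fin n → F) ≃ (Fin n → F) := Equiv.piCongrRight (fun _ => Equiv.ofBijective φ hφ)
  refine E.subtypeEquiv (fun v => ?_)
  have hE : E v = φ ∘ v := rfl
  rw [hE]
  constructor
  · intro h
    funext i
    rw [← RingHom.map_mulVec, h]
    simp
  · intro h
    funext i
    have := congrFun h i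
    rw [← RingHom.map_mulVec] at this
    simp only [Pi.zero_apply] at this ⊢
    exact hφ.1 (this.trans (map_zero φ).symm)

theorem kc_eq_pow [Finite F] (M : Matrix (Fin n) (Fin n) F) :
    kc M = Nat.card F ^ (n - M.rank) := by
  classical
  have := Fintype.ofFinite F
  unfold kc
  have h1 : Nat.card {v : Fin n → F // M.mulVec v = 0} = Nat.card (LinearMap.ker M.mulVecLin) := by
    apply Nat.card_congr
    exact Equiv.subtypeEquivRight (fun v => by rw [LinearMap.mem_ker]; rfl)
  rw [h1, Nat.card_eq_fintype_card, Module.card_eq_pow_finrank (K := F), Nat.card_eq_fintype_card]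
  congr 1
  have h2 := LinearMap.finrank_range_add_finrank_ker M.mulVecLin
  rw [Module.finrank_pi, Fintype.card_fin] at h2
  unfold Matrix.rank
  omega

theorem kc_transpose [Finite F] (M : Matrix (Fin n) (Fin n) F) : kc M.transpose = kc M := by
  rw [kc_eq_pow, kc_eq_pow, Matrix.rank_transpose]

theorem kc_unit_mul (U : Matrix (Fin n) (Fin n) F) (hU : IsUnit U) (M : Matrix (Fin n) (Fin n) F) :
    kc (U * M) = kc M := by
  unfold kc
  apply Nat.card_congr
  refine Equiv.subtypeEquivRight (fun v => ?_)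
  rw [← Matrix.mulVec_mulVec]
  constructor
  · intro h
    obtain ⟨u, rfl⟩ := hU
    have := congrArg (fun w => ((u⁻¹ : (Matrix (Fin n) (Fin n) F)ˣ) : Matrix (Fin n) (Fin n) F).mulVec w) h
    simpa [Matrix.mulVec_mulVec] using this
  · intro h
    rw [h, Matrix.mulVec_zero]

end Cfsg.Agent.Lib.Helper10.GUOrdP
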