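import Mathlib
import Cfsg.Agent.Lib.Helper10.GUOrdPA
import Cfsg.Agent.Lib.Helper5.RegNilA

/-!
# Ranks of block matrices and of powers of regular nilpotent matrices; conjugacy from ranks
-/

set_option autoImplicit false

namespace Cfsg.Agent.Lib.Helper10.JT

open Matrix Module

variable {F : Type*} [Field F]

theorem rank_add_finrank_ker {ι : Type*} [Fintype ι] [DecidableEq ι] (M : Matrix ι ι F) :
    M.rank + finrank F (LinearMap.ker M.mulVecLin) = Fintype.card ι := by
  have h := LinearMap.finrank_range_add_finrank_ker M.mulVecLin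
  rw [Module.finrank_fintype_fun_eq_card] at h
  exact h

/-- rank of a block diagonal matrix with two blocks. -/
theorem rank_fromBlocks_diag {ι₁ ι₂ : Type*} [Fintype ι₁] [Fintype ι₂] [DecidableEq ι₁]
    [DecidableEq ι₂] (A : Matrix ι₁ ι₁ F) (D : Matrix ι₂ ι₂ F) :
    (Matrix.fromBlocks A 0 0 D).rank = A.rank + D.rank := by
  have hmv : ∀ v : ι₁ ⊕ ι₂ → F, (Matrix.fromBlocks A 0 0 D) *ᵥ v =
      Sum.elim (A *ᵥ (v ∘ Sum.inl)) (D *ᵥ (v ∘ Sum.inr)) := by
    intro v
    rw [Matrix.fromBlocks_mulVec, Matrix.zero_mulVec, Matrix.zero_mulVec, add_zero, zero_add]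
  let Φ : LinearMap.ker (Matrix.fromBlocks A 0 0 D).mulVecLin ≃ₗ[F]
      (LinearMap.ker A.mulVecLin × LinearMap.ker D.mulVecLin) :=
    { toFun := fun v => (⟨v.1 ∘ Sum.inl, by
          have h := v.2
          rw [LinearMap.mem_ker, Matrix.mulVecLin_apply, hmv] at h
          rw [LinearMap.mem_ker, Matrix.mulVecLin_apply]
          funext i
          exact congrFun h (Sum.inl i)⟩, ⟨v.1 ∘ Sum.inr, by
          have h := v.2
          rw [LinearMap.mem_ker, Matrix.mulVecLin_apply, hmv] at h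
          rw [LinearMap.mem_ker, Matrix.mulVecLin_apply]
          funext i
          exact congrFun h (Sum.inr i)⟩)
      map_add' := fun v w => rfl
      map_smul' := fun c v => rfl
      invFun := fun w => ⟨Sum.elim w.1.1 w.2.1, by
          rw [LinearMap.mem_ker, Matrix.mulVecLin_apply, hmv]
          have h1 := w.1.2
          have h2 := w.2.2
          rw [LinearMap.mem_ker, Matrix.mulVecLin_apply] at h1 h2
          funext i
          rcases i with i | i
          · exact congrFun h1 i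
          · exact congrFun h2 i⟩
      left_inv := fun v => by
        apply Subtype.ext
        funext i
        rcases i with i | i <;> rfl
      right_inv := fun w => rfl }
  have h1 := Φ.finrank_eq
  rw [Module.finrank_prod] at h1
  have h2 := rank_add_finrank_ker (Matrix.fromBlocks A 0 0 D)
  have h3 := rank_add_finrank_ker A
  have h4 := rank_add_finrank_ker D
  rw [Fintype.card_sum] at h2
  omega

/-- rank of a block diagonal matrix. -/
theorem rank_blockDiagonal' {κ : Type*} [Fintype κ] [DecidableEq κ] {n' : κ → Type*}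
    [∀ k, Fintype (n' k)] [∀ k, DecidableEq (n' k)] (M : ∀ k, Matrix (n' k) (n' k) F) :
    (Matrix.blockDiagonal' M).rank = ∑ k, (M k).rank := by
  have hmv : ∀ (v : (Σ k, n' k) → F) (k : κ) (i : n' k),
      ((Matrix.blockDiagonal' M) *ᵥ v) ⟨k, i⟩ = ((M k) *ᵥ (fun j => v ⟨k, j⟩)) i := by
    intro v k i
    rw [Matrix.mulVec, dotProduct, Fintype.sum_sigma, Finset.sum_eq_single k]
    · rw [Matrix.mulVec, dotProduct]
      apply Finset.sum_congr rfl
      intro j _
      rw [Matrix.blockDiagonal'_apply_eq]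
    · intro l _ hl
      apply Finset.sum_eq_zero
      intro j _
      rw [Matrix.blockDiagonal'_apply_ne _ _ _ (Ne.symm hl), zero_mul]
    · intro h
      exact absurd (Finset.mem_univ _) h
  let Φ : LinearMap.ker (Matrix.blockDiagonal' M).mulVecLin ≃ₗ[F]
      (∀ k, LinearMap.ker (M k).mulVecLin) :=
    { toFun := fun v k => ⟨fun j => v.1 ⟨k, j⟩, by
          have h := v.2
          rw [LinearMap.mem_ker, Matrix.mulVecLin_apply] at h
          rw [LinearMap.mem_ker, Matrix.mulVecLin_apply]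
          funext i
          rw [← hmv, h]
          rfl⟩
      map_add' := fun v w => rfl
      map_smul' := fun c v => rfl
      invFun := fun w => ⟨fun a => (w a.1).1 a.2, by
          rw [LinearMap.mem_ker, Matrix.mulVecLin_apply]
          funext ⟨k, i⟩
          rw [hmv]
          have h1 := (w k).2
          rw [LinearMap.mem_ker, Matrix.mulVecLin_apply] at h1
          exact congrFun h1 i⟩
      left_inv := fun v => by
        apply Subtype.ext
        funext ⟨k, i⟩
        rfl
      right_inv := fun w => rfl }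
  have h1 := Φ.finrank_eq
  rw [Module.finrank_pi_fintype] at h1
  have h2 := rank_add_finrank_ker (Matrix.blockDiagonal' M)
  rw [Fintype.card_sigma, h1] at h2
  have h3 : ∑ k, ((M k).rank + finrank F (LinearMap.ker (M k).mulVecLin)) =
      ∑ k, Fintype.card (n' k) := Finset.sum_congr rfl (fun k _ => rank_add_finrank_ker (M k))
  rw [Finset.sum_add_distrib] at h3
  omega

/-- ranks of powers of a regular nilpotent matrix. -/
theorem rank_pow_of_regular {ι : Type*} [Fintype ι] [DecidableEq ι] (N : Matrix ι ι F) {n : ℕ}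
    (hcard : Fintype.card ι = n) (hN : N ^ n = 0) (hr : N.rank = n - 1) (hn : 1 ≤ n) (p : ℕ) :
    (N ^ p).rank = n - p := by
  let φ := Matrix.toLinAlgEquiv' (R := F) (n := ι)
  set y : Module.End F (ι → F) := φ N with hy
  have hV : finrank F (ι → F) = n := by rw [Module.finrank_fintype_fun_eq_card, hcard]
  have hk : finrank F (LinearMap.ker y) = 1 := by
    have h1 := y.finrank_range_add_finrank_ker
    have h2 : finrank F (LinearMap.range y) = n - 1 := by
      rw [← hr]
      rfl
    rw [hV, h2] at h1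
    omega
  have hkp : ∀ j : ℕ, finrank F (LinearMap.ker (y ^ j)) ≤ j := by
    intro j
    have := Cfsg.Agent.Lib.Helper5.RegNil.finrank_ker_pow_le y j
    rw [hk, mul_one] at this
    exact this
  have hrk : ∀ j : ℕ, (N ^ j).rank = finrank F (LinearMap.range (y ^ j)) := by
    intro j
    rw [hy, ← map_pow]
    rfl
  rcases le_or_gt n p with hpn | hpn
  · obtain ⟨c, rfl⟩ := Nat.exists_eq_add_of_le hpn
    rw [pow_add, hN, zero_mul, Matrix.rank_zero]
    omega
  · rw [hrk]
    have h1 := (y ^ p).finrank_range_add_finrank_ker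
    rw [hV] at h1
    have h2 := hkp p
    have h3 : LinearMap.range (y ^ p) ≤ LinearMap.ker (y ^ (n - p)) := by
      rintro _ ⟨x, rfl⟩
      rw [LinearMap.mem_ker, ← Module.End.mul_apply, ← pow_add, show n - p + p = n by omega, hy,
        ← map_pow, hN, map_zero]
      rfl
    have h4 := Submodule.finrank_mono h3
    have h5 := hkp (n - p)
    omega

/-- two unipotent matrices with the same rank sequence are conjugate. -/
theorem isConj_of_rank_eq [Finite F] {ι : Type*} [Fintype ι] [DecidableEq ι]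
    (U₁ U₂ : Matrix ι ι F) (h₁ : ∃ e, (U₁ - 1) ^ e = 0) (h₂ : ∃ e, (U₂ - 1) ^ e = 0)
    (hr : ∀ p, ((U₁ - 1) ^ p).rank = ((U₂ - 1) ^ p).rank) : IsConj U₁ U₂ := by
  obtain ⟨n, hcard⟩ : ∃ n, Fintype.card ι = n := ⟨_, rfl⟩
  let e : ι ≃ Fin n := Fintype.equivFinOfCardEq hcard
  let ψ := Matrix.reindexAlgEquiv F F e
  have hψr : ∀ M : Matrix ι ι F, (ψ M).rank = M.rank := by
    intro M
    show ((Matrix.reindex e e) M).rank = M.rank
    exact Matrix.rank_reindex e e M
  have hn₁ : ∃ m, (ψ (U₁ - 1)) ^ m = 0 := by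
    obtain ⟨m, hm⟩ := h₁
    exact ⟨m, by rw [← map_pow, hm, map_zero]⟩
  have hn₂ : ∃ m, (ψ (U₂ - 1)) ^ m = 0 := by
    obtain ⟨m, hm⟩ := h₂
    exact ⟨m, by rw [← map_pow, hm, map_zero]⟩
  have hkc : ∀ j, Cfsg.Agent.Lib.Helper10.GUOrdP.kc ((ψ (U₁ - 1)) ^ j) =
      Cfsg.Agent.Lib.Helper10.GUOrdP.kc ((ψ (U₂ - 1)) ^ j) := by
    intro j
    rw [Cfsg.Agent.Lib.Helper10.GUOrdP.kc_eq_pow, Cfsg.Agent.Lib.Helper10.GUOrdP.kc_eq_pow,
      ← map_pow, ← map_pow, hψr, hψr, hr]
  obtain ⟨G, hG⟩ := Cfsg.Agent.Lib.Helper10.GUOrdP.conj_of_kc _ _ hn₁ hn₂ hkc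
  have hg1 : ψ.symm (G : Matrix (Fin n) (Fin n) F) * ψ.symm ((G⁻¹ : GL (Fin n) F) : Matrix (Fin n) (Fin n) F)
      = 1 := by
    rw [← map_mul, Units.mul_inv, map_one]
  have hg2 : ψ.symm ((G⁻¹ : GL (Fin n) F) : Matrix (Fin n) (Fin n) F) * ψ.symm (G : Matrix (Fin n) (Fin n) F)
      = 1 := by
    rw [← map_mul, Units.inv_mul, map_one]
  have hg3 : ψ.symm (G : Matrix (Fin n) (Fin n) F) * (U₁ - 1) =
      (U₂ - 1) * ψ.symm (G : Matrix (Fin n) (Fin n) F) := by
    apply ψ.injective
    rw [map_mul, map_mul, AlgEquiv.apply_symm_apply]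
    exact hG
  refine ⟨⟨ψ.symm (G : Matrix (Fin n) (Fin n) F),
    ψ.symm ((G⁻¹ : GL (Fin n) F) : Matrix (Fin n) (Fin n) F), hg1, hg2⟩, ?_⟩
  show ψ.symm (G : Matrix (Fin n) (Fin n) F) * U₁ = U₂ * ψ.symm (G : Matrix (Fin n) (Fin n) F)
  rw [mul_sub, sub_mul, mul_one, one_mul] at hg3
  exact sub_left_injective hg3

end Cfsg.Agent.Lib.Helper10.JT
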