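import Mathlib
import Cfsg.Agent.Lib.Helper10.AltC
import Cfsg.Agent.Lib.Helper10.JTB

set_option autoImplicit false

namespace Cfsg.Agent.Lib.Helper10.Alt

open Matrix Module Cfsg.Agent.Lib.Helper10.JT

variable {F : Type*} [Field F] [Fintype F] {n : ℕ}

theorem FB_sub_one {m : ℕ} (β : Fin m → F) : FB 1 β 0 1 - 1 = FB 0 β 0 0 := by
  unfold FB
  ext (i | i) (j | j) <;> simp [Matrix.sub_apply, Matrix.one_apply, Matrix.diagonal_apply]

theorem FB_nil_sq {m : ℕ} (β : Fin m → F) : FB 0 β 0 0 ^ 2 = 0 := by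
  rw [sq, FB_mul]
  unfold FB
  simp

theorem FB_nil_rank {m : ℕ} (r : ℕ) (hr : r ≤ m) :
    (FB (0 : Fin m → F) (fun i => if (i : ℕ) < r then 1 else 0) 0 0).rank = r := by
  classical
  have h1 : FB (0 : Fin m → F) (fun i => if (i : ℕ) < r then 1 else 0) 0 0 *
      (Matrix.fromBlocks 0 1 1 0 : Matrix (Fin m ⊕ Fin m) (Fin m ⊕ Fin m) F) =
      Matrix.fromBlocks (Matrix.diagonal (fun i : Fin m => if (i : ℕ) < r then (1 : F) else 0))
        0 0 0 := by
    unfold FB
    rw [Matrix.fromBlocks_multiply]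
    simp
  have h2 : IsUnit (Matrix.fromBlocks 0 1 1 0 : Matrix (Fin m ⊕ Fin m) (Fin m ⊕ Fin m) F).det := by
    have h3 : (Matrix.fromBlocks 0 1 1 0 : Matrix (Fin m ⊕ Fin m) (Fin m ⊕ Fin m) F) *
        Matrix.fromBlocks 0 1 1 0 = 1 := by
      rw [Matrix.fromBlocks_multiply]
      simp [Matrix.fromBlocks_one]
    have h4 := congrArg Matrix.det h3
    rw [Matrix.det_mul, Matrix.det_one] at h4
    exact IsUnit.of_mul_eq_one _ h4
  rw [← Matrix.rank_mul_eq_left_of_isUnit_det _ _ h2, h1, rank_fromBlocks_diag, Matrix.rank_zero,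
    add_zero, Matrix.rank_diagonal]
  have h5 : Fintype.card {i : Fin m // (if (i : ℕ) < r then (1 : F) else 0) ≠ 0} =
      Fintype.card {i : Fin m // (i : ℕ) < r} := by
    apply Fintype.card_congr
    refine Equiv.subtypeEquivRight (fun i => ?_)
    by_cases hi : (i : ℕ) < r
    · simp [hi]
    · simp [hi]
  rw [h5, Fintype.card_subtype]
  have h6 : (Finset.univ.filter (fun i : Fin m => (i : ℕ) < r)).card = r := by
    have h7 : (Finset.univ.filter (fun i : Fin m => (i : ℕ) < r)) =
        (Finset.range r).attachFin (fun i hi => lt_of_lt_of_le (Finset.mem_range.1 hi) hr) := by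
      ext i
      simp [Finset.mem_attachFin]
    rw [h7, Finset.card_attachFin, Finset.card_range]
  exact h6

theorem caseA [CharP F 2] (hn : 1 ≤ n) (m : ℕ) (hm : m + m = n)
    (f : (Fin n → F) → (Fin n → F) → F) (hf : Cfsg.Geo.IsSymplecticForm f)
    (x : Matrix.SpecialLinearGroup (Fin n) F) (z : F)
    (hx : (x : Matrix (Fin n) (Fin n) F) * (x : Matrix (Fin n) (Fin n) F) =
      z • (1 : Matrix (Fin n) (Fin n) F)) :
    ∃ P : Matrix.SpecialLinearGroup (Fin n) F,
      P⁻¹ * x * P ∈ (Cfsg.Geo.similarityGroup f).comap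
        (Matrix.SpecialLinearGroup.toGL : Matrix.SpecialLinearGroup (Fin n) F →* GL (Fin n) F) := by
  classical
  have : Nonempty (Fin n) := ⟨⟨0, by omega⟩⟩
  have hsqrt : ∀ y : F, ∃ s : F, s * s = y := by
    intro y
    have hinj : Function.Injective (frobenius F 2) := frobenius_inj F 2
    obtain ⟨s, hs⟩ := (Finite.injective_iff_surjective.1 hinj) y
    refine ⟨s, ?_⟩
    rw [← hs, frobenius_def, sq]
  obtain ⟨X, hX⟩ : ∃ X : Matrix (Fin n) (Fin n) F, X = (x : Matrix (Fin n) (Fin n) F) := ⟨_, rfl⟩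
  rw [← hX] at hx
  have hz0 : z ≠ 0 := by
    rintro rfl
    rw [zero_smul] at hx
    have h1 := congrArg Matrix.det hx
    rw [Matrix.det_mul, hX, x.2, one_mul, Matrix.det_zero] at h1
    exact one_ne_zero h1
  obtain ⟨l, hl⟩ := hsqrt z
  have hl0 : l ≠ 0 := by
    rintro rfl
    exact hz0 (by rw [← hl, mul_zero])
  obtain ⟨u, hu⟩ : ∃ u : Matrix (Fin n) (Fin n) F, u = l⁻¹ • X := ⟨_, rfl⟩
  have hXu : X = l • u := by rw [hu, smul_smul, mul_inv_cancel₀ hl0, one_smul]
  have hu2 : u ^ 2 = 1 := by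
    rw [hu, smul_pow, sq X, hx, smul_smul, inv_pow, sq, hl, inv_mul_cancel₀ hz0, one_smul]
  have hun : (u - 1) ^ 2 = 0 := by
    rw [sub_pow_char_of_commute 2 (Commute.one_right u), hu2, one_pow, sub_self]
  obtain ⟨r, hr⟩ : ∃ r, r = (u - 1).rank := ⟨_, rfl⟩
  have hrm : r ≤ m := by
    have h1 := Matrix.rank_add_rank_le_card_of_mul_eq_zero (show (u - 1) * (u - 1) = 0 by
      rw [← sq, hun])
    rw [Fintype.card_fin, ← hr] at h1
    omega
  let β : Fin m → F := fun i => if (i : ℕ) < r then 1 else 0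
  let e' : Fin m ⊕ Fin m ≃ Fin n := finSumFinEquiv.trans (finCongr hm)
  let ψ := Matrix.reindexAlgEquiv F F e'
  have hsub : ψ (FB 1 β 0 1) - 1 = ψ (FB 0 β 0 0) := by
    rw [← FB_sub_one, map_sub, map_one]
  have hconj : IsConj (ψ (FB 1 β 0 1)) u := by
    apply isConj_of_rank_eq
    · refine ⟨2, ?_⟩
      rw [hsub, ← map_pow, FB_nil_sq, map_zero]
    · exact ⟨2, hun⟩
    · intro p
      rw [hsub, ← map_pow]
      have h5 : (ψ (FB 0 β 0 0 ^ p)).rank = (FB 0 β 0 0 ^ p).rank := Matrix.rank_reindex e' e' _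
      rw [h5]
      rcases Nat.lt_or_ge p 2 with hp | hp
      · interval_cases p
        · rw [pow_zero, pow_zero, Matrix.rank_one, Matrix.rank_one, Fintype.card_sum,
            Fintype.card_fin, Fintype.card_fin, hm]
        · rw [pow_one, pow_one, ← hr]
          exact FB_nil_rank r hrm
      · obtain ⟨k, rfl⟩ := Nat.exists_eq_add_of_le hp
        rw [pow_add, pow_add, FB_nil_sq, hun, zero_mul, zero_mul, Matrix.rank_zero,
          Matrix.rank_zero]
  obtain ⟨cu, hcu⟩ := hconj
  have hcu' : (cu : Matrix (Fin n) (Fin n) F) * ψ (FB 1 β 0 1) = u * (cu : Matrix (Fin n) (Fin n) F) :=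
    hcu
  obtain ⟨cv, hcv⟩ : ∃ cv : Matrix (Fin n) (Fin n) F, cv = (cu : Matrix (Fin n) (Fin n) F) :=
    ⟨_, rfl⟩
  obtain ⟨ci, hci⟩ : ∃ ci : Matrix (Fin n) (Fin n) F,
    ci = ((cu⁻¹ : (Matrix (Fin n) (Fin n) F)ˣ) : Matrix (Fin n) (Fin n) F) := ⟨_, rfl⟩
  have hcvi : cv * ci = 1 := by rw [hcv, hci, ← Units.val_mul, mul_inv_cancel, Units.val_one]
  have hciv : ci * cv = 1 := by rw [hcv, hci, ← Units.val_mul, inv_mul_cancel, Units.val_one]
  rw [← hcv] at hcu'
  let E : Matrix (Fin n) (Fin m ⊕ Fin m) F := cv.submatrix id e'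
  let E' : Matrix (Fin m ⊕ Fin m) (Fin n) F := ci.submatrix e' id
  have hEE' : E * E' = 1 := by
    show cv.submatrix id e' * ci.submatrix e' id = 1
    rw [Matrix.submatrix_mul_equiv, hcvi, Matrix.submatrix_one _ Function.injective_id]
  have hE'E : E' * E = 1 := by
    show ci.submatrix e' id * cv.submatrix id e' = 1
    have h1 : ci.submatrix e' id * cv.submatrix id e' = (ci * cv).submatrix e' e' :=
      (Matrix.submatrix_mul ci cv e' id e' Function.bijective_id).symm
    rw [h1, hciv, Matrix.submatrix_one_equiv]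
  have huE : u * E = E * FB 1 β 0 1 := by
    show u * cv.submatrix id e' = cv.submatrix id e' * FB 1 β 0 1
    have h1 : u * cv.submatrix id e' = (u * cv).submatrix id e' :=
      (Matrix.submatrix_mul u cv id id e' Function.bijective_id).symm
    have h2 : FB 1 β 0 1 = (ψ (FB 1 β 0 1)).submatrix e' e' := by
      show FB 1 β 0 1 = (Matrix.reindex e' e' (FB 1 β 0 1)).submatrix e' e'
      rw [Matrix.reindex_apply, Matrix.submatrix_submatrix]
      simp
    rw [h1, ← hcu']
    conv_rhs => rw [h2]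
    rw [Matrix.submatrix_mul_equiv]
  have hsm : l • FB 1 β 0 1 = FB (fun _ => l) (fun i => l * β i) 0 (fun _ => l) := by
    unfold FB
    rw [Matrix.fromBlocks_smul]
    congr 1
    · ext i j
      by_cases hij : i = j <;> simp [Matrix.diagonal_apply, hij]
    · ext i j
      by_cases hij : i = j <;> simp [Matrix.diagonal_apply, hij]
    · ext i j
      by_cases hij : i = j <;> simp [Matrix.diagonal_apply, hij]
    · ext i j
      by_cases hij : i = j <;> simp [Matrix.diagonal_apply, hij]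
  have hXE : (x : Matrix (Fin n) (Fin n) F) * E =
      E * FB (fun _ => l) (fun i => l * β i) 0 (fun _ => l) := by
    rw [← hX, hXu, Matrix.smul_mul, huE, ← hsm, Matrix.mul_smul]
  refine conj_of_planes f hf x m hm E E' hEE' hE'E (fun _ => l) (fun i => l * β i) 0 (fun _ => l)
    (l * l) (mul_ne_zero hl0 hl0) ?_ hXE ?_
  · intro i
    simp only [Pi.zero_apply, mul_zero, sub_zero]
  · intro r' _
    obtain ⟨s, hs⟩ := hsqrt r'
    let i₀ : Fin m := ⟨0, by omega⟩
    refine ⟨FB (Function.update 1 i₀ s) 0 0 (Function.update 1 i₀ s), ?_, ?_⟩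
    · apply FB_comm
      · intro i
        simp only [Pi.zero_apply, mul_zero, zero_mul]
      · intro i
        simp only [Pi.zero_apply, zero_mul, add_zero, mul_zero, zero_add]
        ring
      · intro i
        simp only [Pi.zero_apply, zero_mul, mul_zero, add_zero]
    · rw [FB_det, Finset.prod_eq_single i₀]
      · simp only [Function.update_self, Pi.zero_apply, mul_zero, sub_zero]
        exact hs
      · intro i _ hi
        simp only [Function.update_of_ne hi, Pi.zero_apply, Pi.one_apply, mul_zero, mul_one,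
          sub_zero]
      · intro h
        exact absurd (Finset.mem_univ _) h

end Cfsg.Agent.Lib.Helper10.Alt
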