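import Mathlib
import Cfsg.Agent.Lib.Helper10.AltC
import Cfsg.Agent.Lib.Helper10.AltD
import Cfsg.Agent.Lib.Helper10.AltE

set_option autoImplicit false

namespace Cfsg.Agent.Lib.Helper10.Alt

open Matrix Module

variable {F : Type*} [Field F] {n : ℕ}

theorem det_of_eigenbasis {κ : Type*} [Fintype κ] [DecidableEq κ] (X : Matrix (Fin n) (Fin n) F)
    (b : Basis κ F (Fin n → F)) (w : κ → F) (hw : ∀ s, X *ᵥ b s = w s • b s) :
    X.det = ∏ s, w s := by
  let E : Matrix (Fin n) κ F := (Pi.basisFun F (Fin n)).toMatrix b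
  let E' : Matrix κ (Fin n) F := b.toMatrix (Pi.basisFun F (Fin n))
  have hEE' : E * E' = 1 := Basis.toMatrix_mul_toMatrix_flip _ _
  have hE'E : E' * E = 1 := Basis.toMatrix_mul_toMatrix_flip _ _
  have hEentry : ∀ i s, E i s = b s i := by
    intro i s
    show (Pi.basisFun F (Fin n)).toMatrix b i s = b s i
    rw [Basis.toMatrix_apply, Pi.basisFun_repr]
  have hXE : X * E = E * Matrix.diagonal w := by
    ext i s
    rw [Matrix.mul_diagonal, hEentry]
    have : (X * E) i s = (X *ᵥ b s) i := by
      rw [Matrix.mul_apply, Matrix.mulVec, dotProduct]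
      apply Finset.sum_congr rfl
      intro j _
      rw [hEentry]
    rw [this, hw s, Pi.smul_apply, smul_eq_mul, mul_comm]
  have hX : X = E * Matrix.diagonal w * E' := by
    rw [← hXE, Matrix.mul_assoc, hEE', Matrix.mul_one]
  rw [hX, Matrix.det_conj_of_mul_eq_one hEE' hE'E, Matrix.det_diagonal]

/-- shift by `a` on `Fin (a + a)` -/
def flip (a : ℕ) (i : Fin (a + a)) : Fin (a + a) :=
  if h : (i : ℕ) < a then ⟨i + a, by omega⟩ else ⟨i - a, by omega⟩

theorem flip_flip (a : ℕ) (i : Fin (a + a)) : flip a (flip a i) = i := by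
  unfold flip
  by_cases h : (i : ℕ) < a
  · simp only [dif_pos h]
    have h2 : ¬ ((i : ℕ) + a < a) := by omega
    simp only [dif_neg h2]
    apply Fin.ext
    simp
  · simp only [dif_neg h]
    have h2 : (i : ℕ) - a < a := by omega
    simp only [dif_pos h2]
    apply Fin.ext
    simp
    omega

theorem flip_ne (a : ℕ) (i : Fin (a + a)) : flip a i ≠ i := by
  unfold flip
  intro hh
  by_cases h : (i : ℕ) < a
  · rw [dif_pos h] at hh
    have := congrArg Fin.val hh
    simp at this
    omega
  · rw [dif_neg h] at hh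
    have := congrArg Fin.val hh
    simp at this
    omega

end Cfsg.Agent.Lib.Helper10.Alt
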