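import Mathlib
import Cfsg.Agent.Lib.Helper10.AltH

set_option autoImplicit false

namespace Cfsg.Agent.Lib.Helper10.Alt

open Matrix Module

variable {F : Type*} [Field F] {n : ℕ}

theorem caseC (h2 : (2 : F) ≠ 0) (hn : 1 ≤ n) (m : ℕ) (hm : m + m = n)
    (f : (Fin n → F) → (Fin n → F) → F) (hf : Cfsg.Geo.IsSymplecticForm f)
    (x : Matrix.SpecialLinearGroup (Fin n) F) (l : F) (hl0 : l ≠ 0)
    (hx : (x : Matrix (Fin n) (Fin n) F) * (x : Matrix (Fin n) (Fin n) F) =
      (l * l) • (1 : Matrix (Fin n) (Fin n) F))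
    (hpar : ¬ ∃ y : F, y ^ n = -1) :
    ∃ P : Matrix.SpecialLinearGroup (Fin n) F,
      P⁻¹ * x * P ∈ (Cfsg.Geo.similarityGroup f).comap
        (Matrix.SpecialLinearGroup.toGL : Matrix.SpecialLinearGroup (Fin n) F →* GL (Fin n) F) := by
  classical
  obtain ⟨X, hX⟩ : ∃ X : Matrix (Fin n) (Fin n) F, X = (x : Matrix (Fin n) (Fin n) F) := ⟨_, rfl⟩
  rw [← hX] at hx
  -- eigenspaces
  let Wp : Submodule F (Fin n → F) := LinearMap.ker (Matrix.toLin' (X - l • 1))
  let Wm : Submodule F (Fin n → F) := LinearMap.ker (Matrix.toLin' (X + l • 1))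
  have hWp : ∀ v, v ∈ Wp ↔ X *ᵥ v = l • v := by
    intro v
    show Matrix.toLin' (X - l • 1) v = 0 ↔ _
    rw [Matrix.toLin'_apply, Matrix.sub_mulVec, Matrix.smul_mulVec, Matrix.one_mulVec, sub_eq_zero]
  have hWm : ∀ v, v ∈ Wm ↔ X *ᵥ v = -(l • v) := by
    intro v
    show Matrix.toLin' (X + l • 1) v = 0 ↔ _
    rw [Matrix.toLin'_apply, Matrix.add_mulVec, Matrix.smul_mulVec, Matrix.one_mulVec,
      add_eq_zero_iff_eq_neg]
  have hXX : ∀ v, X *ᵥ (X *ᵥ v) = (l * l) • v := by
    intro v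
    rw [Matrix.mulVec_mulVec, hx, Matrix.smul_mulVec, Matrix.one_mulVec]
  have h2l : (2 * l : F) ≠ 0 := mul_ne_zero h2 hl0
  have hc : IsCompl Wp Wm := by
    constructor
    · rw [Submodule.disjoint_def]
      intro v hp hm'
      rw [hWp] at hp
      rw [hWm] at hm'
      have h3 : (2 * l) • v = 0 := by
        rw [mul_smul, two_smul]
        nth_rewrite 1 [← hp]
        rw [hm', neg_add_cancel]
      rcases smul_eq_zero.1 h3 with h | h
      · exact absurd h h2l
      · exact h
    · rw [codisjoint_iff, eq_top_iff]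
      intro v _
      have hp : (2 * l)⁻¹ • (X *ᵥ v + l • v) ∈ Wp := by
        rw [hWp, Matrix.mulVec_smul, Matrix.mulVec_add, hXX, Matrix.mulVec_smul]
        module
      have hm' : (2 * l)⁻¹ • (l • v - X *ᵥ v) ∈ Wm := by
        rw [hWm, Matrix.mulVec_smul, Matrix.mulVec_sub, hXX, Matrix.mulVec_smul]
        module
      have hv : v = (2 * l)⁻¹ • (X *ᵥ v + l • v) + (2 * l)⁻¹ • (l • v - X *ᵥ v) := by
        have h6 : (2 * l)⁻¹ • (X *ᵥ v + l • v) + (2 * l)⁻¹ • (l • v - X *ᵥ v) =
            ((2 * l)⁻¹ * (2 * l)) • v := by module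
        rw [h6, inv_mul_cancel₀ h2l, one_smul]
      rw [hv]
      exact Submodule.add_mem_sup hp hm'
  -- dimensions
  obtain ⟨a', ha'⟩ : ∃ a', a' = finrank F Wp := ⟨_, rfl⟩
  obtain ⟨j, hj⟩ : ∃ j, j = finrank F Wm := ⟨_, rfl⟩
  have hsum : a' + j = n := by
    have := Submodule.finrank_add_eq_of_isCompl hc
    rw [Module.finrank_fintype_fun_eq_card, Fintype.card_fin] at this
    rw [ha', hj]
    exact this
  let bp : Basis (Fin a') F Wp := Module.finBasisOfFinrankEq F Wp ha'.symm
  let bm : Basis (Fin j) F Wm := Module.finBasisOfFinrankEq F Wm hj.symm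
  let bV : Basis (Fin a' ⊕ Fin j) F (Fin n → F) :=
    (bp.prod bm).map (Submodule.prodEquivOfIsCompl Wp Wm hc)
  have hbVl : ∀ i, bV (Sum.inl i) = (bp i : Fin n → F) := by
    intro i
    rw [Basis.map_apply, Submodule.coe_prodEquivOfIsCompl']
    simp
  have hbVr : ∀ i, bV (Sum.inr i) = (bm i : Fin n → F) := by
    intro i
    rw [Basis.map_apply, Submodule.coe_prodEquivOfIsCompl']
    simp
  let w : Fin a' ⊕ Fin j → F := Sum.elim (fun _ => l) (fun _ => -l)
  have hw : ∀ s, X *ᵥ bV s = w s • bV s := by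
    rintro (i | i)
    · rw [hbVl, (hWp _).1 (bp i).2]
      rfl
    · rw [hbVr, (hWm _).1 (bm i).2]
      show -(l • (bm i : Fin n → F)) = (-l) • (bm i : Fin n → F)
      rw [neg_smul]
  have hdet : l ^ a' * (-l) ^ j = 1 := by
    have h3 := det_of_eigenbasis X bV w hw
    rw [hX, x.2, Fintype.prod_sum_type] at h3
    simp only [w, Sum.elim_inl, Sum.elim_inr, Finset.prod_const, Finset.card_univ,
      Fintype.card_fin] at h3
    exact h3.symm
  have hjev : Even j := by
    by_contra hodd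
    have hodd' : Odd j := Nat.not_even_iff_odd.1 hodd
    apply hpar
    refine ⟨l, ?_⟩
    rw [neg_pow l j, hodd'.neg_one_pow] at hdet
    have h4 : l ^ n = -1 := by
      rw [← hsum, pow_add]
      linear_combination -hdet
    exact h4
  obtain ⟨b0, hb0⟩ := hjev
  have haev : Even a' := by
    have hnev : Even n := ⟨m, hm.symm⟩
    rw [← hsum, Nat.even_add] at hnev
    exact hnev.2 ⟨b0, hb0⟩
  obtain ⟨a0, ha0⟩ := haev
  subst hb0 ha0
  -- pairing
  let τ' : Fin (a0 + a0) ⊕ Fin (b0 + b0) → Fin (a0 + a0) ⊕ Fin (b0 + b0) :=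
    Sum.map (flip a0) (flip b0)
  have hτ' : ∀ s, τ' (τ' s) = s := by
    rintro (i | i)
    · show Sum.inl (flip a0 (flip a0 i)) = Sum.inl i
      rw [flip_flip]
    · show Sum.inr (flip b0 (flip b0 i)) = Sum.inr i
      rw [flip_flip]
  have hτne : ∀ s, τ' s ≠ s := by
    rintro (i | i) h
    · exact flip_ne a0 i (Sum.inl_injective h)
    · exact flip_ne b0 i (Sum.inr_injective h)
  have hwτ : ∀ s, w (τ' s) = w s := by
    rintro (i | i) <;> rfl
  obtain ⟨m', ε, hε⟩ := exists_pairing τ' hτ' hτne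
  let b' : Basis (Fin m' ⊕ Fin m') F (Fin n → F) := bV.reindex ε.symm
  have hb' : ∀ s, b' s = bV (ε s) := by
    intro s
    rw [Basis.reindex_apply, Equiv.symm_symm]
  have hm' : m' + m' = n := by
    have h5 := Module.finrank_eq_card_basis b'
    rw [Module.finrank_fintype_fun_eq_card, Fintype.card_fin, Fintype.card_sum,
      Fintype.card_fin] at h5
    exact h5.symm
  have hmm : m' = m := by omega
  subst hmm
  let α : Fin m' → F := fun k => w (ε (Sum.inl k))
  have hαr : ∀ k, w (ε (Sum.inr k)) = α k := by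
    intro k
    rw [← hε k, hwτ]
  have hl' : ∀ k, X *ᵥ b' (Sum.inl k) =
      α k • b' (Sum.inl k) + (0 : Fin m' → F) k • b' (Sum.inr k) := by
    intro k
    rw [hb', hw, Pi.zero_apply, zero_smul, add_zero]
  have hr' : ∀ k, X *ᵥ b' (Sum.inr k) =
      (0 : Fin m' → F) k • b' (Sum.inl k) + α k • b' (Sum.inr k) := by
    intro k
    rw [hb', hw, hαr, Pi.zero_apply, zero_smul, zero_add]
  obtain ⟨E, E', h1, h2', h3⟩ := frame_of_basis X b' α 0 0 α hl' hr'
  have hα2 : ∀ k, α k * α k = l * l := by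
    intro k
    show w (ε (Sum.inl k)) * w (ε (Sum.inl k)) = l * l
    rcases ε (Sum.inl k) with i | i
    · rfl
    · show (-l) * (-l) = l * l
      ring
  refine conj_of_planes f hf x m' hm E E' h1 h2' α 0 0 α (l * l) (mul_ne_zero hl0 hl0) ?_
    (hX ▸ h3) ?_
  · intro k
    simp only [Pi.zero_apply, mul_zero, sub_zero]
    exact hα2 k
  · intro r' _
    let i₀ : Fin m' := ⟨0, by omega⟩
    refine ⟨FB (Function.update 1 i₀ r') 0 0 1, ?_, ?_⟩
    · apply FB_comm
      · intro i
        simp only [Pi.zero_apply, mul_zero]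
      · intro i
        simp only [Pi.zero_apply, zero_mul, mul_zero, add_zero]
      · intro i
        simp only [Pi.zero_apply, zero_mul, mul_zero, add_zero]
    · rw [FB_det, Finset.prod_eq_single i₀]
      · simp only [Function.update_self, Pi.zero_apply, Pi.one_apply, mul_zero, sub_zero, mul_one]
      · intro i _ hi
        simp only [Function.update_of_ne hi, Pi.zero_apply, Pi.one_apply, mul_zero, mul_one,
          sub_zero]
      · intro h
        exact absurd (Finset.mem_univ _) h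

end Cfsg.Agent.Lib.Helper10.Alt
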