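import Mathlib
import Cfsg.Agent.Lib.Helper10.AltI
import Cfsg.Agent.Lib.Helper10.AltG
import Cfsg.Agent.Lib.Helper10.AltF

set_option autoImplicit false

namespace Cfsg.Agent.Lib.Helper10.Alt

open Matrix Module

theorem no_root_neg_one {F : Type*} [Field F] [Fintype F] (h2 : (2 : F) ≠ 0) (n : ℕ) (hn : n ≠ 0)
    (hv : padicValNat 2 (Fintype.card F - 1) ≤ padicValNat 2 n) : ¬ ∃ y : F, y ^ n = -1 := by
  rintro ⟨y, hy⟩
  have hy0 : y ≠ 0 := by
    rintro rfl
    rw [zero_pow hn] at hy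
    have : (1 : F) = 0 := by linear_combination hy
    exact one_ne_zero this
  have h1 : y ^ (Fintype.card F - 1) = 1 := FiniteField.pow_card_sub_one_eq_one y hy0
  have hq1 : Fintype.card F - 1 ≠ 0 := by
    have := Fintype.one_lt_card (α := F)
    omega
  obtain ⟨N, hN⟩ : ∃ N, N = Fintype.card F - 1 := ⟨_, rfl⟩
  rw [← hN] at h1 hq1 hv
  obtain ⟨q', hq'⟩ := pow_padicValNat_dvd (p := 2) (n := N)
  have hnd := pow_succ_padicValNat_not_dvd (p := 2) hq1
  obtain ⟨v, hvdef⟩ : ∃ v, v = padicValNat 2 N := ⟨_, rfl⟩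
  rw [← hvdef] at hq' hnd hv
  have hodd : Odd q' := by
    by_contra hne
    have hev : Even q' := Nat.not_odd_iff_even.1 hne
    obtain ⟨r, hr⟩ := hev
    apply hnd
    refine ⟨r, ?_⟩
    rw [hq', hr]
    ring
  have hdvd : N ∣ n * q' := by
    rw [hq']
    apply Nat.mul_dvd_mul _ (dvd_refl q')
    exact dvd_trans (pow_dvd_pow 2 hv) pow_padicValNat_dvd
  obtain ⟨k, hk⟩ := hdvd
  have h3 : y ^ (n * q') = 1 := by rw [hk, pow_mul, h1, one_pow]
  rw [pow_mul, hy, hodd.neg_one_pow] at h3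
  apply h2
  linear_combination -h3

theorem suff {F : Type*} [Field F] [Fintype F] {p : ℕ} [Fact p.Prime] [CharP F p]
    (n : ℕ) (hn : 4 ≤ n) (he : Even n) (f : (Fin n → F) → (Fin n → F) → F)
    (hf : Cfsg.Geo.IsSymplecticForm f)
    (hv : padicValNat 2 (Fintype.card F - 1) ≤ padicValNat 2 n)
    (x : Matrix.SpecialLinearGroup (Fin n) F) (z : F)
    (hx : (x : Matrix (Fin n) (Fin n) F) * (x : Matrix (Fin n) (Fin n) F) =
      z • (1 : Matrix (Fin n) (Fin n) F)) :
    ∃ P : Matrix.SpecialLinearGroup (Fin n) F,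
      P⁻¹ * x * P ∈ (Cfsg.Geo.similarityGroup f).comap
        (Matrix.SpecialLinearGroup.toGL : Matrix.SpecialLinearGroup (Fin n) F →* GL (Fin n) F) := by
  classical
  obtain ⟨m, hm⟩ := he
  have hn1 : 1 ≤ n := by omega
  by_cases hp2 : p = 2
  · subst hp2
    exact caseA hn1 m hm.symm f hf x z hx
  · have hrc : ringChar F ≠ 2 := by
      rw [ringChar.eq F p]
      exact hp2
    have hodd : Fintype.card F % 2 = 1 := FiniteField.odd_card_of_char_ne_two hrc
    have h2 : (2 : F) ≠ 0 := Ring.two_ne_zero hrc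
    have hz0 : z ≠ 0 := by
      rintro rfl
      have hdet := congrArg Matrix.det hx
      rw [Matrix.det_mul, x.2, zero_smul] at hdet
      have : Nonempty (Fin n) := ⟨⟨0, by omega⟩⟩
      rw [Matrix.det_zero, mul_one] at hdet
      exact one_ne_zero hdet
    by_cases hz : IsSquare z
    · obtain ⟨l, hl⟩ := hz
      have hl0 : l ≠ 0 := by
        rintro rfl
        apply hz0
        rw [hl, mul_zero]
      rw [hl] at hx
      exact caseC h2 hn1 m hm.symm f hf x l hl0 hx (no_root_neg_one h2 n (by omega) hv)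
    · exact caseB hodd hn1 f hf x z hz hx

end Cfsg.Agent.Lib.Helper10.Alt
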