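import Mathlib
import Cfsg.Agent.Lib.Helper10.AltA

set_option autoImplicit false

namespace Cfsg.Agent.Lib.Helper10.Alt

open Matrix Module

theorem exists_root_neg_one {F : Type*} [Field F] [Fintype F] (n : ℕ) (hn : n ≠ 0)
    (hv : padicValNat 2 n < padicValNat 2 (Fintype.card F - 1)) : ∃ y : F, y ^ n = -1 := by
  classical
  obtain ⟨N, hN⟩ : ∃ N, N = Fintype.card F - 1 := ⟨_, rfl⟩
  rw [← hN] at hv
  have hN0 : N ≠ 0 := by
    have := Fintype.one_lt_card (α := F)
    omega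
  obtain ⟨q', hq'⟩ := pow_padicValNat_dvd (p := 2) (n := N)
  obtain ⟨n', hn'⟩ := pow_padicValNat_dvd (p := 2) (n := n)
  have hnd := pow_succ_padicValNat_not_dvd (p := 2) hn
  obtain ⟨v, hvdef⟩ : ∃ v, v = padicValNat 2 N := ⟨_, rfl⟩
  obtain ⟨w, hwdef⟩ : ∃ w, w = padicValNat 2 n := ⟨_, rfl⟩
  rw [← hvdef] at hq' hv
  rw [← hwdef] at hn' hnd hv
  have hodd : Odd n' := by
    by_contra hne
    have hev : Even n' := Nat.not_odd_iff_even.1 hne
    obtain ⟨r, hr⟩ := hev
    apply hnd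
    refine ⟨r, ?_⟩
    rw [hn', hr]
    ring
  have hq'0 : q' ≠ 0 := by
    rintro rfl
    apply hN0
    rw [hq', mul_zero]
  obtain ⟨g, hg⟩ := IsCyclic.exists_generator (α := Fˣ)
  have hord : orderOf g = N := by
    rw [orderOf_eq_card_of_forall_mem_zpowers hg, Nat.card_eq_fintype_card, Fintype.card_units, hN]
  obtain ⟨k, hk⟩ : ∃ k, v = k + 1 + w := ⟨v - 1 - w, by omega⟩
  -- h = g ^ (2^(v-1) q')
  have hh2 : ((g : F) ^ (2 ^ (k + w) * q')) * ((g : F) ^ (2 ^ (k + w) * q')) = 1 := by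
    rw [← pow_add, ← Units.val_pow_eq_pow_val]
    have : 2 ^ (k + w) * q' + 2 ^ (k + w) * q' = N := by
      rw [hq', hk]
      ring
    rw [this, ← hord, pow_orderOf_eq_one, Units.val_one]
  have hh1 : (g : F) ^ (2 ^ (k + w) * q') ≠ 1 := by
    intro h
    rw [← Units.val_pow_eq_pow_val, Units.val_eq_one] at h
    have h3 := orderOf_dvd_of_pow_eq_one h
    rw [hord] at h3
    have h4 := Nat.le_of_dvd (Nat.pos_of_ne_zero (mul_ne_zero (pow_ne_zero _ two_ne_zero) hq'0)) h3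
    rw [hq', hk] at h4
    have h5 : 2 ^ (k + 1 + w) * q' = 2 ^ (k + w) * q' + 2 ^ (k + w) * q' := by ring
    have h6 : 0 < 2 ^ (k + w) * q' :=
      Nat.pos_of_ne_zero (mul_ne_zero (pow_ne_zero _ two_ne_zero) hq'0)
    omega
  have hhm : (g : F) ^ (2 ^ (k + w) * q') = -1 := by
    have h3 : ((g : F) ^ (2 ^ (k + w) * q') - 1) * ((g : F) ^ (2 ^ (k + w) * q') + 1) = 0 := by
      linear_combination hh2
    rcases mul_eq_zero.1 h3 with h | h
    · exact absurd (sub_eq_zero.1 h) hh1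
    · exact eq_neg_of_add_eq_zero_left h
  refine ⟨(g : F) ^ (2 ^ k * q'), ?_⟩
  rw [← pow_mul, hn']
  have : 2 ^ k * q' * (2 ^ w * n') = (2 ^ (k + w) * q') * n' := by ring
  rw [this, pow_mul, hhm, hodd.neg_one_pow]

variable {F : Type*} [Field F] {ι : Type} [Fintype ι] [DecidableEq ι]

theorem form_zero_right {f : (ι → F) → (ι → F) → F} (hb : Cfsg.Geo.IsBilinearForm f)
    (u : ι → F) : f u 0 = 0 := by
  have := hb.smul_right 0 u 0
  rw [zero_smul, zero_mul] at this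
  exact this

theorem form_sum_right {κ : Type*} {f : (ι → F) → (ι → F) → F} (hb : Cfsg.Geo.IsBilinearForm f)
    (u : ι → F) (s : Finset κ) (a : κ → F) (g : κ → ι → F) :
    f u (∑ k ∈ s, a k • g k) = ∑ k ∈ s, a k * f u (g k) := by
  classical
  induction s using Finset.induction_on with
  | empty => simp [form_zero_right hb]
  | insert k s hk ih =>
    rw [Finset.sum_insert hk, Finset.sum_insert hk, hb.add_right, hb.smul_right, ih]

theorem form_expand {f : (ι → F) → (ι → F) → F} (hb : Cfsg.Geo.IsBilinearForm f)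
    (u v : ι → F) : f u v = ∑ j, v j * f u (Pi.single j 1) := by
  conv_lhs => rw [pi_eq_sum_univ' v]
  exact form_sum_right hb u Finset.univ v (fun j => Pi.single j 1)

theorem conj_symplectic {f : (ι → F) → (ι → F) → F} (hf : Cfsg.Geo.IsSymplecticForm f)
    (Q P : Matrix ι ι F) (hQP : Q * P = 1) (hPQ : P * Q = 1) :
    Cfsg.Geo.IsSymplecticForm (fun a b => f (Q *ᵥ a) (Q *ᵥ b)) := by
  refine ⟨⟨?_, ?_, ?_, ?_⟩, ?_, ?_, ?_⟩
  · intro x y v
    show f (Q *ᵥ (x + y)) _ = _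
    rw [Matrix.mulVec_add, hf.bilinear.add_left]
  · intro c x v
    show f (Q *ᵥ (c • x)) _ = _
    rw [Matrix.mulVec_smul, hf.bilinear.smul_left]
  · intro v x y
    show f _ (Q *ᵥ (x + y)) = _
    rw [Matrix.mulVec_add, hf.bilinear.add_right]
  · intro c v x
    show f _ (Q *ᵥ (c • x)) = _
    rw [Matrix.mulVec_smul, hf.bilinear.smul_right]
  · intro v w
    exact hf.skew _ _
  · intro v
    exact hf.alternating _
  · intro v hv
    have hQv : Q *ᵥ v ≠ 0 := by
      intro h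
      apply hv
      have := congrArg (fun t => P *ᵥ t) h
      simp only [Matrix.mulVec_mulVec, hPQ, Matrix.one_mulVec, Matrix.mulVec_zero] at this
      exact this
    obtain ⟨⟨x, hx⟩, ⟨y, hy⟩⟩ := hf.nondegenerate _ hQv
    refine ⟨⟨P *ᵥ x, ?_⟩, ⟨P *ᵥ y, ?_⟩⟩
    · show f (Q *ᵥ (P *ᵥ x)) _ ≠ 0
      rw [Matrix.mulVec_mulVec, hQP, Matrix.one_mulVec]
      exact hx
    · show f _ (Q *ᵥ (P *ᵥ y)) ≠ 0
      rw [Matrix.mulVec_mulVec, hQP, Matrix.one_mulVec]
      exact hy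

theorem no_sim (h2 : (2 : F) ≠ 0) {φ : (ι → F) → (ι → F) → F} (hφ : Cfsg.Geo.IsSymplecticForm φ)
    (d : ι → F) (l : F) (hl : l ≠ 0) (i₀ i₁ : ι) (h01 : i₁ ≠ i₀)
    (hd0 : d i₀ = -l) (hd : ∀ i, i ≠ i₀ → d i = l) (c : F)
    (h : ∀ a b, φ (Matrix.diagonal d *ᵥ a) (Matrix.diagonal d *ᵥ b) = c * φ a b)
    (i₂ : ι) (h02 : i₂ ≠ i₀) (h12 : i₂ ≠ i₁) : False := by
  have hb := hφ.bilinear
  have hde : ∀ i, Matrix.diagonal d *ᵥ (Pi.single i (1 : F)) = d i • Pi.single i (1 : F) := by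
    intro i
    ext j
    rw [Matrix.mulVec_diagonal, Pi.smul_apply, smul_eq_mul]
    by_cases hji : j = i
    · rw [hji]
    · rw [Pi.single_eq_of_ne hji, mul_zero, mul_zero]
  have hA : ∀ i j, (d i * d j - c) * φ (Pi.single i 1) (Pi.single j 1) = 0 := by
    intro i j
    have := h (Pi.single i 1) (Pi.single j 1)
    rw [hde, hde, hb.smul_left, hb.smul_right] at this
    linear_combination this
  have hB : ∀ u : ι → F, u ≠ 0 → ∃ j, φ u (Pi.single j 1) ≠ 0 := by
    intro u hu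
    obtain ⟨_, ⟨v, hv⟩⟩ := hφ.nondegenerate u hu
    by_contra hne
    push Not at hne
    apply hv
    rw [form_expand hb u v]
    apply Finset.sum_eq_zero
    intro j _
    rw [hne j, mul_zero]
  have hs0 : ∀ i : ι, (Pi.single i (1 : F) : ι → F) ≠ 0 := by
    intro i hi
    have := congrFun hi i
    rw [Pi.single_eq_same, Pi.zero_apply] at this
    exact one_ne_zero this
  obtain ⟨j, hj⟩ := hB _ (hs0 i₀)
  have hj0 : j ≠ i₀ := by
    rintro rfl
    exact hj (hφ.alternating _)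
  have hc : c = -(l * l) := by
    have := hA i₀ j
    rw [hd0, hd j hj0] at this
    rcases mul_eq_zero.1 this with h3 | h3
    · linear_combination -h3
    · exact absurd h3 hj
  have hzero : ∀ i j, i ≠ i₀ → j ≠ i₀ → φ (Pi.single i 1) (Pi.single j 1) = 0 := by
    intro i j hi hj'
    have := hA i j
    rw [hd i hi, hd j hj', hc] at this
    rcases mul_eq_zero.1 this with h3 | h3
    · exfalso
      have h4 : (2 : F) * (l * l) = 0 := by linear_combination h3
      rcases mul_eq_zero.1 h4 with h5 | h5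
      · exact h2 h5
      · exact hl (mul_self_eq_zero.1 h5)
    · exact h3
  -- the vector u
  let g1 := φ (Pi.single i₁ 1) (Pi.single i₀ 1)
  let g2 := φ (Pi.single i₂ 1) (Pi.single i₀ 1)
  have hu : g2 • (Pi.single i₁ (1 : F) : ι → F) + (-g1) • (Pi.single i₂ (1 : F) : ι → F) = 0 := by
    by_contra hne
    obtain ⟨j', hj'⟩ := hB _ hne
    apply hj'
    rw [hb.add_left, hb.smul_left, hb.smul_left]
    by_cases hj0' : j' = i₀
    · rw [hj0']
      show g2 * g1 + (-g1) * g2 = 0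
      ring
    · rw [hzero i₁ j' h01 hj0', hzero i₂ j' h02 hj0', mul_zero, mul_zero, add_zero]
  have hg2 : g2 = 0 := by
    have := congrFun hu i₁
    rw [Pi.add_apply, Pi.smul_apply, Pi.smul_apply, Pi.single_eq_same,
      Pi.single_eq_of_ne h12.symm, smul_eq_mul, smul_eq_mul, mul_one, mul_zero, add_zero,
      Pi.zero_apply] at this
    exact this
  obtain ⟨j'', hj''⟩ := hB _ (hs0 i₂)
  apply hj''
  by_cases hj0'' : j'' = i₀
  · rw [hj0'']
    exact hg2
  · exact hzero i₂ j'' h02 hj0''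

end Cfsg.Agent.Lib.Helper10.Alt
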