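import Mathlib
import Cfsg.Agent.Lib.Helper10.AltK

set_option autoImplicit false

namespace Cfsg.Agent.Lib.Helper10.Alt

open Matrix Module

theorem nec {F : Type*} [Field F] [Fintype F]
    (n : ℕ) (hn : 4 ≤ n) (f : (Fin n → F) → (Fin n → F) → F)
    (hf : Cfsg.Geo.IsSymplecticForm f)
    (hv : padicValNat 2 n < padicValNat 2 (Fintype.card F - 1)) :
    ∃ x : Matrix.SpecialLinearGroup (Fin n) F,
      (∃ z : F, ((x ^ 2 : Matrix.SpecialLinearGroup (Fin n) F) : Matrix (Fin n) (Fin n) F) =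
        z • (1 : Matrix (Fin n) (Fin n) F)) ∧
      (∀ z : F, (x : Matrix (Fin n) (Fin n) F) ≠ z • (1 : Matrix (Fin n) (Fin n) F)) ∧
      ¬ ∃ P : Matrix.SpecialLinearGroup (Fin n) F,
        P⁻¹ * x * P ∈ (Cfsg.Geo.similarityGroup f).comap
          (Matrix.SpecialLinearGroup.toGL :
            Matrix.SpecialLinearGroup (Fin n) F →* GL (Fin n) F) := by
  classical
  have h2 : (2 : F) ≠ 0 := by
    by_cases hrc : ringChar F = 2
    · exfalso
      have hev := FiniteField.even_card_of_char_two hrc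
      have hc := Fintype.one_lt_card (α := F)
      have hnd : ¬ 2 ∣ Fintype.card F - 1 := by omega
      rw [padicValNat.eq_zero_of_not_dvd hnd] at hv
      omega
    · exact Ring.two_ne_zero hrc
  obtain ⟨l, hl⟩ := exists_root_neg_one (F := F) n (by omega) hv
  have hl0 : l ≠ 0 := by
    rintro rfl
    rw [zero_pow (by omega)] at hl
    have : (1 : F) = 0 := by linear_combination hl
    exact one_ne_zero this
  let i₀ : Fin n := ⟨0, by omega⟩
  let i₁ : Fin n := ⟨1, by omega⟩
  let i₂ : Fin n := ⟨2, by omega⟩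
  have h01 : i₁ ≠ i₀ := by
    intro h
    have := congrArg Fin.val h
    simp [i₀, i₁] at this
  have h02 : i₂ ≠ i₀ := by
    intro h
    have := congrArg Fin.val h
    simp [i₀, i₂] at this
  have h12 : i₂ ≠ i₁ := by
    intro h
    have := congrArg Fin.val h
    simp [i₁, i₂] at this
  let d : Fin n → F := fun i => l * (if i = i₀ then -1 else 1)
  have hd0 : d i₀ = -l := by
    show l * (if i₀ = i₀ then -1 else 1) = -l
    rw [if_pos rfl, mul_neg, mul_one]
  have hd : ∀ i, i ≠ i₀ → d i = l := by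
    intro i hi
    show l * (if i = i₀ then -1 else 1) = l
    rw [if_neg hi, mul_one]
  have hdet : (Matrix.diagonal d).det = 1 := by
    rw [Matrix.det_diagonal]
    show ∏ i : Fin n, l * (if i = i₀ then (-1 : F) else 1) = 1
    rw [Finset.prod_mul_distrib, Finset.prod_const, Finset.card_univ, Fintype.card_fin, hl,
      Finset.prod_ite_eq' Finset.univ i₀ (fun _ => (-1 : F))]
    simp
  have hdd : ∀ i, d i * d i = l * l := by
    intro i
    by_cases hi : i = i₀
    · rw [hi, hd0]
      ring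
    · rw [hd i hi]
  obtain ⟨x, hxd⟩ : ∃ x : Matrix.SpecialLinearGroup (Fin n) F,
      (x : Matrix (Fin n) (Fin n) F) = Matrix.diagonal d := ⟨⟨_, hdet⟩, rfl⟩
  refine ⟨x, ⟨l * l, ?_⟩, ?_, ?_⟩
  · rw [sq, Matrix.SpecialLinearGroup.coe_mul, hxd]
    rw [Matrix.diagonal_mul_diagonal, Matrix.smul_one_eq_diagonal]
    congr 1
    funext i
    exact hdd i
  · intro z hz
    rw [hxd] at hz
    have e0 := congrFun (congrFun hz i₀) i₀
    have e1 := congrFun (congrFun hz i₁) i₁
    rw [Matrix.diagonal_apply_eq, Matrix.smul_apply, Matrix.one_apply_eq, smul_eq_mul, mul_one]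
      at e0 e1
    rw [hd0] at e0
    rw [hd i₁ h01] at e1
    have h4 : (2 : F) * l = 0 := by linear_combination e1 - e0
    rcases mul_eq_zero.1 h4 with h5 | h5
    · exact h2 h5
    · exact hl0 h5
  · rintro ⟨P, hP⟩
    rw [Subgroup.mem_comap] at hP
    obtain ⟨c, hc⟩ := hP
    have hQP : (P⁻¹ : Matrix.SpecialLinearGroup (Fin n) F).val * P.val = 1 := by
      rw [← Matrix.SpecialLinearGroup.coe_mul, inv_mul_cancel, Matrix.SpecialLinearGroup.coe_one]
    have hPQ : P.val * (P⁻¹ : Matrix.SpecialLinearGroup (Fin n) F).val = 1 := by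
      rw [← Matrix.SpecialLinearGroup.coe_mul, mul_inv_cancel, Matrix.SpecialLinearGroup.coe_one]
    have hφ := conj_symplectic hf _ _ hQP hPQ
    refine no_sim h2 hφ d l hl0 i₀ i₁ h01 hd0 hd (c : F) ?_ i₂ h02 h12
    intro a b
    have h5 := hc ((P⁻¹ : Matrix.SpecialLinearGroup (Fin n) F).val *ᵥ a)
      ((P⁻¹ : Matrix.SpecialLinearGroup (Fin n) F).val *ᵥ b)
    have h6 : ((Matrix.SpecialLinearGroup.toGL
        (P⁻¹ * x * P) : GL (Fin n) F) : Matrix (Fin n) (Fin n) F) =
        (P⁻¹ : Matrix.SpecialLinearGroup (Fin n) F).val * Matrix.diagonal d * P.val := by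
      rw [Matrix.SpecialLinearGroup.coe_GL_coe_matrix, Matrix.SpecialLinearGroup.coe_mul,
        Matrix.SpecialLinearGroup.coe_mul, hxd]
    rw [h6] at h5
    simp only [Matrix.mulVec_mulVec] at h5
    rw [Matrix.mul_assoc, Matrix.mul_assoc, hPQ, Matrix.mul_one] at h5
    simp only [← Matrix.mulVec_mulVec] at h5
    exact h5

end Cfsg.Agent.Lib.Helper10.Alt
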