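import Mathlib
import Cfsg.Agent.Lib.Helper1.OmegaOne

/-!
# Common eigenvectors for commuting involutions on an abelian group of odd order (helper10)
-/

set_option autoImplicit false

namespace Cfsg.Agent.Lib.Helper10

/-- In a finite group of odd order, `w * w = 1` forces `w = 1`. -/
theorem eq_one_of_mul_self_of_odd {V : Type*} [Group V] [Finite V] (hodd : Odd (Nat.card V))
    (w : V) (h : w * w = 1) : w = 1 := by
  have h1 : orderOf w ∣ 2 := orderOf_dvd_of_pow_eq_one (by rw [pow_two]; exact h)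
  have h2 : orderOf w ∣ Nat.card V := orderOf_dvd_natCard w
  have h3 : (2 : ℕ).Coprime (Nat.card V) := by
    rw [Nat.coprime_comm]
    exact Nat.Coprime.symm (Nat.coprime_two_left.mpr hodd)
  exact orderOf_eq_one_iff.mp (Nat.eq_one_of_dvd_coprimes h3 h1 h2)

/-- Abstract form: commuting involutory automorphisms of a nontrivial finite abelian group of
odd order have a common "eigenvector" `w ≠ 1` (each maps `w` to `w` or `w⁻¹`). -/
theorem exists_eigen_aut {V : Type*} [CommGroup V] [Finite V] (hodd : Odd (Nat.card V))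
    (hnt : ∃ v : V, v ≠ 1) (S : Finset (V ≃* V)) :
    (∀ σ ∈ S, ∀ v : V, σ (σ v) = v) → (∀ σ ∈ S, ∀ ρ ∈ S, ∀ v : V, σ (ρ v) = ρ (σ v)) →
    ∃ w : V, w ≠ 1 ∧ ∀ σ ∈ S, σ w = w ∨ σ w = w⁻¹ := by
  classical
  induction S using Finset.induction_on with
  | empty =>
    intro _ _
    obtain ⟨v, hv⟩ := hnt
    exact ⟨v, hv, fun σ hσ => absurd hσ (Finset.notMem_empty σ)⟩
  | insert τ S' hτ ih =>
    intro h2 hc
    obtain ⟨w₀, hw₀, he⟩ := ih (fun σ hσ => h2 σ (Finset.mem_insert_of_mem hσ))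
      (fun σ hσ ρ hρ => hc σ (Finset.mem_insert_of_mem hσ) ρ (Finset.mem_insert_of_mem hρ))
    have hττ : ∀ v, τ (τ v) = v := h2 τ (Finset.mem_insert_self τ S')
    have hστ : ∀ σ ∈ S', ∀ v, σ (τ v) = τ (σ v) := fun σ hσ =>
      hc σ (Finset.mem_insert_of_mem hσ) τ (Finset.mem_insert_self τ S')
    by_cases hu : w₀ * τ w₀ = 1
    · refine ⟨w₀ * (τ w₀)⁻¹, ?_, ?_⟩
      · intro hv
        apply hw₀
        apply eq_one_of_mul_self_of_odd hodd
        have : w₀ * w₀ = (w₀ * τ w₀) * (w₀ * (τ w₀)⁻¹) := by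
          rw [mul_mul_mul_comm, mul_inv_cancel, mul_one]
        rw [this, hu, hv, one_mul]
      · intro σ hσ
        rcases Finset.mem_insert.mp hσ with rfl | hσ'
        · right
          rw [map_mul, map_inv, hττ, mul_inv, inv_inv, mul_comm]
        · rcases he σ hσ' with h | h
          · left
            rw [map_mul, map_inv, hστ σ hσ', h]
          · right
            rw [map_mul, map_inv, hστ σ hσ', h, map_inv, mul_inv]
    · refine ⟨w₀ * τ w₀, hu, ?_⟩
      intro σ hσ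
      rcases Finset.mem_insert.mp hσ with rfl | hσ'
      · left
        rw [map_mul, hττ, mul_comm]
      · rcases he σ hσ' with h | h
        · left
          rw [map_mul, hστ σ hσ', h]
        · right
          rw [map_mul, hστ σ hσ', h, map_inv, mul_inv]

open Cfsg.Agent.Lib.Helper1 in
/-- Internal form: a finite set `S` of pairwise commuting involutions of `G` normalizing the
nontrivial abelian subgroup `W` of odd order has a common eigenvector in `W`. -/
theorem exists_eigen {G : Type*} [Group G] [Finite G] (W : Subgroup G)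
    (hWc : ∀ x ∈ W, ∀ y ∈ W, x * y = y * x) (hWodd : Odd (Nat.card W)) (hW : W ≠ ⊥)
    (S : Finset G) (hS2 : ∀ s ∈ S, s * s = 1)
    (hSW : ∀ s ∈ S, s ∈ Subgroup.normalizer (W : Set G))
    (hSS : ∀ s ∈ S, ∀ t ∈ S, s * t = t * s) :
    ∃ w ∈ W, w ≠ 1 ∧ ∀ s ∈ S, s * w * s⁻¹ = w ∨ s * w * s⁻¹ = w⁻¹ := by
  classical
  letI : CommGroup ↥W :=
    { (inferInstance : Group ↥W) with
      mul_comm := fun x y => Subtype.ext (hWc x x.2 y y.2) }
  have hnt : ∃ v : ↥W, v ≠ 1 := by
    by_contra h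
    push Not at h
    apply hW
    rw [eq_bot_iff]
    intro x hx
    have := h ⟨x, hx⟩
    rw [Subgroup.mem_bot]
    exact congrArg Subtype.val this
  let T : Finset (↥W ≃* ↥W) := S.attach.image (fun s => conjNormalizer W s.1 (hSW s.1 s.2))
  have hT : ∀ σ ∈ T, ∃ s, ∃ hs : s ∈ S, σ = conjNormalizer W s (hSW s hs) := by
    intro σ hσ
    obtain ⟨s, _, rfl⟩ := Finset.mem_image.mp hσ
    exact ⟨s.1, s.2, rfl⟩
  have h2 : ∀ σ ∈ T, ∀ v : ↥W, σ (σ v) = v := by
    intro σ hσ v
    obtain ⟨s, hs, rfl⟩ := hT σ hσ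
    apply Subtype.ext
    rw [conjNormalizer_coe, conjNormalizer_coe]
    have h1 := hS2 s hs
    have h3 : s⁻¹ = s := inv_eq_of_mul_eq_one_right h1
    rw [h3]
    calc s * (s * ↑v * s) * s = (s * s) * ↑v * (s * s) := by group
      _ = ↑v := by rw [h1, one_mul, mul_one]
  have hc : ∀ σ ∈ T, ∀ ρ ∈ T, ∀ v : ↥W, σ (ρ v) = ρ (σ v) := by
    intro σ hσ ρ hρ v
    obtain ⟨s, hs, rfl⟩ := hT σ hσ
    obtain ⟨t, ht, rfl⟩ := hT ρ hρ
    apply Subtype.ext
    rw [conjNormalizer_coe, conjNormalizer_coe, conjNormalizer_coe, conjNormalizer_coe]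
    have h1 := hSS s hs t ht
    calc s * (t * ↑v * t⁻¹) * s⁻¹ = (s * t) * ↑v * (s * t)⁻¹ := by group
      _ = (t * s) * ↑v * (t * s)⁻¹ := by rw [h1]
      _ = t * (s * ↑v * s⁻¹) * t⁻¹ := by group
  obtain ⟨w, hw1, hw⟩ := exists_eigen_aut (V := ↥W) hWodd hnt T h2 hc
  refine ⟨w, w.2, fun h => hw1 (Subtype.ext h), ?_⟩
  intro s hs
  have hmem : conjNormalizer W s (hSW s hs) ∈ T :=
    Finset.mem_image.mpr ⟨⟨s, hs⟩, Finset.mem_attach _ _, rfl⟩
  rcases hw _ hmem with h | h
  · left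
    have := congrArg Subtype.val h
    rwa [conjNormalizer_coe] at this
  · right
    have := congrArg Subtype.val h
    rwa [conjNormalizer_coe, Subgroup.coe_inv] at this

end Cfsg.Agent.Lib.Helper10
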