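import Mathlib
import Cfsg.Agent.Lib.Helper10.Eigen

/-!
# Thompson's dihedral lemma, abelian case (helper10)

An elementary abelian `2`-group `A` of order `2 ^ d` acting faithfully on an abelian group `V` of
odd order: there are a basis `a i` of `A` and nontrivial `x i ∈ V` with `a i` inverting `x i` and
centralizing `x j` (`j ≠ i`).
-/

set_option autoImplicit false

namespace Cfsg.Agent.Lib.Helper10

/-- Elements with prescribed signs. -/
theorem exists_sign_elt {G : Type*} [Group G] {d : ℕ} (b y : Fin d → G)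
    (hinv : ∀ i, b i * y i * (b i)⁻¹ = (y i)⁻¹)
    (hcen : ∀ i j, i ≠ j → b j * y i = y i * b j) (S : Finset (Fin d)) :
    ∃ c ∈ Subgroup.closure (Set.range b),
      ∀ i, (i ∈ S → c * y i * c⁻¹ = (y i)⁻¹) ∧ (i ∉ S → c * y i * c⁻¹ = y i) := by
  classical
  induction S using Finset.induction_on with
  | empty =>
    refine ⟨1, Subgroup.one_mem _, fun i => ⟨fun h => absurd h (Finset.notMem_empty i), fun _ => ?_⟩⟩
    simp
  | insert k S' hk ih =>
    obtain ⟨c', hc', hs⟩ := ih
    refine ⟨b k * c', Subgroup.mul_mem _ (Subgroup.subset_closure ⟨k, rfl⟩) hc', fun i => ?_⟩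
    have e : b k * c' * y i * (b k * c')⁻¹ = b k * (c' * y i * c'⁻¹) * (b k)⁻¹ := by group
    by_cases hik : i = k
    · subst hik
      refine ⟨fun _ => ?_, fun h => absurd (Finset.mem_insert_self _ _) h⟩
      rw [e, (hs i).2 hk, hinv]
    · have hb : b k * y i * (b k)⁻¹ = y i := by
        rw [hcen i k hik]; group
      constructor
      · intro hi
        have hi' : i ∈ S' := (Finset.mem_insert.mp hi).resolve_left hik
        rw [e, (hs i).1 hi']
        have : b k * (y i)⁻¹ * (b k)⁻¹ = (b k * y i * (b k)⁻¹)⁻¹ := by group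
        rw [this, hb]
      · intro hi
        have hi' : i ∉ S' := fun h => hi (Finset.mem_insert_of_mem h)
        rw [e, (hs i).2 hi', hb]

/-- **Thompson's dihedral lemma, abelian case.** -/
theorem abelian_dihedral {G : Type*} [Group G] [Finite G] (d : ℕ) :
    ∀ (A V : Subgroup G) (T : Finset G),
      (∀ x ∈ V, ∀ y ∈ V, x * y = y * x) → Odd (Nat.card V) →
      (∀ a ∈ A, ∀ b ∈ A, a * b = b * a) → (∀ a ∈ A, a * a = 1) → Nat.card A = 2 ^ d →
      A ≤ Subgroup.normalizer (V : Set G) → A ⊓ Subgroup.centralizer (V : Set G) = ⊥ →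
      (∀ t ∈ T, t * t = 1) → (∀ t ∈ T, t ∈ Subgroup.normalizer (V : Set G)) →
      (∀ s ∈ T, ∀ t ∈ T, s * t = t * s) → (∀ t ∈ T, ∀ a ∈ A, t * a = a * t) →
      ∃ a x : Fin d → G, (∀ i, a i ∈ A) ∧ (∀ i, x i ∈ V) ∧ (∀ i, x i ≠ 1) ∧
        (∀ i, a i * x i * (a i)⁻¹ = (x i)⁻¹) ∧ (∀ i j, i ≠ j → a j * x i = x i * a j) ∧
        (∀ i, ∀ t ∈ T, t * x i * t⁻¹ = x i ∨ t * x i * t⁻¹ = (x i)⁻¹) ∧
        Subgroup.closure (Set.range a) = A ∧
        (∀ g ∈ A, g ≠ 1 → ∃ i, g * x i * g⁻¹ = (x i)⁻¹) := by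
  classical
  induction d with
  | zero =>
    intro A V T _ _ _ _ hcard _ _ _ _ _ _
    rw [pow_zero] at hcard
    have hA : A = ⊥ := Subgroup.card_eq_one.mp hcard
    refine ⟨fun i => i.elim0, fun i => i.elim0, fun i => i.elim0, fun i => i.elim0,
      fun i => i.elim0, fun i => i.elim0, fun i => i.elim0, fun i => i.elim0, ?_, ?_⟩
    · rw [hA, Set.range_eq_empty, Subgroup.closure_empty]
    · intro g hg hg1
      rw [hA, Subgroup.mem_bot] at hg
      exact absurd hg hg1
  | succ d ih =>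
    intro A V T hVc hVodd hAc hA2 hcard hAV hfaith hT2 hTV hTT hTA
    -- inverses
    have hinvA : ∀ a ∈ A, a⁻¹ = a := fun a ha => inv_eq_of_mul_eq_one_right (hA2 a ha)
    have hinvT : ∀ t ∈ T, t⁻¹ = t := fun t ht => inv_eq_of_mul_eq_one_right (hT2 t ht)
    -- no element of `V` other than `1` is its own inverse
    have hVsq : ∀ v ∈ V, v = v⁻¹ → v = 1 := by
      intro v hv h
      have h1 : (⟨v, hv⟩ : ↥V) * ⟨v, hv⟩ = 1 := by
        apply Subtype.ext
        show v * v = 1
        nth_rewrite 1 [h]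
        exact inv_mul_cancel v
      have := eq_one_of_mul_self_of_odd hVodd _ h1
      exact congrArg Subtype.val this
    -- a nontrivial element of `A`
    have hAne : A ≠ ⊥ := by
      intro h
      rw [h, Subgroup.card_bot] at hcard
      have : 1 < 2 ^ (d + 1) := Nat.one_lt_two_pow (Nat.succ_ne_zero d)
      omega
    obtain ⟨⟨a₁, ha₁⟩, hne⟩ := Subgroup.ne_bot_iff_exists_ne_one.mp hAne
    have ha₁1 : a₁ ≠ 1 := fun h => hne (Subtype.ext h)
    have ha₁i : a₁⁻¹ = a₁ := hinvA a₁ ha₁
    have ha₁V := hAV ha₁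
    -- `a₁` moves some element of `V`
    obtain ⟨v₀, hv₀, hv₀m⟩ : ∃ v ∈ V, a₁ * v * a₁⁻¹ ≠ v := by
      by_contra h
      push Not at h
      apply ha₁1
      have : a₁ ∈ A ⊓ Subgroup.centralizer (V : Set G) := by
        refine ⟨ha₁, ?_⟩
        show a₁ ∈ Subgroup.centralizer (V : Set G)
        rw [Subgroup.mem_centralizer_iff]
        intro v hv
        have := h v hv
        calc v * a₁ = (a₁ * v * a₁⁻¹) * a₁ := by rw [this]
          _ = a₁ * v := by group
      rw [hfaith, Subgroup.mem_bot] at this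
      exact this
    -- conjugation by elements normalizing `V`
    have hconjV : ∀ s, s ∈ Subgroup.normalizer (V : Set G) → ∀ v ∈ V, s * v * s⁻¹ ∈ V :=
      fun s hs v hv => (Subgroup.mem_normalizer_iff.mp hs v).mp hv
    -- the subgroup inverted by `a₁`
    let W : Subgroup G :=
      { carrier := {v | v ∈ V ∧ a₁ * v * a₁⁻¹ = v⁻¹}
        mul_mem' := by
          rintro v w ⟨hv, hv'⟩ ⟨hw, hw'⟩
          refine ⟨V.mul_mem hv hw, ?_⟩
          have : a₁ * (v * w) * a₁⁻¹ = (a₁ * v * a₁⁻¹) * (a₁ * w * a₁⁻¹) := by group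
          rw [this, hv', hw', mul_inv_rev]
          exact hVc _ (V.inv_mem hv) _ (V.inv_mem hw)
        one_mem' := ⟨V.one_mem, by simp⟩
        inv_mem' := by
          rintro v ⟨hv, hv'⟩
          refine ⟨V.inv_mem hv, ?_⟩
          have : a₁ * v⁻¹ * a₁⁻¹ = (a₁ * v * a₁⁻¹)⁻¹ := by group
          rw [this, hv'] }
    have hWmem : ∀ v, v ∈ W ↔ v ∈ V ∧ a₁ * v * a₁⁻¹ = v⁻¹ := fun v => Iff.rfl
    have hWV : W ≤ V := fun v hv => hv.1
    have hWc : ∀ x ∈ W, ∀ y ∈ W, x * y = y * x := fun x hx y hy => hVc x hx.1 y hy.1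
    have hWodd : Odd (Nat.card W) := Odd.of_dvd_nat hVodd (Subgroup.card_dvd_of_le hWV)
    have hWne : W ≠ ⊥ := by
      intro h
      have hz : v₀⁻¹ * (a₁ * v₀ * a₁⁻¹) ∈ W := by
        refine ⟨V.mul_mem (V.inv_mem hv₀) (hconjV a₁ ha₁V v₀ hv₀), ?_⟩
        have : a₁ * (v₀⁻¹ * (a₁ * v₀ * a₁⁻¹)) * a₁⁻¹ =
            (a₁ * v₀ * a₁⁻¹)⁻¹ * ((a₁ * a₁) * v₀ * (a₁ * a₁)⁻¹) := by group
        rw [this, hA2 a₁ ha₁]
        group
      rw [h, Subgroup.mem_bot] at hz
      apply hv₀m
      have : a₁ * v₀ * a₁⁻¹ = v₀ * (v₀⁻¹ * (a₁ * v₀ * a₁⁻¹)) := by group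
      rw [this, hz, mul_one]
    -- the finite set of operators
    let S : Finset G := (Set.toFinite (A : Set G)).toFinset ∪ T
    have hSmem : ∀ s, s ∈ S ↔ s ∈ A ∨ s ∈ T := by
      intro s
      simp only [S, Finset.mem_union, Set.Finite.mem_toFinset, SetLike.mem_coe]
    have hS2 : ∀ s ∈ S, s * s = 1 := by
      intro s hs
      rcases (hSmem s).mp hs with h | h
      · exact hA2 s h
      · exact hT2 s h
    have hSinv : ∀ s ∈ S, s⁻¹ = s := fun s hs => inv_eq_of_mul_eq_one_right (hS2 s hs)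
    have hSV : ∀ s ∈ S, s ∈ Subgroup.normalizer (V : Set G) := by
      intro s hs
      rcases (hSmem s).mp hs with h | h
      · exact hAV h
      · exact hTV s h
    have hSa₁ : ∀ s ∈ S, s * a₁ = a₁ * s := by
      intro s hs
      rcases (hSmem s).mp hs with h | h
      · exact hAc s h a₁ ha₁
      · exact hTA s h a₁ ha₁
    have hSS : ∀ s ∈ S, ∀ t ∈ S, s * t = t * s := by
      intro s hs t ht
      rcases (hSmem s).mp hs with h | h <;> rcases (hSmem t).mp ht with h' | h'
      · exact hAc s h t h'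
      · exact (hTA t h' s h).symm
      · exact hTA s h t h'
      · exact hTT s h t h'
    have hSconjW : ∀ s ∈ S, ∀ v ∈ W, s * v * s⁻¹ ∈ W := by
      intro s hs v hv
      refine ⟨hconjV s (hSV s hs) v hv.1, ?_⟩
      have h1 : a₁ * (s * v * s⁻¹) * a₁⁻¹ = (a₁ * s) * v * (a₁ * s)⁻¹ := by group
      rw [h1, ← hSa₁ s hs]
      have h2 : s * a₁ * v * (s * a₁)⁻¹ = s * (a₁ * v * a₁⁻¹) * s⁻¹ := by group
      rw [h2, hv.2]
      group
    have hSW : ∀ s ∈ S, s ∈ Subgroup.normalizer (W : Set G) := by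
      intro s hs
      rw [Subgroup.mem_normalizer_iff]
      intro v
      refine ⟨hSconjW s hs v, fun h => ?_⟩
      have := hSconjW s hs _ h
      have e : s * (s * v * s⁻¹) * s⁻¹ = (s * s) * v * (s * s)⁻¹ := by group
      rw [e, hS2 s hs] at this
      simpa using this
    obtain ⟨x₀, hx₀W, hx₀1, hx₀e⟩ := exists_eigen W hWc hWodd hWne S hS2 hSW hSS
    have hx₀V : x₀ ∈ V := hx₀W.1
    have hx₀a₁ : a₁ * x₀ * a₁⁻¹ = x₀⁻¹ := hx₀W.2
    have hx₀ne : x₀ ≠ x₀⁻¹ := fun h => hx₀1 (hVsq x₀ hx₀V h)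
    -- the hyperplane
    set B : Subgroup G := A ⊓ Subgroup.centralizer ({x₀} : Set G) with hB
    have hBA : B ≤ A := inf_le_left
    have hBx : ∀ b ∈ B, b * x₀ * b⁻¹ = x₀ := by
      intro b hb
      have h1 : b ∈ Subgroup.centralizer ({x₀} : Set G) := hb.2
      rw [Subgroup.mem_centralizer_iff] at h1
      have := h1 x₀ rfl
      rw [← this]; group
    have hdich : ∀ g ∈ A, g ∈ B ∨ g * x₀ * g⁻¹ = x₀⁻¹ := by
      intro g hg
      rcases hx₀e g ((hSmem g).mpr (Or.inl hg)) with h | h
      · left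
        refine ⟨hg, ?_⟩
        show g ∈ Subgroup.centralizer ({x₀} : Set G)
        rw [Subgroup.mem_centralizer_iff]
        intro y hy
        rw [Set.mem_singleton_iff.mp hy]
        calc x₀ * g = (g * x₀ * g⁻¹) * g := by rw [h]
          _ = g * x₀ := by group
      · right; exact h
    have hnotB : ∀ g, g * x₀ * g⁻¹ = x₀⁻¹ → g ∉ B := by
      intro g hg hgB
      apply hx₀ne
      rw [← hg, hBx g hgB]
    have ha₁B : a₁ ∉ B := hnotB a₁ hx₀a₁
    -- `B` has index two
    have hxor : ∀ b ∈ A, Xor (b * a₁ ∈ B) (b ∈ B) := by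
      intro b hb
      rcases hdich b hb with h | h
      · right
        refine ⟨h, ?_⟩
        apply hnotB
        have : b * a₁ * x₀ * (b * a₁)⁻¹ = b * (a₁ * x₀ * a₁⁻¹) * b⁻¹ := by group
        rw [this, hx₀a₁]
        have : b * x₀⁻¹ * b⁻¹ = (b * x₀ * b⁻¹)⁻¹ := by group
        rw [this, hBx b h]
      · left
        refine ⟨?_, hnotB b h⟩
        rcases hdich (b * a₁) (A.mul_mem hb ha₁) with h' | h'
        · exact h'
        · exfalso
          have e : b * a₁ * x₀ * (b * a₁)⁻¹ = b * (a₁ * x₀ * a₁⁻¹) * b⁻¹ := by group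
          rw [e, hx₀a₁] at h'
          have e2 : b * x₀⁻¹ * b⁻¹ = (b * x₀ * b⁻¹)⁻¹ := by group
          rw [e2, h, inv_inv] at h'
          exact hx₀ne h'
    have hcardB : Nat.card B = 2 ^ d := by
      have hidx : (B.subgroupOf A).index = 2 := by
        rw [Subgroup.index_eq_two_iff]
        refine ⟨⟨a₁, ha₁⟩, fun b => ?_⟩
        have := hxor b.1 b.2
        simpa [Subgroup.mem_subgroupOf] using this
      have h1 := (B.subgroupOf A).card_mul_index
      rw [hidx, hcard, Nat.card_congr (Subgroup.subgroupOfEquivOfLe hBA).toEquiv, pow_succ] at h1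
      exact Nat.eq_of_mul_eq_mul_right (by norm_num) h1
    -- induction hypothesis for `B` with `a₁` added to the operators
    have hfaithB : B ⊓ Subgroup.centralizer (V : Set G) = ⊥ := by
      rw [eq_bot_iff, ← hfaith]
      exact inf_le_inf_right _ hBA
    obtain ⟨b, y, hbB, hyV, hy1, hby, hbyc, hyT, hclB, hfB⟩ := ih B V (insert a₁ T) hVc hVodd
      (fun a ha c hc => hAc a (hBA ha) c (hBA hc)) (fun a ha => hA2 a (hBA ha)) hcardB
      (hBA.trans hAV) hfaithB
      (by
        intro t ht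
        rcases Finset.mem_insert.mp ht with rfl | h
        · exact hA2 _ ha₁
        · exact hT2 t h)
      (by
        intro t ht
        rcases Finset.mem_insert.mp ht with rfl | h
        · exact ha₁V
        · exact hTV t h)
      (by
        intro s hs t ht
        rcases Finset.mem_insert.mp hs with rfl | h <;> rcases Finset.mem_insert.mp ht with rfl | h'
        · rfl
        · exact (hTA t h' _ ha₁).symm
        · exact hTA s h _ ha₁
        · exact hTT s h t h')
      (by
        intro t ht a ha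
        rcases Finset.mem_insert.mp ht with rfl | h
        · exact hAc _ ha₁ a (hBA ha)
        · exact hTA t h a (hBA ha))
    -- the sign correction
    obtain ⟨c, hc, hcs⟩ := exists_sign_elt b y hby hbyc
      (Finset.univ.filter (fun i => a₁ * y i * a₁⁻¹ = (y i)⁻¹))
    rw [hclB] at hc
    have hcA : c ∈ A := hBA hc
    set a₀ := a₁ * c with ha₀
    have ha₀A : a₀ ∈ A := A.mul_mem ha₁ hcA
    have ha₀y : ∀ i, a₀ * y i = y i * a₀ := by
      intro i
      have e : a₀ * y i * a₀⁻¹ = a₁ * (c * y i * c⁻¹) * a₁⁻¹ := by rw [ha₀]; group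
      have key : a₀ * y i * a₀⁻¹ = y i := by
        by_cases hi : a₁ * y i * a₁⁻¹ = (y i)⁻¹
        · have hmem : i ∈ Finset.univ.filter (fun i => a₁ * y i * a₁⁻¹ = (y i)⁻¹) := by
            simp [hi]
          rw [e, (hcs i).1 hmem]
          have : a₁ * (y i)⁻¹ * a₁⁻¹ = (a₁ * y i * a₁⁻¹)⁻¹ := by group
          rw [this, hi, inv_inv]
        · have hmem : i ∉ Finset.univ.filter (fun i => a₁ * y i * a₁⁻¹ = (y i)⁻¹) := by
            simp [hi]
          rw [e, (hcs i).2 hmem]
          exact (hyT i a₁ (Finset.mem_insert_self _ _)).resolve_right hi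
      calc a₀ * y i = (a₀ * y i * a₀⁻¹) * a₀ := by group
        _ = y i * a₀ := by rw [key]
    have ha₀x : a₀ * x₀ * a₀⁻¹ = x₀⁻¹ := by
      have e : a₀ * x₀ * a₀⁻¹ = a₁ * (c * x₀ * c⁻¹) * a₁⁻¹ := by rw [ha₀]; group
      rw [e, hBx c hc, hx₀a₁]
    have hbx : ∀ i, b i * x₀ = x₀ * b i := by
      intro i
      have := hBx (b i) (hbB i)
      calc b i * x₀ = (b i * x₀ * (b i)⁻¹) * b i := by group
        _ = x₀ * b i := by rw [this]
    refine ⟨Fin.cons a₀ b, Fin.cons x₀ y, ?_, ?_, ?_, ?_, ?_, ?_, ?_, ?_⟩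
    · intro i
      refine Fin.cases ?_ (fun j => ?_) i
      · simpa using ha₀A
      · simpa using hBA (hbB j)
    · intro i
      refine Fin.cases ?_ (fun j => ?_) i
      · simpa using hx₀V
      · simpa using hyV j
    · intro i
      refine Fin.cases ?_ (fun j => ?_) i
      · simpa using hx₀1
      · simpa using hy1 j
    · intro i
      refine Fin.cases ?_ (fun j => ?_) i
      · simpa using ha₀x
      · simpa using hby j
    · intro i j
      refine Fin.cases ?_ (fun i' => ?_) i <;> refine Fin.cases ?_ (fun j' => ?_) j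
      · intro h; exact absurd rfl h
      · intro _
        simpa using hbx j'
      · intro _
        simpa using ha₀y i'
      · intro h
        have h' : i' ≠ j' := fun e => h (by rw [e])
        simpa using hbyc i' j' h'
    · intro i
      refine Fin.cases ?_ (fun j => ?_) i
      · intro t ht
        simpa using hx₀e t ((hSmem t).mpr (Or.inr ht))
      · intro t ht
        simpa using hyT j t (Finset.mem_insert_of_mem ht)
    · rw [Fin.range_cons]
      apply le_antisymm
      · rw [Subgroup.closure_le]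
        intro g hg
        rcases Set.mem_insert_iff.mp hg with rfl | ⟨j, rfl⟩
        · exact ha₀A
        · exact hBA (hbB j)
      · have hBle : B ≤ Subgroup.closure (insert a₀ (Set.range b)) := by
          rw [← hclB]
          exact Subgroup.closure_mono (Set.subset_insert _ _)
        have ha₀cl : a₀ ∈ Subgroup.closure (insert a₀ (Set.range b)) :=
          Subgroup.subset_closure (Set.mem_insert _ _)
        have ha₁cl : a₁ ∈ Subgroup.closure (insert a₀ (Set.range b)) := by
          have : a₁ = a₀ * c⁻¹ := by rw [ha₀]; group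
          rw [this]
          exact Subgroup.mul_mem _ ha₀cl (Subgroup.inv_mem _ (hBle hc))
        intro g hg
        rcases hxor g hg with h | h
        · have : g = (g * a₁) * a₁⁻¹ := by group
          rw [this]
          exact Subgroup.mul_mem _ (hBle h.1) (Subgroup.inv_mem _ ha₁cl)
        · exact hBle h.1
    · intro g hg hg1
      rcases hdich g hg with h | h
      · obtain ⟨i, hi⟩ := hfB g h hg1
        exact ⟨Fin.succ i, by simpa using hi⟩
      · exact ⟨0, by simpa using h⟩

end Cfsg.Agent.Lib.Helper10
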