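import Mathlib
import Cfsg.Agent.Lib.Helper10.Eigen
import Cfsg.Agent.Lib.Helper10.PGroupCentral
import Cfsg.Agent.Lib.Helper1.CoprimeAction
import Cfsg.Agent.Lib.Helper2.NilpotentBasic
import Cfsg.Agent.Lib.Helper13.Coprime

/-!
# Faithful abelian subgroups for elementary abelian `2`-groups of operators (helper10)
-/

set_option autoImplicit false

namespace Cfsg.Agent.Lib.Helper10

/-- If `K ⊴ L` contains its centralizer in `L`, a coprime operator group `B` normalizing `L` and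
centralizing `K` centralizes `L`. -/
theorem centralizes_of_centralizes_selfcentralizing {G : Type*} [Group G] [Finite G]
    (L K B : Subgroup G) (hLK : L ≤ Subgroup.normalizer (K : Set G))
    (hself : L ⊓ Subgroup.centralizer (K : Set G) ≤ K)
    (hBL : B ≤ Subgroup.normalizer (L : Set G)) (hBK : B ≤ Subgroup.centralizer (K : Set G))
    (hcop : (Nat.card B).Coprime (Nat.card L)) : B ≤ Subgroup.centralizer (L : Set G) := by
  have hKB : ⁅K, B⁆ = ⊥ := by
    rw [Subgroup.commutator_comm, Subgroup.commutator_eq_bot_iff_le_centralizer]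
    exact hBK
  have h1 : ⁅⁅L, K⁆, B⁆ = ⊥ := by
    have hle : ⁅L, K⁆ ≤ K := by
      rw [Subgroup.commutator_comm]
      exact Cfsg.Agent.Lib.Helper13.commutator_le_of_le_normalizer K L hLK
    rw [eq_bot_iff, ← hKB]
    exact Subgroup.commutator_mono hle le_rfl
  have h2 : ⁅⁅K, B⁆, L⁆ = ⊥ := by
    rw [hKB]; exact Subgroup.commutator_bot_left L
  have h3 : ⁅⁅B, L⁆, K⁆ = ⊥ := Subgroup.commutator_commutator_eq_bot_of_rotate h1 h2
  have hBLK : ⁅B, L⁆ ≤ K := by
    have hle : ⁅B, L⁆ ≤ L := by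
      rw [Subgroup.commutator_comm]
      exact Cfsg.Agent.Lib.Helper13.commutator_le_of_le_normalizer L B hBL
    rw [Subgroup.commutator_eq_bot_iff_le_centralizer] at h3
    exact (le_inf hle h3).trans hself
  have h4 : ⁅⁅L, B⁆, B⁆ = ⊥ := by
    rw [eq_bot_iff, ← hKB, Subgroup.commutator_comm L B]
    exact Subgroup.commutator_mono hBLK le_rfl
  have h5 : ⁅L, B⁆ = ⊥ :=
    Cfsg.Agent.Lib.Helper1.commutator_eq_bot_of_commutator_commutator_eq_bot L B hBL hcop h4
  rw [Subgroup.commutator_comm, Subgroup.commutator_eq_bot_iff_le_centralizer] at h5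
  exact h5

/-- In `Y = F A` with `F` a normal nilpotent subgroup of odd order and `A` generated by
pairwise commuting involutions, there is an abelian normal subgroup `V ≤ F` of `Y` with
`C_F(V) ≤ V`. -/
theorem exists_abelian_normal_selfcentralizing {Y : Type*} [Group Y] [Finite Y]
    (F A : Subgroup Y) [hFn : F.Normal] [hFnil : Group.IsNilpotent ↥F] (hFodd : Odd (Nat.card F))
    (hA2 : ∀ a ∈ A, a * a = 1) (hAc : ∀ a ∈ A, ∀ b ∈ A, a * b = b * a) (htop : F ⊔ A = ⊤) :
    ∃ V : Subgroup Y, V ≤ F ∧ V.Normal ∧ (∀ x ∈ V, ∀ y ∈ V, x * y = y * x) ∧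
      F ⊓ Subgroup.centralizer (V : Set Y) ≤ V := by
  classical
  let 𝒮 : Set (Subgroup Y) := {V | V ≤ F ∧ V.Normal ∧ ∀ x ∈ V, ∀ y ∈ V, x * y = y * x}
  have h𝒮ne : 𝒮.Nonempty := ⟨⊥, bot_le, inferInstance, by
    intro x hx y hy
    rw [Subgroup.mem_bot] at hx hy
    rw [hx, hy]⟩
  obtain ⟨V, hVmax⟩ := (Set.toFinite 𝒮).exists_maximal h𝒮ne
  obtain ⟨hVF, hVn, hVc⟩ : V ≤ F ∧ V.Normal ∧ ∀ x ∈ V, ∀ y ∈ V, x * y = y * x := hVmax.prop
  haveI := hVn
  refine ⟨V, hVF, hVn, hVc, ?_⟩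
  by_contra hnot
  obtain ⟨z, hzC, hzV⟩ := SetLike.not_le_iff_exists.mp hnot
  -- the quotient
  let q : Y →* Y ⧸ V := QuotientGroup.mk' V
  have hqs : Function.Surjective q := QuotientGroup.mk'_surjective V
  have hqker : ∀ y : Y, q y = 1 ↔ y ∈ V := fun y => QuotientGroup.eq_one_iff y
  set Fb : Subgroup (Y ⧸ V) := F.map q with hFb
  haveI hFbn : Fb.Normal := Subgroup.Normal.map hFn q hqs
  haveI hFbnil : Group.IsNilpotent ↥Fb :=
    nilpotent_of_surjective (q.subgroupMap F) (q.subgroupMap_surjective F)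
  set C : Subgroup Y := F ⊓ Subgroup.centralizer (V : Set Y) with hC
  haveI hCn : C.Normal := inferInstance
  set Cb : Subgroup (Y ⧸ V) := C.map q with hCb
  haveI hCbn : Cb.Normal := Subgroup.Normal.map hCn q hqs
  have hCbFb : Cb ≤ Fb := Subgroup.map_mono inf_le_left
  have hCbne : Cb ≠ ⊥ := by
    intro h
    have : q z ∈ Cb := ⟨z, hzC, rfl⟩
    rw [h, Subgroup.mem_bot, hqker] at this
    exact hzV this
  -- a nontrivial central element of `Fb` inside `Cb`
  have hKne : Cb.subgroupOf Fb ≠ ⊥ := by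
    intro h
    apply hCbne
    rw [eq_bot_iff]
    intro y hy
    have : (⟨y, hCbFb hy⟩ : ↥Fb) ∈ Cb.subgroupOf Fb := Subgroup.mem_subgroupOf.mpr hy
    rw [h, Subgroup.mem_bot] at this
    rw [Subgroup.mem_bot]
    exact congrArg Subtype.val this
  have hmeet := Cfsg.Agent.Lib.Helper2.normal_inf_center_ne_bot (Cb.subgroupOf Fb) hKne
  obtain ⟨⟨k, hkK⟩, hk1⟩ := Subgroup.ne_bot_iff_exists_ne_one.mp hmeet
  have hk1' : (k : Y ⧸ V) ≠ 1 := by
    intro h
    apply hk1
    apply Subtype.ext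
    apply Subtype.ext
    exact h
  set Wb : Subgroup (Y ⧸ V) := Cb ⊓ Subgroup.centralizer (Fb : Set (Y ⧸ V)) with hWb
  haveI hWbn : Wb.Normal := inferInstance
  have hkW : (k : Y ⧸ V) ∈ Wb := by
    refine ⟨Subgroup.mem_subgroupOf.mp hkK.1, ?_⟩
    show (k : Y ⧸ V) ∈ Subgroup.centralizer (Fb : Set (Y ⧸ V))
    rw [Subgroup.mem_centralizer_iff]
    intro f hf
    have := Subgroup.mem_center_iff.mp hkK.2 ⟨f, hf⟩
    exact congrArg Subtype.val this
  have hWbne : Wb ≠ ⊥ := by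
    intro h
    rw [h, Subgroup.mem_bot] at hkW
    exact hk1' hkW
  have hWbc : ∀ x ∈ Wb, ∀ y ∈ Wb, x * y = y * x := by
    intro x hx y hy
    have h1 : y ∈ Subgroup.centralizer (Fb : Set (Y ⧸ V)) := hy.2
    rw [Subgroup.mem_centralizer_iff] at h1
    exact h1 x (hCbFb hx.1)
  have hWbodd : Odd (Nat.card Wb) := by
    have h1 : Nat.card Wb ∣ Nat.card Fb := Subgroup.card_dvd_of_le (inf_le_left.trans hCbFb)
    have h2 : Nat.card Fb ∣ Nat.card F := Subgroup.card_map_dvd _ _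
    exact Odd.of_dvd_nat hFodd (h1.trans h2)
  -- operators
  let S : Finset (Y ⧸ V) := ((Set.toFinite (A : Set Y)).toFinset).image q
  have hSmem : ∀ s ∈ S, ∃ a ∈ A, q a = s := by
    intro s hs
    obtain ⟨a, ha, rfl⟩ := Finset.mem_image.mp hs
    exact ⟨a, by simpa using ha, rfl⟩
  have hS2 : ∀ s ∈ S, s * s = 1 := by
    intro s hs
    obtain ⟨a, ha, rfl⟩ := hSmem s hs
    rw [← map_mul, hA2 a ha, map_one]
  have hSW : ∀ s ∈ S, s ∈ Subgroup.normalizer (Wb : Set (Y ⧸ V)) := by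
    intro s _
    rw [Subgroup.normalizer_eq_top]
    exact Subgroup.mem_top s
  have hSS : ∀ s ∈ S, ∀ t ∈ S, s * t = t * s := by
    intro s hs t ht
    obtain ⟨a, ha, rfl⟩ := hSmem s hs
    obtain ⟨b, hb, rfl⟩ := hSmem t ht
    rw [← map_mul, ← map_mul, hAc a ha b hb]
  obtain ⟨w, hwW, hw1, hwe⟩ := exists_eigen Wb hWbc hWbodd hWbne S hS2 hSW hSS
  obtain ⟨x, hxC, rfl⟩ := hwW.1
  have hxV : x ∉ V := fun h => hw1 ((hqker x).mpr h)
  have hxF : x ∈ F := hxC.1
  have hxcV : x ∈ Subgroup.centralizer (V : Set Y) := hxC.2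
  -- the bigger subgroup
  set V' : Subgroup Y := V ⊔ Subgroup.zpowers x with hV'
  have hVV' : V ≤ V' := le_sup_left
  have hxV' : x ∈ V' := (le_sup_right : Subgroup.zpowers x ≤ V') (Subgroup.mem_zpowers x)
  have hV'F : V' ≤ F := sup_le hVF (by rw [Subgroup.zpowers_le]; exact hxF)
  have hV'c : ∀ u ∈ V', ∀ v ∈ V', u * v = v * u := sup_zpowers_comm V hVc x hxcV
  -- conjugates of `x`
  have hconjF : ∀ f ∈ F, f * x * f⁻¹ ∈ V' := by
    intro f hf
    have hcen : q x ∈ Subgroup.centralizer (Fb : Set (Y ⧸ V)) := hwW.2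
    rw [Subgroup.mem_centralizer_iff] at hcen
    have h1 := hcen (q f) ⟨f, hf, rfl⟩
    have h2 : q (f * x * f⁻¹ * x⁻¹) = 1 := by
      rw [map_mul, map_mul, map_mul, map_inv, map_inv, h1]
      group
    rw [hqker] at h2
    have : f * x * f⁻¹ = (f * x * f⁻¹ * x⁻¹) * x := by group
    rw [this]
    exact V'.mul_mem (hVV' h2) hxV'
  have hconjA : ∀ a ∈ A, a * x * a⁻¹ ∈ V' := by
    intro a ha
    have hmem : q a ∈ S := Finset.mem_image.mpr ⟨a, by simpa using ha, rfl⟩
    rcases hwe (q a) hmem with h | h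
    · have h2 : q (a * x * a⁻¹ * x⁻¹) = 1 := by
        rw [map_mul, map_mul, map_mul, map_inv, map_inv]
        rw [h]; group
      rw [hqker] at h2
      have : a * x * a⁻¹ = (a * x * a⁻¹ * x⁻¹) * x := by group
      rw [this]
      exact V'.mul_mem (hVV' h2) hxV'
    · have h2 : q (a * x * a⁻¹ * x) = 1 := by
        rw [map_mul, map_mul, map_mul, map_inv]
        rw [h]; group
      rw [hqker] at h2
      have : a * x * a⁻¹ = (a * x * a⁻¹ * x) * x⁻¹ := by group
      rw [this]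
      exact V'.mul_mem (hVV' h2) (V'.inv_mem hxV')
  -- `V'` is normal
  have hV'n : V'.Normal := by
    have hconj : ∀ g : Y, (∀ v ∈ V, g * v * g⁻¹ ∈ V') → g * x * g⁻¹ ∈ V' →
        ∀ u ∈ V', g * u * g⁻¹ ∈ V' := by
      intro g hgV hgx u hu
      have hle : V' ≤ V'.comap (MulAut.conj g).toMonoidHom := by
        apply sup_le
        · intro v hv
          rw [Subgroup.mem_comap]
          simpa using hgV v hv
        · rw [Subgroup.zpowers_le, Subgroup.mem_comap]
          simpa using hgx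
      have := hle hu
      rw [Subgroup.mem_comap] at this
      simpa using this
    have hN : F ⊔ A ≤ Subgroup.normalizer (V' : Set Y) := by
      have key : ∀ g : Y, g * x * g⁻¹ ∈ V' → g⁻¹ * x * g⁻¹⁻¹ ∈ V' →
          g ∈ Subgroup.normalizer (V' : Set Y) := by
        intro g h1 h2
        rw [Subgroup.mem_normalizer_iff]
        intro u
        refine ⟨hconj g (fun v hv => hVV' (hVn.conj_mem v hv g)) h1 u, fun h => ?_⟩
        have := hconj g⁻¹ (fun v hv => hVV' (hVn.conj_mem v hv g⁻¹)) h2 _ h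
        have e : g⁻¹ * (g * u * g⁻¹) * g⁻¹⁻¹ = u := by group
        rwa [e] at this
      apply sup_le
      · intro f hf
        exact key f (hconjF f hf) (hconjF f⁻¹ (F.inv_mem hf))
      · intro a ha
        exact key a (hconjA a ha) (hconjA a⁻¹ (A.inv_mem ha))
    rw [htop, top_le_iff, Subgroup.normalizer_eq_top_iff] at hN
    exact hN
  have hV'S : V' ∈ 𝒮 := ⟨hV'F, hV'n, hV'c⟩
  have := hVmax.le_of_ge hV'S hVV'
  exact hxV (this hxV')

end Cfsg.Agent.Lib.Helper10
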