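import Mathlib
import Cfsg.Agent.Lib.Helper10.FaithfulAbelian
import Cfsg.Agent.Lib.Helper1.OmegaOne
import Cfsg.Agent.Lib.Helper2.Cores
import Cfsg.Agent.Lib.Helper20.Bender
import Cfsg.Agent.Lib.Helper20.CharPLocal

/-!
# Faithful abelian subgroups inside nilpotent / solvable groups of odd order (helper10)
-/

set_option autoImplicit false

namespace Cfsg.Agent.Lib.Helper10

/-- A group all of whose elements are involutions has order coprime to every odd number. -/
theorem coprime_card_of_involutions {G : Type*} [Group G] [Finite G] (B : Subgroup G)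
    (hB2 : ∀ a ∈ B, a * a = 1) (m : ℕ) (hm : Odd m) : (Nat.card B).Coprime m := by
  have hp : IsPGroup 2 ↥B := by
    intro g
    refine ⟨1, ?_⟩
    rw [pow_one, pow_two]
    exact Subtype.ext (hB2 g g.2)
  have : Fact (Nat.Prime 2) := ⟨Nat.prime_two⟩
  obtain ⟨k, hk⟩ := hp.exists_card_eq
  rw [hk]
  exact Nat.Coprime.pow_left k (Nat.coprime_two_left.mpr hm)

/-- Transfer of `exists_abelian_normal_selfcentralizing` to a nilpotent subgroup `F` of odd order
normalized by a group `A` of commuting involutions. -/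
theorem exists_faithful_abelian_nilpotent {G : Type*} [Group G] [Finite G] (F A : Subgroup G)
    [hFnil : Group.IsNilpotent ↥F] (hFodd : Odd (Nat.card F))
    (hA2 : ∀ a ∈ A, a * a = 1) (hAc : ∀ a ∈ A, ∀ b ∈ A, a * b = b * a)
    (hAF : A ≤ Subgroup.normalizer (F : Set G)) :
    ∃ V : Subgroup G, V ≤ F ∧ (∀ x ∈ V, ∀ y ∈ V, x * y = y * x) ∧
      A ≤ Subgroup.normalizer (V : Set G) ∧ F ≤ Subgroup.normalizer (V : Set G) ∧
      F ⊓ Subgroup.centralizer (V : Set G) ≤ V := by
  classical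
  set Y : Subgroup G := F ⊔ A with hY
  have hFY : F ≤ Y := le_sup_left
  have hAY : A ≤ Y := le_sup_right
  have hYN : Y ≤ Subgroup.normalizer (F : Set G) := sup_le Subgroup.le_normalizer hAF
  haveI hF'n : (F.subgroupOf Y).Normal :=
    (Subgroup.normal_subgroupOf_iff_le_normalizer hFY).mpr hYN
  haveI hF'nil : Group.IsNilpotent ↥(F.subgroupOf Y) :=
    (Group.nilpotent_of_mulEquiv (Subgroup.subgroupOfEquivOfLe hFY).symm)
  have hF'odd : Odd (Nat.card (F.subgroupOf Y)) := by
    rw [Nat.card_congr (Subgroup.subgroupOfEquivOfLe hFY).toEquiv]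
    exact hFodd
  have hA'2 : ∀ a ∈ A.subgroupOf Y, a * a = 1 := by
    intro a ha
    apply Subtype.ext
    exact hA2 a (Subgroup.mem_subgroupOf.mp ha)
  have hA'c : ∀ a ∈ A.subgroupOf Y, ∀ b ∈ A.subgroupOf Y, a * b = b * a := by
    intro a ha b hb
    apply Subtype.ext
    exact hAc a (Subgroup.mem_subgroupOf.mp ha) b (Subgroup.mem_subgroupOf.mp hb)
  have htop : F.subgroupOf Y ⊔ A.subgroupOf Y = ⊤ := by
    rw [← Subgroup.subgroupOf_sup hFY hAY, Subgroup.subgroupOf_self]
  obtain ⟨V', hV'F, hV'n, hV'c, hV'self⟩ :=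
    exists_abelian_normal_selfcentralizing (F.subgroupOf Y) (A.subgroupOf Y) hF'odd hA'2 hA'c htop
  have hYNV : Y ≤ Subgroup.normalizer ((V'.map Y.subtype : Subgroup G) : Set G) := by
    intro y hy
    have h1 : (⟨y, hy⟩ : ↥Y) ∈ Subgroup.normalizer (V' : Set ↥Y) := by
      rw [Subgroup.normalizer_eq_top]
      exact Subgroup.mem_top _
    exact Subgroup.le_normalizer_map Y.subtype (Subgroup.mem_map_of_mem Y.subtype h1)
  refine ⟨V'.map Y.subtype, ?_, ?_, hAY.trans hYNV, hFY.trans hYNV, ?_⟩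
  · rintro _ ⟨v, hv, rfl⟩
    exact Subgroup.mem_subgroupOf.mp (hV'F hv)
  · rintro _ ⟨v, hv, rfl⟩ _ ⟨w, hw, rfl⟩
    exact congrArg Subtype.val (hV'c v hv w hw)
  · rintro x ⟨hxF, hxC⟩
    have hxC' : x ∈ Subgroup.centralizer ((V'.map Y.subtype : Subgroup G) : Set G) := hxC
    rw [Subgroup.mem_centralizer_iff] at hxC'
    have hxY : x ∈ Y := hFY hxF
    have hmem : (⟨x, hxY⟩ : ↥Y) ∈ F.subgroupOf Y ⊓ Subgroup.centralizer (V' : Set ↥Y) := by
      refine ⟨Subgroup.mem_subgroupOf.mpr hxF, ?_⟩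
      show (⟨x, hxY⟩ : ↥Y) ∈ Subgroup.centralizer (V' : Set ↥Y)
      rw [Subgroup.mem_centralizer_iff]
      intro v hv
      apply Subtype.ext
      exact hxC' v ⟨v, hv, rfl⟩
    exact ⟨⟨x, hxY⟩, hV'self hmem, rfl⟩

/-- A group `A` of commuting involutions normalizing a nilpotent group `F` of odd order normalizes
an abelian subgroup `V ≤ F` such that `C_A(V)` centralizes `F`. -/
theorem exists_abelian_centralizer_le {G : Type*} [Group G] [Finite G] (F A : Subgroup G)
    [hFnil : Group.IsNilpotent ↥F] (hFodd : Odd (Nat.card F))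
    (hA2 : ∀ a ∈ A, a * a = 1) (hAc : ∀ a ∈ A, ∀ b ∈ A, a * b = b * a)
    (hAF : A ≤ Subgroup.normalizer (F : Set G)) :
    ∃ V : Subgroup G, V ≤ F ∧ (∀ x ∈ V, ∀ y ∈ V, x * y = y * x) ∧
      A ≤ Subgroup.normalizer (V : Set G) ∧
      A ⊓ Subgroup.centralizer (V : Set G) ≤ Subgroup.centralizer (F : Set G) := by
  obtain ⟨V, hVF, hVc, hAV, hFV, hself⟩ := exists_faithful_abelian_nilpotent F A hFodd hA2 hAc hAF
  refine ⟨V, hVF, hVc, hAV, ?_⟩
  apply centralizes_of_centralizes_selfcentralizing F V _ hFV hself (inf_le_left.trans hAF)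
    inf_le_right
  exact coprime_card_of_involutions (A ⊓ Subgroup.centralizer (V : Set G))
    (fun a ha => hA2 a ha.1) _ hFodd

/-- Faithful action on a solvable group of odd order is detected on an abelian subgroup. -/
theorem exists_faithful_abelian {G : Type*} [Group G] [Finite G] (L A : Subgroup G)
    (hLs : Group.IsSolvable ↥L) (hLodd : Odd (Nat.card L))
    (hA2 : ∀ a ∈ A, a * a = 1) (hAc : ∀ a ∈ A, ∀ b ∈ A, a * b = b * a)
    (hAL : A ≤ Subgroup.normalizer (L : Set G))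
    (hfaith : A ⊓ Subgroup.centralizer (L : Set G) = ⊥) :
    ∃ V : Subgroup G, V ≤ L ∧ (∀ x ∈ V, ∀ y ∈ V, x * y = y * x) ∧
      A ≤ Subgroup.normalizer (V : Set G) ∧ A ⊓ Subgroup.centralizer (V : Set G) = ⊥ := by
  classical
  set F : Subgroup G := (Cfsg.fittingSubgroup ↥L).map L.subtype with hF
  have hFL : F ≤ L := by
    rintro _ ⟨v, _, rfl⟩
    exact v.2
  haveI hFnil : Group.IsNilpotent ↥F := by
    haveI := Cfsg.Agent.Lib.Helper2.fittingSubgroup_isNilpotent (G := ↥L)
    exact Group.nilpotent_of_mulEquiv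
      ((Cfsg.fittingSubgroup ↥L).equivMapOfInjective L.subtype L.subtype_injective)
  have hFodd : Odd (Nat.card F) := Odd.of_dvd_nat hLodd (Subgroup.card_dvd_of_le hFL)
  haveI hchar : (Cfsg.fittingSubgroup ↥L).Characteristic :=
    Cfsg.Agent.Lib.Helper20.fittingSubgroup_characteristic
  have hNLF : Subgroup.normalizer (L : Set G) ≤ Subgroup.normalizer (F : Set G) := by
    intro a ha
    exact Cfsg.Agent.Lib.Helper1.mem_normalizer_map_of_characteristic L _ a ha
  have hAF : A ≤ Subgroup.normalizer (F : Set G) := hAL.trans hNLF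
  have hLF : L ≤ Subgroup.normalizer (F : Set G) := Subgroup.le_normalizer.trans hNLF
  have hself : L ⊓ Subgroup.centralizer (F : Set G) ≤ F := by
    rintro x ⟨hxL, hxC⟩
    have hxC' : x ∈ Subgroup.centralizer (F : Set G) := hxC
    rw [Subgroup.mem_centralizer_iff] at hxC'
    have h1 : Subgroup.centralizer (Cfsg.fittingSubgroup ↥L : Set ↥L) ≤ Cfsg.fittingSubgroup ↥L :=
      Cfsg.Agent.Lib.Helper20.centralizer_fitting_le_iff_layer_eq_bot.mpr
        (Cfsg.Agent.Lib.Helper20.layer_eq_bot_of_isSolvable hLs)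
    have h2 : (⟨x, hxL⟩ : ↥L) ∈ Subgroup.centralizer (Cfsg.fittingSubgroup ↥L : Set ↥L) := by
      rw [Subgroup.mem_centralizer_iff]
      intro v hv
      apply Subtype.ext
      exact hxC' v ⟨v, hv, rfl⟩
    exact ⟨⟨x, hxL⟩, h1 h2, rfl⟩
  obtain ⟨V, hVF, hVc, hAV, hcen⟩ := exists_abelian_centralizer_le F A hFodd hA2 hAc hAF
  refine ⟨V, hVF.trans hFL, hVc, hAV, ?_⟩
  rw [eq_bot_iff, ← hfaith]
  refine le_inf inf_le_left ?_
  apply centralizes_of_centralizes_selfcentralizing L F _ hLF hself (inf_le_left.trans hAL) hcen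
  exact coprime_card_of_involutions (A ⊓ Subgroup.centralizer (V : Set G))
    (fun a ha => hA2 a ha.1) _ hLodd

end Cfsg.Agent.Lib.Helper10
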