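import Mathlib
import Cfsg.Agent.Lib.Helper10.FaithfulSolvable
import Cfsg.Agent.Lib.Helper10.DihedralAbelian

set_option autoImplicit false

/-!
# Thompson's dihedral lemma for elementary abelian 2-groups of automorphisms

If `I ≤ Aut(P)` is elementary abelian of order `2 ^ d` and `P` is solvable of odd order, there are
`T i ∈ I` (generating `I`) and nontrivial commuting `y i ∈ P` with `T i` inverting `y i` and
`T j` fixing `y i` for `j ≠ i`.
-/

namespace Cfsg.Agent.Lib.Helper10

open Subgroup SemidirectProduct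

theorem exists_dihedral_basis_aut {P : Type*} [Group P] [Finite P] (hPs : Group.IsSolvable P)
    (hodd : Odd (Nat.card P)) (I : Subgroup (MulAut P)) (hI2 : ∀ T ∈ I, T * T = 1)
    (hIc : ∀ S ∈ I, ∀ T ∈ I, S * T = T * S) (d : ℕ) (hId : Nat.card I = 2 ^ d) :
    ∃ (T : Fin d → MulAut P) (y : Fin d → P), (∀ i, T i ∈ I) ∧ (∀ i, y i ≠ 1) ∧
      (∀ i, T i (y i) = (y i)⁻¹) ∧ (∀ i j, i ≠ j → T j (y i) = y i) ∧
      Subgroup.closure (Set.range T) = I ∧ (∀ i j, y i * y j = y j * y i) := by
  classical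
  let φ : ↥I →* MulAut P := I.subtype
  let G := P ⋊[φ] ↥I
  haveI : Finite G := Finite.of_equiv _ (SemidirectProduct.equivProd).symm
  let L : Subgroup G := (inl : P →* G).range
  let A : Subgroup G := (inr : ↥I →* G).range
  let eL : P ≃* ↥L := MonoidHom.ofInjective (inl_injective (φ := φ))
  let eA : ↥I ≃* ↥A := MonoidHom.ofInjective (inr_injective (φ := φ))
  have hLs : Group.IsSolvable ↥L :=
    solvable_of_solvable_injective (f := eL.symm.toMonoidHom) eL.symm.injective
  have hLodd : Odd (Nat.card ↥L) := by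
    rw [← Nat.card_congr eL.toEquiv]; exact hodd
  have hA2 : ∀ a ∈ A, a * a = 1 := by
    rintro _ ⟨t, rfl⟩
    rw [← map_mul]
    have : t * t = 1 := Subtype.ext (hI2 t t.2)
    rw [this, map_one]
  have hAc : ∀ a ∈ A, ∀ b ∈ A, a * b = b * a := by
    rintro _ ⟨s, rfl⟩ _ ⟨t, rfl⟩
    rw [← map_mul, ← map_mul]
    have : s * t = t * s := Subtype.ext (hIc s s.2 t t.2)
    rw [this]
  have hAd : Nat.card ↥A = 2 ^ d := by
    rw [← Nat.card_congr eA.toEquiv]; exact hId
  haveI hLn : L.Normal := by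
    have : L = (rightHom : G →* ↥I).ker := range_inl_eq_ker_rightHom
    rw [this]; infer_instance
  have hAL : A ≤ Subgroup.normalizer (L : Set G) := by
    rw [Subgroup.normalizer_eq_top]; exact le_top
  have hconj : ∀ (t : ↥I) (n : P), (inr t : G) * inl n * (inr t)⁻¹ = inl ((t : MulAut P) n) := by
    intro t n
    rw [← map_inv]
    exact (inl_aut (φ := φ) t n).symm
  have hfaith : A ⊓ Subgroup.centralizer (L : Set G) = ⊥ := by
    rw [eq_bot_iff]
    rintro _ ⟨⟨t, rfl⟩, hc⟩
    rw [Subgroup.mem_bot]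
    have hc' : (inr t : G) ∈ Subgroup.centralizer (L : Set G) := hc
    rw [Subgroup.mem_centralizer_iff] at hc'
    have ht : (t : MulAut P) = 1 := by
      apply MulEquiv.ext
      intro n
      have h1 := hc' (inl n) ⟨n, rfl⟩
      have h2 : (inr t : G) * inl n * (inr t)⁻¹ = inl n := by
        rw [← h1]; group
      rw [hconj] at h2
      exact inl_injective h2
    have : t = 1 := Subtype.ext ht
    rw [this, map_one]
  obtain ⟨V, hVL, hVc, hAV, hVfaith⟩ :=
    exists_faithful_abelian L A hLs hLodd hA2 hAc hAL hfaith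
  have hVodd : Odd (Nat.card V) := Odd.of_dvd_nat hLodd (Subgroup.card_dvd_of_le hVL)
  obtain ⟨a, x, haA, hxV, hx1, hinv, hcomm, -, hgen, -⟩ :=
    abelian_dihedral d A V ∅ hVc hVodd hAc hA2 hAd hAV hVfaith
      (by simp) (by simp) (by simp) (by simp)
  have hat : ∀ i, ∃ t : ↥I, (inr t : G) = a i := fun i => haA i
  have hxy : ∀ i, ∃ n : P, (inl n : G) = x i := fun i => hVL (hxV i)
  choose t ht using hat
  choose y hy using hxy
  refine ⟨fun i => (t i : MulAut P), y, fun i => (t i).2, ?_, ?_, ?_, ?_, ?_⟩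
  · intro i h
    apply hx1 i
    rw [← hy i, h, map_one]
  · intro i
    have h1 := hinv i
    rw [← ht i, ← hy i, hconj, ← map_inv] at h1
    exact inl_injective h1
  · intro i j hij
    have h1 := hcomm i j hij
    have h2 : a j * x i * (a j)⁻¹ = x i := by rw [h1, mul_inv_cancel_right]
    rw [← ht j, ← hy i, hconj] at h2
    exact inl_injective h2
  · have h1 : Set.range a = (inr : ↥I →* G) '' Set.range t := by
      ext g
      constructor
      · rintro ⟨i, rfl⟩
        exact ⟨t i, ⟨i, rfl⟩, ht i⟩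
      · rintro ⟨_, ⟨i, rfl⟩, rfl⟩
        exact ⟨i, (ht i).symm⟩
    rw [h1, ← MonoidHom.map_closure] at hgen
    have h2 : A = (⊤ : Subgroup ↥I).map (inr : ↥I →* G) := by
      rw [← MonoidHom.range_eq_map]
    rw [h2] at hgen
    have h3 : Subgroup.closure (Set.range t) = ⊤ :=
      Subgroup.map_injective (inr_injective (φ := φ)) hgen
    have h4 : Set.range (fun i => (t i : MulAut P)) = I.subtype '' Set.range t := by
      ext g
      constructor
      · rintro ⟨i, rfl⟩
        exact ⟨t i, ⟨i, rfl⟩, rfl⟩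
      · rintro ⟨_, ⟨i, rfl⟩, rfl⟩
        exact ⟨i, rfl⟩
    rw [h4, ← MonoidHom.map_closure, h3, ← MonoidHom.range_eq_map, Subgroup.range_subtype]
  · intro i j
    have h1 := hVc _ (hxV i) _ (hxV j)
    rw [← hy i, ← hy j, ← map_mul, ← map_mul] at h1
    exact inl_injective h1

end Cfsg.Agent.Lib.Helper10
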