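import Mathlib

/-!
# The Baer trick (helper10)

For a group `G` in which all commutators are central and have a "half" (e.g. a finite group of
odd order and class at most two), the operation `x ∘ y = x * y * [y, x] ^ m` (with
`[y, x] ^ (2 m) = [y, x]`) makes `G` an abelian group `Baer h` with the same powers and the same
automorphisms.
-/

set_option autoImplicit false
open scoped IsMulCommutative

namespace Cfsg.Agent.Lib.Helper10

/-- The commutator `x y x⁻¹ y⁻¹`. -/
def cm {G : Type*} [Group G] (x y : G) : G := x * y * x⁻¹ * y⁻¹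

/-- Hypotheses for the Baer trick. -/
structure BaerHyp (G : Type*) [Group G] where
  m : ℕ
  central : ∀ x y : G, cm x y ∈ Subgroup.center G
  half : ∀ x y : G, cm x y ^ (2 * m) = cm x y

namespace BaerHyp

variable {G : Type*} [Group G] (h : BaerHyp G)

/-- The commutator as an element of the centre. -/
def cz (x y : G) : Subgroup.center G := ⟨cm x y, h.central x y⟩

theorem coe_cz (x y : G) : (h.cz x y : G) = x * y * x⁻¹ * y⁻¹ := rfl

theorem central_comm (k : Subgroup.center G) (g : G) : (k : G) * g = g * k :=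
  (Subgroup.mem_center_iff.mp k.2 g).symm

theorem cz_mul_left (x x' y : G) : h.cz (x * x') y = h.cz x y * h.cz x' y := by
  apply Subtype.ext
  rw [Subgroup.coe_mul, coe_cz h (x * x') y, coe_cz h x y]
  have h1 : x * x' * y * (x * x')⁻¹ * y⁻¹ = x * ((h.cz x' y : G) * y) * x⁻¹ * y⁻¹ := by
    rw [coe_cz]; group
  rw [h1, central_comm (h.cz x' y) y]
  have h2 : x * (y * (h.cz x' y : G)) * x⁻¹ * y⁻¹ = x * y * ((h.cz x' y : G) * (x⁻¹ * y⁻¹)) := by
    group
  rw [h2, central_comm (h.cz x' y) (x⁻¹ * y⁻¹)]
  group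

theorem cz_inv (x y : G) : h.cz y x = (h.cz x y)⁻¹ := by
  apply Subtype.ext
  rw [Subgroup.coe_inv, coe_cz, coe_cz]
  group

theorem cz_mul_right (x y y' : G) : h.cz x (y * y') = h.cz x y * h.cz x y' := by
  rw [cz_inv h (y * y') x, cz_mul_left, mul_inv, ← cz_inv, ← cz_inv]

theorem cz_self (x : G) : h.cz x x = 1 := by
  apply Subtype.ext
  rw [coe_cz]; simp

theorem cz_one_left (y : G) : h.cz 1 y = 1 := by
  apply Subtype.ext
  rw [coe_cz]; simp

theorem cz_one_right (x : G) : h.cz x 1 = 1 := by
  apply Subtype.ext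
  rw [coe_cz]; simp

theorem cz_central_right (x : G) (k : Subgroup.center G) : h.cz x k = 1 := by
  apply Subtype.ext
  rw [coe_cz, ← central_comm k x]; simp

theorem cz_central_left (y : G) (k : Subgroup.center G) : h.cz k y = 1 := by
  rw [cz_inv, cz_central_right, inv_one]

theorem cz_inv_left (x y : G) : h.cz x⁻¹ y = (h.cz x y)⁻¹ := by
  have := cz_mul_left h x x⁻¹ y
  rw [mul_inv_cancel, cz_one_left] at this
  exact eq_inv_of_mul_eq_one_right this.symm

theorem cz_pow_right (x y : G) (n : ℕ) : h.cz x (y ^ n) = h.cz x y ^ n := by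
  induction n with
  | zero => rw [pow_zero, pow_zero, cz_one_right]
  | succ n ih => rw [pow_succ, pow_succ, cz_mul_right, ih]

theorem cz_half (x y : G) : h.cz x y ^ (2 * h.m) = h.cz x y := by
  apply Subtype.ext
  rw [Subgroup.coe_pow]
  exact h.half x y

/-- The Baer product. -/
def bmul (x y : G) : G := x * y * (h.cz y x ^ h.m : Subgroup.center G)

theorem bmul_def (x y : G) : h.bmul x y = x * y * (h.cz y x ^ h.m : Subgroup.center G) := rfl

theorem bmul_comm (x y : G) : h.bmul x y = h.bmul y x := by
  rw [bmul_def, bmul_def]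
  have h1 : x * y = y * x * (h.cz x y : G) := by
    rw [← central_comm, coe_cz]; group
  rw [h1, mul_assoc, ← Subgroup.coe_mul]
  congr 2
  -- `cz x y * cz y x ^ m = cz x y ^ m`
  have h2 : h.cz x y * h.cz y x ^ h.m = h.cz x y ^ h.m := by
    have h3 : h.cz x y ^ h.m * (h.cz x y * h.cz y x ^ h.m) = h.cz x y ^ h.m * h.cz x y ^ h.m := by
      rw [cz_inv h x y, ← pow_add, ← two_mul, cz_half, inv_pow]
      rw [mul_comm (h.cz x y), ← mul_assoc, mul_inv_cancel, one_mul]
    exact mul_left_cancel h3
  exact h2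

theorem bmul_assoc (x y z : G) : h.bmul (h.bmul x y) z = h.bmul x (h.bmul y z) := by
  rw [bmul_def h (h.bmul x y) z, bmul_def h x (h.bmul y z), bmul_def h x y, bmul_def h y z]
  rw [cz_mul_right, cz_central_right, mul_one, cz_mul_right]
  rw [cz_mul_left, cz_central_left, mul_one, cz_mul_left]
  have e1 : x * y * ↑(h.cz y x ^ h.m) * z = x * y * z * ↑(h.cz y x ^ h.m) := by
    rw [mul_assoc (x * y), central_comm, ← mul_assoc]
  have e2 : x * (y * z * ↑(h.cz z y ^ h.m)) = x * y * z * ↑(h.cz z y ^ h.m) := by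
    group
  rw [e1, e2, mul_assoc (x * y * z), mul_assoc (x * y * z), ← Subgroup.coe_mul, ← Subgroup.coe_mul]
  congr 2
  rw [mul_pow, mul_pow, ← mul_assoc (h.cz y x ^ h.m)]
  exact mul_comm _ _

theorem bmul_one (x : G) : h.bmul x 1 = x := by
  rw [bmul_def, cz_one_left, one_pow]; simp

theorem one_bmul (x : G) : h.bmul 1 x = x := by
  rw [bmul_comm, bmul_one]

theorem inv_bmul (x : G) : h.bmul x⁻¹ x = 1 := by
  rw [bmul_def, cz_inv h x⁻¹ x, cz_inv_left, cz_self]; simp

end BaerHyp

/-- The Baer group: the same set with the product `x ∘ y = x y [y, x]^m`. -/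
def Baer {G : Type*} [Group G] (_h : BaerHyp G) : Type _ := G

namespace Baer

variable {G : Type*} [Group G] (h : BaerHyp G)

/-- The identity map `G → Baer h`. -/
def ofG (x : G) : Baer h := x

/-- The identity map `Baer h → G`. -/
def toG (x : Baer h) : G := x

@[simp] theorem toG_ofG (x : G) : toG h (ofG h x) = x := rfl
@[simp] theorem ofG_toG (x : Baer h) : ofG h (toG h x) = x := rfl

instance : CommGroup (Baer h) where
  mul x y := ofG h (h.bmul (toG h x) (toG h y))
  mul_assoc x y z := h.bmul_assoc x y z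
  one := ofG h 1
  one_mul x := h.one_bmul x
  mul_one x := h.bmul_one x
  inv x := ofG h (toG h x)⁻¹
  inv_mul_cancel x := h.inv_bmul x
  mul_comm x y := h.bmul_comm x y

theorem toG_mul (x y : Baer h) : toG h (x * y) = h.bmul (toG h x) (toG h y) := rfl

theorem toG_one : toG h (1 : Baer h) = 1 := rfl

theorem toG_inv (x : Baer h) : toG h x⁻¹ = (toG h x)⁻¹ := rfl

theorem toG_injective : Function.Injective (toG h) := fun _ _ e => e

theorem toG_pow (x : Baer h) (n : ℕ) : toG h (x ^ n) = toG h x ^ n := by
  induction n with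
  | zero => rw [pow_zero, pow_zero]; rfl
  | succ n ih =>
    rw [pow_succ, pow_succ, toG_mul, ih, BaerHyp.bmul_def, BaerHyp.cz_pow_right, BaerHyp.cz_self,
      one_pow, one_pow]
    simp

instance [Finite G] : Finite (Baer h) := inferInstanceAs (Finite G)

theorem card_eq : Nat.card (Baer h) = Nat.card G := rfl

/-- An automorphism of `G` is an automorphism of `Baer h`. -/
def map (φ : G ≃* G) : Baer h ≃* Baer h where
  toFun x := ofG h (φ (toG h x))
  invFun x := ofG h (φ.symm (toG h x))
  left_inv x := φ.symm_apply_apply (toG h x)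
  right_inv x := φ.apply_symm_apply (toG h x)
  map_mul' x y := by
    apply toG_injective
    show φ (h.bmul (toG h x) (toG h y)) = h.bmul (φ (toG h x)) (φ (toG h y))
    rw [BaerHyp.bmul_def, BaerHyp.bmul_def, map_mul, map_mul]
    congr 1
    rw [Subgroup.coe_pow, Subgroup.coe_pow, map_pow, BaerHyp.coe_cz, BaerHyp.coe_cz]
    simp

@[simp] theorem toG_map (φ : G ≃* G) (x : Baer h) : toG h (map h φ x) = φ (toG h x) := rfl

/-- `map` as a monoid homomorphism `MulAut G →* MulAut (Baer h)`. -/
def mapHom : MulAut G →* MulAut (Baer h) where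
  toFun φ := map h φ
  map_one' := by
    apply MulEquiv.ext
    intro x
    rfl
  map_mul' φ ψ := by
    apply MulEquiv.ext
    intro x
    rfl

@[simp] theorem toG_mapHom (φ : MulAut G) (x : Baer h) : toG h (mapHom h φ x) = φ (toG h x) := rfl

end Baer

/-- The Baer hypotheses for a finite group of odd order with central commutators. -/
noncomputable def baerHypOfOdd {G : Type*} [Group G] [Finite G] (hodd : Odd (Nat.card G))
    (hc : ∀ x y : G, cm x y ∈ Subgroup.center G) : BaerHyp G where
  m := (Nat.card G + 1) / 2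
  central := hc
  half x y := by
    obtain ⟨k, hk⟩ := hodd
    have h1 : 2 * ((Nat.card G + 1) / 2) = Nat.card G + 1 := by omega
    rw [h1, pow_succ, pow_card_eq_one', one_mul]

end Cfsg.Agent.Lib.Helper10
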