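import Mathlib

set_option autoImplicit false

namespace Cfsg.Agent.Lib.Helper10

open MulAction

/-- Burnside's lemma on `k`-tuples: the order of `G` divides `∑ g, fix(g)^k`. -/
theorem card_dvd_sum_fix_pow {α : Type*} [Fintype α] [DecidableEq α] (G : Subgroup (Equiv.Perm α))
    [Fintype G] (k : ℕ) :
    (Nat.card G : ℤ) ∣ ∑ g : G, ((Nat.card (fixedBy α (g : Equiv.Perm α)) : ℕ) : ℤ) ^ k := by
  classical
  have hB := MulAction.sum_card_fixedBy_eq_card_orbits_mul_card_group G (Fin k → α)
  have hfix : ∀ g : G, Fintype.card (fixedBy (Fin k → α) g) =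
      (Nat.card (fixedBy α (g : Equiv.Perm α))) ^ k := by
    intro g
    rw [Nat.card_eq_fintype_card, ← Fintype.card_fin k, ← Fintype.card_fun, Fintype.card_fin k]
    apply Fintype.card_congr
    exact
      { toFun := fun f i => ⟨f.1 i, congrFun f.2 i⟩
        invFun := fun f => ⟨fun i => (f i).1, funext fun i => (f i).2⟩
        left_inv := fun f => rfl
        right_inv := fun f => rfl }
  have hsum : (∑ g : G, ((Nat.card (fixedBy α (g : Equiv.Perm α)) : ℕ) : ℤ) ^ k) =
      ((∑ g : G, Fintype.card (fixedBy (Fin k → α) g) : ℕ) : ℤ) := by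
    push_cast
    apply Finset.sum_congr rfl
    intro g _
    rw [hfix g]
    push_cast
    rfl
  rw [hsum, hB, Nat.card_eq_fintype_card]
  push_cast
  exact Dvd.intro_left _ rfl

/-- The order of `G` divides `∑ g, P(fix(g))` for every integer polynomial `P`. -/
theorem card_dvd_sum_eval {α : Type*} [Fintype α] [DecidableEq α] (G : Subgroup (Equiv.Perm α))
    [Fintype G] (P : Polynomial ℤ) :
    (Nat.card G : ℤ) ∣ ∑ g : G, P.eval ((Nat.card (fixedBy α (g : Equiv.Perm α)) : ℕ) : ℤ) := by
  classical
  simp_rw [Polynomial.eval_eq_sum_range]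
  rw [Finset.sum_comm]
  apply Finset.dvd_sum
  intro i _
  rw [← Finset.mul_sum]
  exact Dvd.dvd.mul_left (card_dvd_sum_fix_pow G i) _

/-- Blichfeldt's theorem. -/
theorem blichfeldt {α : Type*} [Fintype α] [DecidableEq α] (G : Subgroup (Equiv.Perm α)) (L : Finset ℕ)
    (hL : ∀ g ∈ G, g ≠ 1 → Nat.card (MulAction.fixedBy α g) ∈ L) :
    Nat.card G ∣ ∏ l ∈ L, (Fintype.card α - l) := by
  classical
  by_cases hbig : ∃ l ∈ L, Fintype.card α ≤ l
  · obtain ⟨l, hl, hle⟩ := hbig
    have : ∏ l ∈ L, (Fintype.card α - l) = 0 :=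
      Finset.prod_eq_zero hl (Nat.sub_eq_zero_of_le hle)
    rw [this]
    exact dvd_zero _
  · push_neg at hbig
    letI : Fintype G := Fintype.ofFinite G
    let P : Polynomial ℤ := ∏ l ∈ L, (Polynomial.X - Polynomial.C (l : ℤ))
    have hP : ∀ x : ℤ, P.eval x = ∏ l ∈ L, (x - (l : ℤ)) := by
      intro x
      simp [P, Polynomial.eval_prod]
    have hdvd := card_dvd_sum_eval G P
    have hone : Nat.card (fixedBy α ((1 : G) : Equiv.Perm α)) = Fintype.card α := by
      rw [Nat.card_eq_fintype_card]
      apply Fintype.card_of_subtype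
      intro x
      simp [MulAction.mem_fixedBy]
    have hsum : ∑ g : G, P.eval ((Nat.card (fixedBy α (g : Equiv.Perm α)) : ℕ) : ℤ) =
        ((∏ l ∈ L, (Fintype.card α - l) : ℕ) : ℤ) := by
      rw [Finset.sum_eq_single (1 : G)]
      · rw [hP, hone]
        push_cast
        apply Finset.prod_congr rfl
        intro l hl
        rw [Nat.cast_sub (hbig l hl).le]
      · intro g _ hg
        rw [hP]
        have hg' : (g : Equiv.Perm α) ≠ 1 := by
          intro h
          apply hg
          exact Subtype.ext h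
        have hmem := hL g g.2 hg'
        exact Finset.prod_eq_zero hmem (sub_self _)
      · intro h
        exact absurd (Finset.mem_univ _) h
    rw [hsum] at hdvd
    exact Int.natCast_dvd_natCast.1 hdvd

end Cfsg.Agent.Lib.Helper10
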