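import Mathlib

set_option autoImplicit false

/-!
# The Brauer–Wielandt order formula (abstract form, for `q`-groups)

For commuting automorphisms `σ τ` of a finite `q`-group `Q` with `σ ^ p = τ ^ p = 1`, `p ≠ q`:
`|Q| * |C_Q(σ, τ)| ^ p = |C_Q(τ)| * ∏ i < p, |C_Q(σ τ ^ i)|`.
-/

namespace Cfsg.Agent.Lib.Helper10.BW

open Subgroup

universe u

section basic

variable {Q : Type*} [Group Q]

/-- Common fixed points of two automorphisms. -/
def Fx (φ ψ : MulAut Q) : Subgroup Q where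
  carrier := {x | φ x = x ∧ ψ x = x}
  mul_mem' := by
    rintro x y ⟨h1, h2⟩ ⟨h3, h4⟩
    exact ⟨by rw [map_mul, h1, h3], by rw [map_mul, h2, h4]⟩
  one_mem' := ⟨map_one _, map_one _⟩
  inv_mem' := by
    rintro x ⟨h1, h2⟩
    exact ⟨by rw [map_inv, h1], by rw [map_inv, h2]⟩

theorem mem_Fx {φ ψ : MulAut Q} {x : Q} : x ∈ Fx φ ψ ↔ φ x = x ∧ ψ x = x := Iff.rfl

theorem pow_apply_of_fixed {φ : MulAut Q} {x : Q} (h : φ x = x) (k : ℕ) : (φ ^ k) x = x := by
  induction k with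
  | zero => simp
  | succ k ih => rw [pow_succ, MulAut.mul_apply, h, ih]

/-- Fixed point in a coset: one automorphism. -/
theorem lift1 [Finite Q] (p : ℕ) [Fact p.Prime] (M : Subgroup Q) (φ : MulAut Q) (hφ : φ ^ p = 1)
    (hM : ∀ m ∈ M, φ m ∈ M) (x : Q) (hx : x⁻¹ * φ x ∈ M) (hcop : ¬ p ∣ Nat.card M) :
    ∃ m ∈ M, φ (x * m) = x * m := by
  classical
  let g : Function.End M := fun m => ⟨x⁻¹ * φ (x * m), by
    have : x⁻¹ * φ (x * m) = (x⁻¹ * φ x) * φ m := by rw [map_mul]; group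
    rw [this]; exact M.mul_mem hx (hM _ m.2)⟩
  have hg : ∀ k : ℕ, ∀ m : M, (((g ^ k) m : M) : Q) = x⁻¹ * (φ ^ k) (x * m) := by
    intro k
    induction k with
    | zero =>
      intro m
      rw [pow_zero, pow_zero]
      show (m : Q) = x⁻¹ * (x * m)
      group
    | succ k ih =>
      intro m
      rw [pow_succ']
      show x⁻¹ * φ (x * ((g ^ k) m : M)) = _
      rw [ih m, pow_succ', MulAut.mul_apply]
      congr 2
      group
  have hgp : g ^ p ^ 1 = 1 := by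
    rw [pow_one]
    funext m
    apply Subtype.ext
    rw [hg p m, hφ]
    show x⁻¹ * (x * m) = (m : Q)
    group
  haveI : Fintype M := Fintype.ofFinite M
  have h := Equiv.Perm.card_fixedPoints_modEq (f := g) (p := p) (n := 1) hgp
  have hne : Fintype.card (Function.fixedPoints g) ≠ 0 := by
    intro h0
    rw [h0] at h
    apply hcop
    rw [Nat.card_eq_fintype_card]
    exact (Nat.modEq_zero_iff_dvd.mp h)
  obtain ⟨⟨m, hm⟩⟩ := Fintype.card_pos_iff.mp (Nat.pos_of_ne_zero hne)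
  refine ⟨m, m.2, ?_⟩
  have h1 : x⁻¹ * φ (x * m) = m := congrArg Subtype.val hm
  calc φ (x * m) = x * (x⁻¹ * φ (x * m)) := by group
    _ = x * m := by rw [h1]

/-- Fixed point in a coset: two commuting automorphisms. -/
theorem lift2 [Finite Q] (p : ℕ) [Fact p.Prime] (N : Subgroup Q) (φ ψ : MulAut Q) (hφ : φ ^ p = 1)
    (hψ : ψ ^ p = 1) (hc : Commute φ ψ)
    (hNφ : ∀ m ∈ N, φ m ∈ N) (hNψ : ∀ m ∈ N, ψ m ∈ N) (x : Q) (hxφ : x⁻¹ * φ x ∈ N)
    (hxψ : x⁻¹ * ψ x ∈ N) (hcop : (Nat.card N).Coprime p) :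
    ∃ n ∈ N, φ (x * n) = x * n ∧ ψ (x * n) = x * n := by
  have hp : p.Prime := Fact.out
  have hcomm : ∀ y, φ (ψ y) = ψ (φ y) := fun y => by
    have := congrArg (fun f : MulAut Q => f y) hc.eq
    simpa [MulAut.mul_apply] using this
  have hndvd : ∀ M : Subgroup Q, M ≤ N → ¬ p ∣ Nat.card M := by
    intro M hMN h
    have h1 : p ∣ Nat.card N := h.trans (Subgroup.card_dvd_of_le hMN)
    have h2 : p ∣ Nat.gcd (Nat.card N) p := Nat.dvd_gcd h1 (dvd_refl p)
    rw [hcop] at h2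
    exact hp.one_lt.ne' (Nat.dvd_one.mp h2)
  obtain ⟨n₁, hn₁, h1⟩ := lift1 p N ψ hψ hNψ x hxψ (hndvd N le_rfl)
  -- second stage
  have hM : ∀ m ∈ N ⊓ Fx ψ ψ, φ m ∈ N ⊓ Fx ψ ψ := by
    rintro m ⟨hmN, hmψ, -⟩
    refine ⟨hNφ m hmN, ?_, ?_⟩ <;>
    · show ψ (φ m) = φ m
      rw [← hcomm, hmψ]
  have hx₁ : (x * n₁)⁻¹ * φ (x * n₁) ∈ N ⊓ Fx ψ ψ := by
    have hN1 : (x * n₁)⁻¹ * φ (x * n₁) ∈ N := by
      have : (x * n₁)⁻¹ * φ (x * n₁) = n₁⁻¹ * (x⁻¹ * φ x) * φ n₁ := by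
        rw [map_mul]; group
      rw [this]
      exact N.mul_mem (N.mul_mem (N.inv_mem hn₁) hxφ) (hNφ _ hn₁)
    have hF : ψ ((x * n₁)⁻¹ * φ (x * n₁)) = (x * n₁)⁻¹ * φ (x * n₁) := by
      rw [map_mul, map_inv, ← hcomm, h1]
    exact ⟨hN1, hF, hF⟩
  obtain ⟨m, hm, h2⟩ := lift1 p (N ⊓ Fx ψ ψ) φ hφ hM (x * n₁) hx₁ (hndvd _ inf_le_left)
  refine ⟨n₁ * m, N.mul_mem hn₁ hm.1, ?_, ?_⟩
  · rw [← mul_assoc]; exact h2
  · rw [← mul_assoc, map_mul, h1, hm.2.1]

/-- `φ'` is a restriction of `φ` to `N`. -/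
def IsRes (N : Subgroup Q) (φ' : MulAut N) (φ : MulAut Q) : Prop :=
  ∀ y : N, ((φ' y : N) : Q) = φ y

theorem IsRes.mul {N : Subgroup Q} {φ' ψ' : MulAut N} {φ ψ : MulAut Q} (h1 : IsRes N φ' φ)
    (h2 : IsRes N ψ' ψ) : IsRes N (φ' * ψ') (φ * ψ) := by
  intro y
  rw [MulAut.mul_apply, MulAut.mul_apply, h1, h2]

theorem IsRes.one {N : Subgroup Q} : IsRes N 1 1 := fun _ => rfl

theorem IsRes.pow {N : Subgroup Q} {φ' : MulAut N} {φ : MulAut Q} (h : IsRes N φ' φ) (k : ℕ) :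
    IsRes N (φ' ^ k) (φ ^ k) := by
  induction k with
  | zero => rw [pow_zero, pow_zero]; exact IsRes.one
  | succ k ih => rw [pow_succ, pow_succ]; exact ih.mul h

theorem IsRes.unique {N : Subgroup Q} {φ' ψ' : MulAut N} {φ : MulAut Q} (h1 : IsRes N φ' φ)
    (h2 : IsRes N ψ' φ) : φ' = ψ' := by
  apply MulEquiv.ext
  intro y
  apply Subtype.ext
  rw [h1, h2]

/-- `φq` is induced by `φ` on `Q ⧸ N`. -/
def IsQuot (N : Subgroup Q) [N.Normal] (φq : MulAut (Q ⧸ N)) (φ : MulAut Q) : Prop :=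
  ∀ x : Q, φq (x : Q ⧸ N) = ((φ x : Q) : Q ⧸ N)

theorem IsQuot.mul {N : Subgroup Q} [N.Normal] {φ' ψ' : MulAut (Q ⧸ N)} {φ ψ : MulAut Q}
    (h1 : IsQuot N φ' φ) (h2 : IsQuot N ψ' ψ) : IsQuot N (φ' * ψ') (φ * ψ) := by
  intro y
  rw [MulAut.mul_apply, MulAut.mul_apply, h2, h1]

theorem IsQuot.one {N : Subgroup Q} [N.Normal] : IsQuot N 1 1 := fun _ => rfl

theorem IsQuot.pow {N : Subgroup Q} [N.Normal] {φ' : MulAut (Q ⧸ N)} {φ : MulAut Q}
    (h : IsQuot N φ' φ) (k : ℕ) : IsQuot N (φ' ^ k) (φ ^ k) := by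
  induction k with
  | zero => rw [pow_zero, pow_zero]; exact IsQuot.one
  | succ k ih => rw [pow_succ, pow_succ]; exact ih.mul h

theorem IsQuot.unique {N : Subgroup Q} [N.Normal] {φ' ψ' : MulAut (Q ⧸ N)} {φ : MulAut Q}
    (h1 : IsQuot N φ' φ) (h2 : IsQuot N ψ' φ) : φ' = ψ' := by
  apply MulEquiv.ext
  intro y
  obtain ⟨x, rfl⟩ := QuotientGroup.mk_surjective y
  rw [h1, h2]

theorem card_Fx_res [Finite Q] {N : Subgroup Q} {φ' ψ' : MulAut N} {φ ψ : MulAut Q}
    (h1 : IsRes N φ' φ) (h2 : IsRes N ψ' ψ) :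
    Nat.card (Fx φ' ψ') = Nat.card ↥(Fx φ ψ ⊓ N) := by
  have : (Fx φ' ψ').map N.subtype = Fx φ ψ ⊓ N := by
    ext x
    constructor
    · rintro ⟨y, ⟨hy1, hy2⟩, rfl⟩
      refine ⟨⟨?_, ?_⟩, y.2⟩
      · show φ (y : Q) = y
        rw [← h1 y, hy1]
      · show ψ (y : Q) = y
        rw [← h2 y, hy2]
    · rintro ⟨⟨hx1, hx2⟩, hxN⟩
      refine ⟨⟨x, hxN⟩, ⟨?_, ?_⟩, rfl⟩
      · apply Subtype.ext
        rw [h1]; exact hx1
      · apply Subtype.ext
        rw [h2]; exact hx2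
  rw [← this, Subgroup.card_map_of_injective N.subtype_injective]

/-- Multiplicativity of the number of common fixed points along an invariant normal subgroup
of order prime to `p`. -/
theorem card_Fx_mul [Finite Q] (p : ℕ) [Fact p.Prime] (N : Subgroup Q) [N.Normal]
    (φ ψ : MulAut Q) (hφ : φ ^ p = 1) (hψ : ψ ^ p = 1) (hc : Commute φ ψ)
    (hNφ : ∀ m ∈ N, φ m ∈ N) (hNψ : ∀ m ∈ N, ψ m ∈ N) (hcop : (Nat.card N).Coprime p)
    (φ' ψ' : MulAut N) (hφ' : IsRes N φ' φ) (hψ' : IsRes N ψ' ψ)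
    (φq ψq : MulAut (Q ⧸ N)) (hφq : IsQuot N φq φ) (hψq : IsQuot N ψq ψ) :
    Nat.card (Fx φ ψ) = Nat.card (Fx φ' ψ') * Nat.card (Fx φq ψq) := by
  let f : ↥(Fx φ ψ) →* Q ⧸ N := (QuotientGroup.mk' N).comp (Fx φ ψ).subtype
  have hrange : f.range = Fx φq ψq := by
    ext y
    constructor
    · rintro ⟨x, rfl⟩
      refine ⟨?_, ?_⟩
      · show φq ((x : Q) : Q ⧸ N) = ((x : Q) : Q ⧸ N)
        rw [hφq, x.2.1]
      · show ψq ((x : Q) : Q ⧸ N) = ((x : Q) : Q ⧸ N)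
        rw [hψq, x.2.2]
    · rintro ⟨hy1, hy2⟩
      obtain ⟨x, rfl⟩ := QuotientGroup.mk_surjective y
      rw [hφq] at hy1
      rw [hψq] at hy2
      have h1 : x⁻¹ * φ x ∈ N := QuotientGroup.eq.mp hy1.symm
      have h2 : x⁻¹ * ψ x ∈ N := QuotientGroup.eq.mp hy2.symm
      obtain ⟨n, hn, hn1, hn2⟩ := lift2 p N φ ψ hφ hψ hc hNφ hNψ x h1 h2 hcop
      refine ⟨⟨x * n, hn1, hn2⟩, ?_⟩
      show ((x * n : Q) : Q ⧸ N) = (x : Q ⧸ N)
      rw [QuotientGroup.eq]
      have : (x * n)⁻¹ * x = n⁻¹ := by group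
      rw [this]
      exact N.inv_mem hn
  have hker : Nat.card f.ker = Nat.card ↥(Fx φ ψ ⊓ N) := by
    have : f.ker.map (Fx φ ψ).subtype = Fx φ ψ ⊓ N := by
      ext x
      constructor
      · rintro ⟨y, hy, rfl⟩
        refine ⟨y.2, ?_⟩
        have : ((y : Q) : Q ⧸ N) = 1 := hy
        exact (QuotientGroup.eq_one_iff _).mp this
      · rintro ⟨hx1, hx2⟩
        refine ⟨⟨x, hx1⟩, ?_, rfl⟩
        show ((x : Q) : Q ⧸ N) = 1
        exact (QuotientGroup.eq_one_iff _).mpr hx2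
    rw [← this, Subgroup.card_map_of_injective (Fx φ ψ).subtype_injective]
  rw [card_Fx_res hφ' hψ', ← hker, ← hrange, ← Subgroup.index_ker, Subgroup.card_mul_index]

end basic

section fpf

variable {V : Type*} [CommGroup V]

/-- The norm map of `θ` (product over `p` consecutive powers). -/
def W (p : ℕ) (θ : MulAut V) : V →* V :=
  ∏ k ∈ Finset.range p, ((θ ^ k : MulAut V) : V ≃* V).toMonoidHom

theorem W_apply (p : ℕ) (θ : MulAut V) (v : V) :
    W p θ v = ∏ k ∈ Finset.range p, (θ ^ k) v := by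
  simp [W]

theorem W_fixed (p : ℕ) (θ : MulAut V) (hθ : θ ^ p = 1) (v : V) : θ (W p θ v) = W p θ v := by
  rw [W_apply, map_prod]
  have h1 : ∀ k ∈ Finset.range p, θ ((θ ^ k) v) = (θ ^ (k + 1)) v := by
    intro k _
    rw [pow_succ', MulAut.mul_apply]
  rw [Finset.prod_congr rfl h1]
  have h2 := Finset.prod_range_succ (fun k => (θ ^ k) v) p
  have h3 := Finset.prod_range_succ' (fun k => (θ ^ k) v) p
  rw [h2] at h3
  simp only [hθ, pow_zero, MulAut.one_apply] at h3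
  exact (mul_right_cancel h3).symm

theorem W_eq_one (p : ℕ) (θ : MulAut V) (hθ : θ ^ p = 1) (hfix : ∀ x, θ x = x → x = 1) (v : V) :
    W p θ v = 1 := hfix _ (W_fixed p θ hθ v)

theorem W_of_fixed (p : ℕ) (θ : MulAut V) (c : V) (hc : θ c = c) : W p θ c = c ^ p := by
  rw [W_apply, Finset.prod_congr rfl (fun k _ => pow_apply_of_fixed hc k), Finset.prod_const,
    Finset.card_range]

theorem fixed_of_pow_fixed (p : ℕ) [Fact p.Prime] (τ : MulAut V) (hτ : τ ^ p = 1) (d : ℕ)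
    (hd0 : 0 < d) (hdp : d < p) (x : V) (hx : (τ ^ d) x = x) : τ x = x := by
  have hp : p.Prime := Fact.out
  have hcop : Nat.Coprime d p :=
    (Nat.Coprime.symm ((Nat.Prime.coprime_iff_not_dvd hp).2 (Nat.not_dvd_of_pos_of_lt hd0 hdp)))
  obtain ⟨m, -, hm⟩ := Nat.exists_mul_mod_eq_one_of_coprime hcop hp.one_lt
  have h1 : (τ ^ d) ^ m = τ := by
    rw [← pow_mul, pow_eq_pow_mod (d * m) hτ, hm, pow_one]
  rw [← h1]
  exact pow_apply_of_fixed hx m

theorem inv_fixed_iff (θ : MulAut V) (x : V) : θ⁻¹ x = x ↔ θ x = x := by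
  constructor
  · intro h
    have h2 : θ (θ⁻¹ x) = θ x := by rw [h]
    rw [← MulAut.mul_apply, mul_inv_cancel, MulAut.one_apply] at h2
    exact h2.symm
  · intro h
    have h2 : θ⁻¹ (θ x) = θ⁻¹ x := by rw [h]
    rw [← MulAut.mul_apply, inv_mul_cancel, MulAut.one_apply] at h2
    exact h2.symm

/-- The fixed-point-free abelian case: `V` is the direct product of the `C_V(σ τ ^ i)`. -/
theorem bw_fpf [Finite V] (p : ℕ) [Fact p.Prime] (σ τ : MulAut V) (hσ : σ ^ p = 1)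
    (hτ : τ ^ p = 1) (hc : Commute σ τ) (hfix : ∀ x, τ x = x → x = 1)
    (hcop : (Nat.card V).Coprime p) :
    Nat.card V = ∏ i ∈ Finset.range p, Nat.card (Fx (σ * τ ^ i) (σ * τ ^ i)) := by
  have hp : p.Prime := Fact.out
  let ρ : ℕ → MulAut V := fun i => σ * τ ^ i
  have hρdef : ∀ i, ρ i = σ * τ ^ i := fun _ => rfl
  have hρp : ∀ i, ρ i ^ p = 1 := by
    intro i
    rw [hρdef, (hc.pow_right i).mul_pow, hσ, ← pow_mul, mul_comm, pow_mul, hτ, one_pow, one_mul]
  have hpowp : ∀ d, (τ ^ d) ^ p = 1 := fun d => by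
    rw [← pow_mul, mul_comm, pow_mul, hτ, one_pow]
  have hfixd : ∀ d, 0 < d → d < p → ∀ x, (τ ^ d) x = x → x = 1 := fun d h0 h1 x hx =>
    hfix x (fixed_of_pow_fixed p τ hτ d h0 h1 x hx)
  -- (A) product of norms
  have hA : ∀ v : V, ∏ i ∈ Finset.range p, W p (ρ i) v = v ^ p := by
    intro v
    have h1 : ∀ i ∈ Finset.range p,
        W p (ρ i) v = ∏ k ∈ Finset.range p, (σ ^ k) (((τ ^ k) ^ i) v) := by
      intro i _
      rw [W_apply]
      apply Finset.prod_congr rfl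
      intro k _
      rw [hρdef, (hc.pow_right i).mul_pow, MulAut.mul_apply, ← pow_mul, ← pow_mul, mul_comm i k]
    rw [Finset.prod_congr rfl h1, Finset.prod_comm]
    have h2 : ∀ k ∈ Finset.range p,
        ∏ i ∈ Finset.range p, (σ ^ k) (((τ ^ k) ^ i) v) = (σ ^ k) (W p (τ ^ k) v) := by
      intro k _
      rw [W_apply, map_prod]
    rw [Finset.prod_congr rfl h2]
    rw [Finset.prod_eq_single_of_mem 0 (Finset.mem_range.mpr hp.pos)]
    · rw [pow_zero, pow_zero, MulAut.one_apply, W_of_fixed p 1 v rfl]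
    · intro k hk hk0
      rw [W_eq_one p (τ ^ k) (hpowp k)
        (hfixd k (Nat.pos_of_ne_zero hk0) (Finset.mem_range.mp hk)) v, map_one]
  -- shift identity
  have hshift : ∀ i d, ρ (i + d) = τ ^ d * ρ i := by
    intro i d
    rw [hρdef, hρdef, add_comm, pow_add, ← mul_assoc, (hc.pow_right d).eq, mul_assoc]
  have hcomm : ∀ i d, Commute (ρ i) (τ ^ d) := by
    intro i d
    rw [hρdef]
    exact (hc.pow_right d).mul_left ((Commute.refl τ).pow_pow i d)
  -- (B) norm j on C_i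
  have hB : ∀ i j, i < p → j < p → i ≠ j → ∀ c : V, ρ i c = c → W p (ρ j) c = 1 := by
    intro i j hi hj hij c hc'
    obtain ⟨θ, hθc, hθp, hθfix, hθ⟩ : ∃ θ : MulAut V, Commute (ρ i) θ ∧ θ ^ p = 1 ∧
        (∀ x, θ x = x → x = 1) ∧ ρ j = θ * ρ i := by
      rcases lt_or_gt_of_ne hij with h | h
      · refine ⟨τ ^ (j - i), hcomm i _, hpowp _, hfixd _ (by omega) (by omega), ?_⟩
        rw [← hshift, Nat.add_sub_cancel' h.le]
      · refine ⟨(τ ^ (i - j))⁻¹, (hcomm i _).inv_right, by rw [inv_pow, hpowp, inv_one], ?_, ?_⟩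
        · intro x hx
          exact hfixd _ (by omega) (by omega) x ((inv_fixed_iff _ x).mp hx)
        · have e : ρ i = τ ^ (i - j) * ρ j := by
            rw [← hshift, Nat.add_sub_cancel' h.le]
          rw [e, inv_mul_cancel_left]
    rw [W_apply]
    have h3 : ∀ k ∈ Finset.range p, (ρ j ^ k) c = (θ ^ k) c := by
      intro k _
      rw [hθ, (hθc.symm).mul_pow, MulAut.mul_apply, pow_apply_of_fixed hc' k]
    rw [Finset.prod_congr rfl h3, ← W_apply, W_eq_one p θ hθp hθfix]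
  classical
  let C : Fin p → Subgroup V := fun i => Fx (ρ i) (ρ i)
  let Ψ : (∀ i : Fin p, C i) → V := fun c => ∏ i, (c i : V)
  have hΦΨ : ∀ (c : ∀ i : Fin p, C i) (j : Fin p), W p (ρ j) (Ψ c) = (c j : V) ^ p := by
    intro c j
    show W p (ρ j) (∏ i, (c i : V)) = _
    rw [map_prod, Finset.prod_eq_single j]
    · exact W_of_fixed p (ρ j) _ (c j).2.1
    · intro i _ hij
      exact hB i j i.2 j.2 (fun h => hij (Fin.ext h)) _ (c i).2.1
    · intro h
      exact absurd (Finset.mem_univ j) h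
  have hinj : Function.Injective Ψ := by
    intro c c' h
    funext j
    apply Subtype.ext
    have h1 := hΦΨ c j
    rw [h, hΦΨ c' j] at h1
    exact (powCoprime hcop).injective h1.symm
  have hsurj : Function.Surjective Ψ := by
    intro v
    obtain ⟨u, hu⟩ := (powCoprime hcop).surjective v
    refine ⟨fun i => ⟨W p (ρ i) u, W_fixed p (ρ i) (hρp i) u, W_fixed p (ρ i) (hρp i) u⟩, ?_⟩
    show ∏ i : Fin p, W p (ρ i) u = v
    rw [Fin.prod_univ_eq_prod_range (fun i => W p (ρ i) u) p, hA u]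
    exact hu
  have hcard := Nat.card_congr (Equiv.ofBijective Ψ ⟨hinj, hsurj⟩)
  rw [← hcard, Nat.card_pi, Fin.prod_univ_eq_prod_range (fun i => Nat.card (Fx (ρ i) (ρ i))) p]

end fpf

section main

/-- The Brauer–Wielandt equation. -/
def BWeq (p : ℕ) (Q : Type*) [Group Q] (σ τ : MulAut Q) : Prop :=
  Nat.card Q * Nat.card (Fx σ τ) ^ p =
    Nat.card (Fx τ τ) * ∏ i ∈ Finset.range p, Nat.card (Fx (σ * τ ^ i) (σ * τ ^ i))

variable {Q : Type*} [Group Q]

theorem pow_mem_of_inv (N : Subgroup Q) (φ : MulAut Q) (h : ∀ m ∈ N, φ m ∈ N) (k : ℕ) :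
    ∀ m ∈ N, (φ ^ k) m ∈ N := by
  induction k with
  | zero => intro m hm; simpa using hm
  | succ k ih =>
    intro m hm
    rw [pow_succ', MulAut.mul_apply]
    exact h _ (ih m hm)

theorem map_eq_of_inv [Finite Q] (φ : MulAut Q) (N : Subgroup Q) (h : ∀ m ∈ N, φ m ∈ N) :
    N.map (φ : Q ≃* Q).toMonoidHom = N := by
  apply Subgroup.eq_of_le_of_card_ge
  · rintro _ ⟨x, hx, rfl⟩
    exact h x hx
  · rw [Subgroup.card_map_of_injective (MulEquiv.injective φ)]

/-- Restriction of an automorphism to an invariant subgroup. -/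
noncomputable def resA [Finite Q] (φ : MulAut Q) (N : Subgroup Q) (h : ∀ m ∈ N, φ m ∈ N) :
    MulAut N :=
  let f : N →* N :=
    { toFun := fun y => ⟨φ y, h y y.2⟩
      map_one' := Subtype.ext (map_one φ)
      map_mul' := fun a b => Subtype.ext (map_mul φ (a : Q) (b : Q)) }
  have hinj : Function.Injective f := by
    intro a b hab
    have : φ (a : Q) = φ (b : Q) := congrArg Subtype.val hab
    exact Subtype.ext (MulEquiv.injective φ this)
  MulEquiv.ofBijective f ⟨hinj, Finite.injective_iff_surjective.mp hinj⟩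

theorem isRes_resA [Finite Q] (φ : MulAut Q) (N : Subgroup Q) (h : ∀ m ∈ N, φ m ∈ N) :
    IsRes N (resA φ N h) φ := fun _ => rfl

/-- The automorphism induced on the quotient by an invariant normal subgroup. -/
noncomputable def quotA [Finite Q] (φ : MulAut Q) (N : Subgroup Q) [N.Normal]
    (h : ∀ m ∈ N, φ m ∈ N) : MulAut (Q ⧸ N) :=
  QuotientGroup.congr N N φ (map_eq_of_inv φ N h)

theorem isQuot_quotA [Finite Q] (φ : MulAut Q) (N : Subgroup Q) [N.Normal]
    (h : ∀ m ∈ N, φ m ∈ N) : IsQuot N (quotA φ N h) φ := fun _ => rfl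

theorem mul_pow_eq_one (p : ℕ) (σ τ : MulAut Q) (hσ : σ ^ p = 1) (hτ : τ ^ p = 1)
    (hc : Commute σ τ) (i : ℕ) : (σ * τ ^ i) ^ p = 1 := by
  rw [(hc.pow_right i).mul_pow, hσ, ← pow_mul, mul_comm, pow_mul, hτ, one_pow, one_mul]

/-- Inductive step along an invariant normal subgroup. -/
theorem bw_step [Finite Q] (p : ℕ) [Fact p.Prime] (N : Subgroup Q) [N.Normal] (σ τ : MulAut Q)
    (hσ : σ ^ p = 1) (hτ : τ ^ p = 1) (hc : Commute σ τ)
    (hNσ : ∀ m ∈ N, σ m ∈ N) (hNτ : ∀ m ∈ N, τ m ∈ N) (hcop : (Nat.card N).Coprime p)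
    (σ' τ' : MulAut N) (hσ' : IsRes N σ' σ) (hτ' : IsRes N τ' τ)
    (σq τq : MulAut (Q ⧸ N)) (hσq : IsQuot N σq σ) (hτq : IsQuot N τq τ)
    (h1 : BWeq p N σ' τ') (h2 : BWeq p (Q ⧸ N) σq τq) : BWeq p Q σ τ := by
  have e0 := Subgroup.card_eq_card_quotient_mul_card_subgroup N
  have e1 := card_Fx_mul p N σ τ hσ hτ hc hNσ hNτ hcop σ' τ' hσ' hτ' σq τq hσq hτq
  have e2 := card_Fx_mul p N τ τ hτ hτ (Commute.refl τ) hNτ hNτ hcop τ' τ' hτ' hτ' τq τq hτq hτq
  have e3 : ∀ i ∈ Finset.range p, Nat.card (Fx (σ * τ ^ i) (σ * τ ^ i)) =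
      Nat.card (Fx (σ' * τ' ^ i) (σ' * τ' ^ i)) * Nat.card (Fx (σq * τq ^ i) (σq * τq ^ i)) := by
    intro i _
    have hinv : ∀ m ∈ N, (σ * τ ^ i) m ∈ N := by
      intro m hm
      rw [MulAut.mul_apply]
      exact hNσ _ (pow_mem_of_inv N τ hNτ i m hm)
    exact card_Fx_mul p N (σ * τ ^ i) (σ * τ ^ i) (mul_pow_eq_one p σ τ hσ hτ hc i)
      (mul_pow_eq_one p σ τ hσ hτ hc i) (Commute.refl _) hinv hinv hcop _ _
      (hσ'.mul (hτ'.pow i)) (hσ'.mul (hτ'.pow i)) _ _ (hσq.mul (hτq.pow i)) (hσq.mul (hτq.pow i))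
  unfold BWeq at h1 h2 ⊢
  rw [Finset.prod_congr rfl e3, Finset.prod_mul_distrib, e0, e1, e2]
  calc Nat.card (Q ⧸ N) * Nat.card N * (Nat.card (Fx σ' τ') * Nat.card (Fx σq τq)) ^ p
      = (Nat.card N * Nat.card (Fx σ' τ') ^ p) * (Nat.card (Q ⧸ N) * Nat.card (Fx σq τq) ^ p) := by
        ring
    _ = _ := by rw [h1, h2]; ring

/-- The case where `τ` acts trivially. -/
theorem bw_trivial [Finite Q] (p : ℕ) (σ τ : MulAut Q) (hτ : ∀ x, τ x = x) : BWeq p Q σ τ := by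
  have hτ1 : τ = 1 := MulEquiv.ext hτ
  subst hτ1
  have h1 : Fx σ (1 : MulAut Q) = Fx σ σ := by
    ext x
    simp [mem_Fx]
  have h2 : Fx (1 : MulAut Q) 1 = ⊤ := by
    ext x
    simp [mem_Fx]
  unfold BWeq
  simp only [one_pow, mul_one]
  rw [h1, h2, Subgroup.card_top, Finset.prod_const, Finset.card_range]

theorem center_inv (φ : MulAut Q) : ∀ m ∈ Subgroup.center Q, φ m ∈ Subgroup.center Q := by
  intro m hm
  rw [Subgroup.mem_center_iff] at hm ⊢
  intro g
  obtain ⟨g', rfl⟩ := MulEquiv.surjective φ g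
  rw [← map_mul, ← map_mul, hm g']

/-- **Brauer–Wielandt formula** for commuting automorphisms `σ, τ` of order dividing `p` of a
finite `q`-group of order prime to `p`. -/
theorem bw_abs (p q : ℕ) [Fact p.Prime] [Fact q.Prime] : ∀ n : ℕ, ∀ (Q : Type u) [Group Q]
    [Finite Q], Nat.card Q = n → IsPGroup q Q → (Nat.card Q).Coprime p → ∀ σ τ : MulAut Q,
    σ ^ p = 1 → τ ^ p = 1 → Commute σ τ → BWeq p Q σ τ := by
  intro n
  induction n using Nat.strong_induction_on with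
  | _ n ih =>
  intro Q _ _ hn hQ hcop σ τ hσ hτ hc
  have hcomm : ∀ y, σ (τ y) = τ (σ y) := fun y => by
    have := congrArg (fun f : MulAut Q => f y) hc.eq
    simpa [MulAut.mul_apply] using this
  have step : ∀ N : Subgroup Q, N.Normal → (∀ m ∈ N, σ m ∈ N) → (∀ m ∈ N, τ m ∈ N) → N ≠ ⊥ →
      N ≠ ⊤ → BWeq p Q σ τ := by
    intro N hNn hNσ hNτ hNbot hNtop
    haveI := hNn
    have hcopN : (Nat.card N).Coprime p :=
      Nat.Coprime.coprime_dvd_left (Subgroup.card_subgroup_dvd_card N) hcop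
    have hcopq : (Nat.card (Q ⧸ N)).Coprime p :=
      Nat.Coprime.coprime_dvd_left (Subgroup.card_quotient_dvd_card N) hcop
    have hltN : Nat.card N < n := by
      rw [← hn]
      refine lt_of_le_of_ne (Subgroup.card_le_card_group N) ?_
      intro h
      exact hNtop ((Subgroup.card_eq_iff_eq_top N).mp h)
    have hltq : Nat.card (Q ⧸ N) < n := by
      have e0 := Subgroup.card_eq_card_quotient_mul_card_subgroup N
      have h1 : 1 < Nat.card N := (Subgroup.one_lt_card_iff_ne_bot N).mpr hNbot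
      have h2 : 0 < Nat.card (Q ⧸ N) := Nat.card_pos
      rw [← hn, e0]
      nlinarith
    have hσ' := isRes_resA σ N hNσ
    have hτ' := isRes_resA τ N hNτ
    have hσq := isQuot_quotA σ N hNσ
    have hτq := isQuot_quotA τ N hNτ
    have r1 : resA σ N hNσ ^ p = 1 := by
      have := hσ'.pow p
      rw [hσ] at this
      exact this.unique IsRes.one
    have r2 : resA τ N hNτ ^ p = 1 := by
      have := hτ'.pow p
      rw [hτ] at this
      exact this.unique IsRes.one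
    have r3 : Commute (resA σ N hNσ) (resA τ N hNτ) := by
      have h1 := hσ'.mul hτ'
      have h2 := hτ'.mul hσ'
      rw [hc.eq] at h1
      exact h1.unique h2
    have q1 : quotA σ N hNσ ^ p = 1 := by
      have := hσq.pow p
      rw [hσ] at this
      exact this.unique IsQuot.one
    have q2 : quotA τ N hNτ ^ p = 1 := by
      have := hτq.pow p
      rw [hτ] at this
      exact this.unique IsQuot.one
    have q3 : Commute (quotA σ N hNσ) (quotA τ N hNτ) := by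
      have h1 := hσq.mul hτq
      have h2 := hτq.mul hσq
      rw [hc.eq] at h1
      exact h1.unique h2
    have b1 := ih _ hltN N rfl (hQ.to_subgroup N) hcopN _ _ r1 r2 r3
    have b2 := ih _ hltq (Q ⧸ N) rfl (hQ.to_quotient N) hcopq _ _ q1 q2 q3
    exact bw_step p N σ τ hσ hτ hc hNσ hNτ hcopN _ _ hσ' hτ' _ _ hσq hτq b1 b2
  by_cases hab : ∀ x y : Q, x * y = y * x
  · -- abelian case
    have hnormal : ∀ N : Subgroup Q, N.Normal := fun N =>
      ⟨fun m hm g => by rw [hab g m, mul_assoc, mul_inv_cancel, mul_one]; exact hm⟩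
    by_cases htop : Fx τ τ = ⊤
    · apply bw_trivial
      intro x
      have : x ∈ Fx τ τ := by rw [htop]; exact Subgroup.mem_top x
      exact this.1
    by_cases hbot : Fx τ τ = ⊥
    · letI : CommGroup Q := { ‹Group Q› with mul_comm := hab }
      have hfix : ∀ x, τ x = x → x = 1 := by
        intro x hx
        have : x ∈ Fx τ τ := ⟨hx, hx⟩
        rw [hbot] at this
        exact Subgroup.mem_bot.mp this
      have h1 := bw_fpf p σ τ hσ hτ hc hfix hcop
      have h2 : Fx σ τ = ⊥ := by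
        rw [eq_bot_iff]
        intro x hx
        exact Subgroup.mem_bot.mpr (hfix x hx.2)
      unfold BWeq
      rw [h2, hbot, Subgroup.card_bot, one_pow, mul_one, one_mul]
      exact h1
    · refine step (Fx τ τ) (hnormal _) ?_ ?_ hbot htop
      · rintro m ⟨hm, -⟩
        refine ⟨?_, ?_⟩ <;>
        · show τ (σ m) = σ m
          rw [← hcomm, hm]
      · rintro m ⟨hm, -⟩
        refine ⟨?_, ?_⟩ <;>
        · show τ (τ m) = τ m
          rw [hm, hm]
  · -- nonabelian case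
    obtain ⟨x, hx'⟩ := not_forall.mp hab
    obtain ⟨y, hxy⟩ := not_forall.mp hx'
    haveI : Nontrivial Q := by
      refine ⟨⟨x, 1, ?_⟩⟩
      rintro rfl
      exact hxy (by rw [one_mul, mul_one])
    have hcne : Subgroup.center Q ≠ ⊥ := by
      have := hQ.center_nontrivial
      exact (Subgroup.nontrivial_iff_ne_bot _).mp this
    have hctop : Subgroup.center Q ≠ ⊤ := by
      intro h
      apply hxy
      have hy : y ∈ Subgroup.center Q := by rw [h]; exact Subgroup.mem_top y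
      rw [Subgroup.mem_center_iff] at hy
      exact hy x
    exact step (Subgroup.center Q) inferInstance (center_inv σ) (center_inv τ) hcne hctop

end main

end Cfsg.Agent.Lib.Helper10.BW
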