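import Mathlib
import Cfsg.Agent.Lib.Helper10.BrauerWielandt
import Cfsg.Agent.Lib.Helper13.CoprimeSylow2

set_option autoImplicit false

/-!
# The Brauer–Wielandt order formula for subgroups of an ambient group

For commuting `a b : H` with `a ^ p = b ^ p = 1` lying in an abelian `p`-subgroup `A`
normalizing a subgroup `L` of order prime to `p`:
`|L| * |C_L(a) ∩ C_L(b)| ^ p = |C_L(b)| * ∏ i < p, |C_L(a b ^ i)|`.
-/

namespace Cfsg.Agent.Lib.Helper10.BW

open Subgroup

open scoped Pointwise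

universe u

section transport

variable {H : Type u} [Group H]

/-- `Q ∩ C(g) ∩ C(h)`. -/
def Cn (Q : Subgroup H) (g h : H) : Subgroup H :=
  Q ⊓ centralizer {g} ⊓ centralizer {h}

theorem mem_Cn {Q : Subgroup H} {g h x : H} :
    x ∈ Cn Q g h ↔ x ∈ Q ∧ g * x = x * g ∧ h * x = x * h := by
  unfold Cn
  rw [Subgroup.mem_inf, Subgroup.mem_inf, Subgroup.mem_centralizer_singleton_iff,
    Subgroup.mem_centralizer_singleton_iff, and_assoc, eq_comm (a := x * g), eq_comm (a := x * h)]

theorem Cn_self (Q : Subgroup H) (g : H) : Cn Q g g = Q ⊓ centralizer {g} := by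
  unfold Cn
  rw [inf_assoc, inf_idem]

theorem card_Fx_conjNormal (Q : Subgroup H)
    (g₀ h₀ : ↥(normalizer (Q : Set H))) :
    Nat.card (Fx (MulAut.conjNormal (H := Q.subgroupOf (normalizer (Q : Set H))) g₀)
      (MulAut.conjNormal (H := Q.subgroupOf (normalizer (Q : Set H))) h₀)) =
    Nat.card ↥(Cn Q (g₀ : H) (h₀ : H)) := by
  let ι : ↥(Q.subgroupOf (normalizer (Q : Set H))) →* H := (normalizer (Q : Set H)).subtype.comp (Q.subgroupOf (normalizer (Q : Set H))).subtype
  have hι : Function.Injective ι := by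
    intro x y hxy
    exact Subtype.ext (Subtype.ext hxy)
  have hmap : (Fx (MulAut.conjNormal (H := Q.subgroupOf (normalizer (Q : Set H))) g₀) (MulAut.conjNormal (H := Q.subgroupOf (normalizer (Q : Set H))) h₀)).map ι =
      Cn Q (g₀ : H) (h₀ : H) := by
    ext x
    rw [mem_Cn]
    constructor
    · rintro ⟨y, ⟨h1, h2⟩, rfl⟩
      refine ⟨Subgroup.mem_subgroupOf.mp y.2, ?_, ?_⟩
      · have e := congrArg (fun z : ↥(Q.subgroupOf (normalizer (Q : Set H))) => ((z : ↥(normalizer (Q : Set H))) : H)) h1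
        simp only [MulAut.conjNormal_apply, Subgroup.coe_mul, Subgroup.coe_inv] at e
        show (g₀ : H) * ((y : ↥(normalizer (Q : Set H))) : H) = ((y : ↥(normalizer (Q : Set H))) : H) * (g₀ : H)
        calc (g₀ : H) * ((y : ↥(normalizer (Q : Set H))) : H) = ((g₀ : H) * ((y : ↥(normalizer (Q : Set H))) : H) * (g₀ : H)⁻¹) * g₀ := by group
          _ = _ := by rw [e]
      · have e := congrArg (fun z : ↥(Q.subgroupOf (normalizer (Q : Set H))) => ((z : ↥(normalizer (Q : Set H))) : H)) h2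
        simp only [MulAut.conjNormal_apply, Subgroup.coe_mul, Subgroup.coe_inv] at e
        show (h₀ : H) * ((y : ↥(normalizer (Q : Set H))) : H) = ((y : ↥(normalizer (Q : Set H))) : H) * (h₀ : H)
        calc (h₀ : H) * ((y : ↥(normalizer (Q : Set H))) : H) = ((h₀ : H) * ((y : ↥(normalizer (Q : Set H))) : H) * (h₀ : H)⁻¹) * h₀ := by group
          _ = _ := by rw [e]
    · rintro ⟨hxQ, hxg, hxh⟩
      refine ⟨⟨⟨x, Subgroup.le_normalizer hxQ⟩, Subgroup.mem_subgroupOf.mpr hxQ⟩, ⟨?_, ?_⟩, rfl⟩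
      · apply Subtype.ext
        apply Subtype.ext
        simp only [MulAut.conjNormal_apply, Subgroup.coe_mul, Subgroup.coe_inv]
        rw [hxg]; group
      · apply Subtype.ext
        apply Subtype.ext
        simp only [MulAut.conjNormal_apply, Subgroup.coe_mul, Subgroup.coe_inv]
        rw [hxh]; group
  rw [← hmap, Subgroup.card_map_of_injective hι]

/-- Brauer–Wielandt for a `q`-subgroup of an ambient group. -/
theorem bw_qgroup [Finite H] (p q : ℕ) [Fact p.Prime] [Fact q.Prime] (Q : Subgroup H)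
    (hQ : IsPGroup q Q) (hcop : (Nat.card Q).Coprime p) (a b : H) (ha : a ^ p = 1)
    (hb : b ^ p = 1) (hab : a * b = b * a) (haQ : a ∈ normalizer (Q : Set H))
    (hbQ : b ∈ normalizer (Q : Set H)) :
    Nat.card Q * Nat.card ↥(Cn Q a b) ^ p =
      Nat.card ↥(Cn Q b b) * ∏ i ∈ Finset.range p, Nat.card ↥(Cn Q (a * b ^ i) (a * b ^ i)) := by
  set Nz := normalizer (Q : Set H) with hNz
  set Q₀ := Q.subgroupOf Nz with hQ₀
  let a₀ : ↥Nz := ⟨a, haQ⟩
  let b₀ : ↥Nz := ⟨b, hbQ⟩
  let σ : MulAut ↥Q₀ := MulAut.conjNormal a₀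
  let τ : MulAut ↥Q₀ := MulAut.conjNormal b₀
  have hσ : σ ^ p = 1 := by
    show (MulAut.conjNormal a₀ : MulAut ↥Q₀) ^ p = 1
    rw [← map_pow]
    have : a₀ ^ p = 1 := Subtype.ext (by simpa using ha)
    rw [this, map_one]
  have hτ : τ ^ p = 1 := by
    show (MulAut.conjNormal b₀ : MulAut ↥Q₀) ^ p = 1
    rw [← map_pow]
    have : b₀ ^ p = 1 := Subtype.ext (by simpa using hb)
    rw [this, map_one]
  have hc : Commute σ τ := by
    have : Commute a₀ b₀ := Subtype.ext hab
    exact this.map (MulAut.conjNormal (H := Q₀))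
  have hcardQ : Nat.card ↥Q₀ = Nat.card Q :=
    Nat.card_congr (Subgroup.subgroupOfEquivOfLe Subgroup.le_normalizer).toEquiv
  have hQ₀p : IsPGroup q ↥Q₀ := hQ.comap_subtype
  have key := bw_abs p q (Nat.card ↥Q₀) ↥Q₀ rfl hQ₀p (by rw [hcardQ]; exact hcop) σ τ hσ hτ hc
  unfold BWeq at key
  have e1 : Nat.card (Fx σ τ) = Nat.card ↥(Cn Q a b) := card_Fx_conjNormal Q a₀ b₀
  have e2 : Nat.card (Fx τ τ) = Nat.card ↥(Cn Q b b) := card_Fx_conjNormal Q b₀ b₀
  have e3 : ∀ i ∈ Finset.range p, Nat.card (Fx (σ * τ ^ i) (σ * τ ^ i)) =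
      Nat.card ↥(Cn Q (a * b ^ i) (a * b ^ i)) := by
    intro i _
    have h1 : σ * τ ^ i = MulAut.conjNormal (H := Q₀) (a₀ * b₀ ^ i) := by
      rw [map_mul, map_pow]
    rw [h1]
    exact card_Fx_conjNormal Q (a₀ * b₀ ^ i) (a₀ * b₀ ^ i)
  rw [e1, e2, Finset.prod_congr rfl e3, hcardQ] at key
  exact key

end transport

section sylow

variable {H : Type u} [Group H] [Finite H]

theorem card_sylow_inf (A L : Subgroup H) (hAL : A ≤ normalizer (L : Set H))
    (hcop : (Nat.card A).Coprime (Nat.card L)) (hsolv : Group.IsSolvable A) (q : ℕ)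
    [Fact q.Prime] (Q : Sylow q L)
    (hQ : A ≤ normalizer (((Q : Subgroup L).map L.subtype : Subgroup H) : Set H))
    (D : Subgroup H) (hDL : D ≤ L) (hAD : A ≤ normalizer (D : Set H))
    (hCD : L ⊓ centralizer (A : Set H) ≤ normalizer (D : Set H)) :
    Nat.card ↥((Q : Subgroup L).map L.subtype ⊓ D) = q ^ (Nat.card D).factorization q := by
  have hq : q.Prime := Fact.out
  have hcopD : (Nat.card A).Coprime (Nat.card D) :=
    Nat.Coprime.coprime_dvd_right (Subgroup.card_dvd_of_le hDL) hcop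
  obtain ⟨S, hS⟩ := Cfsg.Agent.Lib.Helper13.exists_invariant_sylow A D hAD hcopD (Or.inl hsolv) q
  set S' : Subgroup H := (S : Subgroup D).map D.subtype with hS'
  have hS'D : S' ≤ D := Subgroup.map_subtype_le _
  have hS'card : Nat.card S' = q ^ (Nat.card D).factorization q := by
    rw [hS', Subgroup.card_map_of_injective D.subtype_injective, S.card_eq_multiplicity]
  have hS'p : IsPGroup q S' := S.isPGroup'.map D.subtype
  obtain ⟨P, hSP, hP⟩ := Cfsg.Agent.Lib.Helper13.invariant_psubgroup_le_invariant_sylow A L hAL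
    hcop (Or.inl hsolv) q S' (hS'D.trans hDL) hS'p hS
  obtain ⟨c, hcA, hcPQ⟩ := Cfsg.Agent.Lib.Helper13.invariant_sylow_conj A L hAL hcop
    (Or.inl hsolv) q P Q hP hQ
  have h1 : (Q : Subgroup L) = MulAut.conj c • (P : Subgroup L) := by rw [← hcPQ]; rfl
  have h2 : (Q : Subgroup L).map L.subtype =
      MulAut.conj (c : H) • (P : Subgroup L).map L.subtype := by
    rw [h1, Cfsg.Agent.Lib.Helper13.map_cj]; rfl
  have hcD : (c : H) ∈ normalizer (D : Set H) := hCD ⟨c.2, hcA⟩
  have h3 : MulAut.conj (c : H) • S' ≤ (Q : Subgroup L).map L.subtype ⊓ D := by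
    intro x hx
    rw [Cfsg.Agent.Lib.Helper13.mem_cj] at hx
    refine ⟨?_, ?_⟩
    · rw [h2]
      show x ∈ MulAut.conj (c : H) • (P : Subgroup L).map L.subtype
      rw [Cfsg.Agent.Lib.Helper13.mem_cj]
      exact hSP hx
    · have := (Subgroup.mem_normalizer_iff.mp hcD _).mp (hS'D hx)
      have e : (c : H) * ((c : H)⁻¹ * x * c) * (c : H)⁻¹ = x := by group
      rwa [e] at this
  have hlow : q ^ (Nat.card D).factorization q ≤
      Nat.card ↥((Q : Subgroup L).map L.subtype ⊓ D) := by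
    rw [← hS'card, ← Cfsg.Agent.Lib.Helper13.card_cj (c : H) S']
    exact Subgroup.card_le_of_le h3
  have hXp : IsPGroup q ↥((Q : Subgroup L).map L.subtype ⊓ D) :=
    (Q.isPGroup'.map L.subtype).to_le inf_le_left
  obtain ⟨k, hk⟩ := IsPGroup.iff_card.mp hXp
  have hdvd : q ^ k ∣ Nat.card D := by
    rw [← hk]
    exact Subgroup.card_dvd_of_le inf_le_right
  have hkle : k ≤ (Nat.card D).factorization q :=
    (Nat.Prime.pow_dvd_iff_le_factorization hq Nat.card_pos.ne').mp hdvd
  apply le_antisymm _ hlow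
  rw [hk]
  exact Nat.pow_le_pow_right hq.pos hkle

omit [Finite H] in
theorem Cn_mem_normalizer (L : Subgroup H) (g h x : H) (hxL : x ∈ normalizer (L : Set H))
    (hxg : Commute x g) (hxh : Commute x h) : x ∈ normalizer (Cn L g h : Set H) := by
  rw [Subgroup.mem_normalizer_iff]
  intro y
  rw [mem_Cn, mem_Cn]
  constructor
  · rintro ⟨hyL, hyg, hyh⟩
    refine ⟨(Subgroup.mem_normalizer_iff.mp hxL y).mp hyL, ?_, ?_⟩
    · have hgy : Commute g y := hyg
      exact ((hxg.symm.mul_right hgy).mul_right hxg.symm.inv_right).eq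
    · have hhy : Commute h y := hyh
      exact ((hxh.symm.mul_right hhy).mul_right hxh.symm.inv_right).eq
  · rintro ⟨hyL, hyg, hyh⟩
    refine ⟨(Subgroup.mem_normalizer_iff.mp hxL y).mpr hyL, ?_, ?_⟩
    · have hgy : Commute g (x * y * x⁻¹) := hyg
      have e : y = x⁻¹ * (x * y * x⁻¹) * x := by group
      rw [e]
      exact ((hxg.symm.inv_right.mul_right hgy).mul_right hxg.symm).eq
    · have hhy : Commute h (x * y * x⁻¹) := hyh
      have e : y = x⁻¹ * (x * y * x⁻¹) * x := by group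
      rw [e]
      exact ((hxh.symm.inv_right.mul_right hhy).mul_right hxh.symm).eq

omit [Finite H] in
theorem Cn_le (L : Subgroup H) (g h : H) : Cn L g h ≤ L := fun _ hx => (mem_Cn.mp hx).1

omit [Finite H] in
theorem Cn_inf_of_le {Q L : Subgroup H} (hQL : Q ≤ L) (g h : H) : Cn Q g h = Q ⊓ Cn L g h := by
  ext x
  rw [Subgroup.mem_inf, mem_Cn, mem_Cn]
  constructor
  · rintro ⟨h1, h2, h3⟩
    exact ⟨h1, hQL h1, h2, h3⟩
  · rintro ⟨h1, -, h2, h3⟩
    exact ⟨h1, h2, h3⟩

/-- **Brauer–Wielandt formula** for a `p'`-subgroup `L` normalized by an abelian `p`-subgroup `A`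
containing the elements `a, b` of order dividing `p`. -/
theorem bw_ambient (p : ℕ) [Fact p.Prime] (A L : Subgroup H) (hA : IsPGroup p A)
    (hAab : ∀ x ∈ A, ∀ y ∈ A, x * y = y * x) (hAL : A ≤ normalizer (L : Set H))
    (hL : (Nat.card L).Coprime p) (a b : H) (haA : a ∈ A) (hbA : b ∈ A) (ha : a ^ p = 1)
    (hb : b ^ p = 1) :
    Nat.card L * Nat.card ↥(Cn L a b) ^ p =
      Nat.card ↥(Cn L b b) * ∏ i ∈ Finset.range p, Nat.card ↥(Cn L (a * b ^ i) (a * b ^ i)) := by
  have hp : p.Prime := Fact.out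
  have hcopAL : (Nat.card A).Coprime (Nat.card L) := by
    obtain ⟨k, hk⟩ := IsPGroup.iff_card.mp hA
    rw [hk]
    exact Nat.Coprime.pow_left k hL.symm
  have hsolv : Group.IsSolvable A := by
    haveI := hA.isNilpotent
    infer_instance
  -- normalization facts
  have hnorm : ∀ g ∈ A, ∀ h ∈ A, A ≤ normalizer (Cn L g h : Set H) ∧
      L ⊓ centralizer (A : Set H) ≤ normalizer (Cn L g h : Set H) := by
    intro g hg h hh
    constructor
    · intro x hx
      exact Cn_mem_normalizer L g h x (hAL hx) (hAab x hx g hg) (hAab x hx h hh)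
    · rintro x ⟨hxL, hxA'⟩
      have hxA : x ∈ centralizer (A : Set H) := hxA'
      rw [Subgroup.mem_centralizer_iff] at hxA
      exact Cn_mem_normalizer L g h x (Subgroup.le_normalizer hxL) (hxA g hg).symm (hxA h hh).symm
  have hpowA : ∀ i : ℕ, a * b ^ i ∈ A := fun i => A.mul_mem haA (A.pow_mem hbA i)
  have hfact : ∀ q : ℕ, q.Prime → (Nat.card L).factorization q +
      p * (Nat.card ↥(Cn L a b)).factorization q = (Nat.card ↥(Cn L b b)).factorization q +
      ∑ i ∈ Finset.range p, (Nat.card ↥(Cn L (a * b ^ i) (a * b ^ i))).factorization q := by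
    intro q hq
    haveI : Fact q.Prime := ⟨hq⟩
    obtain ⟨Q, hQinv⟩ := Cfsg.Agent.Lib.Helper13.exists_invariant_sylow A L hAL hcopAL
      (Or.inl hsolv) q
    set Qm : Subgroup H := (Q : Subgroup L).map L.subtype with hQm
    have hQmL : Qm ≤ L := Subgroup.map_subtype_le _
    have hQmp : IsPGroup q Qm := Q.isPGroup'.map L.subtype
    have hQmcard : Nat.card Qm = q ^ (Nat.card L).factorization q := by
      rw [hQm, Subgroup.card_map_of_injective L.subtype_injective, Q.card_eq_multiplicity]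
    have hQmcop : (Nat.card Qm).Coprime p :=
      Nat.Coprime.coprime_dvd_left (Subgroup.card_dvd_of_le hQmL) hL
    have hab : a * b = b * a := hAab a haA b hbA
    have key := bw_qgroup p q Qm hQmp hQmcop a b ha hb hab (hQinv haA) (hQinv hbA)
    have hc : ∀ g ∈ A, ∀ h ∈ A, Nat.card ↥(Cn Qm g h) =
        q ^ (Nat.card ↥(Cn L g h)).factorization q := by
      intro g hg h hh
      rw [Cn_inf_of_le hQmL]
      exact card_sylow_inf A L hAL hcopAL hsolv q Q hQinv (Cn L g h) (Cn_le L g h)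
        (hnorm g hg h hh).1 (hnorm g hg h hh).2
    rw [hQmcard, hc a haA b hbA, hc b hbA b hbA,
      Finset.prod_congr rfl (fun i _ => hc _ (hpowA i) _ (hpowA i)), ← pow_mul, ← pow_add,
      Finset.prod_pow_eq_pow_sum, ← pow_add] at key
    have := Nat.pow_right_injective hq.two_le key
    rw [mul_comm] at this
    exact this
  have hpos : ∀ X : Subgroup H, Nat.card X ≠ 0 := fun X => Nat.card_pos.ne'
  apply Nat.eq_of_factorization_eq
  · exact mul_ne_zero (hpos _) (pow_ne_zero _ (hpos _))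
  · exact mul_ne_zero (hpos _) (Finset.prod_ne_zero_iff.mpr (fun i _ => hpos _))
  intro q
  by_cases hq : q.Prime
  · rw [Nat.factorization_mul (hpos _) (pow_ne_zero _ (hpos _)), Nat.factorization_pow,
      Nat.factorization_mul (hpos _) (Finset.prod_ne_zero_iff.mpr (fun i _ => hpos _)),
      Nat.factorization_prod (fun i _ => hpos _)]
    simp only [Finsupp.coe_add, Finsupp.coe_smul, Pi.add_apply, Pi.smul_apply, smul_eq_mul,
      Finsupp.coe_finsetSum, Finset.sum_apply]
    exact hfact q hq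
  · rw [Nat.factorization_eq_zero_of_not_prime _ hq, Nat.factorization_eq_zero_of_not_prime _ hq]

end sylow

end Cfsg.Agent.Lib.Helper10.BW
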