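import Mathlib

set_option autoImplicit false

/-!
# A Chevalley–Warning style parity lemma on finite 2-groups

For a function `f : V → ZMod 2` on a group `V` we define "degree `< k`" through iterated right
translation differences (`Deg k f`).  If `V` has `2 ^ m` elements and `f` has degree `< k ≤ m`,
then `∑ v, f v = 0`.  Consequence: two "quadratic" functions (`Deg 3`) vanishing at `1` on a group
of order `2 ^ m`, `m ≥ 5`, have a common zero `v ≠ 1`.
-/

namespace Cfsg.Agent.Lib.Helper10.QuadParity

universe u

section
variable {V : Type u} [Group V]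

/-- right difference -/
def dlt (a : V) (f : V → ZMod 2) : V → ZMod 2 := fun v => f (v * a) + f v

/-- right translate -/
def trn (a : V) (f : V → ZMod 2) : V → ZMod 2 := fun v => f (v * a)

/-- `Deg k f`: `f` has degree `< k`. -/
def Deg : ℕ → (V → ZMod 2) → Prop
  | 0, f => f = 0
  | (k + 1), f => ∀ a, Deg k (dlt a f)

theorem dlt_zero (a : V) : dlt a (0 : V → ZMod 2) = 0 := by
  funext v; simp [dlt]

theorem dlt_add (a : V) (f g : V → ZMod 2) : dlt a (f + g) = dlt a f + dlt a g := by
  funext v; simp only [dlt, Pi.add_apply]; ring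

theorem Deg.zero_fun (k : ℕ) : Deg k (0 : V → ZMod 2) := by
  induction k with
  | zero => rfl
  | succ k ih => intro a; rw [dlt_zero]; exact ih

theorem Deg.succ {k : ℕ} {f : V → ZMod 2} (h : Deg k f) : Deg (k + 1) f := by
  induction k generalizing f with
  | zero =>
    intro a
    have : f = 0 := h
    subst this
    rw [dlt_zero]; rfl
  | succ k ih =>
    intro a
    exact ih (h a)

theorem Deg.mono {k l : ℕ} {f : V → ZMod 2} (hkl : k ≤ l) (h : Deg k f) : Deg l f := by
  induction hkl with
  | refl => exact h
  | step _ ih => exact ih.succ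

theorem Deg.add {k : ℕ} {f g : V → ZMod 2} (hf : Deg k f) (hg : Deg k g) : Deg k (f + g) := by
  induction k generalizing f g with
  | zero =>
    have h1 : f = 0 := hf
    have h2 : g = 0 := hg
    subst h1; subst h2
    show (0 : V → ZMod 2) + 0 = 0
    simp
  | succ k ih =>
    intro a
    rw [dlt_add]
    exact ih (hf a) (hg a)

theorem dlt_trn (a b : V) (f : V → ZMod 2) : dlt b (trn a f) = trn a (dlt (a⁻¹ * b * a) f) := by
  funext v
  simp only [dlt, trn]
  congr 2
  group

theorem Deg.trn {k : ℕ} {f : V → ZMod 2} (a : V) (hf : Deg k f) : Deg k (trn a f) := by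
  induction k generalizing f with
  | zero =>
    have h1 : f = 0 := hf
    subst h1
    show QuadParity.trn a 0 = 0
    funext v; simp [QuadParity.trn]
  | succ k ih =>
    intro b
    rw [dlt_trn]
    exact ih (hf _)

theorem Deg.const (c : ZMod 2) : Deg 1 (fun _ : V => c) := by
  intro a
  show dlt a (fun _ : V => c) = 0
  funext v
  simp only [dlt, Pi.zero_apply]
  exact CharTwo.add_self_eq_zero c

theorem dlt_mul (a : V) (f g : V → ZMod 2) :
    dlt a (f * g) = dlt a f * trn a g + f * dlt a g := by
  funext v
  simp only [dlt, trn, Pi.mul_apply, Pi.add_apply]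
  have h2 : ∀ x : ZMod 2, x + x = 0 := CharTwo.add_self_eq_zero
  have : f v * g (v * a) + f v * g (v * a) = 0 := h2 _
  linear_combination -this

theorem Deg.mul_aux (n : ℕ) : ∀ (j l : ℕ), j + l = n → ∀ f g : V → ZMod 2,
    Deg (j + 1) f → Deg (l + 1) g → Deg (j + l + 1) (f * g) := by
  induction n using Nat.strong_induction_on with
  | _ n ih =>
    intro j l hjl f g hf hg a
    rw [dlt_mul]
    apply Deg.add
    · -- dlt a f * trn a g
      rcases Nat.eq_zero_or_pos j with hj | hj
      · subst hj
        have h0 : dlt a f = 0 := hf a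
        rw [h0, zero_mul]
        exact Deg.zero_fun _
      · obtain ⟨j', rfl⟩ := Nat.exists_eq_succ_of_ne_zero hj.ne'
        have := ih (j' + l) (by omega) j' l rfl (dlt a f) (QuadParity.trn a g) (hf a) (hg.trn a)
        have e : j' + 1 + l = j' + l + 1 := by omega
        rw [e]
        exact this
    · rcases Nat.eq_zero_or_pos l with hl | hl
      · subst hl
        have h0 : dlt a g = 0 := hg a
        rw [h0, mul_zero]
        exact Deg.zero_fun _
      · obtain ⟨l', rfl⟩ := Nat.exists_eq_succ_of_ne_zero hl.ne'
        have := ih (j + l') (by omega) j l' rfl f (dlt a g) hf (hg a)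
        exact this

theorem Deg.mul {j l : ℕ} {f g : V → ZMod 2} (hf : Deg (j + 1) f) (hg : Deg (l + 1) g) :
    Deg (j + l + 1) (f * g) :=
  Deg.mul_aux (j + l) j l rfl f g hf hg

theorem Deg.restrict (U : Subgroup V) {k : ℕ} {f : V → ZMod 2} (hf : Deg k f) :
    Deg k (fun u : U => f u) := by
  induction k generalizing f with
  | zero =>
    have h1 : f = 0 := hf
    subst h1
    rfl
  | succ k ih =>
    intro b
    exact ih (hf (b : V))

end


section
variable {V : Type u} [Group V]

/-- A function whose "polarisation" is additive in the first variable has degree `< 3`. -/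
theorem deg3_of_biadditive (q : V → ZMod 2)
    (h : ∀ v w a, q (v * w * a) + q (v * w) + q a = (q (v * a) + q v + q a) + (q (w * a) + q w + q a)) :
    Deg 3 q := by
  intro a b c
  show dlt c (dlt b (dlt a q)) = 0
  funext v
  simp only [dlt, Pi.zero_apply]
  have h1 := h (v * c) b a
  have h2 := h v b a
  have two : (2 : ZMod 2) = 0 := by decide
  linear_combination h1 + h2 + (q (v * c * a) + q (v * c) + q a + q b + q (b * a) + q (v * a) + q v) * two
end

theorem sum_eq_zero (m : ℕ) : ∀ (V : Type u) [Group V] [Fintype V], Fintype.card V = 2 ^ m →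
    ∀ k ≤ m, ∀ f : V → ZMod 2, Deg k f → ∑ v, f v = 0 := by
  classical
  induction m with
  | zero =>
    intro V _ _ _ k hk f hf
    have : k = 0 := by omega
    subst this
    have h0 : f = 0 := hf
    subst h0
    simp
  | succ m ih =>
    intro V _ _ hV k hk f hf
    rcases Nat.eq_zero_or_pos k with hk0 | hk0
    · subst hk0
      have h0 : f = 0 := hf
      subst h0
      simp
    obtain ⟨k', rfl⟩ := Nat.exists_eq_succ_of_ne_zero hk0.ne'
    have : Fact (Nat.Prime 2) := ⟨Nat.prime_two⟩
    have hdvd : 2 ^ m ∣ Nat.card V := by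
      rw [Nat.card_eq_fintype_card, hV]; exact pow_dvd_pow 2 (Nat.le_succ m)
    obtain ⟨U, hU⟩ := Sylow.exists_subgroup_card_pow_prime 2 hdvd
    have hidx : U.index = 2 := by
      have h1 := U.card_mul_index
      rw [hU, Nat.card_eq_fintype_card, hV, pow_succ] at h1
      exact Nat.eq_of_mul_eq_mul_left (by positivity) h1
    have hne : ∃ a : V, a ∉ U := by
      by_contra hcon
      push_neg at hcon
      have : U = ⊤ := by ext x; simp [hcon x]
      rw [this, Subgroup.index_top] at hidx
      omega
    obtain ⟨a, ha⟩ := hne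
    have hmem : ∀ w : V, w * a ∈ U ↔ w ∉ U := by
      intro w
      rw [Subgroup.mul_mem_iff_of_index_two hidx]
      simp [ha]
    -- split the sum
    have hsplit : ∑ v, f v = ∑ v, (if v ∈ U then f v else 0) + ∑ v, (if v ∈ U then 0 else f v) := by
      rw [← Finset.sum_add_distrib]
      apply Finset.sum_congr rfl
      intro v _
      split_ifs <;> simp
    have h2 : ∑ v, (if v ∈ U then 0 else f v) = ∑ w, (if w ∈ U then f (w * a) else 0) := by
      rw [← Equiv.sum_comp (Equiv.mulRight a)]
      apply Finset.sum_congr rfl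
      intro w _
      simp only [Equiv.coe_mulRight]
      by_cases hw : w ∈ U
      · have : w * a ∉ U := by rw [hmem]; simpa using hw
        simp [hw, this]
      · have : w * a ∈ U := (hmem w).2 hw
        simp [hw, this]
    have h3 : ∑ v, f v = ∑ w, (if w ∈ U then dlt a f w else 0) := by
      rw [hsplit, h2, ← Finset.sum_add_distrib]
      apply Finset.sum_congr rfl
      intro w _
      split_ifs
      · simp only [dlt]; ring
      · simp
    have h4 : ∑ w, (if w ∈ U then dlt a f w else 0) = ∑ u : U, dlt a f u := by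
      rw [← Finset.sum_filter]
      exact (Finset.sum_subtype (Finset.univ.filter (· ∈ U)) (by simp) (fun w => dlt a f w))
    rw [h3, h4]
    have hUcard : Fintype.card U = 2 ^ m := by
      rw [← Nat.card_eq_fintype_card]; exact hU
    exact ih U hUcard k' (by omega) (fun u : U => dlt a f u) ((hf a).restrict U)

theorem exists_common_zero {V : Type u} [Group V] [Finite V] (m : ℕ) (hV : Nat.card V = 2 ^ m)
    (hm : 5 ≤ m) (q1 q2 : V → ZMod 2) (h1 : Deg 3 q1) (h2 : Deg 3 q2)
    (h10 : q1 1 = 0) (h20 : q2 1 = 0) : ∃ v : V, v ≠ 1 ∧ q1 v = 0 ∧ q2 v = 0 := by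
  classical
  haveI : Fintype V := Fintype.ofFinite V
  by_contra hcon
  push_neg at hcon
  let F : V → ZMod 2 := ((fun _ => 1) + q1) * ((fun _ => 1) + q2)
  have hF : Deg 5 F := by
    have e1 : Deg 3 ((fun _ : V => (1 : ZMod 2)) + q1) :=
      Deg.add (Deg.mono (by norm_num) (Deg.const 1)) h1
    have e2 : Deg 3 ((fun _ : V => (1 : ZMod 2)) + q2) :=
      Deg.add (Deg.mono (by norm_num) (Deg.const 1)) h2
    exact Deg.mul (j := 2) (l := 2) e1 e2
  have hsum := sum_eq_zero m V (by rw [← Nat.card_eq_fintype_card]; exact hV) 5 hm F hF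
  have hFv : ∀ v : V, F v = if v = 1 then 1 else 0 := by
    intro v
    simp only [F, Pi.mul_apply, Pi.add_apply]
    by_cases hv : v = 1
    · subst hv
      simp [h10, h20]
    · simp only [hv, if_false]
      have := hcon v hv
      have key : ∀ x y : ZMod 2, (x = 0 → y ≠ 0) → (1 + x) * (1 + y) = 0 := by decide
      exact key _ _ this
  have : ∑ v, F v = 1 := by
    simp_rw [hFv]
    simp
  rw [this] at hsum
  exact one_ne_zero hsum

end Cfsg.Agent.Lib.Helper10.QuadParity
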