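import Mathlib
import Cfsg.Agent.Lib.Helper10.QuadParity

set_option autoImplicit false

/-!
# Involutions outside a central subgroup containing all squares

`R` finite group, `C ≤ Z(R)` with `x² ∈ C` for all `x`, `|R : C| = 2^m` with `m ≥ 5`, and exactly
four elements of `C` squaring to `1`.  Then there is an involution outside `C`.
-/

namespace Cfsg.Agent.Lib.Helper10.CentralSquares

open Cfsg.Agent.Lib.Helper10.QuadParity

universe u

theorem exists_sq_eq_one_not_mem {R : Type u} [Group R] [Finite R] (C : Subgroup R)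
    (hC : C ≤ Subgroup.center R) (hsq : ∀ x : R, x ^ 2 ∈ C) (m : ℕ) (hm : 5 ≤ m)
    (hidx : C.index = 2 ^ m)
    (hΩ : Nat.card {c : R // c ∈ C ∧ c ^ 2 = 1} = 4) :
    ∃ x : R, x ∉ C ∧ x ^ 2 = 1 := by
  classical
  have hcen : ∀ c ∈ C, ∀ x : R, x * c = c * x := fun c hc x =>
    (Subgroup.mem_center_iff.1 (hC hc) x)
  haveI hCn : C.Normal := by
    refine ⟨fun n hn g => ?_⟩
    have : g * n * g⁻¹ = n := by rw [hcen n hn g]; group
    rw [this]; exact hn
  letI : CommGroup C :=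
    { (inferInstance : Group C) with
      mul_comm := fun a b => Subtype.ext (by
        show (a : R) * b = b * a
        exact hcen b b.2 a) }
  -- the squaring endomorphism
  let sq : C →* C :=
    { toFun := fun c => c ^ 2
      map_one' := one_pow 2
      map_mul' := fun a b => mul_pow a b 2 }
  have hker : Nat.card sq.ker = 4 := by
    rw [← hΩ]
    refine Nat.card_congr
      { toFun := fun c => ⟨(c : C), (c : C).2, by
          have := c.2
          rw [MonoidHom.mem_ker] at this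
          have h2 : ((c : C) : R) ^ 2 = ((sq (c : C) : C) : R) := rfl
          rw [h2, this]; rfl⟩
        invFun := fun c => ⟨⟨c.1, c.2.1⟩, by
          rw [MonoidHom.mem_ker]
          apply Subtype.ext
          show (c.1) ^ 2 = 1
          exact c.2.2⟩
        left_inv := fun c => rfl
        right_inv := fun c => rfl }
  let N2 : Subgroup C := sq.range
  have hN2card : Nat.card (C ⧸ N2) = 4 := by
    have h1 := Subgroup.card_eq_card_quotient_mul_card_subgroup sq.ker
    have h2 : Nat.card (C ⧸ sq.ker) = Nat.card N2 :=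
      Nat.card_congr (QuotientGroup.quotientKerEquivRange sq).toEquiv
    have h3 := Subgroup.card_eq_card_quotient_mul_card_subgroup N2
    rw [h2, hker] at h1
    rw [h1] at h3
    have hpos : 0 < Nat.card N2 := Nat.card_pos
    nlinarith
  haveI : IsKleinFour (C ⧸ N2) :=
    { card_four := hN2card
      exponent_two := by
        have hdvd : Monoid.exponent (C ⧸ N2) ∣ 2 := by
          rw [Monoid.exponent_dvd_iff_forall_pow_eq_one]
          intro g
          induction g using QuotientGroup.induction_on with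
          | H c =>
            rw [← QuotientGroup.mk_pow, QuotientGroup.eq_one_iff]
            exact ⟨c, rfl⟩
        rcases (Nat.dvd_prime Nat.prime_two).1 hdvd with h | h
        · exfalso
          rw [Monoid.exp_eq_one_iff] at h
          have : Nat.card (C ⧸ N2) ≤ 1 := Finite.card_le_one_iff_subsingleton.2 h
          omega
        · exact h }
  obtain ⟨e⟩ : Nonempty (C ⧸ N2 ≃* Multiplicative (ZMod 2 × ZMod 2)) :=
    IsKleinFour.nonempty_mulEquiv
  let μ : C →* Multiplicative (ZMod 2 × ZMod 2) := e.toMonoidHom.comp (QuotientGroup.mk' N2)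
  have hμ : ∀ c : C, μ c = 1 ↔ c ∈ N2 := by
    intro c
    show e (QuotientGroup.mk' N2 c) = 1 ↔ _
    rw [MulEquiv.map_eq_one_iff]
    exact QuotientGroup.eq_one_iff c
  -- the quadratic map
  let φ : R → ZMod 2 × ZMod 2 := fun x => Multiplicative.toAdd (μ ⟨x ^ 2, hsq x⟩)
  have hB : ∀ x a : R, x⁻¹ * a * x * a⁻¹ ∈ C := by
    intro x a
    have : x⁻¹ * a * x * a⁻¹ = (x ^ 2)⁻¹ * (x * a) ^ 2 * (a ^ 2)⁻¹ := by simp only [pow_two]; group
    rw [this]
    exact C.mul_mem (C.mul_mem (C.inv_mem (hsq x)) (hsq _)) (C.inv_mem (hsq a))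
  let β : R → R → ZMod 2 × ZMod 2 := fun x a => Multiplicative.toAdd (μ ⟨x⁻¹ * a * x * a⁻¹, hB x a⟩)
  have hkey : ∀ x a : R, φ (x * a) = φ x + β x a + φ a := by
    intro x a
    have : (⟨(x * a) ^ 2, hsq _⟩ : C) =
        ⟨x ^ 2, hsq x⟩ * ⟨x⁻¹ * a * x * a⁻¹, hB x a⟩ * ⟨a ^ 2, hsq a⟩ := by
      apply Subtype.ext
      show (x * a) ^ 2 = x ^ 2 * (x⁻¹ * a * x * a⁻¹) * a ^ 2
      simp only [pow_two]; group
    show Multiplicative.toAdd (μ ⟨(x * a) ^ 2, hsq _⟩) = _
    rw [this, μ.map_mul, μ.map_mul]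
    rfl
  have hβ : ∀ x y a : R, β (x * y) a = β x a + β y a := by
    intro x y a
    have : (⟨(x * y)⁻¹ * a * (x * y) * a⁻¹, hB _ a⟩ : C) =
        ⟨x⁻¹ * a * x * a⁻¹, hB x a⟩ * ⟨y⁻¹ * a * y * a⁻¹, hB y a⟩ := by
      apply Subtype.ext
      show (x * y)⁻¹ * a * (x * y) * a⁻¹ = (x⁻¹ * a * x * a⁻¹) * (y⁻¹ * a * y * a⁻¹)
      have h1 := hcen _ (hB x a) y⁻¹
      calc (x * y)⁻¹ * a * (x * y) * a⁻¹ = y⁻¹ * (x⁻¹ * a * x * a⁻¹) * (a * y * a⁻¹) := by group
        _ = (x⁻¹ * a * x * a⁻¹) * y⁻¹ * (a * y * a⁻¹) := by rw [h1]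
        _ = _ := by group
    show Multiplicative.toAdd (μ ⟨(x * y)⁻¹ * a * (x * y) * a⁻¹, hB _ a⟩) = _
    rw [this, μ.map_mul]
    rfl
  have hφC : ∀ c : R, c ∈ C → φ c = 0 := by
    intro c hc
    show Multiplicative.toAdd (μ ⟨c ^ 2, hsq c⟩) = 0
    have : μ ⟨c ^ 2, hsq c⟩ = 1 := by
      rw [hμ]
      exact ⟨⟨c, hc⟩, rfl⟩
    rw [this]; rfl
  have hβC : ∀ x c : R, c ∈ C → β x c = 0 := by
    intro x c hc
    show Multiplicative.toAdd (μ ⟨x⁻¹ * c * x * c⁻¹, hB x c⟩) = 0
    have : (⟨x⁻¹ * c * x * c⁻¹, hB x c⟩ : C) = 1 := by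
      apply Subtype.ext
      show x⁻¹ * c * x * c⁻¹ = 1
      have := hcen c hc x⁻¹
      rw [this]; group
    rw [this, map_one]; rfl
  have hφmul : ∀ x c : R, c ∈ C → φ (x * c) = φ x := by
    intro x c hc
    rw [hkey, hβC x c hc, hφC c hc]; simp
  -- descend to the quotient
  let φq : R ⧸ C → ZMod 2 × ZMod 2 := fun v => Quotient.liftOn' v φ (by
    intro a b hab
    rw [QuotientGroup.leftRel_apply] at hab
    have : b = a * (a⁻¹ * b) := by group
    rw [this, hφmul a _ hab])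
  have hφq : ∀ x : R, φq (x : R ⧸ C) = φ x := fun x => rfl
  have two : ∀ z : ZMod 2, z + z = 0 := CharTwo.add_self_eq_zero
  have hdeg : ∀ pr : ZMod 2 × ZMod 2 →+ ZMod 2, Deg 3 (fun v : R ⧸ C => pr (φq v)) := by
    intro pr
    apply deg3_of_biadditive
    intro v w a
    induction v using QuotientGroup.induction_on with
    | H x =>
    induction w using QuotientGroup.induction_on with
    | H y =>
    induction a using QuotientGroup.induction_on with
    | H z =>
    simp only [← QuotientGroup.mk_mul, hφq]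
    rw [hkey (x * y) z, hβ x y z, hkey x z, hkey y z]
    simp only [map_add]
    have t1 := two (pr (φ (x * y)))
    have t2 := two (pr (φ z))
    have t3 := two (pr (φ x))
    have t4 := two (pr (φ y))
    linear_combination t1 - t2 - t3 - t4
  have hV : Nat.card (R ⧸ C) = 2 ^ m := by rw [← Subgroup.index_eq_card]; exact hidx
  have hφ1 : φ 1 = 0 := hφC 1 C.one_mem
  obtain ⟨v, hv1, hv2, hv3⟩ := exists_common_zero m hV hm
    (fun v : R ⧸ C => (AddMonoidHom.fst (ZMod 2) (ZMod 2)) (φq v))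
    (fun v : R ⧸ C => (AddMonoidHom.snd (ZMod 2) (ZMod 2)) (φq v))
    (hdeg _) (hdeg _)
    (by show (AddMonoidHom.fst (ZMod 2) (ZMod 2)) (φq ((1 : R) : R ⧸ C)) = 0; rw [hφq, hφ1]; rfl)
    (by show (AddMonoidHom.snd (ZMod 2) (ZMod 2)) (φq ((1 : R) : R ⧸ C)) = 0; rw [hφq, hφ1]; rfl)
  induction v using QuotientGroup.induction_on with
  | H x =>
  have hxC : x ∉ C := fun h => hv1 ((QuotientGroup.eq_one_iff x).2 h)
  have hφx : φ x = 0 := by
    rw [hφq] at hv2 hv3
    exact Prod.ext hv2 hv3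
  have hμx : μ ⟨x ^ 2, hsq x⟩ = 1 := by
    have : Multiplicative.toAdd (μ ⟨x ^ 2, hsq x⟩) = 0 := hφx
    exact this
  rw [hμ] at hμx
  obtain ⟨c, hc⟩ := hμx
  have hc2 : (c : R) ^ 2 = x ^ 2 := by
    have := congrArg (fun t : C => (t : R)) hc
    exact this
  refine ⟨x * (c : R)⁻¹, ?_, ?_⟩
  · intro h
    apply hxC
    have : x = x * (c : R)⁻¹ * c := by group
    rw [this]
    exact C.mul_mem h c.2
  · have h1 := hcen (c : R)⁻¹ (C.inv_mem c.2) x
    calc (x * (c : R)⁻¹) ^ 2 = x * ((c : R)⁻¹ * x) * (c : R)⁻¹ := by simp only [pow_two]; group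
      _ = x * (x * (c : R)⁻¹) * (c : R)⁻¹ := by rw [h1]
      _ = x ^ 2 * ((c : R) ^ 2)⁻¹ := by simp only [pow_two]; group
      _ = 1 := by rw [hc2]; group

end Cfsg.Agent.Lib.Helper10.CentralSquares
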