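import Mathlib

set_option autoImplicit false

namespace Cfsg.Agent.Lib.Helper10

section

variable {S : Type*} [Group S] {ι : Type*}

/-- Permuting the coordinates of a direct power. -/
def permAut (σ : Equiv.Perm ι) : (ι → S) ≃* (ι → S) where
  toFun x := x ∘ σ
  invFun x := x ∘ σ.symm
  left_inv x := by funext l; simp
  right_inv x := by funext l; simp
  map_mul' _ _ := rfl

theorem permAut_apply (σ : Equiv.Perm ι) (x : ι → S) (l : ι) : permAut σ x l = x (σ l) := rfl

theorem permAut_swap_mulSingle [DecidableEq ι] (i j : ι) (s : S) :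
    permAut (Equiv.swap i j) (Pi.mulSingle i s : ι → S) = Pi.mulSingle j s := by
  funext l
  rw [permAut_apply, Pi.mulSingle_apply, Pi.mulSingle_apply]
  by_cases hl : l = j
  · subst hl
    simp
  · rw [if_neg hl]
    by_cases hl' : l = i
    · subst hl'
      rw [Equiv.swap_apply_left, if_neg (Ne.symm hl)]
    · rw [Equiv.swap_apply_of_ne_of_ne hl' hl, if_neg hl']

/-- The "transvection" automorphism of a direct power of a commutative group: multiply coordinate `j` by
coordinate `i`. -/
def transvAut [DecidableEq ι] (hcomm : ∀ a b : S, a * b = b * a) (i j : ι) (hij : i ≠ j) :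
    (ι → S) ≃* (ι → S) where
  toFun x := Function.update x j (x j * x i)
  invFun x := Function.update x j (x j * (x i)⁻¹)
  left_inv x := by
    funext l
    by_cases hl : l = j
    · subst hl
      simp [Function.update_of_ne hij]
    · simp [Function.update_of_ne hl]
  right_inv x := by
    funext l
    by_cases hl : l = j
    · subst hl
      simp [Function.update_of_ne hij]
    · simp [Function.update_of_ne hl]
  map_mul' x y := by
    funext l
    by_cases hl : l = j
    · subst hl
      simp only [Function.update_self, Pi.mul_apply]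
      calc x l * y l * (x i * y i) = x l * (y l * x i) * y i := by group
        _ = x l * (x i * y l) * y i := by rw [hcomm (y l) (x i)]
        _ = x l * x i * (y l * y i) := by group
    · simp [Function.update_of_ne hl]

theorem transvAut_mul_inv [DecidableEq ι] (hcomm : ∀ a b : S, a * b = b * a) (i j : ι) (hij : i ≠ j)
    (x : ι → S) : transvAut hcomm i j hij x * x⁻¹ = Pi.mulSingle j (x i) := by
  funext l
  by_cases hl : l = j
  · subst hl
    show Function.update x l (x l * x i) l * (x l)⁻¹ = _
    rw [Function.update_self, Pi.mulSingle_eq_same, hcomm (x l) (x i)]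
    group
  · show Function.update x j (x j * x i) l * (x l)⁻¹ = _
    rw [Function.update_of_ne hl, Pi.mulSingle_apply, if_neg hl, mul_inv_cancel]

end

/-- In a direct power of a non-abelian simple group, a normal subgroup that is nontrivial in coordinate `i`
contains the whole `i`-th factor. -/
theorem mulSingle_mem_of_normal {S : Type*} [Group S] [IsSimpleGroup S] (hS : ¬ IsMulCommutative S)
    {ι : Type*} [DecidableEq ι] (N : Subgroup (ι → S)) [N.Normal] (i : ι) {y : ι → S} (hyN : y ∈ N)
    (hyi : y i ≠ 1) (s : S) : Pi.mulSingle i s ∈ N := by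
  let A : Subgroup S := N.comap (MonoidHom.mulSingle (fun _ : ι => S) i)
  have hAn : A.Normal := inferInstance
  have hnc : ∃ t : S, t * y i ≠ y i * t := by
    by_contra hall
    push_neg at hall
    have hc : y i ∈ Subgroup.center S := by
      rw [Subgroup.mem_center_iff]
      exact hall
    rcases (Subgroup.Normal.eq_bot_or_eq_top (inferInstance : (Subgroup.center S).Normal)) with h0 | h0
    · rw [h0, Subgroup.mem_bot] at hc
      exact hyi hc
    · apply hS
      refine ⟨⟨fun a b => ?_⟩⟩
      have : b ∈ Subgroup.center S := by rw [h0]; exact Subgroup.mem_top b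
      exact (Subgroup.mem_center_iff.1 this) a
  obtain ⟨t, ht⟩ := hnc
  have hc : Pi.mulSingle i t * y * (Pi.mulSingle i t)⁻¹ * y⁻¹ ∈ N :=
    N.mul_mem (‹N.Normal›.conj_mem y hyN _) (N.inv_mem hyN)
  have hceq : Pi.mulSingle i t * y * (Pi.mulSingle i t)⁻¹ * y⁻¹ =
      Pi.mulSingle i (t * y i * t⁻¹ * (y i)⁻¹) := by
    funext j
    by_cases hj : j = i
    · subst hj
      simp
    · simp [hj]
  rw [hceq] at hc
  have hne : t * y i * t⁻¹ * (y i)⁻¹ ≠ 1 := by
    intro h1
    apply ht
    have h2 : t * y i * t⁻¹ = y i := mul_inv_eq_one.1 h1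
    calc t * y i = t * y i * t⁻¹ * t := by group
      _ = y i * t := by rw [h2]
  have hA : A ≠ ⊥ := by
    intro hb
    have : t * y i * t⁻¹ * (y i)⁻¹ ∈ A := hc
    rw [hb, Subgroup.mem_bot] at this
    exact hne this
  have hAtop : A = ⊤ := (Subgroup.Normal.eq_bot_or_eq_top hAn).resolve_left hA
  have : s ∈ A := by rw [hAtop]; exact Subgroup.mem_top s
  exact this

/-- A subgroup of a direct power of a simple group that is invariant under all automorphisms is trivial or
everything. -/
theorem char_subgroup_pow {S : Type*} [Group S] [IsSimpleGroup S] (n : ℕ) (K : Subgroup (Fin n → S))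
    (hinv : ∀ ψ : (Fin n → S) ≃* (Fin n → S), ∀ y ∈ K, ψ y ∈ K) : K = ⊥ ∨ K = ⊤ := by
  classical
  by_cases hK : K = ⊥
  · exact Or.inl hK
  right
  obtain ⟨x, hxK, hx1⟩ : ∃ x ∈ K, x ≠ 1 := by
    by_contra hcon
    push_neg at hcon
    exact hK ((Subgroup.eq_bot_iff_forall K).2 hcon)
  obtain ⟨i, hxi⟩ : ∃ i, x i ≠ 1 := by
    by_contra hcon
    push_neg at hcon
    exact hx1 (funext hcon)
  have hKn : K.Normal := ⟨fun y hy g => hinv (MulAut.conj g) y hy⟩
  -- every coordinate subgroup lies in `K`
  have hall : ∀ (j : Fin n) (s : S), Pi.mulSingle j s ∈ K := by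
    by_cases hS : IsMulCommutative S
    · have hcomm : ∀ a b : S, a * b = b * a := fun a b => mul_comm' a b
      -- `x i` generates `S`
      have hgen : ∀ s : S, s ∈ Subgroup.zpowers (x i) := by
        have hzn : (Subgroup.zpowers (x i)).Normal := ⟨fun y hy g => by
          have : g * y * g⁻¹ = y := by rw [hcomm g y]; group
          rwa [this]⟩
        have hz : Subgroup.zpowers (x i) = ⊤ :=
          (Subgroup.Normal.eq_bot_or_eq_top hzn).resolve_left (Subgroup.zpowers_ne_bot.2 hxi)
        intro s
        rw [hz]; exact Subgroup.mem_top s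
      have hpow : ∀ j : Fin n, Pi.mulSingle j (x i) ∈ K → ∀ s : S, Pi.mulSingle j s ∈ K := by
        intro j hj s
        obtain ⟨k, hk⟩ := Subgroup.mem_zpowers_iff.1 (hgen s)
        rw [← hk]
        have : (Pi.mulSingle j (x i ^ k) : Fin n → S) = (Pi.mulSingle j (x i)) ^ k :=
          map_zpow (MonoidHom.mulSingle (fun _ : Fin n => S) j) (x i) k
        rw [this]
        exact K.zpow_mem hj k
      have hne : ∀ j : Fin n, j ≠ i → ∀ s : S, Pi.mulSingle j s ∈ K := by
        intro j hj s
        apply hpow j
        rw [← transvAut_mul_inv hcomm i j (Ne.symm hj) x]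
        exact K.mul_mem (hinv _ x hxK) (K.inv_mem hxK)
      intro j s
      by_cases hj : j = i
      · subst hj
        by_cases hex : ∃ l : Fin n, l ≠ j
        · obtain ⟨l, hl⟩ := hex
          have h1 := hne l hl s
          have h2 := hinv (permAut (Equiv.swap l j)) _ h1
          rwa [permAut_swap_mulSingle] at h2
        · push_neg at hex
          apply hpow j
          have : x = Pi.mulSingle j (x j) := by
            funext l
            rw [hex l, Pi.mulSingle_eq_same]
          rw [← this]
          exact hxK
      · exact hne j hj s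
    · intro j s
      have h1 : Pi.mulSingle i s ∈ K := mulSingle_mem_of_normal hS K i hxK hxi s
      have h2 := hinv (permAut (Equiv.swap i j)) _ h1
      rwa [permAut_swap_mulSingle] at h2
  rw [eq_top_iff]
  intro y _
  rw [← Finset.noncommProd_mulSingle y]
  apply Subgroup.noncommProd_mem
  intro j _
  exact hall j (y j)

end Cfsg.Agent.Lib.Helper10
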