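import Mathlib

set_option autoImplicit false

namespace Cfsg.Agent.Lib.Helper10.CoxExch

section Val
variable {ι : Type*} {W : Type*} [Group W]

/-- value of a word under a map of letters to group elements -/
def val (σ : ι → W) (ω : List ι) : W := (ω.map σ).prod

@[simp] theorem val_nil (σ : ι → W) : val σ [] = 1 := rfl

@[simp] theorem val_cons (σ : ι → W) (i : ι) (ω : List ι) : val σ (i :: ω) = σ i * val σ ω := by
  simp [val]

@[simp] theorem val_append (σ : ι → W) (ω ω' : List ι) :
    val σ (ω ++ ω') = val σ ω * val σ ω' := by
  simp [val]

theorem val_singleton (σ : ι → W) (i : ι) : val σ [i] = σ i := by simp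

theorem val_reverse (σ : ι → W) (h2 : ∀ i, σ i * σ i = 1) (ω : List ι) :
    val σ ω.reverse = (val σ ω)⁻¹ := by
  induction ω with
  | nil => simp
  | cons i ω ih =>
    rw [List.reverse_cons, val_append, ih, val_cons, val_cons, val_nil, mul_one, mul_inv_rev]
    congr 1
    exact eq_inv_of_mul_eq_one_left (h2 i)

theorem val_rotate_eq_one (σ : ι → W) (ω : List ι) (k : ℕ) (h : val σ ω = 1) :
    val σ (ω.rotate k) = 1 := by
  unfold val at h ⊢
  rw [List.map_rotate]
  exact List.prod_rotate_eq_one_of_prod_eq_one h k

theorem val_rotate_eq_one_iff (σ : ι → W) (ω : List ι) (k : ℕ) :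
    val σ (ω.rotate k) = 1 ↔ val σ ω = 1 := by
  constructor
  · intro h
    have h1 := val_rotate_eq_one σ (ω.rotate k) (ω.length - k % ω.length) h
    rw [List.rotate_rotate] at h1
    rcases Nat.eq_zero_or_pos ω.length with h0 | h0
    · have : ω = [] := List.length_eq_zero_iff.mp h0
      subst this
      simp
    · have h2 : k % ω.length < ω.length := Nat.mod_lt _ h0
      have h3 : ω.rotate (k + (ω.length - k % ω.length)) = ω := by
        rw [← List.rotate_mod]
        have : (k + (ω.length - k % ω.length)) % ω.length = 0 := by
          have h4 : k = ω.length * (k / ω.length) + k % ω.length := (Nat.div_add_mod _ _).symm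
          have h5 : k + (ω.length - k % ω.length) = ω.length * (k / ω.length + 1) := by
            rw [Nat.mul_add, Nat.mul_one]
            omega
          rw [h5, Nat.mul_mod_right]
        rw [this, List.rotate_zero]
      rw [h3] at h1
      exact h1
  · exact val_rotate_eq_one σ ω k

/-- a word of even length with `ω[k] = ω[k+2]` throughout (after the prefix `a, b`) is a power -/
theorem val_period_two (σ : ι → W) : ∀ (q : ℕ) (a b : ι) (ω : List ι), ω.length = 2 * q →
    (∀ k (h : k + 2 < (a :: b :: ω).length), (a :: b :: ω)[k] = (a :: b :: ω)[k + 2]) →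
    val σ ω = (σ a * σ b) ^ q := by
  intro q
  induction q with
  | zero =>
    intro a b ω hlen _
    have : ω = [] := List.length_eq_zero_iff.mp (by omega)
    subst this
    simp
  | succ q ih =>
    intro a b ω hlen hper
    match ω, hlen, hper with
    | x :: y :: ω', hlen, hper =>
      have hx : a = x := hper 0 (by simp)
      have hy : b = y := hper 1 (by simp)
      subst hx hy
      have hlen' : ω'.length = 2 * q := by
        simp only [List.length_cons] at hlen
        omega
      have hper' : ∀ k (h : k + 2 < (a :: b :: ω').length),
          (a :: b :: ω')[k] = (a :: b :: ω')[k + 2] := by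
        intro k hk
        have := hper (k + 2) (by simp only [List.length_cons] at hk ⊢; omega)
        simpa using this
      rw [val_cons, val_cons, ih a b ω' hlen' hper', pow_succ', mul_assoc]
    | [], hlen, _ => simp at hlen
    | [x], hlen, _ => simp at hlen; omega

end Val

end Cfsg.Agent.Lib.Helper10.CoxExch
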