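import Mathlib
import Cfsg.Agent.Lib.Helper10.CoxExchA

set_option autoImplicit false

namespace Cfsg.Agent.Lib.Helper10.CoxExch

section Main
variable {ι : Type*} {W : Type*} [Group W] {Wt : Type*} [Group Wt]
variable (σ : ι → W) (τ : ι → Wt)

/-- hypotheses: `σ` involutions with the deletion property, `τ` involutions satisfying the braid
relations dictated by `σ`. -/
structure Hyp : Prop where
  σ2 : ∀ i, σ i * σ i = 1
  τ2 : ∀ i, τ i * τ i = 1
  inj : Function.Injective σ
  braid : ∀ i j q, (σ i * σ j) ^ q = 1 → (τ i * τ j) ^ q = 1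
  del : ∀ ω : List ι, (∃ ω' : List ι, val σ ω' = val σ ω ∧ ω'.length < ω.length) →
    ∃ (a : List ι) (s : ι) (b : List ι) (t : ι) (c : List ι),
      ω = a ++ (s :: (b ++ (t :: c))) ∧ σ s * val σ b = val σ b * σ t

variable {σ τ}

theorem c1 (h : Hyp σ τ) (n : ℕ)
    (IH : ∀ ω : List ι, ω.length < n → val σ ω = 1 → val τ ω = 1)
    (x y : List ι) (hl : x.length + y.length < n) (hv : val σ x = val σ y) :
    val τ x = val τ y := by
  have h1 := IH (x ++ y.reverse) (by simp; omega)
    (by rw [val_append, val_reverse σ h.σ2, hv, mul_inv_cancel])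
  rw [val_append, val_reverse τ h.τ2] at h1
  exact mul_inv_eq_one.mp h1

theorem stepA (h : Hyp σ τ) (n : ℕ)
    (IH : ∀ ω : List ι, ω.length < n → val σ ω = 1 → val τ ω = 1)
    (ω : List ι) (hlen : ω.length = n) (hv : val σ ω = 1) :
    val τ ω = 1 ∨ ∃ s b t z, ω = s :: (b ++ (t :: z)) ∧ z.length = b.length ∧
      σ s * val σ b = val σ b * σ t := by
  rcases Nat.eq_zero_or_pos n with h0 | h0
  · left
    have : ω = [] := List.length_eq_zero_iff.mp (by omega)
    subst this
    simp
  obtain ⟨p, hp⟩ : ∃ p, p = n / 2 + 1 := ⟨_, rfl⟩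
  have hpn : p ≤ n := by omega
  obtain ⟨u, hu⟩ : ∃ u, u = ω.take p := ⟨_, rfl⟩
  obtain ⟨z, hz⟩ : ∃ z, z = ω.drop p := ⟨_, rfl⟩
  have hω : ω = u ++ z := by rw [hu, hz, List.take_append_drop]
  have hul : u.length = p := by rw [hu, List.length_take]; omega
  have hzl : z.length = n - p := by rw [hz, List.length_drop]; omega
  have hvu : val σ z.reverse = val σ u := by
    rw [val_reverse σ h.σ2]
    rw [hω, val_append] at hv
    exact (eq_inv_of_mul_eq_one_left hv).symm
  obtain ⟨a, s, b, t, c, hdec, hrel⟩ :=
    h.del u ⟨z.reverse, hvu, by rw [List.length_reverse]; omega⟩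
  have hlens : a.length + b.length + c.length + 2 = p := by
    rw [← hul, hdec]
    simp only [List.length_append, List.length_cons]
    omega
  by_cases hsmall : 2 * b.length + 2 < n
  · left
    have h1 : val τ (s :: b) = val τ (b ++ [t]) :=
      c1 h n IH (s :: b) (b ++ [t]) (by simp; omega) (by simp [hrel])
    have h1' : τ s * val τ b = val τ b * τ t := by simpa using h1
    have h2 : val τ u = val τ (a ++ (b ++ c)) := by
      rw [hdec]
      simp only [val_append, val_cons]
      rw [← mul_assoc (τ s), h1', mul_assoc (val τ b), ← mul_assoc (τ t), h.τ2, one_mul]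
    have h3 : val σ u = val σ (a ++ (b ++ c)) := by
      rw [hdec]
      simp only [val_append, val_cons]
      rw [← mul_assoc (σ s), hrel, mul_assoc (val σ b), ← mul_assoc (σ t), h.σ2, one_mul]
    have h4 : val σ ((a ++ (b ++ c)) ++ z) = 1 := by
      rw [val_append, ← h3, ← val_append, ← hω, hv]
    have h5 := IH ((a ++ (b ++ c)) ++ z) (by
      simp only [List.length_append]
      omega) h4
    rw [hω, val_append, h2, ← val_append, h5]
  · right
    have hb : 2 * b.length + 2 = n := by omega
    have ha : a = [] := List.length_eq_zero_iff.mp (by omega)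
    have hc : c = [] := List.length_eq_zero_iff.mp (by omega)
    subst ha hc
    refine ⟨s, b, t, z, ?_, by omega, hrel⟩
    rw [hω, hdec]
    simp

theorem stepB0 (h : Hyp σ τ) (n : ℕ)
    (IH : ∀ ω : List ι, ω.length < n → val σ ω = 1 → val τ ω = 1)
    (ω : List ι) (hlen : ω.length = n) (hv : val σ ω = 1) (hτ : val τ ω ≠ 1) (hn : 2 < n) :
    ω[0]'(by omega) = ω[2]'(by omega) := by
  rcases stepA h n IH ω hlen hv with h1 | ⟨s1, b, t, z, hω, hzb, h5⟩
  · exact absurd h1 hτ
  have hbl : 2 * b.length + 2 = n := by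
    rw [← hlen, hω]
    simp only [List.length_append, List.length_cons]
    omega
  match b, hω, hzb, h5, hbl with
  | [], _, _, _, hbl => simp at hbl; omega
  | s2 :: b', hω, hzb, h5, hbl =>
  match z, hω, hzb with
  | [], _, hzb => simp at hzb
  | t2 :: z', hω, hzb =>
  obtain ⟨s3, d, he⟩ : ∃ s3 d, b' ++ [t] = s3 :: d := by
    cases hb' : b' ++ [t] with
    | nil => simp at hb'
    | cons x y => exact ⟨x, y, rfl⟩
  have hdl : d.length = b'.length := by
    have := congrArg List.length he
    simp only [List.length_append, List.length_cons, List.length_nil] at this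
    omega
  have hzl : z'.length = b'.length := by
    simp only [List.length_cons] at hzb
    omega
  have hnb : n = 2 * b'.length + 4 := by
    simp only [List.length_cons] at hbl
    omega
  have hω' : ω = s1 :: s2 :: s3 :: (d ++ (t2 :: z')) := by
    rw [hω]
    have : (s2 :: b') ++ (t :: t2 :: z') = s2 :: ((b' ++ [t]) ++ (t2 :: z')) := by simp
    rw [this, he]
    rfl
  have hgoal : s1 = s3 := by
    -- the rotated word
    have hR1 : ω.rotate 1 = s2 :: ((s3 :: d) ++ (t2 :: (z' ++ [s1]))) := by
      rw [hω']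
      simp
    have hR1len : (ω.rotate 1).length = n := by rw [List.length_rotate]; exact hlen
    have hR1σ : val σ (ω.rotate 1) = 1 := (val_rotate_eq_one_iff σ ω 1).mpr hv
    have hR1τ : val τ (ω.rotate 1) ≠ 1 := fun h' => hτ ((val_rotate_eq_one_iff τ ω 1).mp h')
    rcases stepA h n IH (ω.rotate 1) hR1len hR1σ with h1 | ⟨s', b2, t2', z2, hR, hz2, h7⟩
    · exact absurd h1 hR1τ
    have hb2l : b2.length = (s3 :: d).length := by
      have := congrArg List.length hR
      rw [hR1len] at this
      simp only [List.length_append, List.length_cons] at this ⊢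
      omega
    rw [hR1] at hR
    have hR' := List.cons.inj hR
    have hs' : s2 = s' := hR'.1
    have hR'' := List.append_inj hR'.2 hb2l.symm
    have hb2 : s3 :: d = b2 := hR''.1
    have ht2' : t2 = t2' := (List.cons.inj hR''.2).1
    subst hs' ht2'
    rw [← hb2] at h7
    -- h7 : σ s2 * val σ (s3 :: d) = val σ (s3 :: d) * σ t2
    have h7' : σ s2 * (σ s3 * val σ d) = σ s3 * val σ d * σ t2 := by
      simpa using h7
    have hKσ : val σ (s2 :: b') * σ t = σ s2 * (σ s3 * val σ d) := by
      have h1 := congrArg (val σ) he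
      simp only [val_append, val_cons, val_nil, mul_one] at h1
      rw [val_cons, mul_assoc, h1]
    have hKτ : val τ (s2 :: b') * τ t = τ s2 * (τ s3 * val τ d) := by
      have h1 := congrArg (val τ) he
      simp only [val_append, val_cons, val_nil, mul_one] at h1
      rw [val_cons, mul_assoc, h1]
    obtain ⟨w2, hw2⟩ : ∃ w2, w2 = s3 :: ((s2 :: b') ++ (t :: (t2 :: d.reverse))) := ⟨_, rfl⟩
    have hw2len : w2.length = n := by
      rw [hw2]
      simp only [List.length_append, List.length_cons, List.length_reverse]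
      omega
    have hw2σ' : val σ w2 = σ s3 * (val σ (s2 :: b') * σ t) * (σ t2 * (val σ d)⁻¹) := by
      rw [hw2]
      simp only [val_append, val_cons, val_reverse σ h.σ2, mul_assoc]
    have hw2τ' : val τ w2 = τ s3 * (val τ (s2 :: b') * τ t) * (τ t2 * (val τ d)⁻¹) := by
      rw [hw2]
      simp only [val_append, val_cons, val_reverse τ h.τ2, mul_assoc]
    have hw2σ : val σ w2 = 1 := by
      rw [hw2σ', hKσ, h7']
      have e1 := h.σ2 s3
      have e2 := h.σ2 t2
      calc σ s3 * (σ s3 * val σ d * σ t2) * (σ t2 * (val σ d)⁻¹)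
          = (σ s3 * σ s3) * val σ d * (σ t2 * σ t2) * (val σ d)⁻¹ := by group
        _ = 1 := by rw [e1, e2]; group
    have hw2τ : val τ w2 ≠ 1 := by
      intro hw
      rw [hw2τ', hKτ] at hw
      have hinv3 : (τ s3)⁻¹ = τ s3 := inv_eq_of_mul_eq_one_left (h.τ2 s3)
      have hinvt : (τ t2)⁻¹ = τ t2 := inv_eq_of_mul_eq_one_left (h.τ2 t2)
      have h7τ : τ s2 * (τ s3 * val τ d) = τ s3 * val τ d * τ t2 := by
        calc τ s2 * (τ s3 * val τ d)
            = (τ s3)⁻¹ * (τ s3 * (τ s2 * (τ s3 * val τ d)) * (τ t2 * (val τ d)⁻¹)) *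
                (τ t2 * (val τ d)⁻¹)⁻¹ := by group
          _ = (τ s3)⁻¹ * (τ t2 * (val τ d)⁻¹)⁻¹ := by rw [hw, mul_one]
          _ = τ s3 * val τ d * τ t2 := by rw [mul_inv_rev, inv_inv, hinv3, hinvt, mul_assoc]
      -- the shortened word
      obtain ⟨w3, hw3⟩ : ∃ w3, w3 = s3 :: (d ++ (z' ++ [s1])) := ⟨_, rfl⟩
      have hw3len : w3.length < n := by
        rw [hw3]
        simp only [List.length_append, List.length_cons, List.length_nil]
        omega
      have hw3σ : val σ w3 = 1 := by
        rw [← hR1σ, hR1, hw3]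
        simp only [val_append, val_cons, val_nil, mul_one]
        have e2 := h.σ2 t2
        calc σ s3 * (val σ d * (val σ z' * σ s1))
            = σ s3 * val σ d * (val σ z' * σ s1) := by group
          _ = σ s3 * val σ d * ((σ t2 * σ t2) * (val σ z' * σ s1)) := by rw [e2, one_mul]
          _ = (σ s3 * val σ d * σ t2) * (σ t2 * (val σ z' * σ s1)) := by group
          _ = σ s2 * (σ s3 * val σ d) * (σ t2 * (val σ z' * σ s1)) := by rw [h7']
          _ = σ s2 * (σ s3 * val σ d * (σ t2 * (val σ z' * σ s1))) := by group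
      have hw3τ := IH w3 hw3len hw3σ
      apply hR1τ
      rw [hR1]
      simp only [val_append, val_cons, val_nil, mul_one]
      have e2 := h.τ2 t2
      calc τ s2 * (τ s3 * val τ d * (τ t2 * (val τ z' * τ s1)))
          = τ s2 * (τ s3 * val τ d) * (τ t2 * (val τ z' * τ s1)) := by group
        _ = (τ s3 * val τ d * τ t2) * (τ t2 * (val τ z' * τ s1)) := by rw [h7τ]
        _ = τ s3 * val τ d * ((τ t2 * τ t2) * (val τ z' * τ s1)) := by group
        _ = τ s3 * val τ d * (val τ z' * τ s1) := by rw [e2, one_mul]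
        _ = val τ w3 := by
            rw [hw3]
            simp only [val_append, val_cons, val_nil, mul_one]
            group
        _ = 1 := hw3τ
    rcases stepA h n IH w2 hw2len hw2σ with h1 | ⟨s'', b'', t'', z'', hw, hzb'', h9⟩
    · exact absurd h1 hw2τ
    have hb''l : b''.length = (s2 :: b').length := by
      have := congrArg List.length hw
      rw [hw2len] at this
      simp only [List.length_append, List.length_cons] at this ⊢
      omega
    rw [hw2] at hw
    have hw' := List.cons.inj hw
    have hs'' : s3 = s'' := hw'.1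
    have hw'' := List.append_inj hw'.2 hb''l.symm
    have hb'' : s2 :: b' = b'' := hw''.1
    have ht'' : t = t'' := (List.cons.inj hw''.2).1
    subst hs'' ht''
    rw [← hb''] at h9
    -- h9 : σ s3 * val σ (s2 :: b') = val σ (s2 :: b') * σ t ; h5 similarly with s1
    have : σ s1 * val σ (s2 :: b') = σ s3 * val σ (s2 :: b') := by rw [h5, h9]
    exact h.inj (mul_right_cancel this)
  subst hgoal
  simp [hω']

theorem step (h : Hyp σ τ) (n : ℕ)
    (IH : ∀ ω : List ι, ω.length < n → val σ ω = 1 → val τ ω = 1)
    (ω : List ι) (hlen : ω.length = n) (hv : val σ ω = 1) : val τ ω = 1 := by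
  by_contra hτ
  rcases stepA h n IH ω hlen hv with h1 | ⟨s1, b, t, z, hω, hzb, h5⟩
  · exact hτ h1
  have hbl : 2 * b.length + 2 = n := by
    rw [← hlen, hω]
    simp only [List.length_append, List.length_cons]
    omega
  have hper : ∀ k (hk : k + 2 < ω.length), ω[k] = ω[k + 2] := by
    intro k hk
    have hR := stepB0 h n IH (ω.rotate k) (by rw [List.length_rotate]; exact hlen)
      ((val_rotate_eq_one_iff σ ω k).mpr hv)
      (fun h' => hτ ((val_rotate_eq_one_iff τ ω k).mp h')) (by omega)
    rw [List.getElem_rotate, List.getElem_rotate] at hR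
    have e1 : (0 + k) % ω.length = k := by rw [zero_add]; exact Nat.mod_eq_of_lt (by omega)
    have e2 : (2 + k) % ω.length = k + 2 := by
      rw [add_comm]; exact Nat.mod_eq_of_lt hk
    simp only [e1, e2] at hR
    exact hR
  match ω, hlen, hv, hτ, hper with
  | [], hlen, _, _, _ => simp at hlen; omega
  | [x], hlen, _, _, _ => simp at hlen; omega
  | x :: y :: ω0, hlen, hv, hτ, hper =>
    have hl0 : ω0.length = 2 * b.length := by
      simp only [List.length_cons] at hlen
      omega
    have e1 := val_period_two σ b.length x y ω0 hl0 hper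
    have e2 := val_period_two τ b.length x y ω0 hl0 hper
    apply hτ
    rw [val_cons, val_cons, e2, ← mul_assoc, ← pow_succ']
    apply h.braid
    rw [pow_succ', mul_assoc, ← e1, ← val_cons, ← val_cons]
    exact hv

theorem main (h : Hyp σ τ) : ∀ ω : List ι, val σ ω = 1 → val τ ω = 1 := by
  intro ω
  induction hn : ω.length using Nat.strong_induction_on generalizing ω with
  | _ n ih =>
    intro hv
    apply step h n _ ω hn hv
    intro ω' hlen hv'
    exact ih ω'.length hlen ω' rfl hv'

end Main

end Cfsg.Agent.Lib.Helper10.CoxExch
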