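import Mathlib
import Cfsg.Agent.Lib.Helper10.CoxExchA
import Cfsg.Agent.Lib.Helper10.CoxExchB

set_option autoImplicit false

namespace Cfsg.Agent.Lib.Helper10.CoxExch

theorem orderOf_mul_comm' {W : Type*} [Group W] (a b : W) : orderOf (a * b) = orderOf (b * a) := by
  have h := orderOf_injective (MulAut.conj b).toMonoidHom (MulAut.conj b).injective (a * b)
  rw [← h]
  congr 1
  simp only [MulEquiv.coe_toMonoidHom, MulAut.conj_apply]
  group

theorem exists_coxeterSystem {ι : Type*} {W : Type*} [Group W] (σ : ι → W)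
    (h2 : ∀ i, σ i * σ i = 1) (hinj : Function.Injective σ)
    (hgen : Subgroup.closure (Set.range σ) = ⊤)
    (hdel : ∀ ω : List ι, (∃ ω' : List ι, val σ ω' = val σ ω ∧ ω'.length < ω.length) →
      ∃ (a : List ι) (s : ι) (b : List ι) (t : ι) (c : List ι),
        ω = a ++ (s :: (b ++ (t :: c))) ∧ σ s * val σ b = val σ b * σ t) :
    ∃ (M : CoxeterMatrix ι) (cs : CoxeterSystem M W), ∀ i, cs.simple i = σ i := by
  classical
  have hinv : ∀ i, (σ i)⁻¹ = σ i := fun i => inv_eq_of_mul_eq_one_left (h2 i)
  let M : CoxeterMatrix ι :=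
    { M := fun i j => orderOf (σ i * σ j)
      isSymm := by
        apply Matrix.IsSymm.ext
        intro i j
        exact orderOf_mul_comm' (σ j) (σ i)
      diagonal := by
        intro i
        show orderOf (σ i * σ i) = 1
        rw [h2, orderOf_one]
      off_diagonal := by
        intro i j hij h1
        have h3 : orderOf (σ i * σ j) = 1 := h1
        rw [orderOf_eq_one_iff] at h3
        apply hij
        apply hinj
        rw [← hinv j]
        exact eq_inv_of_mul_eq_one_left h3 }
  have hM : ∀ i j, M i j = orderOf (σ i * σ j) := fun i j => rfl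
  let cs0 : CoxeterSystem M M.Group := M.toCoxeterSystem
  have hlift : M.IsLiftable σ := by
    intro i j
    rw [hM]
    exact pow_orderOf_eq_one _
  let φ : M.Group →* W := cs0.lift ⟨σ, hlift⟩
  have hφ : ∀ i, φ (cs0.simple i) = σ i := fun i => cs0.lift_apply_simple hlift i
  have hφw : ∀ ω : List ι, φ (cs0.wordProd ω) = val σ ω := by
    intro ω
    induction ω with
    | nil => simp [CoxeterSystem.wordProd]
    | cons i ω ih => rw [CoxeterSystem.wordProd_cons, map_mul, ih, hφ, val_cons]
  have hyp : Hyp σ cs0.simple :=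
    { σ2 := h2
      τ2 := fun i => cs0.simple_mul_simple_self i
      inj := hinj
      braid := by
        intro i j q hq
        have h1 : orderOf (σ i * σ j) ∣ q := orderOf_dvd_of_pow_eq_one hq
        obtain ⟨c, hc⟩ := h1
        have h3 := cs0.simple_mul_simple_pow i j
        rw [hM] at h3
        rw [hc, pow_mul, h3, one_pow]
      del := hdel }
  have hmain := main hyp
  have hφinj : Function.Injective φ := by
    rw [injective_iff_map_eq_one]
    intro x hx
    obtain ⟨ω, rfl⟩ := cs0.wordProd_surjective x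
    rw [hφw] at hx
    exact hmain ω hx
  have hφsurj : Function.Surjective φ := by
    rw [← MonoidHom.range_eq_top, ← top_le_iff, ← hgen, Subgroup.closure_le]
    rintro _ ⟨i, rfl⟩
    exact ⟨cs0.simple i, hφ i⟩
  let e : M.Group ≃* W := MulEquiv.ofBijective φ ⟨hφinj, hφsurj⟩
  refine ⟨M, ⟨e.symm⟩, ?_⟩
  intro i
  show e.symm.symm (PresentedGroup.of i) = σ i
  rw [MulEquiv.symm_symm]
  exact hφ i

end Cfsg.Agent.Lib.Helper10.CoxExch
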