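import Mathlib
import Cfsg.Prelude.Def_LieExceptional

set_option autoImplicit false

namespace Cfsg.Agent.Lib.Helper10.CoxExch

section BN
variable {G : Type*} [Group G] (P : Cfsg.BNPair G)

/-- `y` lies in the double coset `B x B` -/
def DC (x y : G) : Prop := ∃ b1 ∈ P.B, ∃ b2 ∈ P.B, y = b1 * x * b2

variable {P}

theorem DC.refl (x : G) : DC P x x := ⟨1, one_mem _, 1, one_mem _, by simp⟩

theorem DC.symm {x y : G} (h : DC P x y) : DC P y x := by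
  obtain ⟨b1, h1, b2, h2, rfl⟩ := h
  exact ⟨b1⁻¹, inv_mem h1, b2⁻¹, inv_mem h2, by group⟩

theorem DC.trans {x y z : G} (h : DC P x y) (h' : DC P y z) : DC P x z := by
  obtain ⟨b1, h1, b2, h2, rfl⟩ := h
  obtain ⟨c1, k1, c2, k2, rfl⟩ := h'
  exact ⟨c1 * b1, mul_mem k1 h1, b2 * c2, mul_mem h2 k2, by group⟩

theorem DC.inv {x y : G} (h : DC P x y) : DC P x⁻¹ y⁻¹ := by
  obtain ⟨b1, h1, b2, h2, rfl⟩ := h
  exact ⟨b2⁻¹, inv_mem h2, b1⁻¹, inv_mem h1, by group⟩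

theorem DC.mul_left {x y : G} (h : DC P x y) {b : G} (hb : b ∈ P.B) : DC P x (b * y) := by
  obtain ⟨b1, h1, b2, h2, rfl⟩ := h
  exact ⟨b * b1, mul_mem hb h1, b2, h2, by group⟩

theorem DC.mul_right {x y : G} (h : DC P x y) {b : G} (hb : b ∈ P.B) : DC P x (y * b) := by
  obtain ⟨b1, h1, b2, h2, rfl⟩ := h
  exact ⟨b1, h1, b2 * b, mul_mem h2 hb, by group⟩

theorem DC.of_mul_right {x : G} {b : G} (hb : b ∈ P.B) : DC P x (x * b) :=
  (DC.refl x).mul_right hb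

theorem DC.mem_B {y : G} (h : DC P 1 y) : y ∈ P.B := by
  obtain ⟨b1, h1, b2, h2, rfl⟩ := h
  rw [mul_one]
  exact mul_mem h1 h2

/-- first axiom, in relational form -/
theorem f1 {s : G} (hs : s ∈ P.S) {n : G} (hn : n ∈ P.N) {b : G} (hb : b ∈ P.B) :
    DC P (s * n) (s * b * n) ∨ DC P n (s * b * n) := by
  rcases P.mul_mem_union s hs n hn b hb with h | h
  · left
    exact DoubleCoset.mem_doubleCoset.mp h
  · right
    exact DoubleCoset.mem_doubleCoset.mp h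

theorem sN {s : G} (hs : s ∈ P.S) : s ∈ P.N := P.subset hs

theorem ssB {s : G} (hs : s ∈ P.S) : s * s ∈ P.B := P.sq_mem s hs

theorem s_inv {s : G} : s⁻¹ = s * (s * s)⁻¹ := by group

theorem s_inv' {s : G} : s⁻¹ = (s * s)⁻¹ * s := by group

/-- normality of `B ⊓ N` in `N`, both directions -/
theorem conjB {n : G} (hn : n ∈ P.N) {t : G} (htB : t ∈ P.B) (htN : t ∈ P.N) :
    n * t * n⁻¹ ∈ P.B := P.conj_mem n hn t ⟨htB, htN⟩

theorem conjB' {n : G} (hn : n ∈ P.N) {t : G} (htB : t ∈ P.B) (htN : t ∈ P.N) :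
    n⁻¹ * t * n ∈ P.B := by
  have := P.conj_mem n⁻¹ (inv_mem hn) t ⟨htB, htN⟩
  rwa [inv_inv] at this

/-- right-handed version of the first axiom -/
theorem f1' {s : G} (hs : s ∈ P.S) {n : G} (hn : n ∈ P.N) {b : G} (hb : b ∈ P.B) :
    DC P (n * s) (n * b * s) ∨ DC P n (n * b * s) := by
  have ht0 : (s * s)⁻¹ ∈ P.B := inv_mem (ssB hs)
  have h1 : (n * b * s)⁻¹ = s * ((s * s)⁻¹ * b⁻¹) * n⁻¹ := by group
  rcases f1 hs (inv_mem hn) (mul_mem ht0 (inv_mem hb)) with h | h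
  · left
    rw [← h1] at h
    have h2 := h.inv
    rw [inv_inv] at h2
    have h3 : (s * n⁻¹)⁻¹ = n * s * (s * s)⁻¹ := by group
    rw [h3] at h2
    exact (DC.of_mul_right ht0).trans h2
  · right
    rw [← h1] at h
    have h2 := h.inv
    rwa [inv_inv, inv_inv] at h2

theorem s_not_mem_B {s : G} (hs : s ∈ P.S) : s ∉ P.B := by
  intro hsB
  apply P.conj_ne s hs
  ext x
  constructor
  · rintro ⟨b, hb, rfl⟩
    exact mul_mem (mul_mem hsB hb) hsB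
  · intro hx
    exact ⟨s⁻¹ * x * s⁻¹, mul_mem (mul_mem (inv_mem hsB) hx) (inv_mem hsB), by group⟩

theorem exists_sbs {s : G} (hs : s ∈ P.S) : ∃ b ∈ P.B, s * b * s ∉ P.B := by
  by_contra hno
  push Not at hno
  apply P.conj_ne s hs
  ext x
  constructor
  · rintro ⟨b, hb, rfl⟩
    exact hno b hb
  · intro hx
    have ht0 : (s * s)⁻¹ ∈ P.B := inv_mem (ssB hs)
    refine ⟨s⁻¹ * x * s⁻¹, ?_, by group⟩
    have h1 : s⁻¹ * x * s⁻¹ = s * ((s * s)⁻¹ * x) * s * (s * s)⁻¹ := by group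
    rw [h1]
    exact mul_mem (hno _ (mul_mem ht0 hx)) ht0

/-- the sets `P_s` of Bourbaki -/
def Ps (P : Cfsg.BNPair G) (s n : G) : Prop := ∀ b ∈ P.B, DC P (s * n) (s * b * n)

theorem Ps_one (s : G) : Ps P s 1 := by
  intro b hb
  rw [mul_one, mul_one]
  exact DC.of_mul_right hb

theorem Ps_mul_T {s n t : G} (ht : t ∈ P.B) (h : Ps P s n) : Ps P s (n * t) := by
  intro b hb
  obtain ⟨b1, h1, b2, h2, h3⟩ := h b hb
  refine ⟨b1, h1, t⁻¹ * b2 * t, mul_mem (mul_mem (inv_mem ht) h2) ht, ?_⟩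
  rw [← mul_assoc, h3]
  group

end BN

end Cfsg.Agent.Lib.Helper10.CoxExch
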