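import Mathlib
import Cfsg.Prelude.Def_LieExceptional
import Cfsg.Agent.Lib.Helper10.CoxExchA
import Cfsg.Agent.Lib.Helper10.CoxExchD

set_option autoImplicit false

namespace Cfsg.Agent.Lib.Helper10.CoxExch

theorem map_val {ι : Type*} {W W' : Type*} [Group W] [Group W'] (f : W →* W') (σ : ι → W)
    (ω : List ι) : f (val σ ω) = val (fun i => f (σ i)) ω := by
  induction ω with
  | nil => simp
  | cons i ω ih => rw [val_cons, map_mul, ih, val_cons]

section BNW
variable {G : Type*} [Group G] (P : Cfsg.BNPair G)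

/-- the distinguished generators as elements of `N` -/
def sN' (s : P.S) : P.N := ⟨(s : G), P.subset s.2⟩

variable [hN : ((P.B ⊓ P.N).subgroupOf P.N).Normal]

/-- images of the distinguished generators in the Weyl group -/
def sig (s : P.S) : P.N ⧸ (P.B ⊓ P.N).subgroupOf P.N := QuotientGroup.mk (sN' P s)

variable {P}

theorem mk_eq_iff (x y : P.N) :
    (QuotientGroup.mk x : P.N ⧸ (P.B ⊓ P.N).subgroupOf P.N) = QuotientGroup.mk y ↔
      (x : G)⁻¹ * (y : G) ∈ P.B := by
  rw [QuotientGroup.eq, Subgroup.mem_subgroupOf]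
  constructor
  · intro h
    exact h.1
  · intro h
    exact ⟨h, (x⁻¹ * y).2⟩

theorem mk_eq_one_iff (x : P.N) :
    (QuotientGroup.mk x : P.N ⧸ (P.B ⊓ P.N).subgroupOf P.N) = 1 ↔ (x : G) ∈ P.B := by
  rw [QuotientGroup.eq_one_iff, Subgroup.mem_subgroupOf]
  constructor
  · intro h
    exact h.1
  · intro h
    exact ⟨h, x.2⟩

theorem sig_sq (s : P.S) : sig P s * sig P s = 1 := by
  unfold sig
  rw [← QuotientGroup.mk_mul, mk_eq_one_iff]
  exact ssB s.2

theorem sig_ne_one (s : P.S) : sig P s ≠ 1 := by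
  unfold sig
  rw [Ne, mk_eq_one_iff]
  exact s_not_mem_B s.2

theorem sig_inj : Function.Injective (sig P) := by
  intro s s' h
  unfold sig at h
  rw [mk_eq_iff] at h
  exact Subtype.ext (P.inj s s.2 s' s'.2 h)

theorem mk_val (ω : List P.S) :
    (QuotientGroup.mk (val (sN' P) ω) : P.N ⧸ (P.B ⊓ P.N).subgroupOf P.N) = val (sig P) ω :=
  map_val (QuotientGroup.mk' ((P.B ⊓ P.N).subgroupOf P.N)) (sN' P) ω

theorem sig_gen : Subgroup.closure (Set.range (sig P)) = ⊤ := by
  rw [eq_top_iff]
  intro w _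
  induction w using QuotientGroup.induction_on with
  | H n =>
    obtain ⟨g, hg⟩ := n
    have hmem : g ∈ Subgroup.closure (P.S ∪ ((P.B ⊓ P.N : Subgroup G) : Set G)) := by
      rw [Subgroup.closure_union, Subgroup.closure_eq, P.closure_sup]
      exact hg
    have hle : Subgroup.closure (P.S ∪ ((P.B ⊓ P.N : Subgroup G) : Set G)) ≤ P.N := by
      rw [Subgroup.closure_le]
      rintro x (hx | hx)
      · exact P.subset hx
      · exact hx.2
    have key : ∀ (g : G) (hg : g ∈ Subgroup.closure (P.S ∪ ((P.B ⊓ P.N : Subgroup G) : Set G))),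
        (QuotientGroup.mk (⟨g, hle hg⟩ : P.N) : P.N ⧸ (P.B ⊓ P.N).subgroupOf P.N) ∈
          Subgroup.closure (Set.range (sig P)) := by
      intro g hg
      induction hg using Subgroup.closure_induction with
      | mem x hx =>
        rcases hx with hx | hx
        · apply Subgroup.subset_closure
          exact ⟨⟨x, hx⟩, rfl⟩
        · have : (QuotientGroup.mk (⟨x, hle (Subgroup.subset_closure (Or.inr hx))⟩ : P.N) :
              P.N ⧸ (P.B ⊓ P.N).subgroupOf P.N) = 1 := by
            rw [mk_eq_one_iff]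
            exact hx.1
          rw [this]
          exact one_mem _
      | one =>
        have : (⟨1, hle (one_mem _)⟩ : P.N) = 1 := rfl
        rw [this, QuotientGroup.mk_one]
        exact one_mem _
      | mul x y hx hy ihx ihy =>
        have : (⟨x * y, hle (mul_mem hx hy)⟩ : P.N) = ⟨x, hle hx⟩ * ⟨y, hle hy⟩ := rfl
        rw [this, QuotientGroup.mk_mul]
        exact mul_mem ihx ihy
      | inv x hx ihx =>
        have : (⟨x⁻¹, hle (inv_mem hx)⟩ : P.N) = (⟨x, hle hx⟩ : P.N)⁻¹ := rfl
        rw [this, QuotientGroup.mk_inv]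
        exact inv_mem ihx
    exact key g hmem

theorem exists_word (w : P.N ⧸ (P.B ⊓ P.N).subgroupOf P.N) :
    ∃ ω : List P.S, val (sig P) ω = w := by
  have hw : w ∈ Subgroup.closure (Set.range (sig P)) := by rw [sig_gen]; trivial
  induction hw using Subgroup.closure_induction with
  | mem x hx =>
    obtain ⟨s, rfl⟩ := hx
    exact ⟨[s], by simp⟩
  | one => exact ⟨[], rfl⟩
  | mul x y _ _ ihx ihy =>
    obtain ⟨ω1, h1⟩ := ihx
    obtain ⟨ω2, h2⟩ := ihy
    exact ⟨ω1 ++ ω2, by rw [val_append, h1, h2]⟩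
  | inv x _ ihx =>
    obtain ⟨ω1, h1⟩ := ihx
    exact ⟨ω1.reverse, by rw [val_reverse _ sig_sq, h1]⟩

theorem exists_min_word (w : P.N ⧸ (P.B ⊓ P.N).subgroupOf P.N) :
    ∃ ω : List P.S, val (sig P) ω = w ∧ ∀ ω' : List P.S, val (sig P) ω' = w →
      ω.length ≤ ω'.length := by
  classical
  have hex : ∃ q : ℕ, ∃ ω : List P.S, ω.length = q ∧ val (sig P) ω = w := by
    obtain ⟨ω, hω⟩ := exists_word w
    exact ⟨ω.length, ω, rfl, hω⟩
  obtain ⟨ω, hlen, hω⟩ := Nat.find_spec hex
  refine ⟨ω, hω, ?_⟩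
  intro ω' hω'
  rw [hlen]
  exact Nat.find_min' hex ⟨ω', rfl, hω'⟩

theorem coe_val_cons (s : P.S) (ω : List P.S) :
    ((val (sN' P) (s :: ω) : P.N) : G) = (s : G) * ((val (sN' P) ω : P.N) : G) := by
  rw [val_cons]
  rfl

theorem bruhat_aux : ∀ (q : ℕ) (ω : List P.S), ω.length = q → ∀ y : P.N,
    (∀ ω' : List P.S, val (sig P) ω' = QuotientGroup.mk y → q ≤ ω'.length) →
    DC P ((val (sN' P) ω : P.N) : G) (y : G) → val (sig P) ω = QuotientGroup.mk y := by
  intro q
  induction q with
  | zero =>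
    intro ω hlen y _ hdc
    have : ω = [] := List.length_eq_zero_iff.mp hlen
    subst this
    rw [val_nil]
    symm
    rw [mk_eq_one_iff]
    exact DC.mem_B hdc
  | succ q ih =>
    intro ω hlen y hmin hdc
    match ω, hlen, hmin, hdc with
    | [], hlen, _, _ => simp at hlen
    | s :: ω'', hlen, hmin, hdc =>
      have hl'' : ω''.length = q := by simpa using hlen
      rw [coe_val_cons] at hdc
      obtain ⟨b1, h1, b2, h2, hy⟩ := hdc
      have ht0 : ((s : G) * (s : G))⁻¹ ∈ P.B := inv_mem (ssB s.2)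
      have hbb : ((s : G) * (s : G))⁻¹ * b1⁻¹ ∈ P.B := mul_mem ht0 (inv_mem h1)
      have hn'' : ((val (sN' P) ω'' : P.N) : G) =
          (s : G) * (((s : G) * (s : G))⁻¹ * b1⁻¹) * (y : G) * b2⁻¹ := by
        rw [hy]
        group
      rcases f1 s.2 y.2 hbb with h | h
      · -- DC (s y) n''
        have hdc2 : DC P ((val (sN' P) ω'' : P.N) : G) ((sN' P s * y : P.N) : G) := by
          have h3 := h.mul_right (inv_mem h2)
          rw [← hn''] at h3
          exact h3.symm
        have hmin2 : ∀ ω' : List P.S, val (sig P) ω' = QuotientGroup.mk (sN' P s * y) →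
            q ≤ ω'.length := by
          intro ω' hω'
          have h4 : val (sig P) (s :: ω') = QuotientGroup.mk y := by
            rw [val_cons, hω', QuotientGroup.mk_mul, ← mul_assoc]
            show sig P s * sig P s * _ = _
            rw [sig_sq, one_mul]
          have := hmin (s :: ω') h4
          simp only [List.length_cons] at this
          omega
        have h5 := ih ω'' hl'' (sN' P s * y) hmin2 hdc2
        rw [val_cons, h5, QuotientGroup.mk_mul, ← mul_assoc]
        show sig P s * sig P s * _ = _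
        rw [sig_sq, one_mul]
      · -- DC y n''
        exfalso
        have hdc2 : DC P ((val (sN' P) ω'' : P.N) : G) (y : G) := by
          have h3 := h.mul_right (inv_mem h2)
          rw [← hn''] at h3
          exact h3.symm
        have hmin2 : ∀ ω' : List P.S, val (sig P) ω' = QuotientGroup.mk y → q ≤ ω'.length := by
          intro ω' hω'
          have := hmin ω' hω'
          omega
        have h5 := ih ω'' hl'' y hmin2 hdc2
        have := hmin ω'' h5
        omega

theorem bruhat (x y : P.N) (h : DC P (x : G) (y : G)) :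
    (QuotientGroup.mk x : P.N ⧸ (P.B ⊓ P.N).subgroupOf P.N) = QuotientGroup.mk y := by
  obtain ⟨ωx, hx, hxmin⟩ := exists_min_word (QuotientGroup.mk x : P.N ⧸ (P.B ⊓ P.N).subgroupOf P.N)
  obtain ⟨ωy, hy, hymin⟩ := exists_min_word (QuotientGroup.mk y : P.N ⧸ (P.B ⊓ P.N).subgroupOf P.N)
  have hdx : DC P ((val (sN' P) ωx : P.N) : G) (x : G) := by
    have h1 : (QuotientGroup.mk (val (sN' P) ωx) : P.N ⧸ (P.B ⊓ P.N).subgroupOf P.N) =
        QuotientGroup.mk x := by rw [mk_val, hx]
    rw [mk_eq_iff] at h1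
    have h2 := DC.of_mul_right (P := P) (x := ((val (sN' P) ωx : P.N) : G)) h1
    rwa [mul_inv_cancel_left] at h2
  have hdy : DC P ((val (sN' P) ωy : P.N) : G) (y : G) := by
    have h1 : (QuotientGroup.mk (val (sN' P) ωy) : P.N ⧸ (P.B ⊓ P.N).subgroupOf P.N) =
        QuotientGroup.mk y := by rw [mk_val, hy]
    rw [mk_eq_iff] at h1
    have h2 := DC.of_mul_right (P := P) (x := ((val (sN' P) ωy : P.N) : G)) h1
    rwa [mul_inv_cancel_left] at h2
  rcases le_total ωx.length ωy.length with hle | hle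
  · have h1 := bruhat_aux ωx.length ωx rfl y (fun ω' hω' => hle.trans (hymin ω' hω'))
      (hdx.trans h)
    rw [← hx, h1]
  · have h1 := bruhat_aux ωy.length ωy rfl x (fun ω' hω' => hle.trans (hxmin ω' hω'))
      (hdy.trans h.symm)
    rw [← hy, h1]

/-- `C(s n) ≠ C(n)` -/
theorem not_DC_s (s : P.S) (n : P.N) (h : DC P ((s : G) * (n : G)) (n : G)) : False := by
  have h1 := bruhat (sN' P s * n) n h
  rw [QuotientGroup.mk_mul] at h1
  have h2 : sig P s = 1 := mul_eq_right.mp h1
  exact sig_ne_one s h2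

theorem not_Ps_both (s : P.S) (n : P.N) (h1 : Ps P (s : G) (n : G))
    (h2 : Ps P (s : G) ((s : G) * (n : G))) : False := by
  obtain ⟨b, hb, hsbs⟩ := exists_sbs s.2
  have hd : DC P (s : G) ((s : G) * b * (s : G)) := by
    rcases f1 s.2 (sN s.2) hb with h | h
    · exfalso
      apply hsbs
      obtain ⟨c1, k1, c2, k2, hc⟩ := h
      rw [hc]
      exact mul_mem (mul_mem k1 (ssB s.2)) k2
    · exact h
  obtain ⟨b1, k1, b2, k2, hsb⟩ := hd
  -- x = s b s n = b1 s b2 n
  have hx1 : DC P ((s : G) * (n : G)) ((s : G) * b * ((s : G) * (n : G))) := by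
    have h3 := (h1 b2 k2).mul_left k1
    have h4 : (s : G) * b * ((s : G) * (n : G)) = b1 * ((s : G) * b2 * (n : G)) := by
      rw [← mul_assoc, hsb]
      group
    rw [h4]
    exact h3
  have hx2 : DC P (n : G) ((s : G) * b * ((s : G) * (n : G))) := by
    have h3 := h2 b hb
    have h4 : DC P (n : G) ((s : G) * ((s : G) * (n : G))) := by
      have h5 : (s : G) * ((s : G) * (n : G)) =
          (n : G) * ((n : G)⁻¹ * ((s : G) * (s : G)) * (n : G)) := by group
      rw [h5]
      exact DC.of_mul_right (conjB' n.2 (ssB s.2) (mul_mem (sN s.2) (sN s.2)))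
    exact h4.trans h3
  exact not_DC_s s n (hx1.trans hx2.symm)

theorem Ps_exchange (s s' : P.S) (n : P.N) (h1 : Ps P (s : G) (n : G))
    (h2 : ¬ Ps P (s : G) ((n : G) * (s' : G))) :
    sig P s * QuotientGroup.mk n = QuotientGroup.mk n * sig P s' := by
  unfold Ps at h2
  push Not at h2
  obtain ⟨b, hb, hnd⟩ := h2
  have hns' : (n : G) * (s' : G) ∈ P.N := mul_mem n.2 (sN s'.2)
  have hd : DC P ((n : G) * (s' : G)) ((s : G) * b * ((n : G) * (s' : G))) := by
    rcases f1 s.2 hns' hb with h | h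
    · exact absurd h hnd
    · exact h
  obtain ⟨b1, k1, b2, k2, hsb⟩ := hd
  -- s b n = b1 n (s' b2 s'⁻¹)
  have hsbn : (s : G) * b * (n : G) = b1 * (n : G) * ((s' : G) * b2 * (s' : G)⁻¹) := by
    have : (s : G) * b * (n : G) = ((s : G) * b * ((n : G) * (s' : G))) * (s' : G)⁻¹ := by group
    rw [this, hsb]
    group
  have hPs := h1 b hb
  have hcontra : DC P (n : G) ((s : G) * b * (n : G)) → False := by
    intro h
    exact not_DC_s s n (hPs.trans h.symm)
  rcases f1 s'.2 (inv_mem (sN s'.2)) k2 with h | h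
  · -- s' b2 s'⁻¹ ∈ B
    exfalso
    rw [mul_inv_cancel] at h
    have h3 : (s' : G) * b2 * (s' : G)⁻¹ ∈ P.B := DC.mem_B h
    apply hcontra
    rw [hsbn]
    exact ((DC.refl (n : G)).mul_left k1).mul_right h3
  · -- s' b2 s'⁻¹ ∈ B s'⁻¹ B = B s' B
    obtain ⟨b3, k3, b4, k4, hs'⟩ := h
    have ht0 : ((s' : G) * (s' : G))⁻¹ ∈ P.B := inv_mem (ssB s'.2)
    have hsbn2 : (s : G) * b * (n : G) =
        b1 * ((n : G) * b3 * (s' : G)) * (((s' : G) * (s' : G))⁻¹ * b4) := by
      rw [hsbn, hs']
      group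
    rcases f1' s'.2 n.2 k3 with h | h
    · have h3 : DC P ((n : G) * (s' : G)) ((s : G) * b * (n : G)) := by
        rw [hsbn2]
        exact (h.mul_left k1).mul_right (mul_mem ht0 k4)
      have h4 : DC P ((s : G) * (n : G)) ((n : G) * (s' : G)) := hPs.trans h3.symm
      have h5 := bruhat (sN' P s * n) (n * sN' P s') h4
      rw [QuotientGroup.mk_mul, QuotientGroup.mk_mul] at h5
      exact h5
    · exfalso
      apply hcontra
      rw [hsbn2]
      exact (h.mul_left k1).mul_right (mul_mem ht0 k4)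

/-- the sets `P_s` at the level of the Weyl group -/
def PsW (P : Cfsg.BNPair G) [((P.B ⊓ P.N).subgroupOf P.N).Normal] (s : P.S)
    (w : P.N ⧸ (P.B ⊓ P.N).subgroupOf P.N) : Prop :=
  ∃ n : P.N, QuotientGroup.mk n = w ∧ Ps P (s : G) (n : G)

theorem PsW_iff (s : P.S) (n : P.N) : PsW P s (QuotientGroup.mk n) ↔ Ps P (s : G) (n : G) := by
  constructor
  · rintro ⟨n', hn', hPs⟩
    rw [mk_eq_iff] at hn'
    have := Ps_mul_T hn' hPs
    rwa [mul_inv_cancel_left] at this
  · intro h
    exact ⟨n, rfl, h⟩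

theorem PsW_one (s : P.S) : PsW P s 1 := ⟨1, rfl, Ps_one _⟩

theorem not_PsW_both (s : P.S) (w : P.N ⧸ (P.B ⊓ P.N).subgroupOf P.N) (h1 : PsW P s w)
    (h2 : PsW P s (sig P s * w)) : False := by
  obtain ⟨n, rfl, hn⟩ := h1
  have : sig P s * QuotientGroup.mk n = QuotientGroup.mk (sN' P s * n) := rfl
  rw [this, PsW_iff] at h2
  exact not_Ps_both s n hn h2

theorem PsW_exchange (s s' : P.S) (w : P.N ⧸ (P.B ⊓ P.N).subgroupOf P.N) (h1 : PsW P s w)
    (h2 : ¬ PsW P s (w * sig P s')) : sig P s * w = w * sig P s' := by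
  obtain ⟨n, rfl, hn⟩ := h1
  have : (QuotientGroup.mk n : P.N ⧸ (P.B ⊓ P.N).subgroupOf P.N) * sig P s' =
      QuotientGroup.mk (n * sN' P s') := rfl
  rw [this, PsW_iff] at h2
  exact Ps_exchange s s' n hn h2

theorem exch_of_not_PsW (s : P.S) : ∀ u : List P.S, ¬ PsW P s (val (sig P) u) →
    ∃ (b : List P.S) (t : P.S) (c : List P.S), u = b ++ (t :: c) ∧
      sig P s * val (sig P) b = val (sig P) b * sig P t := by
  intro u
  induction u using List.reverseRecOn with
  | nil =>
    intro h
    exact absurd (PsW_one s) h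
  | append_singleton u0 t ih =>
    intro h
    by_cases h0 : PsW P s (val (sig P) u0)
    · refine ⟨u0, t, [], rfl, ?_⟩
      apply PsW_exchange s t _ h0
      rw [val_append, val_cons, val_nil, mul_one] at h
      exact h
    · obtain ⟨b, t', c, hu0, hrel⟩ := ih h0
      refine ⟨b, t', c ++ [t], ?_, hrel⟩
      rw [hu0]
      simp

theorem exchangeW (s : P.S) (u : List P.S)
    (hred : ∀ ω' : List P.S, val (sig P) ω' = val (sig P) u → u.length ≤ ω'.length)
    (ω' : List P.S) (hω' : val (sig P) ω' = sig P s * val (sig P) u)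
    (hlen : ω'.length ≤ u.length) :
    ∃ (b : List P.S) (t : P.S) (c : List P.S), u = b ++ (t :: c) ∧
      sig P s * val (sig P) b = val (sig P) b * sig P t := by
  by_cases h0 : PsW P s (val (sig P) u)
  · exfalso
    have h1 : ¬ PsW P s (val (sig P) ω') := by
      rw [hω']
      exact fun h => not_PsW_both s _ h0 h
    obtain ⟨b, t, c, hdec, hrel⟩ := exch_of_not_PsW s ω' h1
    have h2 : val (sig P) (b ++ c) = val (sig P) u := by
      have h3 : sig P s * val (sig P) ω' = val (sig P) u := by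
        rw [hω', ← mul_assoc, sig_sq, one_mul]
      rw [← h3, hdec, val_append, val_append, val_cons, ← mul_assoc (sig P s), hrel,
        mul_assoc (val (sig P) b), ← mul_assoc (sig P t), sig_sq, one_mul]
    have h4 := hred (b ++ c) h2
    have h5 : ω'.length = b.length + c.length + 1 := by
      rw [hdec]
      simp only [List.length_append, List.length_cons]
      omega
    rw [List.length_append] at h4
    omega
  · exact exch_of_not_PsW s u h0

theorem deletion : ∀ ω : List P.S,
    (∃ ω' : List P.S, val (sig P) ω' = val (sig P) ω ∧ ω'.length < ω.length) →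
    ∃ (a : List P.S) (s : P.S) (b : List P.S) (t : P.S) (c : List P.S),
      ω = a ++ (s :: (b ++ (t :: c))) ∧ sig P s * val (sig P) b = val (sig P) b * sig P t := by
  intro ω
  induction ω with
  | nil =>
    rintro ⟨ω', _, hlen⟩
    simp at hlen
  | cons x u ih =>
    rintro ⟨ω', hω', hlen⟩
    by_cases hu : ∃ u' : List P.S, val (sig P) u' = val (sig P) u ∧ u'.length < u.length
    · obtain ⟨a, s, b, t, c, hdec, hrel⟩ := ih hu
      exact ⟨x :: a, s, b, t, c, by rw [hdec]; rfl, hrel⟩
    · push Not at hu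
      have hred : ∀ u' : List P.S, val (sig P) u' = val (sig P) u → u.length ≤ u'.length := hu
      rw [val_cons] at hω'
      simp only [List.length_cons] at hlen
      obtain ⟨b, t, c, hdec, hrel⟩ := exchangeW x u hred ω' hω' (by omega)
      exact ⟨[], x, b, t, c, by rw [hdec]; rfl, hrel⟩

end BNW

end Cfsg.Agent.Lib.Helper10.CoxExch
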