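import Mathlib
import Cfsg.Agent.Lib.Helper5.NilK
import Cfsg.Agent.Lib.Helper10.GUOrdPA
import Cfsg.Agent.Lib.Helper10.JTB

set_option autoImplicit false

namespace Cfsg.Agent.Lib.Helper10.Dec

open Polynomial Module Cfsg.Agent.Lib.Helper5.Nil Cfsg.Agent.Lib.Helper10.GUOrdP

variable {F : Type*} [Field F] {n : ℕ}

theorem kc_pow_of_hasType [Finite F] {N : Matrix (Fin n) (Fin n) F} {s : Multiset ℕ}
    (h : HasType N s) (j : ℕ) : kc (N ^ j) = Nat.card F ^ ((s.map (min j)).sum) := by
  obtain ⟨d, k, ⟨e⟩, rfl⟩ := h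
  rw [← kappa_MN, kappa_congr e, kappa_mod, ← prof_eq_partsOf]
  rfl

theorem sum_eq_min_add_count (μ : Multiset ℕ) (p : ℕ) (hp : 1 ≤ p) (h : ∀ b ∈ μ, b ≤ p) :
    μ.sum = (μ.map (min (p - 1))).sum + μ.count p := by
  induction μ using Multiset.induction_on with
  | empty => simp
  | cons b μ ih =>
    have h1 := ih (fun c hc => h c (Multiset.mem_cons_of_mem hc))
    have hb := h b (Multiset.mem_cons_self b μ)
    rw [Multiset.sum_cons, Multiset.map_cons, Multiset.sum_cons, Multiset.count_cons, h1]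
    by_cases hbp : p = b
    · rw [if_pos hbp]
      subst hbp
      rw [min_eq_left (by omega)]
      omega
    · rw [if_neg hbp, min_eq_right (by omega)]
      omega

/-- the rank of `N ^ (p-1)` is the number of parts equal to `p`. -/
theorem finrank_ker_of_hasType [Finite F] {N : Matrix (Fin n) (Fin n) F} {s : Multiset ℕ}
    (h : HasType N s) (j : ℕ) :
    finrank F (LinearMap.ker (N ^ j).mulVecLin) = (s.map (min j)).sum := by
  have h1 := kc_pow_of_hasType h j
  rw [kc_eq_pow] at h1
  have h2 := Nat.pow_right_injective (Finite.one_lt_card (α := F)) h1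
  have h3 := Cfsg.Agent.Lib.Helper10.JT.rank_add_finrank_ker (N ^ j)
  rw [Fintype.card_fin] at h3
  have h4 : (N ^ j).rank ≤ n := by
    have := Matrix.rank_le_card_width (N ^ j)
    rwa [Fintype.card_fin] at this
  omega

theorem le_count_of_disjoint [Finite F] {N : Matrix (Fin n) (Fin n) F} {μ : Multiset ℕ}
    (h : HasType N μ) (p : ℕ) (hp : 1 ≤ p) (hμ : ∀ b ∈ μ, b ≤ p)
    (W : Submodule F (Fin n → F)) (hW : Disjoint (LinearMap.ker (N ^ (p - 1)).mulVecLin) W) :
    finrank F W ≤ μ.count p := by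
  have h1 := finrank_ker_of_hasType h (p - 1)
  have h2 := Submodule.finrank_add_finrank_le_of_disjoint hW
  rw [Module.finrank_fintype_fun_eq_card, Fintype.card_fin] at h2
  have h3 := sum_eq_min_add_count μ p hp hμ
  have h4 := h.sum
  omega

end Cfsg.Agent.Lib.Helper10.Dec
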