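import Mathlib
import Cfsg.Agent.Lib.Helper5.NilK
import Cfsg.Agent.Lib.Helper10.GUOrdPA
import Cfsg.Agent.Lib.Helper10.JTB

set_option autoImplicit false

namespace Cfsg.Agent.Lib.Helper10.Dec

open Polynomial Module Cfsg.Agent.Lib.Helper5.Nil Cfsg.Agent.Lib.Helper10.GUOrdP

variable {F : Type*} [Field F] {n : ℕ}

theorem partsOf_sum_elim {ι₁ ι₂ : Type*} [Fintype ι₁] [Fintype ι₂] (k₁ : ι₁ → ℕ) (k₂ : ι₂ → ℕ) :
    partsOf (Sum.elim k₁ k₂) = partsOf k₁ + partsOf k₂ := by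
  unfold partsOf
  rw [← Multiset.filter_add]
  congr 1
  show Multiset.map (Sum.elim k₁ k₂) (Finset.univ.disjSum Finset.univ).val = _
  rw [Finset.val_disjSum, Multiset.disjSum, Multiset.map_add,
    Multiset.map_map, Multiset.map_map]
  rfl

theorem exists_sub_type [Finite F] {N : Matrix (Fin n) (Fin n) F} {μ : Multiset ℕ}
    (h : HasType N μ) (hN : ∃ m, N ^ m = 0) (D0 D' : Submodule F (Fin n → F))
    (hc : IsCompl D0 D')
    (h0 : ∀ v ∈ D0, N.mulVec v ∈ D0) (h' : ∀ v ∈ D', N.mulVec v ∈ D') :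
    ∃ ν : Multiset ℕ, ν ≤ μ ∧ ν.sum = finrank F D0 := by
  classical
  set f : Module.End F (Fin n → F) := Matrix.toLin' N with hf
  have hi0 : D0 ∈ (Algebra.lsmul F F (Fin n → F) f).invtSubmodule := by
    rw [Module.End.mem_invtSubmodule]
    intro v hv
    exact h0 v hv
  have hi' : D' ∈ (Algebra.lsmul F F (Fin n → F) f).invtSubmodule := by
    rw [Module.End.mem_invtSubmodule]
    intro v hv
    exact h' v hv
  let P0 : Submodule F[X] (MN N) := AEval.mapSubmodule F (Fin n → F) f ⟨D0, hi0⟩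
  let P' : Submodule F[X] (MN N) := AEval.mapSubmodule F (Fin n → F) f ⟨D', hi'⟩
  have hcP : IsCompl P0 P' := by
    constructor
    · rw [Submodule.disjoint_def]
      intro y hy0 hy'
      rw [AEval.mem_mapSubmodule_apply] at hy0 hy'
      have : (AEval'.of f).symm y = 0 := (Submodule.disjoint_def.1 hc.disjoint) _ hy0 hy'
      exact (LinearEquiv.map_eq_zero_iff _).1 this
    · rw [codisjoint_iff, eq_top_iff]
      intro y _
      obtain ⟨v, rfl⟩ := (AEval'.of f).surjective y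
      have hv : v ∈ D0 ⊔ D' := by
        rw [hc.sup_eq_top]
        trivial
      obtain ⟨u, hu, w, hw, rfl⟩ := Submodule.mem_sup.1 hv
      rw [map_add]
      refine Submodule.add_mem_sup ?_ ?_
      · rw [AEval.mem_mapSubmodule_apply, LinearEquiv.symm_apply_apply]
        exact hu
      · rw [AEval.mem_mapSubmodule_apply, LinearEquiv.symm_apply_apply]
        exact hw
  let E := Submodule.prodEquivOfIsCompl P0 P' hcP
  obtain ⟨m, hm⟩ := hN
  have hk : ∀ y : MN N, (X ^ m : F[X]) • y = 0 := (kills_MN_iff N m).2 hm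
  have hk0 : ∃ m, ∀ y : P0, (X ^ m : F[X]) • y = 0 :=
    ⟨m, fun y => Subtype.ext (by simpa using hk y)⟩
  have hk' : ∃ m, ∀ y : P', (X ^ m : F[X]) • y = 0 :=
    ⟨m, fun y => Subtype.ext (by simpa using hk y)⟩
  obtain ⟨d0, k0, ⟨e0⟩⟩ := exists_iso_mod (F := F) P0 hk0
  obtain ⟨d', k', ⟨e'⟩⟩ := exists_iso_mod (F := F) P' hk'
  obtain ⟨d, k, ⟨e⟩, hμ⟩ := h
  let S : (Mod F (Sum.elim k0 k')) ≃ₗ[F[X]] (Mod F k0 × Mod F k') :=
    LinearEquiv.sumPiEquivProdPi F[X] (Fin d0) (Fin d')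
      (fun i => F[X] ⧸ Ideal.span {(X : F[X]) ^ (Sum.elim k0 k' i)})
  let T : Mod F k ≃ₗ[F[X]] Mod F (Sum.elim k0 k') :=
    e.symm.trans (E.symm.trans ((e0.prodCongr e').trans S.symm))
  have hprof : ∀ j, prof k j = prof (Sum.elim k0 k') j :=
    prof_of_kappa (F := F) k _ (fun j => kappa_congr T j)
  have hparts : partsOf k = partsOf (Sum.elim k0 k') := partsOf_eq_of_prof _ _ hprof
  refine ⟨partsOf k0, ?_, ?_⟩
  · rw [← hμ, hparts, partsOf_sum_elim]
    exact Multiset.le_add_right _ _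
  · rw [sum_partsOf]
    have c1 : Nat.card P0 = Nat.card (Mod F k0) := Nat.card_congr e0.toEquiv
    have c2 : Nat.card (Mod F k0) = Nat.card F ^ (∑ i, k0 i) := by
      rw [Nat.card_pi, ← Finset.prod_pow_eq_pow_sum]
      exact Finset.prod_congr rfl (fun i _ => card_quot_X_pow (k0 i))
    have c3 : Nat.card P0 = Nat.card D0 :=
      (Nat.card_congr (AEval.equiv_mapSubmodule f D0 hi0).toEquiv).symm
    have c4 : Nat.card D0 = Nat.card F ^ finrank F D0 := Module.natCard_eq_pow_finrank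
    apply Nat.pow_right_injective (Finite.one_lt_card (α := F))
    show Nat.card F ^ (∑ i, k0 i) = Nat.card F ^ finrank F D0
    rw [← c2, ← c1, c3, c4]

end Cfsg.Agent.Lib.Helper10.Dec
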