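import Mathlib

set_option autoImplicit false

namespace Cfsg.Agent.Lib.Helper10.Dec

open Polynomial Module

variable {F : Type*} [Field F]

theorem poly_sub_one_pow (p : ℕ) [Fact p.Prime] [CharP F p] :
    ((X : F[X]) - 1) ^ (p - 1) = ∑ i ∈ Finset.range p, (X : F[X]) ^ i := by
  have hp : p.Prime := Fact.out
  have h1 : ((X : F[X]) - 1) * ((X : F[X]) - 1) ^ (p - 1) = (X : F[X]) ^ p - 1 := by
    rw [← pow_succ', show p - 1 + 1 = p by have := hp.pos; omega, sub_pow_char, one_pow]
  have h2 : ((X : F[X]) - 1) * ∑ i ∈ Finset.range p, (X : F[X]) ^ i = (X : F[X]) ^ p - 1 :=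
    mul_geom_sum _ _
  have h3 : ((X : F[X]) - 1) ≠ 0 := by
    have := X_sub_C_ne_zero (1 : F)
    rwa [map_one] at this
  exact mul_left_cancel₀ h3 (h1.trans h2.symm)

theorem matrix_sub_one_pow (p : ℕ) [Fact p.Prime] [CharP F p] {n : ℕ}
    (x : Matrix (Fin n) (Fin n) F) :
    (x - 1) ^ (p - 1) = ∑ i ∈ Finset.range p, x ^ i := by
  have h := congrArg (aeval x) (poly_sub_one_pow (F := F) p)
  rw [map_pow, map_sub, aeval_X, map_one, map_sum] at h
  rw [h]
  apply Finset.sum_congr rfl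
  intro i _
  rw [map_pow, aeval_X]

theorem toLin'_pow' {n : ℕ} (x : Matrix (Fin n) (Fin n) F) (i : ℕ) :
    Matrix.toLin' (x ^ i) = (Matrix.toLin' x) ^ i := by
  induction i with
  | zero => rw [pow_zero, pow_zero, Matrix.toLin'_one]; rfl
  | succ i ih => rw [pow_succ, pow_succ, Matrix.toLin'_mul, ih]; rfl

theorem disjoint_ker_of_moved {p : ℕ} [Fact p.Prime] [CharP F p] {n t : ℕ}
    (N : Matrix (Fin n) (Fin n) F) (hNp : N ^ p = 0)
    (D : Fin t → Submodule F (Fin n → F)) (hind : iSupIndep D) (hne : ∀ i, D i ≠ ⊥)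
    (σ : Equiv.Perm (Fin t)) (hσ : ∀ j, (D j).map (Matrix.toLin' (1 + N)) = D (σ j))
    (j : Fin t) (hj : σ j ≠ j) :
    Disjoint (LinearMap.ker (N ^ (p - 1)).mulVecLin) (D j) := by
  have hp : p.Prime := Fact.out
  rcases Nat.eq_zero_or_pos n with rfl | hn
  · rw [Submodule.disjoint_def]
    intro v _ _
    exact Subsingleton.elim _ _
  have : Nonempty (Fin n) := ⟨⟨0, hn⟩⟩
  set x : Matrix (Fin n) (Fin n) F := 1 + N with hx
  have hxp : x ^ p = 1 := by
    rw [hx, add_pow_char_of_commute p (Commute.one_left N), one_pow, hNp, add_zero]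
  have hNx : N = x - 1 := by rw [hx, add_sub_cancel_left]
  set g : Module.End F (Fin n → F) := Matrix.toLin' x with hg
  have hmap : ∀ i : ℕ, (D j).map (g ^ i) = D ((σ ^ i) j) := by
    intro i
    induction i with
    | zero =>
      rw [pow_zero, pow_zero]
      exact Submodule.map_id _
    | succ i ih =>
      rw [pow_succ', Module.End.mul_eq_comp, Submodule.map_comp, ih, hσ, pow_succ',
        Equiv.Perm.mul_apply]
  have hinj : Function.Injective D := hind.injective hne
  have hσp : (σ ^ p) j = j := by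
    apply hinj
    rw [← hmap p, hg, ← toLin'_pow', hxp, Matrix.toLin'_one]
    exact Submodule.map_id _
  have hmoved : ∀ i, 0 < i → i < p → (σ ^ i) j ≠ j := by
    intro i hi0 hip hfix
    have h1 : MulAction.period σ j ∣ p := MulAction.pow_smul_eq_iff_period_dvd.1 hσp
    have h2 : MulAction.period σ j ∣ i := MulAction.pow_smul_eq_iff_period_dvd.1 hfix
    rcases (Nat.dvd_prime hp).1 h1 with h3 | h3
    · have : (σ ^ 1) j = j := by
        have := MulAction.pow_smul_eq_iff_period_dvd (m := σ) (a := j) (n := 1)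
        exact this.2 (by rw [h3])
      rw [pow_one] at this
      exact hj this
    · rw [h3] at h2
      have := Nat.le_of_dvd hi0 h2
      omega
  rw [Submodule.disjoint_def]
  intro v hvk hvD
  rw [LinearMap.mem_ker, Matrix.mulVecLin_apply, hNx, matrix_sub_one_pow p x,
    Matrix.sum_mulVec] at hvk
  rw [← Finset.sum_erase_add _ _ (Finset.mem_range.2 hp.pos), pow_zero, Matrix.one_mulVec] at hvk
  have hmem : ∑ i ∈ (Finset.range p).erase 0, (x ^ i).mulVec v ∈ ⨆ k, ⨆ (_ : k ≠ j), D k := by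
    apply Submodule.sum_mem
    intro i hi
    rw [Finset.mem_erase, Finset.mem_range] at hi
    have h1 : (x ^ i).mulVec v ∈ D ((σ ^ i) j) := by
      rw [← hmap i]
      refine ⟨v, hvD, ?_⟩
      rw [hg, ← toLin'_pow', Matrix.toLin'_apply]
    exact (le_iSup₂ (f := fun k (_ : k ≠ j) => D k) ((σ ^ i) j)
      (hmoved i (Nat.pos_of_ne_zero hi.1) hi.2)) h1
  have hv : v = -∑ i ∈ (Finset.range p).erase 0, (x ^ i).mulVec v :=
    eq_neg_of_add_eq_zero_right hvk
  have hv2 : v ∈ ⨆ k, ⨆ (_ : k ≠ j), D k := by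
    rw [hv]
    exact Submodule.neg_mem _ hmem
  exact (Submodule.disjoint_def.1 (hind j)) v hvD hv2

end Cfsg.Agent.Lib.Helper10.Dec
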