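import Mathlib
import Cfsg.Agent.Lib.Helper10.AltA

set_option autoImplicit false

namespace Cfsg.Agent.Lib.Helper10.Ext

open Matrix Module

variable {F : Type*} [Field F] {ι : Type} [Fintype ι] [DecidableEq ι]

theorem K_gen (K : Subalgebra F (Matrix ι ι F)) (hK : Cfsg.Geo.IsFieldSubalgebra 2 K) :
    ∃ J ∈ K, (∀ c : F, J ≠ c • (1 : Matrix ι ι F)) ∧
      ∀ κ ∈ K, ∃ a b : F, κ = a • (1 : Matrix ι ι F) + b • J := by
  classical
  have h2 : Module.finrank F (Subalgebra.toSubmodule K) = 2 := hK.finrank_eq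
  obtain ⟨J, hJK, hJ⟩ : ∃ J ∈ K, ∀ c : F, J ≠ c • (1 : Matrix ι ι F) := by
    by_contra hcon
    push Not at hcon
    have hle : Subalgebra.toSubmodule K ≤
        Submodule.span F (({(1 : Matrix ι ι F)} : Finset (Matrix ι ι F)) : Set (Matrix ι ι F)) := by
      intro κ hκ
      obtain ⟨c, hc⟩ := hcon κ hκ
      rw [hc]
      apply Submodule.smul_mem
      apply Submodule.subset_span
      simp
    have h3 := Submodule.finrank_mono hle
    have h4 : Module.finrank F (Submodule.span F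
        (({(1 : Matrix ι ι F)} : Finset (Matrix ι ι F)) : Set (Matrix ι ι F))) ≤ _ :=
      finrank_span_finset_le_card (R := F) ({(1 : Matrix ι ι F)} : Finset (Matrix ι ι F))
    rw [Finset.card_singleton] at h4
    omega
  refine ⟨J, hJK, hJ, ?_⟩
  have h10 : (1 : Matrix ι ι F) ≠ 0 := by
    intro h
    apply hJ 0
    rw [zero_smul, ← Matrix.mul_one J, h, Matrix.mul_zero]
  have hli : LinearIndependent F ![(1 : Matrix ι ι F), J] := by
    rw [LinearIndependent.pair_iff]
    intro s t hst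
    have ht : t = 0 := by
      by_contra ht
      apply hJ (-(s / t))
      have : t • J = t • ((-(s / t)) • (1 : Matrix ι ι F)) := by
        rw [smul_smul]
        have h5 : t * (-(s / t)) = -s := by field_simp
        rw [h5, neg_smul]
        exact eq_neg_of_add_eq_zero_right hst
      exact smul_right_injective _ ht this
    refine ⟨?_, ht⟩
    rw [ht, zero_smul, add_zero] at hst
    rcases smul_eq_zero.1 hst with h | h
    · exact h
    · exact absurd h h10
  have hfr := finrank_span_eq_card hli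
  rw [Fintype.card_fin] at hfr
  have hle : Submodule.span F (Set.range ![(1 : Matrix ι ι F), J]) ≤ Subalgebra.toSubmodule K := by
    rw [Submodule.span_le]
    rintro _ ⟨i, rfl⟩
    fin_cases i
    · exact K.one_mem
    · exact hJK
  have heq : Submodule.span F (Set.range ![(1 : Matrix ι ι F), J]) = Subalgebra.toSubmodule K :=
    Submodule.eq_of_le_of_finrank_eq hle (by rw [hfr, h2])
  intro κ hκ
  have hκ' : κ ∈ Submodule.span F (Set.range ![(1 : Matrix ι ι F), J]) := by
    rw [heq]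
    exact hκ
  rw [Submodule.mem_span_range_iff_exists_fun] at hκ'
  obtain ⟨c, hc⟩ := hκ'
  rw [Fin.sum_univ_two] at hc
  exact ⟨c 0, c 1, hc.symm⟩

/-- nonzero elements of K are two-sided invertible -/
theorem K_unit (K : Subalgebra F (Matrix ι ι F)) (hK : Cfsg.Geo.IsFieldSubalgebra 2 K)
    (κ : Matrix ι ι F) (hκ : κ ∈ K) (h0 : κ ≠ 0) : ∃ y, κ * y = 1 ∧ y * κ = 1 := by
  obtain ⟨y, hyK, hy⟩ := hK.inv κ hκ h0
  exact ⟨y, hy, by rw [← hK.comm κ hκ y hyK]; exact hy⟩

theorem K_no_zero_div (K : Subalgebra F (Matrix ι ι F)) (hK : Cfsg.Geo.IsFieldSubalgebra 2 K)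
    (κ μ : Matrix ι ι F) (hκ : κ ∈ K) (h : κ * μ = 0) : κ = 0 ∨ μ = 0 := by
  by_cases h0 : κ = 0
  · exact Or.inl h0
  · right
    obtain ⟨y, _, hy⟩ := K_unit K hK κ hκ h0
    calc μ = (y * κ) * μ := by rw [hy, Matrix.one_mul]
      _ = y * (κ * μ) := Matrix.mul_assoc _ _ _
      _ = 0 := by rw [h, Matrix.mul_zero]

/-- normalizer membership criterion -/
theorem normalizes_of (K : Subalgebra F (Matrix ι ι F)) (J : Matrix ι ι F)
    (hgen : ∀ κ ∈ K, ∃ a b : F, κ = a • (1 : Matrix ι ι F) + b • J)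
    (g : GL ι F) (g' : Matrix ι ι F) (h1 : (g : Matrix ι ι F) * g' = 1)
    (hJ1 : (g : Matrix ι ι F) * J * g' ∈ K) (hJ2 : g' * J * (g : Matrix ι ι F) ∈ K) :
    g ∈ Cfsg.Geo.subalgebraNormalizer K := by
  have h2 : g' * (g : Matrix ι ι F) = 1 := mul_eq_one_comm.1 h1
  have hinv : ((g⁻¹ : GL ι F) : Matrix ι ι F) = g' := by
    rw [Matrix.coe_units_inv]
    exact Matrix.inv_eq_right_inv h1
  show ∀ k : Matrix ι ι F, k ∈ K ↔ (g : Matrix ι ι F) * k * ((g⁻¹ : GL ι F) : Matrix ι ι F) ∈ K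
  intro k
  rw [hinv]
  have key : ∀ (A B : Matrix ι ι F), A * B = 1 → A * J * B ∈ K → ∀ κ ∈ K, A * κ * B ∈ K := by
    intro A B hAB hAJ κ hκ
    obtain ⟨a, b, rfl⟩ := hgen κ hκ
    have : A * (a • (1 : Matrix ι ι F) + b • J) * B = a • (1 : Matrix ι ι F) + b • (A * J * B) := by
      rw [Matrix.mul_add, Matrix.add_mul, Matrix.mul_smul, Matrix.smul_mul, Matrix.mul_one, hAB,
        Matrix.mul_smul, Matrix.smul_mul]
    rw [this]
    exact K.add_mem (K.smul_mem K.one_mem a) (K.smul_mem hAJ b)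
  constructor
  · intro hk
    exact key _ _ h1 hJ1 k hk
  · intro hk
    have := key _ _ h2 hJ2 _ hk
    have h3 : g' * ((g : Matrix ι ι F) * k * g') * (g : Matrix ι ι F) = k := by
      calc g' * ((g : Matrix ι ι F) * k * g') * (g : Matrix ι ι F)
          = (g' * (g : Matrix ι ι F)) * k * (g' * (g : Matrix ι ι F)) := by
            simp only [Matrix.mul_assoc]
        _ = k := by rw [h2, Matrix.one_mul, Matrix.mul_one]
    rw [h3] at this
    exact this

end Cfsg.Agent.Lib.Helper10.Ext
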