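import Mathlib
import Cfsg.Agent.Lib.Helper10.ExtA

set_option autoImplicit false

namespace Cfsg.Agent.Lib.Helper10.Ext

open Matrix Module

variable {F : Type*} [Field F] {ι : Type} [Fintype ι] [DecidableEq ι]

theorem indep_of_nonscalar (J : Matrix ι ι F) (hJ : ∀ c : F, J ≠ c • (1 : Matrix ι ι F))
    (s t : F) (hst : s • (1 : Matrix ι ι F) + t • J = 0) : s = 0 ∧ t = 0 := by
  have h10 : (1 : Matrix ι ι F) ≠ 0 := by
    intro h
    apply hJ 0
    rw [zero_smul, ← Matrix.mul_one J, h, Matrix.mul_zero]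
  have ht : t = 0 := by
    by_contra ht
    apply hJ (-(s / t))
    have : t • J = t • ((-(s / t)) • (1 : Matrix ι ι F)) := by
      rw [smul_smul]
      have h5 : t * (-(s / t)) = -s := by field_simp
      rw [h5, neg_smul]
      exact eq_neg_of_add_eq_zero_right hst
    exact smul_right_injective _ ht this
  refine ⟨?_, ht⟩
  rw [ht, zero_smul, add_zero] at hst
  rcases smul_eq_zero.1 hst with h | h
  · exact h
  · exact absurd h h10

theorem K_no_eigen (K : Subalgebra F (Matrix ι ι F)) (hK : Cfsg.Geo.IsFieldSubalgebra 2 K)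
    (J : Matrix ι ι F) (hJK : J ∈ K) (hJ : ∀ c : F, J ≠ c • (1 : Matrix ι ι F))
    (c : F) (v : ι → F) (hv : J *ᵥ v = c • v) : v = 0 := by
  have hmem : J - c • (1 : Matrix ι ι F) ∈ K := K.sub_mem hJK (K.smul_mem K.one_mem c)
  have hne : J - c • (1 : Matrix ι ι F) ≠ 0 := by
    intro h
    exact hJ c (sub_eq_zero.1 h)
  obtain ⟨y, _, hy⟩ := K_unit K hK _ hmem hne
  have h1 : (J - c • (1 : Matrix ι ι F)) *ᵥ v = 0 := by
    rw [Matrix.sub_mulVec, Matrix.smul_mulVec, Matrix.one_mulVec, hv, sub_self]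
  calc v = (y * (J - c • (1 : Matrix ι ι F))) *ᵥ v := by rw [hy, Matrix.one_mulVec]
    _ = y *ᵥ ((J - c • (1 : Matrix ι ι F)) *ᵥ v) := (Matrix.mulVec_mulVec _ _ _).symm
    _ = 0 := by rw [h1, Matrix.mulVec_zero]

theorem K_odd (h2 : (2 : F) ≠ 0) (K : Subalgebra F (Matrix ι ι F))
    (hK : Cfsg.Geo.IsFieldSubalgebra 2 K) :
    ∃ J ∈ K, ∃ z : F, ¬ IsSquare z ∧ J * J = z • (1 : Matrix ι ι F) ∧
      (∀ c : F, J ≠ c • (1 : Matrix ι ι F)) ∧
      ∀ κ ∈ K, ∃ a b : F, κ = a • (1 : Matrix ι ι F) + b • J := by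
  obtain ⟨J, hJK, hJ, hgen⟩ := K_gen K hK
  obtain ⟨t, s, hts⟩ := hgen (J * J) (K.mul_mem hJK hJK)
  obtain ⟨c, rfl⟩ : ∃ c, s = 2 * c := ⟨s / 2, by field_simp⟩
  have hJ'K : J - c • (1 : Matrix ι ι F) ∈ K := K.sub_mem hJK (K.smul_mem K.one_mem c)
  have hJ' : ∀ d : F, J - c • (1 : Matrix ι ι F) ≠ d • (1 : Matrix ι ι F) := by
    intro d h
    apply hJ (d + c)
    rw [add_smul, ← h]
    abel
  have hsq : (J - c • (1 : Matrix ι ι F)) * (J - c • (1 : Matrix ι ι F)) =
      (t + c * c) • (1 : Matrix ι ι F) := by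
    simp only [Matrix.sub_mul, Matrix.mul_sub, Matrix.smul_mul, Matrix.mul_smul, Matrix.one_mul,
      Matrix.mul_one]
    rw [hts]
    module
  refine ⟨J - c • (1 : Matrix ι ι F), hJ'K, t + c * c, ?_, hsq, hJ', ?_⟩
  · rintro ⟨d, hd⟩
    have h3 : (J - c • (1 : Matrix ι ι F) - d • (1 : Matrix ι ι F)) *
        (J - c • (1 : Matrix ι ι F) + d • (1 : Matrix ι ι F)) = 0 := by
      have h4 : (J - c • (1 : Matrix ι ι F) - d • (1 : Matrix ι ι F)) *
        (J - c • (1 : Matrix ι ι F) + d • (1 : Matrix ι ι F)) =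
          (J - c • (1 : Matrix ι ι F)) * (J - c • (1 : Matrix ι ι F)) -
            (d * d) • (1 : Matrix ι ι F) := by
        simp only [Matrix.sub_mul, Matrix.mul_sub, Matrix.mul_add, Matrix.smul_mul,
          Matrix.mul_smul, Matrix.one_mul, Matrix.mul_one]
        module
      rw [h4, hsq, hd, sub_self]
    rcases K_no_zero_div K hK _ _ (K.sub_mem hJ'K (K.smul_mem K.one_mem d)) h3 with h | h
    · exact hJ' d (sub_eq_zero.1 h)
    · apply hJ' (-d)
      rw [neg_smul]
      exact eq_neg_of_add_eq_zero_left h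
  · intro κ hκ
    obtain ⟨a, b, rfl⟩ := hgen κ hκ
    refine ⟨a + b * c, b, ?_⟩
    module

theorem conj_odd (h2 : (2 : F) ≠ 0) (K : Subalgebra F (Matrix ι ι F))
    (J : Matrix ι ι F) (z : F) (hz : ¬ IsSquare z) (hJJ : J * J = z • (1 : Matrix ι ι F))
    (hJ : ∀ c : F, J ≠ c • (1 : Matrix ι ι F))
    (hgen : ∀ κ ∈ K, ∃ a b : F, κ = a • (1 : Matrix ι ι F) + b • J)
    (A B : Matrix ι ι F) (hBA : B * A = 1) (hmem : A * J * B ∈ K) :
    A * J * B = J ∨ A * J * B = -J := by
  have hAB : A * B = 1 := mul_eq_one_comm.1 hBA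
  obtain ⟨a, b, hab⟩ := hgen _ hmem
  have h1 : (A * J * B) * (A * J * B) = z • (1 : Matrix ι ι F) := by
    calc (A * J * B) * (A * J * B) = A * J * (B * A) * J * B := by simp only [Matrix.mul_assoc]
      _ = A * (J * J) * B := by rw [hBA, Matrix.mul_one, Matrix.mul_assoc A J J]
      _ = z • (1 : Matrix ι ι F) := by
        rw [hJJ, Matrix.mul_smul, Matrix.smul_mul, Matrix.mul_one, hAB]
  have h3 : (a • (1 : Matrix ι ι F) + b • J) * (a • (1 : Matrix ι ι F) + b • J) =
      (a * a + b * b * z) • (1 : Matrix ι ι F) + (2 * a * b) • J := by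
    simp only [Matrix.add_mul, Matrix.mul_add, Matrix.smul_mul, Matrix.mul_smul, Matrix.one_mul,
      Matrix.mul_one, hJJ]
    module
  rw [hab, h3] at h1
  have h4 : (a * a + b * b * z - z) • (1 : Matrix ι ι F) + (2 * a * b) • J = 0 := by
    rw [sub_smul, ← h1]
    abel
  obtain ⟨h5, h6⟩ := indep_of_nonscalar J hJ _ _ h4
  have hz0 : z ≠ 0 := by
    rintro rfl
    exact hz ⟨0, by simp⟩
  rcases mul_eq_zero.1 h6 with h7 | h7
  · rcases mul_eq_zero.1 h7 with h8 | h8
    · exact absurd h8 h2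
    · -- a = 0
      rw [h8] at h5
      have h9 : (b - 1) * (b + 1) = 0 := by
        have : (b * b - 1) * z = 0 := by linear_combination h5
        rcases mul_eq_zero.1 this with h | h
        · linear_combination h
        · exact absurd h hz0
      rcases mul_eq_zero.1 h9 with h | h
      · left
        rw [hab, h8, sub_eq_zero.1 h, zero_smul, zero_add, one_smul]
      · right
        rw [hab, h8, eq_neg_of_add_eq_zero_left h, zero_smul, zero_add, neg_smul, one_smul]
  · exfalso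
    rw [h7] at h5
    apply hz
    exact ⟨a, by linear_combination -h5⟩

theorem K_even [Fintype F] [CharP F 2] (K : Subalgebra F (Matrix ι ι F))
    (hK : Cfsg.Geo.IsFieldSubalgebra 2 K) :
    ∃ J ∈ K, ∃ s t : F, s ≠ 0 ∧ J * J = s • J + t • (1 : Matrix ι ι F) ∧
      (∀ c : F, J ≠ c • (1 : Matrix ι ι F)) ∧
      ∀ κ ∈ K, ∃ a b : F, κ = a • (1 : Matrix ι ι F) + b • J := by
  obtain ⟨J, hJK, hJ, hgen⟩ := K_gen K hK
  obtain ⟨t, s, hts⟩ := hgen (J * J) (K.mul_mem hJK hJK)
  have h20 : (2 : F) = 0 := CharTwo.two_eq_zero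
  refine ⟨J, hJK, s, t, ?_, by rw [hts, add_comm], hJ, hgen⟩
  rintro rfl
  have hsqrt : ∃ c : F, c * c = t := by
    have hinj : Function.Injective (frobenius F 2) := frobenius_inj F 2
    have hsurj : Function.Surjective (frobenius F 2) := Finite.surjective_of_injective hinj
    obtain ⟨c, hc⟩ := hsurj t
    refine ⟨c, ?_⟩
    rw [← hc, frobenius_def, sq]
  obtain ⟨c, hc⟩ := hsqrt
  have h3 : (J - c • (1 : Matrix ι ι F)) * (J - c • (1 : Matrix ι ι F)) = 0 := by
    have h4 : (J - c • (1 : Matrix ι ι F)) * (J - c • (1 : Matrix ι ι F)) =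
        J * J - (2 * c) • J + (c * c) • (1 : Matrix ι ι F) := by
      simp only [Matrix.sub_mul, Matrix.mul_sub, Matrix.smul_mul, Matrix.mul_smul, Matrix.one_mul,
        Matrix.mul_one]
      module
    rw [h4, hts, h20, hc, zero_mul, zero_smul, add_zero, sub_zero, ← add_smul]
    have h5 : t + t = 0 := by linear_combination t * h20
    rw [h5, zero_smul]
  rcases K_no_zero_div K hK _ _ (K.sub_mem hJK (K.smul_mem K.one_mem c)) h3 with h | h
  · exact hJ c (sub_eq_zero.1 h)
  · exact hJ c (sub_eq_zero.1 h)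

theorem conj_even [CharP F 2] (K : Subalgebra F (Matrix ι ι F))
    (J : Matrix ι ι F) (s t : F) (hs : s ≠ 0) (hJJ : J * J = s • J + t • (1 : Matrix ι ι F))
    (hJ : ∀ c : F, J ≠ c • (1 : Matrix ι ι F))
    (hgen : ∀ κ ∈ K, ∃ a b : F, κ = a • (1 : Matrix ι ι F) + b • J)
    (A B : Matrix ι ι F) (hBA : B * A = 1) (hmem : A * J * B ∈ K) :
    A * J * B = J ∨ A * J * B = J + s • (1 : Matrix ι ι F) := by
  have h20 : (2 : F) = 0 := CharTwo.two_eq_zero
  have hAB : A * B = 1 := mul_eq_one_comm.1 hBA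
  obtain ⟨a, b, hab⟩ := hgen _ hmem
  have h1 : (A * J * B) * (A * J * B) = s • (A * J * B) + t • (1 : Matrix ι ι F) := by
    calc (A * J * B) * (A * J * B) = A * J * (B * A) * J * B := by simp only [Matrix.mul_assoc]
      _ = A * (J * J) * B := by rw [hBA, Matrix.mul_one, Matrix.mul_assoc A J J]
      _ = s • (A * J * B) + t • (1 : Matrix ι ι F) := by
        rw [hJJ, Matrix.mul_add, Matrix.add_mul, Matrix.mul_smul, Matrix.smul_mul, Matrix.mul_smul,
          Matrix.smul_mul, Matrix.mul_one, hAB]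
  have h3 : (a • (1 : Matrix ι ι F) + b • J) * (a • (1 : Matrix ι ι F) + b • J) =
      (a * a + b * b * t) • (1 : Matrix ι ι F) + (2 * a * b + b * b * s) • J := by
    simp only [Matrix.add_mul, Matrix.mul_add, Matrix.smul_mul, Matrix.mul_smul, Matrix.one_mul,
      Matrix.mul_one, hJJ]
    module
  rw [hab, h3] at h1
  have h4 : (a * a + b * b * t - s * a - t) • (1 : Matrix ι ι F) +
      (2 * a * b + b * b * s - s * b) • J = 0 := by
    have h5 : (a * a + b * b * t - s * a - t) • (1 : Matrix ι ι F) +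
      (2 * a * b + b * b * s - s * b) • J =
        ((a * a + b * b * t) • (1 : Matrix ι ι F) + (2 * a * b + b * b * s) • J) -
          (s • (a • (1 : Matrix ι ι F) + b • J) + t • (1 : Matrix ι ι F)) := by module
    rw [h5, h1, sub_self]
  obtain ⟨h5, h6⟩ := indep_of_nonscalar J hJ _ _ h4
  rw [h20, zero_mul, zero_mul, zero_add] at h6
  have h7 : b * (b - 1) * s = 0 := by linear_combination h6
  rcases mul_eq_zero.1 h7 with h8 | h8
  · rcases mul_eq_zero.1 h8 with h9 | h9
    · -- b = 0 : contradiction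
      exfalso
      apply hJ a
      rw [h9, zero_smul, add_zero] at hab
      calc J = (B * A) * J * (B * A) := by rw [hBA, Matrix.one_mul, Matrix.mul_one]
        _ = B * (A * J * B) * A := by simp only [Matrix.mul_assoc]
        _ = a • (1 : Matrix ι ι F) := by
          rw [hab, Matrix.mul_smul, Matrix.smul_mul, Matrix.mul_one, hBA]
    · have hb1 : b = 1 := sub_eq_zero.1 h9
      rw [hb1] at h5
      have h10 : a * (a - s) = 0 := by linear_combination h5
      rcases mul_eq_zero.1 h10 with h | h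
      · left
        rw [hab, h, hb1, zero_smul, zero_add, one_smul]
      · right
        rw [hab, sub_eq_zero.1 h, hb1, one_smul, add_comm]
  · exact absurd h8 hs

end Cfsg.Agent.Lib.Helper10.Ext
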