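import Mathlib
import Cfsg.Agent.Lib.Helper10.ExtB
import Cfsg.Agent.Lib.Helper10.AltK

set_option autoImplicit false

namespace Cfsg.Agent.Lib.Helper10.Ext

open Matrix Module

variable {F : Type*} [Field F] {n : ℕ}

/-- unpack membership of a conjugate in the normalizer -/
theorem unpack (K : Subalgebra F (Matrix (Fin n) (Fin n) F))
    (x P : Matrix.SpecialLinearGroup (Fin n) F)
    (hP : P⁻¹ * x * P ∈ (Cfsg.Geo.subalgebraNormalizer K).comap
      (Matrix.SpecialLinearGroup.toGL : Matrix.SpecialLinearGroup (Fin n) F →* GL (Fin n) F))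
    (J : Matrix (Fin n) (Fin n) F) (hJK : J ∈ K) :
    ∃ (Q Pm A B : Matrix (Fin n) (Fin n) F), Q * Pm = 1 ∧ Pm * Q = 1 ∧ B * A = 1 ∧
      Pm * A = (x : Matrix (Fin n) (Fin n) F) * Pm ∧ A * Q = Q * (x : Matrix (Fin n) (Fin n) F) ∧
      A * J * B ∈ K := by
  rw [Subgroup.mem_comap] at hP
  have hQP : (P⁻¹ : Matrix.SpecialLinearGroup (Fin n) F).val * P.val = 1 := by
    rw [← Matrix.SpecialLinearGroup.coe_mul, inv_mul_cancel, Matrix.SpecialLinearGroup.coe_one]
  have hPQ : P.val * (P⁻¹ : Matrix.SpecialLinearGroup (Fin n) F).val = 1 := by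
    rw [← Matrix.SpecialLinearGroup.coe_mul, mul_inv_cancel, Matrix.SpecialLinearGroup.coe_one]
  obtain ⟨g, hg⟩ : ∃ g : GL (Fin n) F, g = Matrix.SpecialLinearGroup.toGL (P⁻¹ * x * P) := ⟨_, rfl⟩
  rw [← hg] at hP
  have hA : (g : Matrix (Fin n) (Fin n) F) =
      (P⁻¹ : Matrix.SpecialLinearGroup (Fin n) F).val * x.val * P.val := by
    rw [hg, Matrix.SpecialLinearGroup.coe_GL_coe_matrix, Matrix.SpecialLinearGroup.coe_mul,
      Matrix.SpecialLinearGroup.coe_mul]
  refine ⟨(P⁻¹ : Matrix.SpecialLinearGroup (Fin n) F).val, P.val, (g : Matrix (Fin n) (Fin n) F),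
    ((g⁻¹ : GL (Fin n) F) : Matrix (Fin n) (Fin n) F), hQP, hPQ, ?_, ?_, ?_, ?_⟩
  · rw [← Units.val_mul, inv_mul_cancel, Units.val_one]
  · rw [hA, ← Matrix.mul_assoc, ← Matrix.mul_assoc, hPQ, Matrix.one_mul]
  · rw [hA, Matrix.mul_assoc, hPQ, Matrix.mul_one]
  · exact (hP J).1 hJK

theorem nec_even [Fintype F] [CharP F 2] (hn : 3 ≤ n) (K : Subalgebra F (Matrix (Fin n) (Fin n) F))
    (hK : Cfsg.Geo.IsFieldSubalgebra 2 K) :
    ∃ x : Matrix.SpecialLinearGroup (Fin n) F,
      (∃ z : F, ((x ^ 2 : Matrix.SpecialLinearGroup (Fin n) F) : Matrix (Fin n) (Fin n) F) =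
        z • (1 : Matrix (Fin n) (Fin n) F)) ∧
      (∀ z : F, (x : Matrix (Fin n) (Fin n) F) ≠ z • (1 : Matrix (Fin n) (Fin n) F)) ∧
      ¬ ∃ P : Matrix.SpecialLinearGroup (Fin n) F,
        P⁻¹ * x * P ∈ (Cfsg.Geo.subalgebraNormalizer K).comap
          (Matrix.SpecialLinearGroup.toGL :
            Matrix.SpecialLinearGroup (Fin n) F →* GL (Fin n) F) := by
  classical
  have h20 : (2 : F) = 0 := CharTwo.two_eq_zero
  let i₀ : Fin n := ⟨0, by omega⟩
  let i₁ : Fin n := ⟨1, by omega⟩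
  let i₂ : Fin n := ⟨2, by omega⟩
  have h01 : i₀ ≠ i₁ := by
    intro h
    have := congrArg Fin.val h
    simp [i₀, i₁] at this
  have h02 : i₂ ≠ i₀ := by
    intro h
    have := congrArg Fin.val h
    simp [i₀, i₂] at this
  have h12 : i₂ ≠ i₁ := by
    intro h
    have := congrArg Fin.val h
    simp [i₁, i₂] at this
  obtain ⟨x, hxd⟩ : ∃ x : Matrix.SpecialLinearGroup (Fin n) F,
      (x : Matrix (Fin n) (Fin n) F) = Matrix.transvection i₀ i₁ (1 : F) :=
    ⟨⟨_, Matrix.det_transvection_of_ne i₀ i₁ h01 1⟩, rfl⟩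
  have hxx : (x : Matrix (Fin n) (Fin n) F) * (x : Matrix (Fin n) (Fin n) F) = 1 := by
    rw [hxd, Matrix.transvection_mul_transvection_same i₀ i₁ h01]
    have : (1 : F) + 1 = 0 := by linear_combination h20
    rw [this, Matrix.transvection_zero]
  refine ⟨x, ⟨1, ?_⟩, ?_, ?_⟩
  · rw [sq, Matrix.SpecialLinearGroup.coe_mul, hxx, one_smul]
  · intro z hz
    have e1 := congrFun (congrFun hz i₀) i₁
    rw [hxd, Matrix.smul_apply, Matrix.one_apply_ne h01, smul_zero] at e1
    have e2 : Matrix.transvection i₀ i₁ (1 : F) i₀ i₁ = 1 := by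
      have := Matrix.transvection_mul_apply_same i₀ i₁ i₁ (1 : F) (1 : Matrix (Fin n) (Fin n) F)
      rw [Matrix.mul_one, Matrix.one_apply_ne h01, Matrix.one_apply_eq, mul_one, zero_add] at this
      exact this
    rw [e2] at e1
    exact one_ne_zero e1
  · rintro ⟨P, hP⟩
    obtain ⟨J, hJK, s, t, hs, hJJ, hJ, hgen⟩ := K_even K hK
    obtain ⟨Q, Pm, A, B, hQP, hPQ, hBA, hPA, hAQ, hmem⟩ := unpack K x P hP J hJK
    have hcases := conj_even K J s t hs hJJ hJ hgen A B hBA hmem
    obtain ⟨J₁, hJ₁⟩ : ∃ J₁, J₁ = Pm * J * Q := ⟨_, rfl⟩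
    -- key: x J₁ = (J₁ or J₁ + s) x
    have hAJ : ∀ M : Matrix (Fin n) (Fin n) F, A * J * B = M → A * J = M * A := by
      intro M hM
      calc A * J = A * J * (B * A) := by rw [hBA, Matrix.mul_one]
        _ = (A * J * B) * A := by simp only [Matrix.mul_assoc]
        _ = M * A := by rw [hM]
    have hconj : ∀ M : Matrix (Fin n) (Fin n) F, A * J = M * A →
        (x : Matrix (Fin n) (Fin n) F) * J₁ = (Pm * M * Q) * (x : Matrix (Fin n) (Fin n) F) := by
      intro M hM
      calc (x : Matrix (Fin n) (Fin n) F) * J₁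
          = ((x : Matrix (Fin n) (Fin n) F) * Pm) * J * Q := by
            rw [hJ₁]; simp only [Matrix.mul_assoc]
        _ = Pm * (A * J) * Q := by rw [← hPA]; simp only [Matrix.mul_assoc]
        _ = Pm * M * (A * Q) := by rw [hM]; simp only [Matrix.mul_assoc]
        _ = (Pm * M * Q) * (x : Matrix (Fin n) (Fin n) F) := by
            rw [hAQ]; simp only [Matrix.mul_assoc]
    rcases hcases with h | h
    · -- commuting case: e₀ is an eigenvector of J₁
      have h3 := hconj J (hAJ J h)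
      rw [← hJ₁, hxd] at h3
      have hcol : ∀ a, a ≠ i₀ → J₁ a i₀ = 0 := by
        intro a ha
        have e := congrFun (congrFun h3 a) i₁
        rw [Matrix.transvection_mul_apply_of_ne i₀ i₁ a i₁ ha, Matrix.mul_transvection_apply_same,
          one_mul] at e
        have : J₁ a i₀ = 0 := by linear_combination -e
        exact this
      have heig : J₁ *ᵥ (Pi.single i₀ (1 : F)) = J₁ i₀ i₀ • (Pi.single i₀ (1 : F)) := by
        ext a
        have h5 : (J₁ *ᵥ (Pi.single i₀ (1 : F))) a = J₁ a i₀ := by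
          simp [Matrix.mulVec, dotProduct, Pi.single_apply]
        rw [h5, Pi.smul_apply, smul_eq_mul]
        by_cases ha : a = i₀
        · rw [ha, Pi.single_eq_same, mul_one]
        · rw [hcol a ha, Pi.single_eq_of_ne ha, mul_zero]
      have h6 : J *ᵥ (Q *ᵥ (Pi.single i₀ (1 : F))) =
          J₁ i₀ i₀ • (Q *ᵥ (Pi.single i₀ (1 : F))) := by
        have := congrArg (fun v => Q *ᵥ v) heig
        simp only [Matrix.mulVec_smul] at this
        rw [← this, hJ₁]
        simp only [Matrix.mulVec_mulVec]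
        rw [← Matrix.mul_assoc, ← Matrix.mul_assoc, hQP, Matrix.one_mul]
      have h7 := K_no_eigen K hK J hJK hJ _ _ h6
      have h8 := congrArg (fun v => Pm *ᵥ v) h7
      simp only [Matrix.mulVec_mulVec, hPQ, Matrix.one_mulVec, Matrix.mulVec_zero] at h8
      have h9 := congrFun h8 i₀
      rw [Pi.single_eq_same, Pi.zero_apply] at h9
      exact one_ne_zero h9
    · have h3 := hconj _ (hAJ _ h)
      have h4 : Pm * (J + s • (1 : Matrix (Fin n) (Fin n) F)) * Q =
          J₁ + s • (1 : Matrix (Fin n) (Fin n) F) := by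
        rw [Matrix.mul_add, Matrix.add_mul, Matrix.mul_smul, Matrix.smul_mul, Matrix.mul_one, hPQ,
          hJ₁]
      rw [h4, hxd] at h3
      have e := congrFun (congrFun h3 i₂) i₂
      rw [Matrix.transvection_mul_apply_of_ne i₀ i₁ i₂ i₂ h02,
        Matrix.mul_transvection_apply_of_ne i₀ i₁ i₂ i₂ h12, Matrix.add_apply, Matrix.smul_apply,
        Matrix.one_apply_eq, smul_eq_mul, mul_one] at e
      apply hs
      linear_combination -e

end Cfsg.Agent.Lib.Helper10.Ext
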