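import Mathlib
import Cfsg.Agent.Lib.Helper10.ExtC

set_option autoImplicit false

namespace Cfsg.Agent.Lib.Helper10.Ext

open Matrix Module

variable {F : Type*} [Field F] {n : ℕ}

theorem nec_odd [Fintype F] (hn : 3 ≤ n) (K : Subalgebra F (Matrix (Fin n) (Fin n) F))
    (hK : Cfsg.Geo.IsFieldSubalgebra 2 K)
    (hv : padicValNat 2 n < padicValNat 2 (Fintype.card F - 1)) :
    ∃ x : Matrix.SpecialLinearGroup (Fin n) F,
      (∃ z : F, ((x ^ 2 : Matrix.SpecialLinearGroup (Fin n) F) : Matrix (Fin n) (Fin n) F) =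
        z • (1 : Matrix (Fin n) (Fin n) F)) ∧
      (∀ z : F, (x : Matrix (Fin n) (Fin n) F) ≠ z • (1 : Matrix (Fin n) (Fin n) F)) ∧
      ¬ ∃ P : Matrix.SpecialLinearGroup (Fin n) F,
        P⁻¹ * x * P ∈ (Cfsg.Geo.subalgebraNormalizer K).comap
          (Matrix.SpecialLinearGroup.toGL :
            Matrix.SpecialLinearGroup (Fin n) F →* GL (Fin n) F) := by
  classical
  have h2 : (2 : F) ≠ 0 := by
    by_cases hrc : ringChar F = 2
    · exfalso
      have hev := FiniteField.even_card_of_char_two hrc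
      have hc := Fintype.one_lt_card (α := F)
      have hnd : ¬ 2 ∣ Fintype.card F - 1 := by omega
      rw [padicValNat.eq_zero_of_not_dvd hnd] at hv
      omega
    · exact Ring.two_ne_zero hrc
  obtain ⟨l, hl⟩ := Cfsg.Agent.Lib.Helper10.Alt.exists_root_neg_one (F := F) n (by omega) hv
  have hl0 : l ≠ 0 := by
    rintro rfl
    rw [zero_pow (by omega)] at hl
    have : (1 : F) = 0 := by linear_combination hl
    exact one_ne_zero this
  let i₀ : Fin n := ⟨0, by omega⟩
  let i₁ : Fin n := ⟨1, by omega⟩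
  let i₂ : Fin n := ⟨2, by omega⟩
  have h01 : i₁ ≠ i₀ := by
    intro h
    have := congrArg Fin.val h
    simp [i₀, i₁] at this
  have h02 : i₂ ≠ i₀ := by
    intro h
    have := congrArg Fin.val h
    simp [i₀, i₂] at this
  have h12 : i₂ ≠ i₁ := by
    intro h
    have := congrArg Fin.val h
    simp [i₁, i₂] at this
  let d : Fin n → F := fun i => l * (if i = i₀ then -1 else 1)
  have hd0 : d i₀ = -l := by
    show l * (if i₀ = i₀ then -1 else 1) = -l
    rw [if_pos rfl, mul_neg, mul_one]
  have hd : ∀ i, i ≠ i₀ → d i = l := by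
    intro i hi
    show l * (if i = i₀ then -1 else 1) = l
    rw [if_neg hi, mul_one]
  have hdet : (Matrix.diagonal d).det = 1 := by
    rw [Matrix.det_diagonal]
    show ∏ i : Fin n, l * (if i = i₀ then (-1 : F) else 1) = 1
    rw [Finset.prod_mul_distrib, Finset.prod_const, Finset.card_univ, Fintype.card_fin, hl,
      Finset.prod_ite_eq' Finset.univ i₀ (fun _ => (-1 : F))]
    simp
  have hdd : ∀ i, d i * d i = l * l := by
    intro i
    by_cases hi : i = i₀
    · rw [hi, hd0]
      ring
    · rw [hd i hi]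
  obtain ⟨x, hxd⟩ : ∃ x : Matrix.SpecialLinearGroup (Fin n) F,
      (x : Matrix (Fin n) (Fin n) F) = Matrix.diagonal d := ⟨⟨_, hdet⟩, rfl⟩
  refine ⟨x, ⟨l * l, ?_⟩, ?_, ?_⟩
  · rw [sq, Matrix.SpecialLinearGroup.coe_mul, hxd]
    rw [Matrix.diagonal_mul_diagonal, Matrix.smul_one_eq_diagonal]
    congr 1
    funext i
    exact hdd i
  · intro z hz
    rw [hxd] at hz
    have e0 := congrFun (congrFun hz i₀) i₀
    have e1 := congrFun (congrFun hz i₁) i₁
    rw [Matrix.diagonal_apply_eq, Matrix.smul_apply, Matrix.one_apply_eq, smul_eq_mul, mul_one]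
      at e0 e1
    rw [hd0] at e0
    rw [hd i₁ h01] at e1
    have h4 : (2 : F) * l = 0 := by linear_combination e1 - e0
    rcases mul_eq_zero.1 h4 with h5 | h5
    · exact h2 h5
    · exact hl0 h5
  · rintro ⟨P, hP⟩
    obtain ⟨J, hJK, z, hz, hJJ, hJ, hgen⟩ := K_odd h2 K hK
    have hz0 : z ≠ 0 := by
      rintro rfl
      exact hz ⟨0, by simp⟩
    obtain ⟨Q, Pm, A, B, hQP, hPQ, hBA, hPA, hAQ, hmem⟩ := unpack K x P hP J hJK
    have hcases := conj_odd h2 K J z hz hJJ hJ hgen A B hBA hmem
    obtain ⟨J₁, hJ₁⟩ : ∃ J₁, J₁ = Pm * J * Q := ⟨_, rfl⟩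
    have hAJ : ∀ M : Matrix (Fin n) (Fin n) F, A * J * B = M → A * J = M * A := by
      intro M hM
      calc A * J = A * J * (B * A) := by rw [hBA, Matrix.mul_one]
        _ = (A * J * B) * A := by simp only [Matrix.mul_assoc]
        _ = M * A := by rw [hM]
    have hconj : ∀ M : Matrix (Fin n) (Fin n) F, A * J = M * A →
        (x : Matrix (Fin n) (Fin n) F) * J₁ = (Pm * M * Q) * (x : Matrix (Fin n) (Fin n) F) := by
      intro M hM
      calc (x : Matrix (Fin n) (Fin n) F) * J₁
          = ((x : Matrix (Fin n) (Fin n) F) * Pm) * J * Q := by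
            rw [hJ₁]; simp only [Matrix.mul_assoc]
        _ = Pm * (A * J) * Q := by rw [← hPA]; simp only [Matrix.mul_assoc]
        _ = Pm * M * (A * Q) := by rw [hM]; simp only [Matrix.mul_assoc]
        _ = (Pm * M * Q) * (x : Matrix (Fin n) (Fin n) F) := by
            rw [hAQ]; simp only [Matrix.mul_assoc]
    rcases hcases with h | h
    · have h3 := hconj J (hAJ J h)
      rw [← hJ₁, hxd] at h3
      have hcol : ∀ a, a ≠ i₀ → J₁ a i₀ = 0 := by
        intro a ha
        have e := congrFun (congrFun h3 a) i₀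
        rw [Matrix.diagonal_mul, Matrix.mul_diagonal, hd a ha, hd0] at e
        have h5 : (2 * l) * J₁ a i₀ = 0 := by linear_combination e
        rcases mul_eq_zero.1 h5 with h6 | h6
        · exact absurd h6 (mul_ne_zero h2 hl0)
        · exact h6
      have heig : J₁ *ᵥ (Pi.single i₀ (1 : F)) = J₁ i₀ i₀ • (Pi.single i₀ (1 : F)) := by
        ext a
        have h5 : (J₁ *ᵥ (Pi.single i₀ (1 : F))) a = J₁ a i₀ := by
          simp [Matrix.mulVec, dotProduct, Pi.single_apply]
        rw [h5, Pi.smul_apply, smul_eq_mul]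
        by_cases ha : a = i₀
        · rw [ha, Pi.single_eq_same, mul_one]
        · rw [hcol a ha, Pi.single_eq_of_ne ha, mul_zero]
      have h6 : J *ᵥ (Q *ᵥ (Pi.single i₀ (1 : F))) =
          J₁ i₀ i₀ • (Q *ᵥ (Pi.single i₀ (1 : F))) := by
        have := congrArg (fun v => Q *ᵥ v) heig
        simp only [Matrix.mulVec_smul] at this
        rw [← this, hJ₁]
        simp only [Matrix.mulVec_mulVec]
        rw [← Matrix.mul_assoc, ← Matrix.mul_assoc, hQP, Matrix.one_mul]
      have h7 := K_no_eigen K hK J hJK hJ _ _ h6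
      have h8 := congrArg (fun v => Pm *ᵥ v) h7
      simp only [Matrix.mulVec_mulVec, hPQ, Matrix.one_mulVec, Matrix.mulVec_zero] at h8
      have h9 := congrFun h8 i₀
      rw [Pi.single_eq_same, Pi.zero_apply] at h9
      exact one_ne_zero h9
    · have h3 := hconj _ (hAJ _ h)
      have h4 : Pm * (-J) * Q = -J₁ := by
        rw [Matrix.mul_neg, Matrix.neg_mul, hJ₁]
      rw [h4, hxd] at h3
      have hzero : ∀ a b, a ≠ i₀ → b ≠ i₀ → J₁ a b = 0 := by
        intro a b ha hb
        have e := congrFun (congrFun h3 a) b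
        rw [Matrix.diagonal_mul, Matrix.neg_mul, Matrix.neg_apply, Matrix.mul_diagonal, hd a ha,
          hd b hb] at e
        have h5 : (2 * l) * J₁ a b = 0 := by linear_combination e
        rcases mul_eq_zero.1 h5 with h6 | h6
        · exact absurd h6 (mul_ne_zero h2 hl0)
        · exact h6
      have hJ1sq : J₁ * J₁ = z • (1 : Matrix (Fin n) (Fin n) F) := by
        calc J₁ * J₁ = Pm * J * (Q * Pm) * J * Q := by rw [hJ₁]; simp only [Matrix.mul_assoc]
          _ = Pm * (J * J) * Q := by rw [hQP, Matrix.mul_one, Matrix.mul_assoc Pm J J]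
          _ = z • (1 : Matrix (Fin n) (Fin n) F) := by
            rw [hJJ, Matrix.mul_smul, Matrix.smul_mul, Matrix.mul_one, hPQ]
      have hent : ∀ a b, a ≠ i₀ → (J₁ * J₁) a b = J₁ a i₀ * J₁ i₀ b := by
        intro a b ha
        rw [Matrix.mul_apply, Finset.sum_eq_single i₀]
        · intro k _ hk
          rw [hzero a k ha hk, zero_mul]
        · intro hk
          exact absurd (Finset.mem_univ _) hk
      have e11 := hent i₁ i₁ h01
      have e22 := hent i₂ i₂ h02
      have e21 := hent i₂ i₁ h02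
      rw [hJ1sq, Matrix.smul_apply, Matrix.one_apply_eq, smul_eq_mul, mul_one] at e11 e22
      rw [hJ1sq, Matrix.smul_apply, Matrix.one_apply_ne h12, smul_zero] at e21
      rcases mul_eq_zero.1 e21.symm with h5 | h5
      · rw [h5, zero_mul] at e22
        exact hz0 e22
      · rw [h5, mul_zero] at e11
        exact hz0 e11

end Cfsg.Agent.Lib.Helper10.Ext
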