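import Mathlib
import Cfsg.Agent.Lib.Helper10.ExtB
import Cfsg.Agent.Lib.Helper10.AltF

set_option autoImplicit false

namespace Cfsg.Agent.Lib.Helper10.Ext

open Matrix Module
open Cfsg.Agent.Lib.Helper10.Alt

variable {F : Type*} [Field F] {n : ℕ}

theorem conj_frame (x : Matrix.SpecialLinearGroup (Fin n) F) (m : ℕ)
    (E : Matrix (Fin n) (Fin m ⊕ Fin m) F) (E' : Matrix (Fin m ⊕ Fin m) (Fin n) F)
    (hEE' : E * E' = 1) (hE'E : E' * E = 1)
    (G : Matrix (Fin n) (Fin m ⊕ Fin m) F) (G' : Matrix (Fin m ⊕ Fin m) (Fin n) F)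
    (hGG' : G * G' = 1) (hG'G : G' * G = 1)
    (Y : Matrix (Fin m ⊕ Fin m) (Fin m ⊕ Fin m) F)
    (hxE : (x : Matrix (Fin n) (Fin n) F) * E = E * Y)
    (hadj : ∀ r : F, r ≠ 0 → ∃ C : Matrix (Fin m ⊕ Fin m) (Fin m ⊕ Fin m) F,
      C * Y = Y * C ∧ C.det = r) :
    ∃ P : Matrix.SpecialLinearGroup (Fin n) F,
      ((Matrix.SpecialLinearGroup.toGL (P⁻¹ * x * P) : GL (Fin n) F) :
        Matrix (Fin n) (Fin n) F) = G * Y * G' := by
  classical
  have hdet0 : (G' * E).det ≠ 0 := by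
    have h1 : (G' * E) * (E' * G) = 1 := by
      calc (G' * E) * (E' * G) = G' * (E * E') * G := by simp only [Matrix.mul_assoc]
        _ = 1 := by rw [hEE', Matrix.mul_one, hG'G]
    intro h0
    have h2 := congrArg Matrix.det h1
    rw [Matrix.det_mul, h0, zero_mul, Matrix.det_one] at h2
    exact zero_ne_one h2
  obtain ⟨C, hC1, hC2⟩ := hadj ((G' * E).det)⁻¹ (inv_ne_zero hdet0)
  have hPdet : (E * C * G').det = 1 := by
    rw [Matrix.mul_assoc, Matrix.det_comm' hEE' hE'E, Matrix.mul_assoc, Matrix.det_mul, hC2,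
      inv_mul_cancel₀ hdet0]
  let P : Matrix.SpecialLinearGroup (Fin n) F := ⟨E * C * G', hPdet⟩
  refine ⟨P, ?_⟩
  have hkey : (x : Matrix (Fin n) (Fin n) F) * (P : Matrix (Fin n) (Fin n) F) =
      (P : Matrix (Fin n) (Fin n) F) * (G * Y * G') := by
    show (x : Matrix (Fin n) (Fin n) F) * (E * C * G') = (E * C * G') * (G * Y * G')
    calc (x : Matrix (Fin n) (Fin n) F) * (E * C * G')
        = ((x : Matrix (Fin n) (Fin n) F) * E) * C * G' := by simp only [Matrix.mul_assoc]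
      _ = E * (Y * C) * G' := by rw [hxE]; simp only [Matrix.mul_assoc]
      _ = E * (C * Y) * G' := by rw [hC1]
      _ = E * C * (G' * G) * Y * G' := by rw [hG'G]; simp only [Matrix.mul_assoc, Matrix.mul_one]
      _ = (E * C * G') * (G * Y * G') := by simp only [Matrix.mul_assoc]
  have hPP : ((P⁻¹ : Matrix.SpecialLinearGroup (Fin n) F) : Matrix (Fin n) (Fin n) F) *
      (P : Matrix (Fin n) (Fin n) F) = 1 := by
    rw [← Matrix.SpecialLinearGroup.coe_mul, inv_mul_cancel, Matrix.SpecialLinearGroup.coe_one]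
  rw [Matrix.SpecialLinearGroup.coe_GL_coe_matrix, Matrix.SpecialLinearGroup.coe_mul,
    Matrix.SpecialLinearGroup.coe_mul, Matrix.mul_assoc, hkey, ← Matrix.mul_assoc, hPP,
    Matrix.one_mul]

theorem mem_norm_of_frame (K : Subalgebra F (Matrix (Fin n) (Fin n) F))
    (J : Matrix (Fin n) (Fin n) F) (hJK : J ∈ K)
    (hgen : ∀ κ ∈ K, ∃ a b : F, κ = a • (1 : Matrix (Fin n) (Fin n) F) + b • J)
    (m : ℕ) (G : Matrix (Fin n) (Fin m ⊕ Fin m) F) (G' : Matrix (Fin m ⊕ Fin m) (Fin n) F)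
    (hGG' : G * G' = 1) (hG'G : G' * G = 1)
    (Jb : Matrix (Fin m ⊕ Fin m) (Fin m ⊕ Fin m) F) (hJG : J * G = G * Jb)
    (Y Y' : Matrix (Fin m ⊕ Fin m) (Fin m ⊕ Fin m) F) (hYY' : Y * Y' = 1)
    (h1 : ∃ a b : F, Y * Jb * Y' = a • (1 : Matrix (Fin m ⊕ Fin m) (Fin m ⊕ Fin m) F) + b • Jb)
    (h2 : ∃ a b : F, Y' * Jb * Y = a • (1 : Matrix (Fin m ⊕ Fin m) (Fin m ⊕ Fin m) F) + b • Jb)
    (g : GL (Fin n) F) (hg : (g : Matrix (Fin n) (Fin n) F) = G * Y * G') :
    g ∈ Cfsg.Geo.subalgebraNormalizer K := by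
  have hJ : J = G * Jb * G' := by
    calc J = J * (G * G') := by rw [hGG', Matrix.mul_one]
      _ = (J * G) * G' := by rw [Matrix.mul_assoc]
      _ = G * Jb * G' := by rw [hJG]
  have hY'Y : Y' * Y = 1 := mul_eq_one_comm.1 hYY'
  have key : ∀ (A B : Matrix (Fin m ⊕ Fin m) (Fin m ⊕ Fin m) F),
      (∃ a b : F, A * Jb * B = a • (1 : Matrix (Fin m ⊕ Fin m) (Fin m ⊕ Fin m) F) + b • Jb) →
      (G * A * G') * J * (G * B * G') ∈ K := by
    rintro A B ⟨a, b, hab⟩
    have : (G * A * G') * J * (G * B * G') =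
        a • (1 : Matrix (Fin n) (Fin n) F) + b • J := by
      calc (G * A * G') * J * (G * B * G')
          = G * A * (G' * G) * Jb * (G' * G) * B * G' := by
            rw [hJ]; simp only [Matrix.mul_assoc]
        _ = G * (A * Jb * B) * G' := by
            rw [hG'G]; simp only [Matrix.mul_assoc, Matrix.mul_one, Matrix.one_mul]
        _ = a • (1 : Matrix (Fin n) (Fin n) F) + b • J := by
            rw [hab, Matrix.mul_add, Matrix.add_mul, Matrix.mul_smul, Matrix.smul_mul,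
              Matrix.mul_one, hGG', Matrix.mul_smul, Matrix.smul_mul, ← hJ]
    rw [this]
    exact K.add_mem (K.smul_mem K.one_mem a) (K.smul_mem hJK b)
  refine normalizes_of K J hgen g (G * Y' * G') ?_ ?_ ?_
  · rw [hg]
    calc G * Y * G' * (G * Y' * G') = G * Y * (G' * G) * Y' * G' := by
          simp only [Matrix.mul_assoc]
      _ = 1 := by rw [hG'G, Matrix.mul_one, Matrix.mul_assoc G Y Y', hYY', Matrix.mul_one, hGG']
  · rw [hg]
    exact key Y Y' h1
  · rw [hg]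
    exact key Y' Y h2

theorem FB_one (m : ℕ) : FB (1 : Fin m → F) 0 0 1 = 1 := by
  unfold FB
  rw [show (1 : Fin m → F) = fun _ => 1 from rfl, show (0 : Fin m → F) = fun _ => 0 from rfl,
    Matrix.diagonal_one, Matrix.diagonal_zero, Matrix.fromBlocks_one]

theorem FB_diag_inv {m : ℕ} (u : Fin m → F) (hu : ∀ k, u k ≠ 0) :
    FB 1 0 0 u * FB 1 0 0 (fun k => (u k)⁻¹) = 1 := by
  rw [FB_mul, ← FB_one m]
  congr 1
  · funext k; simp
  · funext k; simp
  · funext k; simp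
  · funext k
    simp only [Pi.zero_apply, zero_mul, zero_add, Pi.one_apply]
    exact mul_inv_cancel₀ (hu k)

theorem plane_frame (X : Matrix (Fin n) (Fin n) F) (z : F) (hz : ¬ IsSquare z)
    (hx : X * X = z • (1 : Matrix (Fin n) (Fin n) F)) (β γ : F) (hβγ : β * γ = z) :
    ∃ (m : ℕ) (E : Matrix (Fin n) (Fin m ⊕ Fin m) F) (E' : Matrix (Fin m ⊕ Fin m) (Fin n) F),
      m + m = n ∧ E * E' = 1 ∧ E' * E = 1 ∧
      X * E = E * FB 0 (fun _ => β) (fun _ => γ) 0 := by
  classical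
  have hz0 : z ≠ 0 := by
    rintro rfl
    exact hz ⟨0, by simp⟩
  have hγ0 : γ ≠ 0 := by
    rintro rfl
    rw [mul_zero] at hβγ
    exact hz0 hβγ.symm
  let xl : (Fin n → F) →ₗ[F] (Fin n → F) := Matrix.toLin' X
  have hxl : ∀ v, xl v = X *ᵥ v := fun v => Matrix.toLin'_apply X v
  have hx' : ∀ v, xl (xl v) = z • v := by
    intro v
    rw [hxl, hxl, Matrix.mulVec_mulVec, hx, Matrix.smul_mulVec, Matrix.one_mulVec]
  obtain ⟨ι, _, b, τ, c, hτ, hc, hxb⟩ :=
    Cfsg.Agent.Lib.Helper24.InvolDecomp.exists_monomial_basis n xl z hz0 hx' (by simp)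
  have hcc : ∀ i, c i * c (τ i) = z := by
    intro i
    have h2 := hx' (b i)
    rw [hxb i, map_smul, hxb (τ i), hτ, smul_smul] at h2
    have h3 := sub_eq_zero.2 h2
    rw [← sub_smul] at h3
    rcases smul_eq_zero.1 h3 with h | h
    · exact sub_eq_zero.1 h
    · exact absurd h (b.ne_zero i)
  have hfix : ∀ i, τ i ≠ i := by
    intro i h
    have h1 := hcc i
    rw [h] at h1
    exact hz ⟨c i, h1.symm⟩
  obtain ⟨m, ε, hε⟩ := exists_pairing τ hτ hfix
  have hε' : ∀ k, τ (ε (Sum.inr k)) = ε (Sum.inl k) := by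
    intro k
    rw [← hε k, hτ]
  let b' : Basis (Fin m ⊕ Fin m) F (Fin n → F) := b.reindex ε.symm
  have hb' : ∀ s, b' s = b (ε s) := by
    intro s
    rw [Basis.reindex_apply, Equiv.symm_symm]
  have hm : m + m = n := by
    have h5 := Module.finrank_eq_card_basis b'
    rw [Module.finrank_fintype_fun_eq_card, Fintype.card_fin, Fintype.card_sum,
      Fintype.card_fin] at h5
    exact h5.symm
  have hl : ∀ k, X *ᵥ b' (Sum.inl k) =
      (0 : Fin m → F) k • b' (Sum.inl k) + c (ε (Sum.inl k)) • b' (Sum.inr k) := by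
    intro k
    rw [← hxl, hb', hb', hxb, hε k, Pi.zero_apply, zero_smul, zero_add]
  have hr : ∀ k, X *ᵥ b' (Sum.inr k) =
      c (ε (Sum.inr k)) • b' (Sum.inl k) + (0 : Fin m → F) k • b' (Sum.inr k) := by
    intro k
    rw [← hxl, hb', hb', hxb, hε' k, Pi.zero_apply, zero_smul, add_zero]
  obtain ⟨E, E', h1, h2, h3⟩ := frame_of_basis X b' 0 (fun k => c (ε (Sum.inr k)))
    (fun k => c (ε (Sum.inl k))) 0 hl hr
  have hprod : ∀ k, c (ε (Sum.inr k)) * c (ε (Sum.inl k)) = z := by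
    intro k
    have := hcc (ε (Sum.inr k))
    rwa [hε' k] at this
  have hγk : ∀ k, c (ε (Sum.inl k)) ≠ 0 := fun k => hc _
  obtain ⟨u, hu⟩ : ∃ u : Fin m → F, u = fun k => c (ε (Sum.inl k)) / γ := ⟨_, rfl⟩
  have hu0 : ∀ k, u k ≠ 0 := by
    intro k
    rw [hu]
    exact div_ne_zero (hγk k) hγ0
  refine ⟨m, E * FB 1 0 0 u, FB 1 0 0 (fun k => (u k)⁻¹) * E', hm, ?_, ?_, ?_⟩
  · calc E * FB 1 0 0 u * (FB 1 0 0 (fun k => (u k)⁻¹) * E')
        = E * (FB 1 0 0 u * FB 1 0 0 (fun k => (u k)⁻¹)) * E' := by simp only [Matrix.mul_assoc]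
      _ = 1 := by rw [FB_diag_inv u hu0, Matrix.mul_one, h1]
  · calc FB 1 0 0 (fun k => (u k)⁻¹) * E' * (E * FB 1 0 0 u)
        = FB 1 0 0 (fun k => (u k)⁻¹) * (E' * E) * FB 1 0 0 u := by simp only [Matrix.mul_assoc]
      _ = FB 1 0 0 (fun k => (u k)⁻¹) * FB 1 0 0 u := by rw [h2, Matrix.mul_one]
      _ = 1 := mul_eq_one_comm.1 (FB_diag_inv u hu0)
  · have hcomm : FB 0 (fun k => c (ε (Sum.inr k))) (fun k => c (ε (Sum.inl k))) 0 * FB 1 0 0 u =
        FB 1 0 0 u * FB 0 (fun _ => β) (fun _ => γ) 0 := by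
      rw [FB_mul, FB_mul]
      congr 1
      · funext k; simp
      · funext k
        simp only [Pi.zero_apply, zero_add, Pi.one_apply, one_mul, mul_zero, add_zero]
        rw [hu]
        have := hprod k
        rw [← hβγ] at this
        have h5 := hγk k
        field_simp
        linear_combination this
      · funext k
        simp only [Pi.zero_apply, Pi.one_apply, mul_one, add_zero, mul_zero, zero_add]
        rw [hu]
        field_simp
      · funext k; simp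
    have hfin : X * (E * FB 1 0 0 u) = (E * FB 1 0 0 u) * FB 0 (fun _ => β) (fun _ => γ) 0 :=
      calc X * (E * FB 1 0 0 u)
          = (X * E) * FB 1 0 0 u := (Matrix.mul_assoc _ _ _).symm
        _ = (E * FB 0 (fun k => c (ε (Sum.inr k))) (fun k => c (ε (Sum.inl k))) 0) * FB 1 0 0 u := by
            rw [h3]
        _ = E * (FB 0 (fun k => c (ε (Sum.inr k))) (fun k => c (ε (Sum.inl k))) 0 * FB 1 0 0 u) :=
            Matrix.mul_assoc _ _ _
        _ = E * (FB 1 0 0 u * FB 0 (fun _ => β) (fun _ => γ) 0) := by rw [hcomm]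
        _ = (E * FB 1 0 0 u) * FB 0 (fun _ => β) (fun _ => γ) 0 := (Matrix.mul_assoc _ _ _).symm
    exact hfin

end Cfsg.Agent.Lib.Helper10.Ext
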