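import Mathlib
import Cfsg.Agent.Lib.Helper10.ExtE
import Cfsg.Agent.Lib.Helper10.AltH

set_option autoImplicit false

namespace Cfsg.Agent.Lib.Helper10.Ext

open Matrix Module
open Cfsg.Agent.Lib.Helper10.Alt

variable {F : Type*} [Field F] {n : ℕ}

theorem frame_det (x : Matrix.SpecialLinearGroup (Fin n) F) (m : ℕ)
    (E : Matrix (Fin n) (Fin m ⊕ Fin m) F) (E' : Matrix (Fin m ⊕ Fin m) (Fin n) F)
    (hEE' : E * E' = 1) (hE'E : E' * E = 1)
    (Y : Matrix (Fin m ⊕ Fin m) (Fin m ⊕ Fin m) F)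
    (hxE : (x : Matrix (Fin n) (Fin n) F) * E = E * Y) : Y.det = 1 := by
  have h1 : E * Y * E' = (x : Matrix (Fin n) (Fin n) F) := by
    rw [← hxE, Matrix.mul_assoc, hEE', Matrix.mul_one]
  rw [← Matrix.det_conj_of_mul_eq_one hEE' hE'E, h1]
  exact x.2

/-- final assembly -/
theorem finish (K : Subalgebra F (Matrix (Fin n) (Fin n) F))
    (J : Matrix (Fin n) (Fin n) F) (hJK : J ∈ K)
    (hgen : ∀ κ ∈ K, ∃ a b : F, κ = a • (1 : Matrix (Fin n) (Fin n) F) + b • J)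
    (x : Matrix.SpecialLinearGroup (Fin n) F) (m : ℕ)
    (E : Matrix (Fin n) (Fin m ⊕ Fin m) F) (E' : Matrix (Fin m ⊕ Fin m) (Fin n) F)
    (hEE' : E * E' = 1) (hE'E : E' * E = 1)
    (G : Matrix (Fin n) (Fin m ⊕ Fin m) F) (G' : Matrix (Fin m ⊕ Fin m) (Fin n) F)
    (hGG' : G * G' = 1) (hG'G : G' * G = 1)
    (Jb : Matrix (Fin m ⊕ Fin m) (Fin m ⊕ Fin m) F) (hJG : J * G = G * Jb)
    (Y : Matrix (Fin m ⊕ Fin m) (Fin m ⊕ Fin m) F)
    (hxE : (x : Matrix (Fin n) (Fin n) F) * E = E * Y)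
    (hadj : ∀ r : F, r ≠ 0 → ∃ C : Matrix (Fin m ⊕ Fin m) (Fin m ⊕ Fin m) F,
      C * Y = Y * C ∧ C.det = r)
    (h1 : ∃ a b : F, Y * Jb * Y⁻¹ = a • (1 : Matrix (Fin m ⊕ Fin m) (Fin m ⊕ Fin m) F) + b • Jb)
    (h2 : ∃ a b : F, Y⁻¹ * Jb * Y = a • (1 : Matrix (Fin m ⊕ Fin m) (Fin m ⊕ Fin m) F) + b • Jb) :
    ∃ P : Matrix.SpecialLinearGroup (Fin n) F,
      P⁻¹ * x * P ∈ (Cfsg.Geo.subalgebraNormalizer K).comap
        (Matrix.SpecialLinearGroup.toGL : Matrix.SpecialLinearGroup (Fin n) F →* GL (Fin n) F) := by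
  have hdet := frame_det x m E E' hEE' hE'E Y hxE
  have hYY' : Y * Y⁻¹ = 1 := Matrix.mul_nonsing_inv Y (by rw [hdet]; exact isUnit_one)
  obtain ⟨P, hP⟩ := conj_frame x m E E' hEE' hE'E G G' hGG' hG'G Y hxE hadj
  refine ⟨P, ?_⟩
  rw [Subgroup.mem_comap]
  exact mem_norm_of_frame K J hJK hgen m G G' hGG' hG'G Jb hJG Y Y⁻¹ hYY' h1 h2 _ hP

theorem eps_conj {κ : Type*} [Fintype κ] [DecidableEq κ] (Y Jb : Matrix κ κ F) (hY : IsUnit Y.det)
    (e : F) (he : e * e = 1) (hc : Y * Jb = e • (Jb * Y)) :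
    (∃ a b : F, Y * Jb * Y⁻¹ = a • (1 : Matrix κ κ F) + b • Jb) ∧
    (∃ a b : F, Y⁻¹ * Jb * Y = a • (1 : Matrix κ κ F) + b • Jb) := by
  have h1 : Y * Y⁻¹ = 1 := Matrix.mul_nonsing_inv Y hY
  have h2 : Y⁻¹ * Y = 1 := Matrix.nonsing_inv_mul Y hY
  constructor
  · refine ⟨0, e, ?_⟩
    rw [hc, Matrix.smul_mul, Matrix.mul_assoc, h1, Matrix.mul_one, zero_smul, zero_add]
  · refine ⟨0, e, ?_⟩
    have h3 : Jb * Y = e • (Y * Jb) := by
      rw [hc, smul_smul, he, one_smul]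
    rw [Matrix.mul_assoc, h3, Matrix.mul_smul, ← Matrix.mul_assoc, h2, Matrix.one_mul, zero_smul,
      zero_add]

theorem hadj_norm [Fintype F] (hodd : Fintype.card F % 2 = 1) {m : ℕ} (hm : 1 ≤ m) (β γ : F)
    (hβγ : β * γ ≠ 0) :
    ∀ r : F, r ≠ 0 → ∃ C : Matrix (Fin m ⊕ Fin m) (Fin m ⊕ Fin m) F,
      C * FB 0 (fun _ => β) (fun _ => γ) 0 = FB 0 (fun _ => β) (fun _ => γ) 0 * C ∧ C.det = r := by
  classical
  intro r _
  obtain ⟨s, t, hst⟩ := exists_norm_form hodd (β * γ) hβγ r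
  let i₀ : Fin m := ⟨0, by omega⟩
  refine ⟨FB (Function.update 1 i₀ s) (Function.update 0 i₀ (t * β))
    (Function.update 0 i₀ (t * γ)) (Function.update 1 i₀ s), ?_, ?_⟩
  · apply FB_comm
    · intro i
      by_cases hi : i = i₀
      · subst hi
        simp only [Function.update_self]
        ring
      · simp only [Function.update_of_ne hi, Pi.zero_apply, zero_mul, mul_zero]
    · intro i
      simp only [Pi.zero_apply, mul_zero, zero_mul, add_zero, zero_add]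
      ring
    · intro i
      simp only [Pi.zero_apply, mul_zero, zero_mul, add_zero, zero_add]
      ring
  · rw [FB_det, Finset.prod_eq_single i₀]
    · simp only [Function.update_self]
      linear_combination hst
    · intro i _ hi
      simp only [Function.update_of_ne hi, Pi.zero_apply, Pi.one_apply, mul_zero, mul_one,
        sub_zero]
    · intro h
      exact absurd (Finset.mem_univ _) h

theorem hadj_diag {m : ℕ} (hm : 1 ≤ m) (a d : Fin m → F) :
    ∀ r : F, r ≠ 0 → ∃ C : Matrix (Fin m ⊕ Fin m) (Fin m ⊕ Fin m) F,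
      C * FB a 0 0 d = FB a 0 0 d * C ∧ C.det = r := by
  classical
  intro r' _
  let i₀ : Fin m := ⟨0, by omega⟩
  refine ⟨FB (Function.update 1 i₀ r') 0 0 1, ?_, ?_⟩
  · apply FB_comm
    · intro i
      simp only [Pi.zero_apply, mul_zero]
    · intro i
      simp only [Pi.zero_apply, zero_mul, mul_zero, add_zero]
    · intro i
      simp only [Pi.zero_apply, zero_mul, mul_zero, add_zero]
  · rw [FB_det, Finset.prod_eq_single i₀]
    · simp only [Function.update_self, Pi.zero_apply, Pi.one_apply, mul_zero, sub_zero, mul_one]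
    · intro i _ hi
      simp only [Function.update_of_ne hi, Pi.zero_apply, Pi.one_apply, mul_zero, mul_one,
        sub_zero]
    · intro h
      exact absurd (Finset.mem_univ _) h

theorem eigen_basis (h2 : (2 : F) ≠ 0) (X : Matrix (Fin n) (Fin n) F) (l : F) (hl0 : l ≠ 0)
    (hx : X * X = (l * l) • (1 : Matrix (Fin n) (Fin n) F)) :
    ∃ (a' j : ℕ) (bV : Basis (Fin a' ⊕ Fin j) F (Fin n → F)), a' + j = n ∧
      (∀ i, X *ᵥ bV (Sum.inl i) = l • bV (Sum.inl i)) ∧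
      (∀ i, X *ᵥ bV (Sum.inr i) = (-l) • bV (Sum.inr i)) := by
  classical
  let Wp : Submodule F (Fin n → F) := LinearMap.ker (Matrix.toLin' (X - l • 1))
  let Wm : Submodule F (Fin n → F) := LinearMap.ker (Matrix.toLin' (X + l • 1))
  have hWp : ∀ v, v ∈ Wp ↔ X *ᵥ v = l • v := by
    intro v
    show Matrix.toLin' (X - l • 1) v = 0 ↔ _
    rw [Matrix.toLin'_apply, Matrix.sub_mulVec, Matrix.smul_mulVec, Matrix.one_mulVec, sub_eq_zero]
  have hWm : ∀ v, v ∈ Wm ↔ X *ᵥ v = -(l • v) := by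
    intro v
    show Matrix.toLin' (X + l • 1) v = 0 ↔ _
    rw [Matrix.toLin'_apply, Matrix.add_mulVec, Matrix.smul_mulVec, Matrix.one_mulVec,
      add_eq_zero_iff_eq_neg]
  have hXX : ∀ v, X *ᵥ (X *ᵥ v) = (l * l) • v := by
    intro v
    rw [Matrix.mulVec_mulVec, hx, Matrix.smul_mulVec, Matrix.one_mulVec]
  have h2l : (2 * l : F) ≠ 0 := mul_ne_zero h2 hl0
  have hc : IsCompl Wp Wm := by
    constructor
    · rw [Submodule.disjoint_def]
      intro v hp hm'
      rw [hWp] at hp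
      rw [hWm] at hm'
      have h3 : (2 * l) • v = 0 := by
        rw [mul_smul, two_smul]
        nth_rewrite 1 [← hp]
        rw [hm', neg_add_cancel]
      rcases smul_eq_zero.1 h3 with h | h
      · exact absurd h h2l
      · exact h
    · rw [codisjoint_iff, eq_top_iff]
      intro v _
      have hp : (2 * l)⁻¹ • (X *ᵥ v + l • v) ∈ Wp := by
        rw [hWp, Matrix.mulVec_smul, Matrix.mulVec_add, hXX, Matrix.mulVec_smul]
        module
      have hm' : (2 * l)⁻¹ • (l • v - X *ᵥ v) ∈ Wm := by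
        rw [hWm, Matrix.mulVec_smul, Matrix.mulVec_sub, hXX, Matrix.mulVec_smul]
        module
      have hv : v = (2 * l)⁻¹ • (X *ᵥ v + l • v) + (2 * l)⁻¹ • (l • v - X *ᵥ v) := by
        have h6 : (2 * l)⁻¹ • (X *ᵥ v + l • v) + (2 * l)⁻¹ • (l • v - X *ᵥ v) =
            ((2 * l)⁻¹ * (2 * l)) • v := by module
        rw [h6, inv_mul_cancel₀ h2l, one_smul]
      rw [hv]
      exact Submodule.add_mem_sup hp hm'
  obtain ⟨a', ha'⟩ : ∃ a', a' = finrank F Wp := ⟨_, rfl⟩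
  obtain ⟨j, hj⟩ : ∃ j, j = finrank F Wm := ⟨_, rfl⟩
  have hsum : a' + j = n := by
    have := Submodule.finrank_add_eq_of_isCompl hc
    rw [Module.finrank_fintype_fun_eq_card, Fintype.card_fin] at this
    rw [ha', hj]
    exact this
  let bp : Basis (Fin a') F Wp := Module.finBasisOfFinrankEq F Wp ha'.symm
  let bm : Basis (Fin j) F Wm := Module.finBasisOfFinrankEq F Wm hj.symm
  let bV : Basis (Fin a' ⊕ Fin j) F (Fin n → F) :=
    (bp.prod bm).map (Submodule.prodEquivOfIsCompl Wp Wm hc)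
  have hbVl : ∀ i, bV (Sum.inl i) = (bp i : Fin n → F) := by
    intro i
    rw [Basis.map_apply, Submodule.coe_prodEquivOfIsCompl']
    simp
  have hbVr : ∀ i, bV (Sum.inr i) = (bm i : Fin n → F) := by
    intro i
    rw [Basis.map_apply, Submodule.coe_prodEquivOfIsCompl']
    simp
  refine ⟨a', j, bV, hsum, ?_, ?_⟩
  · intro i
    rw [hbVl, (hWp _).1 (bp i).2]
  · intro i
    rw [hbVr, (hWm _).1 (bm i).2, neg_smul]

end Cfsg.Agent.Lib.Helper10.Ext
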