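import Mathlib
import Cfsg.Agent.Lib.Helper10.ExtF

set_option autoImplicit false

namespace Cfsg.Agent.Lib.Helper10.Ext

open Matrix Module
open Cfsg.Agent.Lib.Helper10.Alt

variable {F : Type*} [Field F] {n : ℕ}

theorem FB_smul {m : ℕ} (e : F) (u v w u' : Fin m → F) :
    e • FB u v w u' = FB (e • u) (e • v) (e • w) (e • u') := by
  unfold FB
  rw [Matrix.fromBlocks_smul, Matrix.diagonal_smul, Matrix.diagonal_smul, Matrix.diagonal_smul,
    Matrix.diagonal_smul]

theorem suff_odd [Fintype F] (h2 : (2 : F) ≠ 0) (hodd : Fintype.card F % 2 = 1) (hn : 2 ≤ n)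
    (hev : Even n) (K : Subalgebra F (Matrix (Fin n) (Fin n) F))
    (hK : Cfsg.Geo.IsFieldSubalgebra 2 K)
    (hcond : n = 2 ∨ ¬ ∃ y : F, y ^ n = -1)
    (x : Matrix.SpecialLinearGroup (Fin n) F) (z : F)
    (hx : (x : Matrix (Fin n) (Fin n) F) * (x : Matrix (Fin n) (Fin n) F) =
      z • (1 : Matrix (Fin n) (Fin n) F))
    (hns : ∀ c : F, (x : Matrix (Fin n) (Fin n) F) ≠ c • (1 : Matrix (Fin n) (Fin n) F)) :
    ∃ P : Matrix.SpecialLinearGroup (Fin n) F,
      P⁻¹ * x * P ∈ (Cfsg.Geo.subalgebraNormalizer K).comap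
        (Matrix.SpecialLinearGroup.toGL : Matrix.SpecialLinearGroup (Fin n) F →* GL (Fin n) F) := by
  classical
  obtain ⟨J, hJK, z', hz', hJJ, hJ, hgen⟩ := K_odd h2 K hK
  have hz'0 : z' ≠ 0 := by
    rintro rfl
    exact hz' ⟨0, by simp⟩
  obtain ⟨m, G, G', hm, hGG', hG'G, hJG⟩ := plane_frame J z' hz' hJJ z' 1 (mul_one z')
  have hm1 : 1 ≤ m := by omega
  have hz0 : z ≠ 0 := by
    rintro rfl
    have hdet := congrArg Matrix.det hx
    rw [Matrix.det_mul, x.2, zero_smul] at hdet
    have : Nonempty (Fin n) := ⟨⟨0, by omega⟩⟩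
    rw [Matrix.det_zero, mul_one] at hdet
    exact one_ne_zero hdet
  obtain ⟨X, hX⟩ : ∃ X : Matrix (Fin n) (Fin n) F, X = (x : Matrix (Fin n) (Fin n) F) := ⟨_, rfl⟩
  rw [← hX] at hx hns
  obtain ⟨Jb, hJb⟩ : ∃ Jb : Matrix (Fin m ⊕ Fin m) (Fin m ⊕ Fin m) F,
      Jb = FB 0 (fun _ => z') (fun _ => 1) 0 := ⟨_, rfl⟩
  rw [← hJb] at hJG
  by_cases hz : IsSquare z
  · obtain ⟨l, hl⟩ := hz
    have hl0 : l ≠ 0 := by
      rintro rfl
      apply hz0
      rw [hl, mul_zero]
    rw [hl] at hx
    obtain ⟨a', j, bV, hsum, hbl, hbr⟩ := eigen_basis h2 X l hl0 hx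
    have hj1 : 1 ≤ j := by
      by_contra hj0
      have hj00 : j = 0 := by omega
      subst hj00
      apply hns l
      have : Matrix.toLin' X = Matrix.toLin' (l • (1 : Matrix (Fin n) (Fin n) F)) := by
        apply bV.ext
        intro s
        rw [Matrix.toLin'_apply, Matrix.toLin'_apply, Matrix.smul_mulVec, Matrix.one_mulVec]
        rcases s with i | i
        · exact hbl i
        · exact i.elim0
      exact Matrix.toLin'.injective this
    have ha1 : 1 ≤ a' := by
      by_contra ha0
      have ha00 : a' = 0 := by omega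
      subst ha00
      apply hns (-l)
      have : Matrix.toLin' X = Matrix.toLin' ((-l) • (1 : Matrix (Fin n) (Fin n) F)) := by
        apply bV.ext
        intro s
        rw [Matrix.toLin'_apply, Matrix.toLin'_apply, Matrix.smul_mulVec, Matrix.one_mulVec]
        rcases s with i | i
        · exact i.elim0
        · exact hbr i
      exact Matrix.toLin'.injective this
    let w : Fin a' ⊕ Fin j → F := Sum.elim (fun _ => l) (fun _ => -l)
    have hw : ∀ s, X *ᵥ bV s = w s • bV s := by
      rintro (i | i)
      · exact hbl i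
      · exact hbr i
    have hdet : l ^ a' * (-l) ^ j = 1 := by
      have h3 := det_of_eigenbasis X bV w hw
      rw [hX, x.2, Fintype.prod_sum_type] at h3
      simp only [w, Sum.elim_inl, Sum.elim_inr, Finset.prod_const, Finset.card_univ,
        Fintype.card_fin] at h3
      exact h3.symm
    by_cases hjev : Even j
    · obtain ⟨b0, hb0⟩ := hjev
      have haev : Even a' := by
        rw [← hsum, Nat.even_add] at hev
        exact hev.2 ⟨b0, hb0⟩
      obtain ⟨a0, ha0⟩ := haev
      subst hb0 ha0
      let τ' : Fin (a0 + a0) ⊕ Fin (b0 + b0) → Fin (a0 + a0) ⊕ Fin (b0 + b0) :=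
        Sum.map (Alt.flip a0) (Alt.flip b0)
      have hτ' : ∀ s, τ' (τ' s) = s := by
        rintro (i | i)
        · show Sum.inl (Alt.flip a0 (Alt.flip a0 i)) = Sum.inl i
          rw [Alt.flip_flip]
        · show Sum.inr (Alt.flip b0 (Alt.flip b0 i)) = Sum.inr i
          rw [Alt.flip_flip]
      have hτne : ∀ s, τ' s ≠ s := by
        rintro (i | i) h
        · exact Alt.flip_ne a0 i (Sum.inl_injective h)
        · exact Alt.flip_ne b0 i (Sum.inr_injective h)
      have hwτ : ∀ s, w (τ' s) = w s := by
        rintro (i | i) <;> rfl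
      obtain ⟨m', ε, hε⟩ := exists_pairing τ' hτ' hτne
      let b' : Basis (Fin m' ⊕ Fin m') F (Fin n → F) := bV.reindex ε.symm
      have hb' : ∀ s, b' s = bV (ε s) := by
        intro s
        rw [Basis.reindex_apply, Equiv.symm_symm]
      have hm' : m' + m' = n := by
        have h5 := Module.finrank_eq_card_basis b'
        rw [Module.finrank_fintype_fun_eq_card, Fintype.card_fin, Fintype.card_sum,
          Fintype.card_fin] at h5
        exact h5.symm
      have hmm : m' = m := by omega
      subst hmm
      let α : Fin m' → F := fun k => w (ε (Sum.inl k))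
      have hαr : ∀ k, w (ε (Sum.inr k)) = α k := by
        intro k
        rw [← hε k, hwτ]
      have hl' : ∀ k, X *ᵥ b' (Sum.inl k) =
          α k • b' (Sum.inl k) + (0 : Fin m' → F) k • b' (Sum.inr k) := by
        intro k
        rw [hb', hw, Pi.zero_apply, zero_smul, add_zero]
      have hr' : ∀ k, X *ᵥ b' (Sum.inr k) =
          (0 : Fin m' → F) k • b' (Sum.inl k) + α k • b' (Sum.inr k) := by
        intro k
        rw [hb', hw, hαr, Pi.zero_apply, zero_smul, zero_add]
      obtain ⟨E, E', h1, h2', h3⟩ := frame_of_basis X b' α 0 0 α hl' hr'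
      rw [hX] at h3
      have hYdet := frame_det x m' E E' h1 h2' _ h3
      have hcomm : FB α 0 0 α * Jb = (1 : F) • (Jb * FB α 0 0 α) := by
        rw [one_smul, hJb]
        apply FB_comm
        · intro i
          simp only [Pi.zero_apply, zero_mul, mul_zero]
        · intro i
          simp only [Pi.zero_apply, zero_mul, add_zero, zero_add]
          ring
        · intro i
          simp only [Pi.zero_apply, zero_mul, zero_add, mul_zero, add_zero]
          ring
      obtain ⟨e1, e2⟩ := eps_conj (FB α 0 0 α) Jb (by rw [hYdet]; exact isUnit_one) 1 (one_mul 1)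
        hcomm
      exact finish K J hJK hgen x m' E E' h1 h2' G G' hGG' hG'G Jb hJG (FB α 0 0 α) h3
        (hadj_diag hm1 α α) e1 e2
    · have hjodd : Odd j := Nat.not_even_iff_odd.1 hjev
      have hln : l ^ n = -1 := by
        rw [hjodd.neg_pow] at hdet
        rw [← hsum, pow_add]
        linear_combination -hdet
      rcases hcond with hn2 | hno
      swap
      · exact absurd ⟨l, hln⟩ hno
      obtain rfl : a' = 1 := by omega
      obtain rfl : j = 1 := by omega
      obtain rfl : m = 1 := by omega
      have hl' : ∀ k, X *ᵥ bV (Sum.inl k) =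
          (fun _ => l : Fin 1 → F) k • bV (Sum.inl k) + (0 : Fin 1 → F) k • bV (Sum.inr k) := by
        intro k
        rw [hbl, Pi.zero_apply, zero_smul, add_zero]
      have hr' : ∀ k, X *ᵥ bV (Sum.inr k) =
          (0 : Fin 1 → F) k • bV (Sum.inl k) + (fun _ => -l : Fin 1 → F) k • bV (Sum.inr k) := by
        intro k
        rw [hbr, Pi.zero_apply, zero_smul, zero_add]
      obtain ⟨E, E', h1, h2', h3⟩ := frame_of_basis X bV (fun _ => l) 0 0 (fun _ => -l) hl' hr'
      rw [hX] at h3
      have hYdet := frame_det x 1 E E' h1 h2' _ h3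
      have hcomm : FB (fun _ => l) 0 0 (fun _ => -l) * Jb =
          (-1 : F) • (Jb * FB (fun _ => l : Fin 1 → F) 0 0 (fun _ => -l)) := by
        rw [hJb, FB_mul, FB_mul, FB_smul]
        congr 1
        · funext i; simp
        · funext i
          simp only [Pi.zero_apply, zero_mul, add_zero, mul_zero, zero_add, Pi.smul_apply,
            smul_eq_mul]
          ring
        · funext i
          simp only [Pi.zero_apply, zero_mul, add_zero, mul_zero, zero_add, Pi.smul_apply,
            smul_eq_mul]
          ring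
        · funext i; simp
      obtain ⟨e1, e2⟩ := eps_conj (FB (fun _ => l : Fin 1 → F) 0 0 (fun _ => -l)) Jb
        (by rw [hYdet]; exact isUnit_one) (-1) (by ring) hcomm
      exact finish K J hJK hgen x 1 E E' h1 h2' G G' hGG' hG'G Jb hJG _ h3
        (hadj_diag hm1 _ _) e1 e2
  · -- z nonsquare
    have hF : ringChar F ≠ 2 := by
      intro h
      apply h2
      have := CharP.cast_eq_zero F (ringChar F)
      rw [h] at this
      exact_mod_cast this
    have hsq : IsSquare (z / z') := by
      rw [FiniteField.isSquare_iff hF (div_ne_zero hz0 hz'0), div_pow]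
      have e1 : z ^ (Fintype.card F / 2) = -1 := by
        rcases FiniteField.pow_dichotomy hF hz0 with h | h
        · exact absurd ((FiniteField.isSquare_iff hF hz0).2 h) hz
        · exact h
      have e2 : z' ^ (Fintype.card F / 2) = -1 := by
        rcases FiniteField.pow_dichotomy hF hz'0 with h | h
        · exact absurd ((FiniteField.isSquare_iff hF hz'0).2 h) hz'
        · exact h
      rw [e1, e2]
      field_simp
    obtain ⟨c, hc⟩ := hsq
    have hzc : c * z' * c = z := by
      field_simp at hc
      linear_combination -hc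
    have hc0 : c ≠ 0 := by
      rintro rfl
      apply hz0
      rw [← hzc]
      ring
    obtain ⟨m₂, E, E', hm₂, h1, h2', h3⟩ := plane_frame X z hz hx (c * z') c hzc
    obtain rfl : m₂ = m := by omega
    rw [hX] at h3
    have hYdet := frame_det x m₂ E E' h1 h2' _ h3
    have hcomm : FB 0 (fun _ => c * z') (fun _ => c) 0 * Jb =
        (1 : F) • (Jb * FB (0 : Fin m₂ → F) (fun _ => c * z') (fun _ => c) 0) := by
      rw [one_smul, hJb]
      apply FB_comm
      · intro i
        ring
      · intro i
        simp only [Pi.zero_apply, zero_mul, mul_zero, add_zero]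
      · intro i
        simp only [Pi.zero_apply, zero_mul, mul_zero, add_zero]
    obtain ⟨e1, e2⟩ := eps_conj (FB (0 : Fin m₂ → F) (fun _ => c * z') (fun _ => c) 0) Jb
      (by rw [hYdet]; exact isUnit_one) 1 (one_mul 1) hcomm
    exact finish K J hJK hgen x m₂ E E' h1 h2' G G' hGG' hG'G Jb hJG _ h3
      (hadj_norm hodd hm1 (c * z') c (by rw [hzc]; exact hz0)) e1 e2

end Cfsg.Agent.Lib.Helper10.Ext
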