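import Mathlib
import Cfsg.Agent.Lib.Helper10.ExtG

set_option autoImplicit false

namespace Cfsg.Agent.Lib.Helper10.Ext

open Matrix Module
open Cfsg.Agent.Lib.Helper10.Alt

variable {F : Type*} [Field F] {n : ℕ}

theorem FB_add {m : ℕ} (u v w u' a b c d : Fin m → F) :
    FB u v w u' + FB a b c d = FB (u + a) (v + b) (w + c) (u' + d) := by
  unfold FB
  rw [Matrix.fromBlocks_add, Matrix.diagonal_add, Matrix.diagonal_add, Matrix.diagonal_add,
    Matrix.diagonal_add]
  rfl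

/-- a basis of `F²` from two independent vectors, indexed by `Fin 1 ⊕ Fin 1` -/
theorem exists_basis_pair (hn2 : n = 2) (v₁ v₂ : Fin n → F)
    (hind : ∀ a b : F, a • v₁ + b • v₂ = 0 → a = 0 ∧ b = 0) :
    ∃ bb : Basis (Fin 1 ⊕ Fin 1) F (Fin n → F),
      (∀ k, bb (Sum.inl k) = v₁) ∧ (∀ k, bb (Sum.inr k) = v₂) := by
  classical
  have hli : LinearIndependent F (Sum.elim (fun _ : Fin 1 => v₁) (fun _ : Fin 1 => v₂)) := by
    rw [Fintype.linearIndependent_iff]
    intro g hg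
    rw [Fintype.sum_sum_type] at hg
    simp only [Finset.univ_unique, Finset.sum_singleton, Sum.elim_inl, Sum.elim_inr] at hg
    obtain ⟨h1, h2⟩ := hind _ _ hg
    rintro (i | i)
    · rw [Subsingleton.elim i default]
      exact h1
    · rw [Subsingleton.elim i default]
      exact h2
  have hcard : Fintype.card (Fin 1 ⊕ Fin 1) = Module.finrank F (Fin n → F) := by
    rw [Module.finrank_fintype_fun_eq_card, Fintype.card_fin, Fintype.card_sum, Fintype.card_fin,
      hn2]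
  refine ⟨basisOfLinearIndependentOfCardEqFinrank hli hcard, ?_, ?_⟩
  · intro k
    rw [coe_basisOfLinearIndependentOfCardEqFinrank]
    rfl
  · intro k
    rw [coe_basisOfLinearIndependentOfCardEqFinrank]
    rfl

theorem suff_even [Fintype F] [CharP F 2] (hn2 : n = 2)
    (K : Subalgebra F (Matrix (Fin n) (Fin n) F)) (hK : Cfsg.Geo.IsFieldSubalgebra 2 K)
    (x : Matrix.SpecialLinearGroup (Fin n) F) (z : F)
    (hx : (x : Matrix (Fin n) (Fin n) F) * (x : Matrix (Fin n) (Fin n) F) =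
      z • (1 : Matrix (Fin n) (Fin n) F))
    (hns : ∀ c : F, (x : Matrix (Fin n) (Fin n) F) ≠ c • (1 : Matrix (Fin n) (Fin n) F)) :
    ∃ P : Matrix.SpecialLinearGroup (Fin n) F,
      P⁻¹ * x * P ∈ (Cfsg.Geo.subalgebraNormalizer K).comap
        (Matrix.SpecialLinearGroup.toGL : Matrix.SpecialLinearGroup (Fin n) F →* GL (Fin n) F) := by
  classical
  have h20 : (2 : F) = 0 := CharTwo.two_eq_zero
  have hdbl : ∀ a : F, a + a = 0 := fun a => by linear_combination a * h20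
  have hsqrt : ∀ y : F, ∃ c : F, c * c = y := by
    intro y
    have hinj : Function.Injective (frobenius F 2) := frobenius_inj F 2
    have hsurj : Function.Surjective (frobenius F 2) := Finite.surjective_of_injective hinj
    obtain ⟨c, hc⟩ := hsurj y
    refine ⟨c, ?_⟩
    rw [← hc, frobenius_def, sq]
  obtain ⟨J, hJK, s, t, hs, hJJ, hJ, hgen⟩ := K_even K hK
  obtain ⟨X, hX⟩ : ∃ X : Matrix (Fin n) (Fin n) F, X = (x : Matrix (Fin n) (Fin n) F) := ⟨_, rfl⟩
  rw [← hX] at hx hns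
  have hz0 : z ≠ 0 := by
    rintro rfl
    have hdet := congrArg Matrix.det hx
    rw [Matrix.det_mul, hX, x.2, zero_smul] at hdet
    have : Nonempty (Fin n) := ⟨⟨0, by omega⟩⟩
    rw [Matrix.det_zero, mul_one] at hdet
    exact one_ne_zero hdet
  obtain ⟨l, hl⟩ := hsqrt z
  have hl0 : l ≠ 0 := by
    rintro rfl
    apply hz0
    rw [← hl, mul_zero]
  -- frame for J
  let i₀ : Fin n := ⟨0, by omega⟩
  obtain ⟨v₀, hv₀⟩ : ∃ v₀ : Fin n → F, v₀ ≠ 0 := by
    refine ⟨Pi.single i₀ 1, ?_⟩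
    intro h
    have := congrFun h i₀
    rw [Pi.single_eq_same, Pi.zero_apply] at this
    exact one_ne_zero this
  have hindJ : ∀ a b : F, a • v₀ + b • (J *ᵥ v₀) = 0 → a = 0 ∧ b = 0 := by
    intro a b hab
    have hb : b = 0 := by
      by_contra hb
      apply hv₀
      apply K_no_eigen K hK J hJK hJ (-(a / b)) v₀
      have h5 : b • (J *ᵥ v₀) = b • ((-(a / b)) • v₀) := by
        rw [smul_smul]
        have h6 : b * (-(a / b)) = -a := by field_simp
        rw [h6, neg_smul]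
        exact eq_neg_of_add_eq_zero_right hab
      exact smul_right_injective _ hb h5
    refine ⟨?_, hb⟩
    rw [hb, zero_smul, add_zero] at hab
    rcases smul_eq_zero.1 hab with h | h
    · exact h
    · exact absurd h hv₀
  obtain ⟨bJ, hbJ1, hbJ2⟩ := exists_basis_pair hn2 v₀ (J *ᵥ v₀) hindJ
  have hJl : ∀ k, J *ᵥ bJ (Sum.inl k) =
      (0 : Fin 1 → F) k • bJ (Sum.inl k) + (fun _ => 1 : Fin 1 → F) k • bJ (Sum.inr k) := by
    intro k
    rw [hbJ1, hbJ2, Pi.zero_apply, zero_smul, zero_add, one_smul]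
  have hJr : ∀ k, J *ᵥ bJ (Sum.inr k) =
      (fun _ => t : Fin 1 → F) k • bJ (Sum.inl k) + (fun _ => s : Fin 1 → F) k • bJ (Sum.inr k) := by
    intro k
    rw [hbJ1, hbJ2, Matrix.mulVec_mulVec, hJJ, Matrix.add_mulVec, Matrix.smul_mulVec,
      Matrix.smul_mulVec, Matrix.one_mulVec, add_comm]
  obtain ⟨G, G', hGG', hG'G, hJG⟩ := frame_of_basis J bJ 0 (fun _ => t) (fun _ => 1) (fun _ => s)
    hJl hJr
  -- frame for x
  obtain ⟨N, hN⟩ : ∃ N : Matrix (Fin n) (Fin n) F, N = X - l • 1 := ⟨_, rfl⟩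
  have hN0 : N ≠ 0 := by
    intro h
    rw [hN] at h
    exact hns l (sub_eq_zero.1 h)
  have hNN : N * N = 0 := by
    have h4 : N * N = X * X - (2 * l) • X + (l * l) • (1 : Matrix (Fin n) (Fin n) F) := by
      rw [hN]
      simp only [Matrix.sub_mul, Matrix.mul_sub, Matrix.smul_mul, Matrix.mul_smul, Matrix.one_mul,
        Matrix.mul_one]
      module
    rw [h4, hx, h20, hl, zero_mul, zero_smul, sub_zero, ← add_smul, hdbl, zero_smul]
  obtain ⟨v, hv⟩ : ∃ v : Fin n → F, N *ᵥ v ≠ 0 := by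
    by_contra hcon
    push Not at hcon
    apply hN0
    have : Matrix.toLin' N = 0 := by
      apply LinearMap.ext
      intro v
      rw [Matrix.toLin'_apply, hcon v]
      rfl
    have h5 := Matrix.toLin'.injective (this.trans (map_zero _).symm)
    exact h5
  have hxv : ∀ w : Fin n → F, X *ᵥ w = l • w + N *ᵥ w := by
    intro w
    rw [hN, Matrix.sub_mulVec, Matrix.smul_mulVec, Matrix.one_mulVec]
    abel
  have hNNv : N *ᵥ (N *ᵥ v) = 0 := by
    rw [Matrix.mulVec_mulVec, hNN, Matrix.zero_mulVec]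
  have hls : l * s ≠ 0 := mul_ne_zero hl0 hs
  have hindx : ∀ a b : F, a • ((l * s)⁻¹ • (N *ᵥ v)) + b • v = 0 → a = 0 ∧ b = 0 := by
    intro a b hab
    have h5 := congrArg (fun w => N *ᵥ w) hab
    simp only [Matrix.mulVec_add, Matrix.mulVec_smul, hNNv, smul_zero, zero_add,
      Matrix.mulVec_zero] at h5
    have hb : b = 0 := by
      rcases smul_eq_zero.1 h5 with h | h
      · exact h
      · exact absurd h hv
    refine ⟨?_, hb⟩
    rw [hb, zero_smul, add_zero, smul_smul] at hab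
    rcases smul_eq_zero.1 hab with h | h
    · rcases mul_eq_zero.1 h with h' | h'
      · exact h'
      · exact absurd h' (inv_ne_zero hls)
    · exact absurd h hv
  obtain ⟨bx, hbx1, hbx2⟩ := exists_basis_pair hn2 ((l * s)⁻¹ • (N *ᵥ v)) v hindx
  have hxl : ∀ k, X *ᵥ bx (Sum.inl k) =
      (fun _ => l : Fin 1 → F) k • bx (Sum.inl k) + (0 : Fin 1 → F) k • bx (Sum.inr k) := by
    intro k
    rw [hbx1, hxv, Matrix.mulVec_smul, hNNv, smul_zero, add_zero, Pi.zero_apply, zero_smul,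
      add_zero]
  have hxr : ∀ k, X *ᵥ bx (Sum.inr k) =
      (fun _ => l * s : Fin 1 → F) k • bx (Sum.inl k) + (fun _ => l : Fin 1 → F) k • bx (Sum.inr k) := by
    intro k
    rw [hbx1, hbx2, hxv, smul_smul, mul_inv_cancel₀ hls, one_smul, add_comm]
  obtain ⟨E, E', hEE', hE'E, hxE⟩ := frame_of_basis X bx (fun _ => l) (fun _ => l * s) 0
    (fun _ => l) hxl hxr
  rw [hX] at hxE
  obtain ⟨Y, hY⟩ : ∃ Y : Matrix (Fin 1 ⊕ Fin 1) (Fin 1 ⊕ Fin 1) F,
      Y = FB (fun _ => l) (fun _ => l * s) 0 (fun _ => l) := ⟨_, rfl⟩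
  obtain ⟨Jb, hJb⟩ : ∃ Jb : Matrix (Fin 1 ⊕ Fin 1) (Fin 1 ⊕ Fin 1) F,
      Jb = FB 0 (fun _ => t) (fun _ => 1) (fun _ => s) := ⟨_, rfl⟩
  rw [← hY] at hxE
  rw [← hJb] at hJG
  have hYdet := frame_det x 1 E E' hEE' hE'E Y hxE
  have hYu : IsUnit Y.det := by rw [hYdet]; exact isUnit_one
  have hS : s • (1 : Matrix (Fin 1 ⊕ Fin 1) (Fin 1 ⊕ Fin 1) F) + Jb =
      FB (fun _ => s) (fun _ => t) (fun _ => 1) (fun _ => 0) := by
    rw [hJb, ← FB_one 1, FB_smul, FB_add]
    congr 1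
    · funext i; simp
    · funext i; simp
    · funext i; simp
    · funext i
      simp only [Pi.add_apply, Pi.smul_apply, Pi.one_apply, smul_eq_mul, mul_one]
      exact hdbl s
  have hA : Y * Jb = (s • (1 : Matrix (Fin 1 ⊕ Fin 1) (Fin 1 ⊕ Fin 1) F) + Jb) * Y := by
    rw [hS, hY, hJb, FB_mul, FB_mul]
    congr 1
    · funext i
      simp only [Pi.zero_apply, mul_zero, zero_add, mul_one, add_zero]
      ring
    · funext i
      ring
    · funext i
      simp only [Pi.zero_apply, zero_mul, zero_add, mul_one, one_mul, mul_zero, add_zero]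
    · funext i
      simp only [Pi.zero_apply, zero_mul, zero_add, one_mul, add_zero]
  have hB : Jb * Y = Y * (s • (1 : Matrix (Fin 1 ⊕ Fin 1) (Fin 1 ⊕ Fin 1) F) + Jb) := by
    rw [hS, hY, hJb, FB_mul, FB_mul]
    congr 1
    · funext i
      simp only [Pi.zero_apply, zero_mul, mul_zero, add_zero, mul_one]
      linear_combination -(hdbl (l * s))
    · funext i
      simp only [Pi.zero_apply, zero_mul, zero_add, mul_zero, add_zero]
      ring
    · funext i
      simp only [Pi.zero_apply, one_mul, mul_zero, add_zero, zero_mul, mul_one, zero_add]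
    · funext i
      simp only [Pi.zero_apply, one_mul, zero_mul, zero_add, mul_zero, add_zero]
      linear_combination (hdbl (l * s))
  have h1 : ∃ a b : F, Y * Jb * Y⁻¹ =
      a • (1 : Matrix (Fin 1 ⊕ Fin 1) (Fin 1 ⊕ Fin 1) F) + b • Jb := by
    refine ⟨s, 1, ?_⟩
    rw [hA, Matrix.mul_assoc, Matrix.mul_nonsing_inv Y hYu, Matrix.mul_one, one_smul]
  have h2 : ∃ a b : F, Y⁻¹ * Jb * Y =
      a • (1 : Matrix (Fin 1 ⊕ Fin 1) (Fin 1 ⊕ Fin 1) F) + b • Jb := by
    refine ⟨s, 1, ?_⟩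
    rw [Matrix.mul_assoc, hB, ← Matrix.mul_assoc, Matrix.nonsing_inv_mul Y hYu, Matrix.one_mul,
      one_smul]
  have hadj : ∀ r : F, r ≠ 0 → ∃ C : Matrix (Fin 1 ⊕ Fin 1) (Fin 1 ⊕ Fin 1) F,
      C * Y = Y * C ∧ C.det = r := by
    intro r _
    obtain ⟨c, hc⟩ := hsqrt r
    refine ⟨c • (1 : Matrix (Fin 1 ⊕ Fin 1) (Fin 1 ⊕ Fin 1) F), ?_, ?_⟩
    · rw [Matrix.smul_mul, Matrix.mul_smul, Matrix.one_mul, Matrix.mul_one]
    · rw [Matrix.det_smul, Matrix.det_one, mul_one, Fintype.card_sum, Fintype.card_fin, ← hc]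
      ring
  exact finish K J hJK hgen x 1 E E' hEE' hE'E G G' hGG' hG'G Jb hJG Y hxE hadj h1 h2

end Cfsg.Agent.Lib.Helper10.Ext
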