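import Mathlib

set_option autoImplicit false

namespace Cfsg.Agent.Lib.Helper10.Fpf4

open scoped BigOperators

theorem odd_card_of_fpf {G : Type*} [Group G] [Finite G] (σ : MulAut G) (h4 : σ ^ 4 = 1)
    (hfpf : ∀ g, σ g = g → g = 1) : Odd (Nat.card G) := by
  classical
  let _ : Fintype G := Fintype.ofFinite G
  have hpow : (MulAut.toPerm G σ) ^ 2 ^ 2 = 1 := by
    rw [← map_pow]
    norm_num [h4]
  have h1 := Equiv.Perm.card_compl_support_modEq (p := 2) (n := 2) hpow
  have h2 : (Equiv.Perm.support (MulAut.toPerm G σ))ᶜ = {1} := by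
    ext x
    rw [Finset.mem_compl, Equiv.Perm.mem_support, not_not, Finset.mem_singleton]
    constructor
    · intro h
      exact hfpf x h
    · intro h
      rw [h]
      exact map_one σ
  rw [h2, Finset.card_singleton] at h1
  rw [Nat.card_eq_fintype_card, Nat.odd_iff]
  exact h1.symm

variable {W : Type*} [CommGroup W]

/-- the "norm" of `w` under a finite subgroup `X` of automorphisms -/
noncomputable def SX (X : Subgroup (MulAut W)) [Fintype X] (w : W) : W :=
  ∏ x : X, (x : MulAut W) w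

theorem SX_fixed (X : Subgroup (MulAut W)) [Fintype X] (w : W) (y : MulAut W) (hy : y ∈ X) :
    y (SX X w) = SX X w := by
  unfold SX
  rw [map_prod]
  exact Fintype.prod_equiv (Equiv.mulLeft (⟨y, hy⟩ : X)) _ _ (fun x => rfl)

theorem SX_mul (X : Subgroup (MulAut W)) [Fintype X] (v w : W) :
    SX X (v * w) = SX X v * SX X w := by
  unfold SX
  rw [← Finset.prod_mul_distrib]
  apply Finset.prod_congr rfl
  intro x _
  exact map_mul _ _ _

theorem SX_inv (X : Subgroup (MulAut W)) [Fintype X] (w : W) :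
    SX X w⁻¹ = (SX X w)⁻¹ := by
  unfold SX
  rw [← Finset.prod_inv_distrib]
  apply Finset.prod_congr rfl
  intro x _
  exact map_inv _ _

theorem SX_of_fixed (X : Subgroup (MulAut W)) [Fintype X] (w : W)
    (h : ∀ x ∈ X, (x : MulAut W) w = w) : SX X w = w ^ Fintype.card X := by
  unfold SX
  rw [Finset.prod_congr rfl (fun x _ => h x.1 x.2), Finset.prod_const, Finset.card_univ]

theorem SX_conj (X : Subgroup (MulAut W)) [Fintype X] (g : MulAut W)
    (hg : ∀ x ∈ X, g⁻¹ * x * g ∈ X) (w : W) : SX X (g w) = g (SX X w) := by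
  unfold SX
  rw [map_prod]
  have hinj : Function.Injective (fun x : X => (⟨g⁻¹ * x * g, hg x.1 x.2⟩ : X)) := by
    intro a b hab
    have := congrArg Subtype.val hab
    simp only [mul_left_inj, mul_right_inj] at this
    exact Subtype.ext this
  have hbij : Function.Bijective (fun x : X => (⟨g⁻¹ * x * g, hg x.1 x.2⟩ : X)) :=
    ⟨hinj, Finite.surjective_of_injective hinj⟩
  refine Fintype.prod_bijective _ hbij _ _ ?_
  intro x
  show (x : MulAut W) (g w) = g ((g⁻¹ * (x : MulAut W) * g) w)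
  simp [MulAut.mul_apply]

theorem norm_eq_one (s : MulAut W) (h4 : s ^ 4 = 1) (hfix : ∀ w, s w = w → w = 1) (v : W) :
    v * s v * (s ^ 2) v * (s ^ 3) v = 1 := by
  apply hfix
  have h4v : s ((s ^ 3) v) = v := by
    have : s ((s ^ 3) v) = (s ^ 4) v := by
      rw [pow_succ' s 3, MulAut.mul_apply]
    rw [this, h4, MulAut.one_apply]
  have h2 : s (s v) = (s ^ 2) v := by rw [pow_two, MulAut.mul_apply]
  have h3 : s ((s ^ 2) v) = (s ^ 3) v := by rw [pow_succ' s 2, MulAut.mul_apply]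
  rw [map_mul, map_mul, map_mul, h2, h3, h4v]
  rw [mul_comm, ← mul_assoc, ← mul_assoc]

/-- Frobenius averaging: if `⟨s⟩` (order dividing 4, fixed-point-free on `W`) acts semiregularly
by conjugation on a finite subgroup `X` of automorphisms of `W`, then the norm over `X` is the
`|X|`-th power map. -/
theorem frob (s : MulAut W) (h4 : s ^ 4 = 1) (hfix : ∀ w, s w = w → w = 1)
    (X : Subgroup (MulAut W)) [Fintype X]
    (hXs : ∀ j : ℕ, ∀ x ∈ X, s ^ j * x * (s ^ j)⁻¹ ∈ X)
    (hsemi : ∀ j ∈ ({1, 2, 3} : Finset ℕ), ∀ x ∈ X, s ^ j * x * (s ^ j)⁻¹ = x → x = 1) (w : W) :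
    SX X w = w ^ Fintype.card X := by
  classical
  -- the inner products vanish
  have hP : ∀ x : X, ∏ j ∈ Finset.range 4,
      ((x : MulAut W) * ((s ^ j) * (x : MulAut W) * (s ^ j)⁻¹)⁻¹) ((s ^ j) w) = 1 := by
    intro x
    have h1 : ∀ j : ℕ, ((x : MulAut W) * ((s ^ j) * (x : MulAut W) * (s ^ j)⁻¹)⁻¹) ((s ^ j) w)
        = (x : MulAut W) ((s ^ j) ((x : MulAut W)⁻¹ w)) := by
      intro j
      simp [MulAut.mul_apply, mul_inv_rev]
    rw [Finset.prod_congr rfl (fun j _ => h1 j), ← map_prod]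
    have h2 : ∏ j ∈ Finset.range 4, (s ^ j) ((x : MulAut W)⁻¹ w) = 1 := by
      have := norm_eq_one s h4 hfix ((x : MulAut W)⁻¹ w)
      simpa [Finset.prod_range_succ] using this
    rw [h2, map_one]
  have hall : ∏ x : X, ∏ j ∈ Finset.range 4,
      ((x : MulAut W) * ((s ^ j) * (x : MulAut W) * (s ^ j)⁻¹)⁻¹) ((s ^ j) w) = 1 := by
    rw [Finset.prod_congr rfl (fun x _ => hP x), Finset.prod_const_one]
  rw [Finset.prod_comm] at hall
  -- reindexing for j = 1, 2, 3
  have hre : ∀ j ∈ ({1, 2, 3} : Finset ℕ), ∀ v : W,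
      ∏ x : X, ((x : MulAut W) * ((s ^ j) * (x : MulAut W) * (s ^ j)⁻¹)⁻¹) v = SX X v := by
    intro j hj v
    unfold SX
    have hmem : ∀ x : X, (x : MulAut W) * ((s ^ j) * (x : MulAut W) * (s ^ j)⁻¹)⁻¹ ∈ X :=
      fun x => X.mul_mem x.2 (X.inv_mem (hXs j x.1 x.2))
    have hinj : Function.Injective (fun x : X =>
        (⟨(x : MulAut W) * ((s ^ j) * (x : MulAut W) * (s ^ j)⁻¹)⁻¹, hmem x⟩ : X)) := by
      intro a b hab
      have h1 := congrArg Subtype.val hab
      simp only at h1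
      have h2 : s ^ j * ((b : MulAut W)⁻¹ * a) * (s ^ j)⁻¹ = (b : MulAut W)⁻¹ * a := by
        have h3 : (b : MulAut W)⁻¹ * a
            = (s ^ j * (b : MulAut W) * (s ^ j)⁻¹)⁻¹ * (s ^ j * (a : MulAut W) * (s ^ j)⁻¹) := by
          have h4' : (b : MulAut W)⁻¹ * ((a : MulAut W) * ((s ^ j) * (a : MulAut W) * (s ^ j)⁻¹)⁻¹)
              = (b : MulAut W)⁻¹ * ((b : MulAut W) * ((s ^ j) * (b : MulAut W) * (s ^ j)⁻¹)⁻¹) := by
            rw [h1]
          rw [inv_mul_cancel_left] at h4'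
          rw [← h4']
          group
        conv_rhs => rw [h3]
        group
      have h5 := hsemi j hj _ (X.mul_mem (X.inv_mem b.2) a.2) h2
      apply Subtype.ext
      have h6 : (a : MulAut W) = (b : MulAut W) * ((b : MulAut W)⁻¹ * a) := by group
      rw [h6, h5, mul_one]
    have hbij : Function.Bijective (fun x : X =>
        (⟨(x : MulAut W) * ((s ^ j) * (x : MulAut W) * (s ^ j)⁻¹)⁻¹, hmem x⟩ : X)) :=
      ⟨hinj, Finite.surjective_of_injective hinj⟩
    exact Fintype.prod_bijective _ hbij _ _ (fun x => rfl)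
  rw [Finset.prod_range_succ, Finset.prod_range_succ, Finset.prod_range_succ,
    Finset.prod_range_one] at hall
  rw [hre 1 (by simp), hre 2 (by simp), hre 3 (by simp)] at hall
  have h0 : ∏ x : X, ((x : MulAut W) * ((s ^ 0) * (x : MulAut W) * (s ^ 0)⁻¹)⁻¹) ((s ^ 0) w)
      = w ^ Fintype.card X := by
    have : ∀ x : X, ((x : MulAut W) * ((s ^ 0) * (x : MulAut W) * (s ^ 0)⁻¹)⁻¹) ((s ^ 0) w) = w := by
      intro x
      simp
    rw [Finset.prod_congr rfl (fun x _ => this x), Finset.prod_const, Finset.card_univ]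
  rw [h0] at hall
  have hn := norm_eq_one s h4 hfix w
  have h7 : (s ^ 1) w * (s ^ 2) w * (s ^ 3) w = w⁻¹ := by
    rw [pow_one, eq_inv_iff_mul_eq_one, ← hn]
    rw [mul_comm, ← mul_assoc, ← mul_assoc]
  rw [mul_assoc, mul_assoc, ← SX_mul, ← SX_mul, ← mul_assoc, h7, SX_inv] at hall
  exact (mul_inv_eq_one.1 hall).symm

theorem SX_pow (X : Subgroup (MulAut W)) [Fintype X] (w : W) (n : ℕ) :
    SX X (w ^ n) = (SX X w) ^ n := by
  unfold SX
  rw [← Finset.prod_pow]
  apply Finset.prod_congr rfl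
  intro x _
  exact map_pow _ _ _

theorem pcop {p : ℕ} (hW : IsPGroup p W) {n : ℕ} (hn : Nat.Coprime n p) (v : W)
    (hv : v ^ n = 1) : v = 1 := by
  obtain ⟨k, hk⟩ := hW v
  have h1 : orderOf v ∣ n := orderOf_dvd_of_pow_eq_one hv
  have h2 : orderOf v ∣ p ^ k := orderOf_dvd_of_pow_eq_one hk
  have h3 : Nat.Coprime n (p ^ k) := Nat.Coprime.pow_right k hn
  have h4 : orderOf v ∣ 1 := by
    have := Nat.dvd_gcd h1 h2
    rwa [h3] at this
  exact orderOf_eq_one_iff.1 (Nat.dvd_one.1 h4)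

/-- odd order: an element whose square fixes `w` fixes `w` -/
theorem fix_of_sq_fix {Γ : Type*} [Group Γ] (k : Γ) (n : ℕ) (hn : Odd n) (hk : k ^ n = 1)
    (P : Γ → Prop) (h1 : P 1) (hmul : ∀ a b, P a → P b → P (a * b)) (h2 : P (k * k)) : P k := by
  obtain ⟨m, rfl⟩ := hn
  have h3 : k = (k * k) ^ (m + 1) := by
    have : (k * k) ^ (m + 1) = k ^ (2 * m + 1) * k := by
      rw [← pow_two, ← pow_mul, ← pow_succ]
      rfl
    rw [this, hk, one_mul]
  have h4 : ∀ j : ℕ, P ((k * k) ^ j) := by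
    intro j
    induction j with
    | zero => rw [pow_zero]; exact h1
    | succ j ih => rw [pow_succ]; exact hmul _ _ ih h2
  rw [h3]
  exact h4 _

end Cfsg.Agent.Lib.Helper10.Fpf4
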