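import Mathlib
import Cfsg.Agent.Lib.Helper10.Fpf4Base

set_option autoImplicit false

namespace Cfsg.Agent.Lib.Helper10.Fpf4

open scoped BigOperators

variable {W : Type*} [CommGroup W]

/-- conjugation by powers of `s` preserves `K` -/
theorem conj_pow_mem (s : MulAut W) (K : Subgroup (MulAut W))
    (hKs : ∀ k ∈ K, s * k * s⁻¹ ∈ K) : ∀ j : ℕ, ∀ k ∈ K, s ^ j * k * (s ^ j)⁻¹ ∈ K := by
  intro j
  induction j with
  | zero => intro k hk; simpa using hk
  | succ j ih =>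
    intro k hk
    have h1 := hKs _ (ih k hk)
    have h2 : s ^ (j + 1) * k * (s ^ (j + 1))⁻¹ = s * (s ^ j * k * (s ^ j)⁻¹) * s⁻¹ := by
      rw [pow_succ']
      group
    rw [h2]
    exact h1

theorem inv_eq_pow_three {Γ : Type*} [Group Γ] (s : Γ) (h4 : s ^ 4 = 1) : s⁻¹ = s ^ 3 := by
  rw [inv_eq_iff_mul_eq_one, ← pow_succ', h4]

theorem conj_inv_mem (s : MulAut W) (h4 : s ^ 4 = 1) (K : Subgroup (MulAut W))
    (hKs : ∀ k ∈ K, s * k * s⁻¹ ∈ K) : ∀ k ∈ K, s⁻¹ * k * s ∈ K := by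
  intro k hk
  have h1 := conj_pow_mem s K hKs 3 k hk
  rw [← inv_eq_pow_three s h4, inv_inv] at h1
  exact h1

/-- the order of `K` is odd -/
theorem odd_card_K [Finite W] (s : MulAut W) (h4 : s ^ 4 = 1) (K : Subgroup (MulAut W))
    (hKs : ∀ k ∈ K, s * k * s⁻¹ ∈ K) (hKfix : ∀ k ∈ K, s * k * s⁻¹ = k → k = 1) :
    Odd (Nat.card K) := by
  have hfinA : Finite (MulAut W) :=
    Finite.of_injective (fun f : MulAut W => (f : W → W)) DFunLike.coe_injective
  let cs : MulAut K :=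
    { toFun := fun k => ⟨s * k * s⁻¹, hKs k.1 k.2⟩
      invFun := fun k => ⟨s⁻¹ * k * s, conj_inv_mem s h4 K hKs k.1 k.2⟩
      left_inv := by
        intro k
        apply Subtype.ext
        show s⁻¹ * (s * (k : MulAut W) * s⁻¹) * s = k
        group
      right_inv := by
        intro k
        apply Subtype.ext
        show s * (s⁻¹ * (k : MulAut W) * s) * s⁻¹ = k
        group
      map_mul' := by
        intro a b
        apply Subtype.ext
        show s * ((a : MulAut W) * b) * s⁻¹ = (s * a * s⁻¹) * (s * b * s⁻¹)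
        group }
  have hcs : ∀ (j : ℕ) (k : K), (((cs ^ j) k : K) : MulAut W) = s ^ j * k * (s ^ j)⁻¹ := by
    intro j
    induction j with
    | zero => intro k; simp
    | succ j ih =>
      intro k
      rw [pow_succ', MulAut.mul_apply]
      show s * (((cs ^ j) k : K) : MulAut W) * s⁻¹ = _
      rw [ih k, pow_succ']
      group
  apply odd_card_of_fpf cs
  · apply MulEquiv.ext
    intro k
    apply Subtype.ext
    rw [hcs 4 k, h4]
    simp
  · intro k hk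
    have h1 := congrArg Subtype.val hk
    have h2 : s * (k : MulAut W) * s⁻¹ = k := h1
    apply Subtype.ext
    exact hKfix k.1 k.2 h2

/-- a fixed-point-free conjugation of square one inverts -/
theorem inverts_of_fpf {Γ : Type*} [Group Γ] (s : Γ) (H : Subgroup Γ) [Finite H]
    (hHs : ∀ k ∈ H, s * k * s⁻¹ ∈ H) (hfix : ∀ k ∈ H, s * k * s⁻¹ = k → k = 1)
    (hsq : ∀ k ∈ H, s * (s * k * s⁻¹) * s⁻¹ = k) : ∀ k ∈ H, s * k * s⁻¹ = k⁻¹ := by
  have hinj : Function.Injective (fun k : H => (⟨(k : Γ)⁻¹ * (s * k * s⁻¹),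
      H.mul_mem (H.inv_mem k.2) (hHs k.1 k.2)⟩ : H)) := by
    intro k l hkl
    have h1 : (k : Γ)⁻¹ * (s * k * s⁻¹) = (l : Γ)⁻¹ * (s * l * s⁻¹) := congrArg Subtype.val hkl
    have h2 : s * ((l : Γ) * (k : Γ)⁻¹) * s⁻¹ = (l : Γ) * (k : Γ)⁻¹ := by
      have h3 : (l : Γ) * (k : Γ)⁻¹ = (s * l * s⁻¹) * (s * k * s⁻¹)⁻¹ := by
        have h4 : (l : Γ) * ((k : Γ)⁻¹ * (s * k * s⁻¹)) = s * l * s⁻¹ := by
          rw [h1, mul_inv_cancel_left]
        rw [← h4]
        group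
      conv_rhs => rw [h3]
      group
    have h5 := hfix _ (H.mul_mem l.2 (H.inv_mem k.2)) h2
    apply Subtype.ext
    have h6 : (l : Γ) = (k : Γ) := by
      rw [mul_inv_eq_one] at h5
      exact h5
    exact h6.symm
  have hsurj := Finite.surjective_of_injective hinj
  intro h hh
  obtain ⟨k, hk⟩ := hsurj ⟨h, hh⟩
  have h1 : (k : Γ)⁻¹ * (s * k * s⁻¹) = h := congrArg Subtype.val hk
  have h2 := hsq k.1 k.2
  rw [← h1]
  calc s * ((k : Γ)⁻¹ * (s * k * s⁻¹)) * s⁻¹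
      = (s * k * s⁻¹)⁻¹ * (s * (s * k * s⁻¹) * s⁻¹) := by group
    _ = (s * k * s⁻¹)⁻¹ * k := by rw [h2]
    _ = ((k : Γ)⁻¹ * (s * k * s⁻¹))⁻¹ := by group

theorem inverts_fixed (s : MulAut W) (hfix : ∀ w, s w = w → w = 1) (w : W) (hw : s (s w) = w) :
    s w = w⁻¹ := by
  have h1 : s (w * s w) = w * s w := by
    rw [map_mul, hw, mul_comm]
  have h2 := hfix _ h1
  exact (eq_inv_of_mul_eq_one_right h2)

theorem H_fix [Finite W] (s : MulAut W) (h4 : s ^ 4 = 1) (hfix : ∀ w, s w = w → w = 1)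
    (K : Subgroup (MulAut W))
    (hKs : ∀ k ∈ K, s * k * s⁻¹ ∈ K) (hKfix : ∀ k ∈ K, s * k * s⁻¹ = k → k = 1) :
    ∀ k ∈ K, s ^ 2 * k * (s ^ 2)⁻¹ = k → ∀ w, (s ^ 2) w = w → k w = w := by
  have hfinA : Finite (MulAut W) :=
    Finite.of_injective (fun f : MulAut W => (f : W → W)) DFunLike.coe_injective
  let H : Subgroup (MulAut W) :=
    { carrier := {k | k ∈ K ∧ s ^ 2 * k * (s ^ 2)⁻¹ = k}
      one_mem' := ⟨K.one_mem, by group⟩
      mul_mem' := by
        rintro a b ⟨ha, ha'⟩ ⟨hb, hb'⟩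
        refine ⟨K.mul_mem ha hb, ?_⟩
        calc s ^ 2 * (a * b) * (s ^ 2)⁻¹ = (s ^ 2 * a * (s ^ 2)⁻¹) * (s ^ 2 * b * (s ^ 2)⁻¹) := by group
          _ = a * b := by rw [ha', hb']
      inv_mem' := by
        rintro a ⟨ha, ha'⟩
        refine ⟨K.inv_mem ha, ?_⟩
        calc s ^ 2 * a⁻¹ * (s ^ 2)⁻¹ = (s ^ 2 * a * (s ^ 2)⁻¹)⁻¹ := by group
          _ = a⁻¹ := by rw [ha'] }
  have hHs : ∀ k ∈ H, s * k * s⁻¹ ∈ H := by
    rintro k ⟨hk, hk'⟩
    refine ⟨hKs k hk, ?_⟩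
    calc s ^ 2 * (s * k * s⁻¹) * (s ^ 2)⁻¹ = s * (s ^ 2 * k * (s ^ 2)⁻¹) * s⁻¹ := by group
      _ = s * k * s⁻¹ := by rw [hk']
  have hHfix : ∀ k ∈ H, s * k * s⁻¹ = k → k = 1 := fun k hk h => hKfix k hk.1 h
  have hHsq : ∀ k ∈ H, s * (s * k * s⁻¹) * s⁻¹ = k := by
    rintro k ⟨hk, hk'⟩
    calc s * (s * k * s⁻¹) * s⁻¹ = s ^ 2 * k * (s ^ 2)⁻¹ := by
          rw [pow_two, mul_inv_rev]; simp only [mul_assoc]
      _ = k := hk'
  have hinv := inverts_of_fpf s H hHs hHfix hHsq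
  have hodd := odd_card_K s h4 K hKs hKfix
  intro k hk hkt w hw
  have hkH : k ∈ H := ⟨hk, hkt⟩
  have hss : ∀ v : W, s (s v) = (s ^ 2) v := by
    intro v
    rw [pow_two, MulAut.mul_apply]
  -- k w is fixed by t
  have hkw : (s ^ 2) (k w) = k w := by
    have h1 : (s ^ 2) (k w) = (s ^ 2 * k * (s ^ 2)⁻¹) ((s ^ 2) w) := by
      simp [MulAut.mul_apply]
    rw [h1, hkt, hw]
  have h1 : s w = w⁻¹ := inverts_fixed s hfix w (by rw [hss, hw])
  have h2 : s (k w) = (k w)⁻¹ := inverts_fixed s hfix (k w) (by rw [hss, hkw])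
  have h3 : s (k w) = (s * k * s⁻¹) (s w) := by
    simp [MulAut.mul_apply]
  rw [hinv k hkH, h1, h2, ← map_inv] at h3
  -- h3 : k w⁻¹ = k⁻¹ w⁻¹
  have h4' : (k * k) w⁻¹ = w⁻¹ := by
    rw [MulAut.mul_apply, h3]
    simp
  have h5 : (k * k) w = w := by
    rw [map_inv] at h4'
    exact inv_injective h4'
  have hkpow : k ^ Nat.card K = 1 := by
    have := pow_card_eq_one' (G := K) (x := ⟨k, hk⟩)
    exact congrArg Subtype.val this
  exact fix_of_sq_fix k (Nat.card K) hodd hkpow (fun a => a w = w) (by simp)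
    (fun a b ha hb => by rw [MulAut.mul_apply, hb, ha]) h5

theorem no_normal_p [Finite W] {p : ℕ} [hp : Fact p.Prime] (hW : IsPGroup p W) [Nontrivial W]
    (s : MulAut W) (h4 : s ^ 4 = 1) (K : Subgroup (MulAut W))
    (hirr : ∀ U : Subgroup W, (∀ k ∈ K, ∀ u ∈ U, k u ∈ U) → (∀ u ∈ U, s u ∈ U) → U = ⊥ ∨ U = ⊤)
    (Q : Subgroup (MulAut W)) (hQK : ∀ g ∈ K, ∀ x ∈ Q, g * x * g⁻¹ ∈ Q)
    (hQs : ∀ x ∈ Q, s * x * s⁻¹ ∈ Q) (hQp : IsPGroup p Q) : Q = ⊥ := by
  let U : Subgroup W :=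
    { carrier := {w | ∀ q ∈ Q, (q : MulAut W) w = w}
      one_mem' := fun q _ => map_one q
      mul_mem' := by
        intro a b ha hb q hq
        rw [map_mul, ha q hq, hb q hq]
      inv_mem' := by
        intro a ha q hq
        rw [map_inv, ha q hq] }
  have hUK : ∀ k ∈ K, ∀ u ∈ U, k u ∈ U := by
    intro k hk u hu q hq
    have h1 : k⁻¹ * q * k ∈ Q := by
      have := hQK k⁻¹ (K.inv_mem hk) q hq
      rwa [inv_inv] at this
    have h2 := hu _ h1
    have h3 : q (k u) = k ((k⁻¹ * q * k) u) := by simp [MulAut.mul_apply]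
    rw [h3, h2]
  have hUs : ∀ u ∈ U, s u ∈ U := by
    intro u hu q hq
    have h1 : s⁻¹ * q * s ∈ Q := conj_inv_mem s h4 Q hQs q hq
    have h2 := hu _ h1
    have h3 : q (s u) = s ((s⁻¹ * q * s) u) := by simp [MulAut.mul_apply]
    rw [h3, h2]
  have hUne : U ≠ ⊥ := by
    obtain ⟨n, hn⟩ := hW.exists_card_eq
    have hn0 : n ≠ 0 := by
      intro h
      rw [h, pow_zero] at hn
      have := Finite.one_lt_card (α := W)
      omega
    have hdvd : p ∣ Nat.card W := by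
      rw [hn]
      exact dvd_pow_self p hn0
    have h1 : (1 : W) ∈ MulAction.fixedPoints Q W := by
      intro q
      exact map_one (q : MulAut W)
    obtain ⟨b, hb, hb1⟩ := hQp.exists_fixed_point_of_prime_dvd_card_of_fixed_point W hdvd h1
    intro hbot
    have hbU : b ∈ U := by
      intro q hq
      exact hb ⟨q, hq⟩
    rw [hbot, Subgroup.mem_bot] at hbU
    exact hb1 hbU.symm
  rcases hirr U hUK hUs with h | h
  · exact absurd h hUne
  · rw [eq_bot_iff]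
    intro q hq
    rw [Subgroup.mem_bot]
    apply MulEquiv.ext
    intro w
    have : w ∈ U := by rw [h]; trivial
    exact this q hq

/-- the commutator chain starting at `L` -/
def dch (L : Subgroup (MulAut W)) : ℕ → Subgroup (MulAut W)
  | 0 => L
  | (n + 1) => ⁅dch L n, dch L n⁆

theorem dch_stab (L : Subgroup (MulAut W)) (g : MulAut W)
    (hL : ∀ x ∈ L, g * x * g⁻¹ ∈ L) : ∀ n, ∀ x ∈ dch L n, g * x * g⁻¹ ∈ dch L n := by
  intro n
  induction n with
  | zero => exact hL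
  | succ n ih =>
    intro x hx
    have h1 : (dch L n).map (MulAut.conj g).toMonoidHom ≤ dch L n := by
      rintro y ⟨z, hz, rfl⟩
      exact ih z hz
    have h2 : (MulAut.conj g).toMonoidHom x ∈ (⁅dch L n, dch L n⁆).map (MulAut.conj g).toMonoidHom :=
      Subgroup.mem_map_of_mem _ hx
    rw [Subgroup.map_commutator] at h2
    exact Subgroup.commutator_mono h1 h1 h2

theorem dch_anti (L : Subgroup (MulAut W)) : ∀ n, dch L (n + 1) ≤ dch L n := by
  intro n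
  show ⁅dch L n, dch L n⁆ ≤ dch L n
  rw [Subgroup.commutator_le]
  intro a ha b hb
  exact (dch L n).mul_mem ((dch L n).mul_mem ((dch L n).mul_mem ha hb) ((dch L n).inv_mem ha))
    ((dch L n).inv_mem hb)

theorem dch_le (L : Subgroup (MulAut W)) : ∀ n, dch L n ≤ L := by
  intro n
  induction n with
  | zero => exact le_refl _
  | succ n ih => exact le_trans (dch_anti L n) ih

theorem dch_le_derived (L K : Subgroup (MulAut W)) (hLK : L ≤ K) :
    ∀ n, dch L n ≤ (derivedSeries K n).map K.subtype := by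
  intro n
  induction n with
  | zero =>
    rw [derivedSeries_zero, ← MonoidHom.range_eq_map, Subgroup.range_subtype]
    exact hLK
  | succ n ih =>
    show ⁅dch L n, dch L n⁆ ≤ _
    rw [derivedSeries_succ, Subgroup.map_commutator]
    exact Subgroup.commutator_mono ih ih

theorem M_trivial [Finite W] {p : ℕ} [hp : Fact p.Prime] (hW : IsPGroup p W) [Nontrivial W]
    (s : MulAut W) (h4 : s ^ 4 = 1) (hfix : ∀ w, s w = w → w = 1)
    (K : Subgroup (MulAut W))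
    (hKs : ∀ k ∈ K, s * k * s⁻¹ ∈ K) (hKfix : ∀ k ∈ K, s * k * s⁻¹ = k → k = 1)
    (hirr : ∀ U : Subgroup W, (∀ k ∈ K, ∀ u ∈ U, k u ∈ U) → (∀ u ∈ U, s u ∈ U) → U = ⊥ ∨ U = ⊤)
    (L M : Subgroup (MulAut W)) (hML : M ≤ L) (hLK : L ≤ K)
    (hLgen : L = Subgroup.closure {x | ∃ k ∈ K, x = k⁻¹ * (s ^ 2 * k * (s ^ 2)⁻¹)})
    (hMcomm : ∀ a ∈ M, ∀ b ∈ M, a * b = b * a)
    (hMgK : ∀ g ∈ K, ∀ x ∈ M, g * x * g⁻¹ ∈ M) (hMs : ∀ x ∈ M, s * x * s⁻¹ ∈ M) : M = ⊥ := by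
  classical
  have hfinA : Finite (MulAut W) :=
    Finite.of_injective (fun f : MulAut W => (f : W → W)) DFunLike.coe_injective
  have hMK : M ≤ K := le_trans hML hLK
  have htt : s ^ 2 * s ^ 2 = 1 := by rw [← pow_add]; exact h4
  have htinv : (s ^ 2)⁻¹ = s ^ 2 := inv_eq_of_mul_eq_one_right htt
  have hodd := odd_card_K s h4 K hKs hKfix
  have hsq1 : ∀ k ∈ K, k * k = 1 → k = 1 := by
    intro k hk hkk
    have hkpow : k ^ Nat.card K = 1 := by
      have := pow_card_eq_one' (G := K) (x := ⟨k, hk⟩)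
      exact congrArg Subtype.val this
    exact fix_of_sq_fix k (Nat.card K) hodd hkpow (fun a => a = 1) rfl
      (fun a b ha hb => by rw [ha, hb, mul_one]) hkk
  -- `M` is a `p'`-group
  let Mp : Subgroup (MulAut W) :=
    { carrier := {x | x ∈ M ∧ ∃ n : ℕ, x ^ (p ^ n) = 1}
      one_mem' := ⟨M.one_mem, 0, one_pow _⟩
      mul_mem' := by
        rintro a b ⟨ha, i, hi⟩ ⟨hb, j, hj⟩
        refine ⟨M.mul_mem ha hb, i + j, ?_⟩
        have hc : Commute a b := hMcomm a ha b hb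
        rw [hc.mul_pow, pow_add, pow_mul, hi, one_pow, mul_comm (p ^ i), pow_mul, hj, one_pow,
          mul_one]
      inv_mem' := by
        rintro a ⟨ha, i, hi⟩
        exact ⟨M.inv_mem ha, i, by rw [inv_pow, hi, inv_one]⟩ }
  have hMpbot : Mp = ⊥ := by
    apply no_normal_p hW s h4 K hirr Mp
    · rintro g hg x ⟨hx, i, hi⟩
      refine ⟨hMgK g hg x hx, i, ?_⟩
      rw [conj_pow, hi]
      group
    · rintro x ⟨hx, i, hi⟩
      refine ⟨hMs x hx, i, ?_⟩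
      rw [conj_pow, hi]
      group
    · rintro ⟨x, hx, i, hi⟩
      exact ⟨i, Subtype.ext hi⟩
  have hcop : Nat.Coprime (Nat.card M) p := by
    rw [Nat.coprime_comm, Nat.Prime.coprime_iff_not_dvd hp.out]
    intro hdvd
    obtain ⟨x, hx⟩ := exists_prime_orderOf_dvd_card' (G := M) p hdvd
    have hxp : (x : MulAut W) ^ (p ^ 1) = 1 := by
      rw [pow_one]
      have := pow_orderOf_eq_one x
      rw [hx] at this
      exact congrArg Subtype.val this
    have hxMp : (x : MulAut W) ∈ Mp := ⟨x.2, 1, hxp⟩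
    rw [hMpbot, Subgroup.mem_bot] at hxMp
    have hx1 : x = 1 := Subtype.ext hxMp
    rw [hx1, orderOf_one] at hx
    exact hp.out.ne_one hx.symm
  let _ : Fintype M := Fintype.ofFinite M
  have hcardM : Fintype.card M = Nat.card M := (Nat.card_eq_fintype_card).symm
  -- the subgroup inverted by `t`
  let X : Subgroup (MulAut W) :=
    { carrier := {x | x ∈ M ∧ s ^ 2 * x * (s ^ 2)⁻¹ = x⁻¹}
      one_mem' := ⟨M.one_mem, by group⟩
      mul_mem' := by
        rintro a b ⟨ha, ha'⟩ ⟨hb, hb'⟩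
        refine ⟨M.mul_mem ha hb, ?_⟩
        calc s ^ 2 * (a * b) * (s ^ 2)⁻¹ = (s ^ 2 * a * (s ^ 2)⁻¹) * (s ^ 2 * b * (s ^ 2)⁻¹) := by
              group
          _ = a⁻¹ * b⁻¹ := by rw [ha', hb']
          _ = (a * b)⁻¹ := by rw [mul_inv_rev, hMcomm a⁻¹ (M.inv_mem ha) b⁻¹ (M.inv_mem hb)]
      inv_mem' := by
        rintro a ⟨ha, ha'⟩
        refine ⟨M.inv_mem ha, ?_⟩
        calc s ^ 2 * a⁻¹ * (s ^ 2)⁻¹ = (s ^ 2 * a * (s ^ 2)⁻¹)⁻¹ := by group
          _ = a⁻¹⁻¹ := by rw [ha'] }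
  have hXM : X ≤ M := fun x hx => hx.1
  let _ : Fintype X := Fintype.ofFinite X
  have hXs : ∀ j : ℕ, ∀ x ∈ X, s ^ j * x * (s ^ j)⁻¹ ∈ X := by
    intro j x hx
    refine ⟨conj_pow_mem s M hMs j x hx.1, ?_⟩
    calc s ^ 2 * (s ^ j * x * (s ^ j)⁻¹) * (s ^ 2)⁻¹
        = s ^ j * (s ^ 2 * x * (s ^ 2)⁻¹) * (s ^ j)⁻¹ := by
          have hc : Commute (s ^ 2) (s ^ j) := (Commute.refl s).pow_pow 2 j
          have hc' : Commute (s ^ j) ((s ^ 2)⁻¹) := hc.symm.inv_right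
          calc s ^ 2 * (s ^ j * x * (s ^ j)⁻¹) * (s ^ 2)⁻¹
              = (s ^ 2 * s ^ j) * x * ((s ^ j)⁻¹ * (s ^ 2)⁻¹) := by group
            _ = (s ^ j * s ^ 2) * x * ((s ^ 2)⁻¹ * (s ^ j)⁻¹) := by
                rw [hc.eq, ← mul_inv_rev, ← mul_inv_rev, hc.eq]
            _ = s ^ j * (s ^ 2 * x * (s ^ 2)⁻¹) * (s ^ j)⁻¹ := by group
      _ = s ^ j * x⁻¹ * (s ^ j)⁻¹ := by rw [hx.2]
      _ = (s ^ j * x * (s ^ j)⁻¹)⁻¹ := by group
  have hsemi : ∀ j ∈ ({1, 2, 3} : Finset ℕ), ∀ x ∈ X, s ^ j * x * (s ^ j)⁻¹ = x → x = 1 := by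
    intro j hj x hx hxj
    have hxK : x ∈ K := hMK hx.1
    simp only [Finset.mem_insert, Finset.mem_singleton] at hj
    rcases hj with rfl | rfl | rfl
    · rw [pow_one] at hxj
      exact hKfix x hxK hxj
    · rw [hx.2] at hxj
      apply hsq1 x hxK
      calc x * x = x⁻¹ * x := by rw [hxj]
        _ = 1 := inv_mul_cancel x
    · rw [← inv_eq_pow_three s h4, inv_inv] at hxj
      apply hKfix x hxK
      calc s * x * s⁻¹ = s * (s⁻¹ * x * s) * s⁻¹ := by rw [hxj]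
        _ = x := by group
  have hfrob := frob s h4 hfix X hXs hsemi
  have hXcop : Nat.Coprime (Fintype.card X) p := by
    have h1 : Nat.card X ∣ Nat.card M := Subgroup.card_dvd_of_le hXM
    rw [← Nat.card_eq_fintype_card]
    exact Nat.Coprime.coprime_dvd_left h1 hcop
  have hXtriv : ∀ x ∈ X, x = 1 := by
    intro x hx
    apply MulEquiv.ext
    intro w
    have h1 : x (w ^ Fintype.card X) = w ^ Fintype.card X := by
      rw [← hfrob w]
      exact SX_fixed X w x hx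
    rw [map_pow] at h1
    have h2 : (x w * w⁻¹) ^ Fintype.card X = 1 := by
      rw [mul_pow, h1, inv_pow, mul_inv_cancel]
    have h3 := pcop hW hXcop _ h2
    rw [mul_inv_eq_one] at h3
    simpa using h3
  -- `t` centralizes `M`
  have hMt : ∀ x ∈ M, s ^ 2 * x * (s ^ 2)⁻¹ = x := by
    intro x hx
    have htx : s ^ 2 * x * (s ^ 2)⁻¹ ∈ M := conj_pow_mem s M hMs 2 x hx
    have hy : x⁻¹ * (s ^ 2 * x * (s ^ 2)⁻¹) ∈ X := by
      refine ⟨M.mul_mem (M.inv_mem hx) htx, ?_⟩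
      calc s ^ 2 * (x⁻¹ * (s ^ 2 * x * (s ^ 2)⁻¹)) * (s ^ 2)⁻¹
          = (s ^ 2 * x * (s ^ 2)⁻¹)⁻¹ * ((s ^ 2 * s ^ 2) * x * (s ^ 2 * s ^ 2)⁻¹) := by group
        _ = (s ^ 2 * x * (s ^ 2)⁻¹)⁻¹ * x := by rw [htt]; group
        _ = (x⁻¹ * (s ^ 2 * x * (s ^ 2)⁻¹))⁻¹ := by group
    have := hXtriv _ hy
    exact (inv_mul_eq_one.1 this).symm
  -- `M` fixes the fixed points of `t` pointwise
  have hMplus : ∀ x ∈ M, ∀ w, (s ^ 2) w = w → x w = w :=
    fun x hx => H_fix s h4 hfix K hKs hKfix x (hMK hx) (hMt x hx)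
  have hMinvK : ∀ g ∈ K, ∀ x ∈ M, g⁻¹ * x * g ∈ M := by
    intro g hg x hx
    have := hMgK g⁻¹ (K.inv_mem hg) x hx
    rwa [inv_inv] at this
  have hMinvt : ∀ x ∈ M, (s ^ 2)⁻¹ * x * (s ^ 2) ∈ M := by
    intro x hx
    have := conj_pow_mem s M hMs 2 x hx
    rw [htinv] at this ⊢
    exact this
  have hNcop : Nat.Coprime (Fintype.card M) p := by rw [hcardM]; exact hcop
  have hv : ∀ u, SX M u = 1 → (s ^ 2) u = u⁻¹ := by
    intro u hu
    have hfixed : (s ^ 2) (u * (s ^ 2) u) = u * (s ^ 2) u := by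
      rw [map_mul, ← MulAut.mul_apply, htt, MulAut.one_apply, mul_comm]
    have h1 : SX M (u * (s ^ 2) u) = (u * (s ^ 2) u) ^ Fintype.card M :=
      SX_of_fixed M _ (fun x hx => hMplus x hx _ hfixed)
    have h2 : SX M (u * (s ^ 2) u) = 1 := by
      rw [SX_mul, hu, one_mul, SX_conj M (s ^ 2) hMinvt u, hu, map_one]
    rw [h2] at h1
    have h3 := pcop hW hNcop _ h1.symm
    exact eq_inv_of_mul_eq_one_right h3
  have hvi : ∀ k ∈ K, ∀ u, SX M u = 1 → (k⁻¹ * (s ^ 2 * k * (s ^ 2)⁻¹)) u = u := by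
    intro k hk u hu
    have h1 : SX M (k u) = 1 := by rw [SX_conj M k (hMinvK k hk) u, hu, map_one]
    have h2 := hv (k u) h1
    have h3 : (s ^ 2) (k u) = (s ^ 2 * k * (s ^ 2)⁻¹) ((s ^ 2) u) := by simp [MulAut.mul_apply]
    rw [hv u hu] at h3
    have h4' : (s ^ 2 * k * (s ^ 2)⁻¹) u⁻¹ = k u⁻¹ := by rw [← h3, h2, map_inv]
    have h5 : (k⁻¹ * (s ^ 2 * k * (s ^ 2)⁻¹)) u⁻¹ = u⁻¹ := by
      rw [MulAut.mul_apply, h4']
      simp
    rw [map_inv] at h5
    exact inv_injective h5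
  have hLfix : ∀ x ∈ L, ∀ u, SX M u = 1 → x u = u := by
    intro x hx u hu
    rw [hLgen] at hx
    induction hx using Subgroup.closure_induction with
    | mem x hx =>
      obtain ⟨k, hk, rfl⟩ := hx
      exact hvi k hk u hu
    | one => rfl
    | mul x y _ _ hx hy => rw [MulAut.mul_apply, hy, hx]
    | inv x _ hx =>
      have h0 : x⁻¹ u = x⁻¹ (x u) := by rw [hx]
      rw [h0, ← MulAut.mul_apply, inv_mul_cancel, MulAut.one_apply]
  rw [eq_bot_iff]
  intro x hx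
  rw [Subgroup.mem_bot]
  apply MulEquiv.ext
  intro w
  have hS : ∀ y ∈ M, y (SX M w) = SX M w := fun y hy => SX_fixed M w y hy
  have hu : SX M (w ^ Fintype.card M * (SX M w)⁻¹) = 1 := by
    rw [SX_mul, SX_pow, SX_inv, SX_of_fixed M (SX M w) hS, mul_inv_cancel]
  have h1 := hLfix x (hML hx) _ hu
  rw [map_mul, map_pow, map_inv, hS x hx] at h1
  have h2 : (x w) ^ Fintype.card M = w ^ Fintype.card M := mul_right_cancel h1
  have h3 : (x w * w⁻¹) ^ Fintype.card M = 1 := by rw [mul_pow, h2, inv_pow, mul_inv_cancel]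
  have h4' := pcop hW hNcop _ h3
  rw [mul_inv_eq_one] at h4'
  simpa using h4'

theorem comm_of_fpf [Finite W] {p : ℕ} [hp : Fact p.Prime] (hW : IsPGroup p W)
    (s : MulAut W) (h4 : s ^ 4 = 1) (hfix : ∀ w, s w = w → w = 1)
    (K : Subgroup (MulAut W)) (hKsol : Group.IsSolvable K)
    (hKs : ∀ k ∈ K, s * k * s⁻¹ ∈ K) (hKfix : ∀ k ∈ K, s * k * s⁻¹ = k → k = 1)
    (hirr : ∀ U : Subgroup W, (∀ k ∈ K, ∀ u ∈ U, k u ∈ U) → (∀ u ∈ U, s u ∈ U) → U = ⊥ ∨ U = ⊤) :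
    ∀ a ∈ K, ∀ b ∈ K, a * b = b * a := by
  classical
  have hfinA : Finite (MulAut W) :=
    Finite.of_injective (fun f : MulAut W => (f : W → W)) DFunLike.coe_injective
  by_cases hWnt : Nontrivial W
  swap
  · rw [not_nontrivial_iff_subsingleton] at hWnt
    intro a _ b _
    apply MulEquiv.ext
    intro w
    exact Subsingleton.elim _ _
  have htt : s ^ 2 * s ^ 2 = 1 := by rw [← pow_add]; exact h4
  have htinv : (s ^ 2)⁻¹ = s ^ 2 := inv_eq_of_mul_eq_one_right htt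
  have hodd := odd_card_K s h4 K hKs hKfix
  have hKt : ∀ k ∈ K, s ^ 2 * k * (s ^ 2)⁻¹ ∈ K := conj_pow_mem s K hKs 2
  have hsq1 : ∀ k ∈ K, k * k = 1 → k = 1 := by
    intro k hk hkk
    have hkpow : k ^ Nat.card K = 1 := by
      have := pow_card_eq_one' (G := K) (x := ⟨k, hk⟩)
      exact congrArg Subtype.val this
    exact fix_of_sq_fix k (Nat.card K) hodd hkpow (fun a => a = 1) rfl
      (fun a b ha hb => by rw [ha, hb, mul_one]) hkk
  -- Claim T
  have claimT : ∀ k ∈ K, s ^ 2 * k * (s ^ 2)⁻¹ = k := by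
    by_contra hcon
    push Not at hcon
    obtain ⟨k₀, hk₀, hk₀t⟩ := hcon
    let gen : Set (MulAut W) := {x | ∃ k ∈ K, x = k⁻¹ * (s ^ 2 * k * (s ^ 2)⁻¹)}
    let L : Subgroup (MulAut W) := Subgroup.closure gen
    have hLK : L ≤ K := by
      rw [Subgroup.closure_le]
      rintro x ⟨k, hk, rfl⟩
      exact K.mul_mem (K.inv_mem hk) (hKt k hk)
    have hLne : L ≠ ⊥ := by
      intro h
      apply hk₀t
      have : k₀⁻¹ * (s ^ 2 * k₀ * (s ^ 2)⁻¹) ∈ L := Subgroup.subset_closure ⟨k₀, hk₀, rfl⟩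
      rw [h, Subgroup.mem_bot] at this
      exact (inv_mul_eq_one.1 this).symm
    have hLgK : ∀ g ∈ K, ∀ x ∈ L, g * x * g⁻¹ ∈ L := by
      intro g hg x hx
      induction hx using Subgroup.closure_induction with
      | mem x hx =>
        obtain ⟨k, hk, rfl⟩ := hx
        have h1 : g * (k⁻¹ * (s ^ 2 * k * (s ^ 2)⁻¹)) * g⁻¹
            = ((k * g⁻¹)⁻¹ * (s ^ 2 * (k * g⁻¹) * (s ^ 2)⁻¹))
              * ((g⁻¹)⁻¹ * (s ^ 2 * g⁻¹ * (s ^ 2)⁻¹))⁻¹ := by group
        rw [h1]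
        exact L.mul_mem (Subgroup.subset_closure ⟨k * g⁻¹, K.mul_mem hk (K.inv_mem hg), rfl⟩)
          (L.inv_mem (Subgroup.subset_closure ⟨g⁻¹, K.inv_mem hg, rfl⟩))
      | one => simp
      | mul x y _ _ hx hy =>
        have : g * (x * y) * g⁻¹ = (g * x * g⁻¹) * (g * y * g⁻¹) := by group
        rw [this]; exact L.mul_mem hx hy
      | inv x _ hx =>
        have : g * x⁻¹ * g⁻¹ = (g * x * g⁻¹)⁻¹ := by group
        rw [this]; exact L.inv_mem hx
    have hLs : ∀ x ∈ L, s * x * s⁻¹ ∈ L := by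
      intro x hx
      induction hx using Subgroup.closure_induction with
      | mem x hx =>
        obtain ⟨k, hk, rfl⟩ := hx
        have h1 : s * (k⁻¹ * (s ^ 2 * k * (s ^ 2)⁻¹)) * s⁻¹
            = (s * k * s⁻¹)⁻¹ * (s ^ 2 * (s * k * s⁻¹) * (s ^ 2)⁻¹) := by group
        rw [h1]
        exact Subgroup.subset_closure ⟨s * k * s⁻¹, hKs k hk, rfl⟩
      | one => simp
      | mul x y _ _ hx hy =>
        have : s * (x * y) * s⁻¹ = (s * x * s⁻¹) * (s * y * s⁻¹) := by group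
        rw [this]; exact L.mul_mem hx hy
      | inv x _ hx =>
        have : s * x⁻¹ * s⁻¹ = (s * x * s⁻¹)⁻¹ := by group
        rw [this]; exact L.inv_mem hx
    -- the chain
    have hex : ∃ n, dch L n = ⊥ := by
      obtain ⟨n, hn⟩ := (Group.isSolvable_def K).1 hKsol
      refine ⟨n, ?_⟩
      have := dch_le_derived L K hLK n
      rw [hn, Subgroup.map_bot] at this
      exact le_bot_iff.1 this
    have hn₀ : dch L (Nat.find hex) = ⊥ := Nat.find_spec hex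
    have hn₀pos : Nat.find hex ≠ 0 := by
      intro h
      rw [h] at hn₀
      exact hLne hn₀
    obtain ⟨m, hm⟩ := Nat.exists_eq_succ_of_ne_zero hn₀pos
    have hMne : dch L m ≠ ⊥ := fun h => Nat.find_min hex (by omega : m < Nat.find hex) h
    have hMcomm' : ⁅dch L m, dch L m⁆ = ⊥ := by
      rw [← hn₀, hm]
      rfl
    have hMcomm : ∀ a ∈ dch L m, ∀ b ∈ dch L m, a * b = b * a := by
      intro a ha b hb
      have h1 := (Subgroup.commutator_eq_bot_iff_le_centralizer.1 hMcomm') ha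
      exact (Subgroup.mem_centralizer_iff.1 h1 b hb).symm
    have hML : dch L m ≤ L := dch_le L m
    have hMK : dch L m ≤ K := le_trans hML hLK
    have hMgK : ∀ g ∈ K, ∀ x ∈ dch L m, g * x * g⁻¹ ∈ dch L m :=
      fun g hg => dch_stab L g (hLgK g hg) m
    have hMs : ∀ x ∈ dch L m, s * x * s⁻¹ ∈ dch L m := dch_stab L s hLs m
    exact hMne (M_trivial hW s h4 hfix K hKs hKfix hirr L (dch L m) hML hLK rfl hMcomm hMgK hMs)
  -- conclusion
  have hinvK : ∀ k ∈ K, s * k * s⁻¹ = k⁻¹ := by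
    apply inverts_of_fpf s K hKs hKfix
    intro k hk
    calc s * (s * k * s⁻¹) * s⁻¹ = s ^ 2 * k * (s ^ 2)⁻¹ := by
          rw [pow_two, mul_inv_rev]; simp only [mul_assoc]
      _ = k := claimT k hk
  intro a ha b hb
  have h1 := hinvK (a * b) (K.mul_mem ha hb)
  have h2 : s * (a * b) * s⁻¹ = (s * a * s⁻¹) * (s * b * s⁻¹) := by group
  rw [h2, hinvK a ha, hinvK b hb, mul_inv_rev] at h1
  have h5 := congrArg (fun x => x⁻¹) h1
  simp only [mul_inv_rev, inv_inv] at h5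
  exact h5.symm

end Cfsg.Agent.Lib.Helper10.Fpf4
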