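import Mathlib
import Cfsg.Agent.Lib.Helper10.Fpf4Main

set_option autoImplicit false

namespace Cfsg.Agent.Lib.Helper10.Fpf4

theorem comm_of_fpf' {W : Type*} [Group W] [Finite W] (hcomm : ∀ a b : W, a * b = b * a)
    {p : ℕ} [hp : Fact p.Prime] (hW : IsPGroup p W)
    (s : MulAut W) (h4 : s ^ 4 = 1) (hfix : ∀ w, s w = w → w = 1)
    (K : Subgroup (MulAut W)) (hKsol : Group.IsSolvable K)
    (hKs : ∀ k ∈ K, s * k * s⁻¹ ∈ K) (hKfix : ∀ k ∈ K, s * k * s⁻¹ = k → k = 1)
    (hirr : ∀ U : Subgroup W, (∀ k ∈ K, ∀ u ∈ U, k u ∈ U) → (∀ u ∈ U, s u ∈ U) → U = ⊥ ∨ U = ⊤) :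
    ∀ a ∈ K, ∀ b ∈ K, a * b = b * a := by
  let _ : CommGroup W := { (inferInstance : Group W) with mul_comm := hcomm }
  exact comm_of_fpf hW s h4 hfix K hKsol hKs hKfix hirr

variable {G : Type*} [Group G]

/-- a fixed-point-free automorphism is fixed-point-free modulo invariant subgroups -/
theorem mem_of_inv_mul_mem [Finite G] (σ : MulAut G) (hfpf : ∀ g, σ g = g → g = 1)
    (N : Subgroup G) (hN : ∀ n ∈ N, σ n ∈ N) (g : G) (hg : g⁻¹ * σ g ∈ N) : g ∈ N := by
  have hinj : Function.Injective (fun n : N => (⟨(n : G)⁻¹ * σ n,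
      N.mul_mem (N.inv_mem n.2) (hN n.1 n.2)⟩ : N)) := by
    intro n m hnm
    have h1 : (n : G)⁻¹ * σ n = (m : G)⁻¹ * σ m := congrArg Subtype.val hnm
    have h2 : σ ((m : G) * (n : G)⁻¹) = (m : G) * (n : G)⁻¹ := by
      rw [map_mul, map_inv]
      have h3 : σ (m : G) = (m : G) * ((n : G)⁻¹ * σ n) := by rw [h1, mul_inv_cancel_left]
      rw [h3]
      group
    have h4 := hfpf _ h2
    rw [mul_inv_eq_one] at h4
    exact Subtype.ext h4.symm
  obtain ⟨n, hn⟩ := Finite.surjective_of_injective hinj ⟨g⁻¹ * σ g, hg⟩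
  have h1 : (n : G)⁻¹ * σ n = g⁻¹ * σ g := congrArg Subtype.val hn
  have h2 : σ (g * (n : G)⁻¹) = g * (n : G)⁻¹ := by
    rw [map_mul, map_inv]
    have h3 : σ g = g * ((n : G)⁻¹ * σ n) := by rw [h1, mul_inv_cancel_left]
    rw [h3]
    group
  have h4 := hfpf _ h2
  rw [mul_inv_eq_one] at h4
  rw [h4]
  exact n.2

theorem pow_apply_mem (σ : MulAut G) (N : Subgroup G) (hN : ∀ n ∈ N, σ n ∈ N) :
    ∀ j : ℕ, ∀ n ∈ N, (σ ^ j) n ∈ N := by
  intro j
  induction j with
  | zero => intro n hn; simpa using hn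
  | succ j ih =>
    intro n hn
    rw [pow_succ', MulAut.mul_apply]
    exact hN _ (ih n hn)

theorem inv_apply_mem (σ : MulAut G) (h4 : σ ^ 4 = 1) (N : Subgroup G) (hN : ∀ n ∈ N, σ n ∈ N) :
    ∀ n ∈ N, σ⁻¹ n ∈ N := by
  intro n hn
  rw [inv_eq_pow_three σ h4]
  exact pow_apply_mem σ N hN 3 n hn

/-- restriction of an automorphism to an invariant subgroup -/
noncomputable def resAut (σ : MulAut G) (h4 : σ ^ 4 = 1) (N : Subgroup G) (hN : ∀ n ∈ N, σ n ∈ N) :
    MulAut N where
  toFun n := ⟨σ n, hN n.1 n.2⟩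
  invFun n := ⟨σ⁻¹ n, inv_apply_mem σ h4 N hN n.1 n.2⟩
  left_inv n := by
    apply Subtype.ext
    show σ⁻¹ (σ (n : G)) = n
    rw [← MulAut.mul_apply, inv_mul_cancel, MulAut.one_apply]
  right_inv n := by
    apply Subtype.ext
    show σ (σ⁻¹ (n : G)) = n
    rw [← MulAut.mul_apply, mul_inv_cancel, MulAut.one_apply]
  map_mul' a b := by
    apply Subtype.ext
    show σ ((a : G) * b) = σ a * σ b
    exact map_mul σ _ _

theorem resAut_apply (σ : MulAut G) (h4 : σ ^ 4 = 1) (N : Subgroup G) (hN : ∀ n ∈ N, σ n ∈ N)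
    (n : N) : ((resAut σ h4 N hN n : N) : G) = σ n := rfl

theorem resAut_pow (σ : MulAut G) (h4 : σ ^ 4 = 1) (N : Subgroup G) (hN : ∀ n ∈ N, σ n ∈ N)
    (j : ℕ) (n : N) : (((resAut σ h4 N hN) ^ j) n : G) = (σ ^ j) n := by
  induction j generalizing n with
  | zero => simp
  | succ j ih =>
    rw [pow_succ', MulAut.mul_apply, resAut_apply, ih, pow_succ', MulAut.mul_apply]

theorem resAut_inv_apply (σ : MulAut G) (h4 : σ ^ 4 = 1) (N : Subgroup G) (hN : ∀ n ∈ N, σ n ∈ N)
    (n : N) : (((resAut σ h4 N hN)⁻¹ n : N) : G) = σ⁻¹ n := rfl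


open scoped commutatorElement in
theorem commutator_le_centralizer [Finite G] (hG : Group.IsSolvable G) (σ : MulAut G)
    (h4 : σ ^ 4 = 1) (hfpf : ∀ g, σ g = g → g = 1)
    (W : Subgroup G) [hWn : W.Normal] (hWσ : ∀ w ∈ W, σ w ∈ W) (hWne : W ≠ ⊥)
    (hmin : ∀ W' : Subgroup G, W'.Normal → (∀ w ∈ W', σ w ∈ W') → W' ≤ W → W' = ⊥ ∨ W' = W) :
    commutator G ≤ Subgroup.centralizer (W : Set G) := by
  classical
  -- 1. `W` is abelian
  have hWcomm : ∀ a ∈ W, ∀ b ∈ W, a * b = b * a := by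
    have hD : ⁅W, W⁆ = ⊥ ∨ ⁅W, W⁆ = W := by
      apply hmin
      · exact Subgroup.commutator_normal W W
      · intro x hx
        have h1 : W.map σ.toMonoidHom ≤ W := by
          rintro y ⟨z, hz, rfl⟩
          exact hWσ z hz
        have h2 : σ.toMonoidHom x ∈ (⁅W, W⁆).map σ.toMonoidHom := Subgroup.mem_map_of_mem _ hx
        rw [Subgroup.map_commutator] at h2
        exact Subgroup.commutator_mono h1 h1 h2
      · exact Subgroup.commutator_le_left W W
    rcases hD with hD | hD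
    · intro a ha b hb
      have h1 := (Subgroup.commutator_eq_bot_iff_le_centralizer.1 hD) ha
      exact (Subgroup.mem_centralizer_iff.1 h1 b hb).symm
    · exfalso
      have hle : ∀ n, W ≤ derivedSeries G n := by
        intro n
        induction n with
        | zero => exact le_top
        | succ n ih =>
          rw [derivedSeries_succ]
          calc W = ⁅W, W⁆ := hD.symm
            _ ≤ ⁅derivedSeries G n, derivedSeries G n⁆ := Subgroup.commutator_mono ih ih
      obtain ⟨n, hn⟩ := (Group.isSolvable_def G).1 hG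
      apply hWne
      rw [eq_bot_iff, ← hn]
      exact hle n
  -- 2. exponent `p`
  have hcard : Nat.card W ≠ 1 := by
    rw [Ne, Subgroup.card_eq_one]
    exact hWne
  obtain ⟨p, hp, hpdvd⟩ := Nat.exists_prime_and_dvd hcard
  have : Fact p.Prime := ⟨hp⟩
  let Wp : Subgroup G :=
    { carrier := {w | w ∈ W ∧ w ^ p = 1}
      one_mem' := ⟨W.one_mem, one_pow _⟩
      mul_mem' := by
        rintro a b ⟨ha, ha'⟩ ⟨hb, hb'⟩
        refine ⟨W.mul_mem ha hb, ?_⟩
        have hc : Commute a b := hWcomm a ha b hb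
        rw [hc.mul_pow, ha', hb', mul_one]
      inv_mem' := by
        rintro a ⟨ha, ha'⟩
        exact ⟨W.inv_mem ha, by rw [inv_pow, ha', inv_one]⟩ }
  have hWp : Wp = W := by
    have h1 : Wp = ⊥ ∨ Wp = W := by
      apply hmin
      · refine ⟨fun w hw g => ⟨hWn.conj_mem w hw.1 g, ?_⟩⟩
        rw [conj_pow, hw.2]
        group
      · intro w hw
        exact ⟨hWσ w hw.1, by rw [← map_pow, hw.2, map_one]⟩
      · exact fun w hw => hw.1
    rcases h1 with h1 | h1
    · exfalso
      obtain ⟨x, hx⟩ := exists_prime_orderOf_dvd_card' (G := W) p hpdvd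
      have hxp : (x : G) ^ p = 1 := by
        have := pow_orderOf_eq_one x
        rw [hx] at this
        exact congrArg Subtype.val this
      have hxWp : (x : G) ∈ Wp := ⟨x.2, hxp⟩
      rw [h1, Subgroup.mem_bot] at hxWp
      have hx1 : x = 1 := Subtype.ext hxWp
      rw [hx1, orderOf_one] at hx
      exact hp.ne_one hx.symm
    · exact h1
  have hexp : ∀ w ∈ W, w ^ p = 1 := by
    intro w hw
    have : w ∈ Wp := by rw [hWp]; exact hw
    exact this.2
  have hWpg : IsPGroup p W := fun w => ⟨1, by rw [pow_one]; exact Subtype.ext (hexp w.1 w.2)⟩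
  -- 3. the set-up
  let s : MulAut W := resAut σ h4 W hWσ
  let φ : G →* MulAut W := MulAut.conjNormal
  have hs4 : s ^ 4 = 1 := by
    apply MulEquiv.ext
    intro w
    apply Subtype.ext
    rw [resAut_pow, h4]
    simp
  have hsfix : ∀ w : W, s w = w → w = 1 := by
    intro w hw
    have h1 := congrArg Subtype.val hw
    rw [resAut_apply] at h1
    exact Subtype.ext (hfpf _ h1)
  have hkey : ∀ g : G, s * φ g * s⁻¹ = φ (σ g) := by
    intro g
    apply MulEquiv.ext
    intro w
    apply Subtype.ext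
    rw [MulAut.mul_apply, MulAut.mul_apply, resAut_apply, MulAut.conjNormal_apply,
      MulAut.conjNormal_apply, resAut_inv_apply, map_mul, map_mul, map_inv]
    rw [← MulAut.mul_apply, mul_inv_cancel, MulAut.one_apply]
  have hKsol : Group.IsSolvable φ.range :=
    Group.isSolvable_of_surjective (f := φ.rangeRestrict) φ.rangeRestrict_surjective
  have hKs : ∀ k ∈ φ.range, s * k * s⁻¹ ∈ φ.range := by
    rintro k ⟨g, rfl⟩
    exact ⟨σ g, (hkey g).symm⟩
  have hkerσ : ∀ n ∈ φ.ker, σ n ∈ φ.ker := by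
    intro n hn
    rw [MonoidHom.mem_ker] at hn ⊢
    rw [← hkey n, hn]
    group
  have hKfix : ∀ k ∈ φ.range, s * k * s⁻¹ = k → k = 1 := by
    rintro k ⟨g, rfl⟩ hk
    rw [hkey g] at hk
    have h1 : g⁻¹ * σ g ∈ φ.ker := by
      rw [MonoidHom.mem_ker, map_mul, map_inv, hk, inv_mul_cancel]
    have h2 := mem_of_inv_mul_mem σ hfpf φ.ker hkerσ g h1
    exact MonoidHom.mem_ker.1 h2
  have hirr : ∀ U : Subgroup W, (∀ k ∈ φ.range, ∀ u ∈ U, k u ∈ U) → (∀ u ∈ U, s u ∈ U) →
      U = ⊥ ∨ U = ⊤ := by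
    intro U hUK hUs
    have h1 : U.map W.subtype = ⊥ ∨ U.map W.subtype = W := by
      apply hmin
      · refine ⟨fun x hx g => ?_⟩
        obtain ⟨u, hu, rfl⟩ := hx
        refine ⟨φ g u, hUK _ ⟨g, rfl⟩ u hu, ?_⟩
        exact MulAut.conjNormal_apply g u
      · rintro x ⟨u, hu, rfl⟩
        exact ⟨s u, hUs u hu, rfl⟩
      · rintro x ⟨u, _, rfl⟩
        exact u.2
    rcases h1 with h1 | h1
    · left
      exact (Subgroup.map_eq_bot_iff_of_injective U W.subtype_injective).1 h1
    · right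
      rw [eq_top_iff]
      intro w _
      have : (w : G) ∈ U.map W.subtype := by rw [h1]; exact w.2
      obtain ⟨u, hu, huw⟩ := this
      have : u = w := Subtype.ext huw
      rw [← this]
      exact hu
  have hcommK := comm_of_fpf' (fun a b : W => Subtype.ext (hWcomm a.1 a.2 b.1 b.2)) hWpg s hs4
    hsfix φ.range hKsol hKs hKfix hirr
  -- 4. conclusion
  rw [commutator_def, Subgroup.commutator_le]
  intro a _ b _
  rw [Subgroup.mem_centralizer_iff]
  intro w hw
  have h1 : φ ⁅a, b⁆ = 1 := by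
    rw [map_commutatorElement, commutatorElement_eq_one_iff_mul_comm]
    exact hcommK _ ⟨a, rfl⟩ _ ⟨b, rfl⟩
  have h2 : ⁅a, b⁆ * w * ⁅a, b⁆⁻¹ = w := by
    have h3 := MulAut.conjNormal_apply (H := W) ⁅a, b⁆ (⟨w, hw⟩ : W)
    have h4' : (MulAut.conjNormal ⁅a, b⁆ : MulAut W) = 1 := h1
    rw [h4', MulAut.one_apply] at h3
    exact h3.symm
  calc w * ⁅a, b⁆ = (⁅a, b⁆ * w * ⁅a, b⁆⁻¹) * ⁅a, b⁆ := by rw [h2]
    _ = ⁅a, b⁆ * w := by group

universe u

theorem derived_nilpotent : ∀ n : ℕ, ∀ (G : Type u) [Group G] [Finite G], Nat.card G = n →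
    Group.IsSolvable G → ∀ σ : MulAut G, σ ^ 4 = 1 → (∀ g, σ g = g → g = 1) →
    Group.IsNilpotent (commutator G) := by
  intro n
  induction n using Nat.strong_induction_on with
  | _ n ih =>
    intro G _ _ hn hG σ h4 hfpf
    classical
    by_cases htriv : Subsingleton G
    · infer_instance
    rw [not_subsingleton_iff_nontrivial] at htriv
    -- a minimal σ-invariant normal subgroup
    let P : Subgroup G → Prop := fun N => N ≠ ⊥ ∧ N.Normal ∧ ∀ x ∈ N, σ x ∈ N
    have hPtop : P ⊤ := ⟨top_ne_bot, inferInstance, fun x _ => Subgroup.mem_top _⟩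
    obtain ⟨W, hW, hWmin⟩ := exists_minimal_of_wellFoundedLT P ⟨⊤, hPtop⟩
    obtain ⟨hWne, hWn, hWσ⟩ := hW
    have hmin : ∀ W' : Subgroup G, W'.Normal → (∀ w ∈ W', σ w ∈ W') → W' ≤ W →
        W' = ⊥ ∨ W' = W := by
      intro W' h1 h2 h3
      by_cases hb : W' = ⊥
      · exact Or.inl hb
      · exact Or.inr (le_antisymm h3 (hWmin ⟨hb, h1, h2⟩ h3))
    have hcent := commutator_le_centralizer hG σ h4 hfpf W hWσ hWne hmin
    -- the quotient
    have hmap : W.map (σ : G →* G) = W := by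
      apply le_antisymm
      · rintro y ⟨z, hz, rfl⟩
        exact hWσ z hz
      · intro w hw
        refine ⟨σ⁻¹ w, inv_apply_mem σ h4 W hWσ w hw, ?_⟩
        show σ (σ⁻¹ w) = w
        rw [← MulAut.mul_apply, mul_inv_cancel, MulAut.one_apply]
    let τ : MulAut (G ⧸ W) := QuotientGroup.congr W W σ hmap
    have hτ : ∀ g : G, τ (QuotientGroup.mk g) = QuotientGroup.mk (σ g) := fun g =>
      QuotientGroup.congr_mk W W σ hmap g
    have hτpow : ∀ j : ℕ, ∀ g : G, (τ ^ j) (QuotientGroup.mk g) = QuotientGroup.mk ((σ ^ j) g) := by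
      intro j
      induction j with
      | zero => intro g; simp
      | succ j ihj =>
        intro g
        rw [pow_succ', MulAut.mul_apply, ihj, hτ, pow_succ', MulAut.mul_apply]
    have hτ4 : τ ^ 4 = 1 := by
      apply MulEquiv.ext
      intro x
      obtain ⟨g, rfl⟩ := QuotientGroup.mk_surjective x
      rw [hτpow, h4]
      simp
    have hτfpf : ∀ x : G ⧸ W, τ x = x → x = 1 := by
      intro x hx
      obtain ⟨g, rfl⟩ := QuotientGroup.mk_surjective x
      rw [hτ, eq_comm, QuotientGroup.eq] at hx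
      have := mem_of_inv_mul_mem σ hfpf W hWσ g hx
      exact (QuotientGroup.eq_one_iff g).2 this
    have hcardlt : Nat.card (G ⧸ W) < n := by
      rw [← hn, Subgroup.card_eq_card_quotient_mul_card_subgroup W]
      have h1 : 1 < Nat.card W := by
        have h0 : Nat.card W ≠ 1 := by
          rw [Ne, Subgroup.card_eq_one]
          exact hWne
        have h2 : 0 < Nat.card W := Nat.card_pos
        omega
      have h2 : 0 < Nat.card (G ⧸ W) := Nat.card_pos
      nlinarith
    have hqsol : Group.IsSolvable (G ⧸ W) :=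
      Group.isSolvable_of_surjective (QuotientGroup.mk'_surjective W)
    have hnil : Group.IsNilpotent (commutator (G ⧸ W)) :=
      ih _ hcardlt (G ⧸ W) rfl hqsol τ hτ4 hτfpf
    -- conclusion
    have hle : commutator G ≤ (commutator (G ⧸ W)).comap (QuotientGroup.mk' W) := by
      rw [commutator_def, Subgroup.commutator_le]
      intro a _ b _
      rw [Subgroup.mem_comap, map_commutatorElement, commutator_def]
      exact Subgroup.commutator_mem_commutator (Subgroup.mem_top _) (Subgroup.mem_top _)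
    let f : commutator G →* commutator (G ⧸ W) :=
      ((QuotientGroup.mk' W).comp (commutator G).subtype).codRestrict (commutator (G ⧸ W))
        (fun x => hle x.2)
    apply Subgroup.isNilpotent_of_ker_le_center f
    intro x hx
    rw [MonoidHom.mem_ker] at hx
    have h1 : (QuotientGroup.mk' W) (x : G) = 1 := congrArg Subtype.val hx
    have h2 : (x : G) ∈ W := (QuotientGroup.eq_one_iff _).1 h1
    rw [Subgroup.mem_center_iff]
    intro y
    apply Subtype.ext
    have h3 := Subgroup.mem_centralizer_iff.1 (hcent y.2) (x : G) h2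
    show (y : G) * x = x * y
    exact h3.symm

end Cfsg.Agent.Lib.Helper10.Fpf4
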