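import Mathlib

set_option autoImplicit false

namespace Cfsg.Agent.Lib.Helper10.LinearPGroup

open Module

universe u v

section basics

theorem ds_of_injective {A B : Type*} [Group A] [Group B] (f : A →* B) (hf : Function.Injective f)
    (k : ℕ) (h : derivedSeries B k = ⊥) : derivedSeries A k = ⊥ := by
  rw [eq_bot_iff]
  intro a ha
  have h1 : f a ∈ derivedSeries B k :=
    map_derivedSeries_le_derivedSeries f k (Subgroup.mem_map_of_mem f ha)
  rw [h, Subgroup.mem_bot] at h1
  rw [Subgroup.mem_bot]
  exact hf (by rw [h1, map_one])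

theorem ds_map_eq_one {A B : Type*} [Group A] [Group B] (f : A →* B) (k : ℕ)
    (h : derivedSeries f.range k = ⊥) {a : A} (ha : a ∈ derivedSeries A k) : f a = 1 := by
  have h2 : f.rangeRestrict a ∈ derivedSeries f.range k :=
    map_derivedSeries_le_derivedSeries f.rangeRestrict k (Subgroup.mem_map_of_mem _ ha)
  rw [h, Subgroup.mem_bot] at h2
  have := congrArg Subtype.val h2
  simpa using this

theorem ds_mono {A : Type*} [Group A] {k l : ℕ} (hkl : k ≤ l) (h : derivedSeries A k = ⊥) :
    derivedSeries A l = ⊥ := by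
  rw [eq_bot_iff, ← h]
  exact derivedSeries_antitone A hkl

theorem ds_add {A : Type*} [Group A] (M : Subgroup A) (a b : ℕ) (h1 : derivedSeries A a ≤ M)
    (h2 : derivedSeries M b = ⊥) : derivedSeries A (a + b) = ⊥ := by
  have key : ∀ c : ℕ, derivedSeries A (a + c) ≤ (derivedSeries M c).map M.subtype := by
    intro c
    induction c with
    | zero =>
      rw [derivedSeries_zero, ← MonoidHom.range_eq_map, Subgroup.range_subtype]
      exact h1
    | succ c ih =>
      rw [← add_assoc, derivedSeries_succ, derivedSeries_succ (G := M), Subgroup.map_commutator]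
      exact Subgroup.commutator_mono ih ih
  rw [eq_bot_iff]
  refine le_trans (key b) ?_
  rw [h2, Subgroup.map_bot]

end basics

variable {K : Type u} [Field K] {V : Type v} [AddCommGroup V] [Module K V]

/-- `U` is invariant under the subgroup `G` of `GL(V)`. -/
def Inv (G : Subgroup (Module.End K V)ˣ) (U : Submodule K V) : Prop :=
  ∀ g ∈ G, ∀ u ∈ U, (g : Module.End K V) u ∈ U

/-- restriction hom to an invariant subspace -/
noncomputable def resHom (G : Subgroup (Module.End K V)ˣ) (U : Submodule K V) (hU : Inv G U) :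
    G →* (Module.End K U)ˣ :=
  MonoidHom.toHomUnits
    { toFun := fun g => ((g : (Module.End K V)ˣ) : Module.End K V).restrict (hU g.1 g.2)
      map_one' := by ext u; simp
      map_mul' := by intro g h; ext u; simp }

theorem resHom_apply (G : Subgroup (Module.End K V)ˣ) (U : Submodule K V) (hU : Inv G U) (g : G)
    (u : U) : (((resHom G U hU g : (Module.End K U)ˣ) : Module.End K U) u : V)
      = ((g : (Module.End K V)ˣ) : Module.End K V) u := rfl

/-- the inductive bound -/
def Bound (K : Type u) [Field K] (p : ℕ) (n : ℕ) : Prop :=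
  ∀ (V : Type v) [AddCommGroup V] [Module K V] [FiniteDimensional K V], finrank K V = n →
    ∀ (G : Subgroup (Module.End K V)ˣ), Finite G → IsPGroup p G →
      derivedSeries G (Nat.log 2 n + 1) = ⊥

theorem fam {p n : ℕ} (ih : ∀ m < n, Bound.{u, v} K p m) [FiniteDimensional K V]
    (H : Subgroup (Module.End K V)ˣ) [Finite H] (hH : IsPGroup p H)
    {κ : Type*} (U : κ → Submodule K V) (hinv : ∀ k, Inv H (U k)) (hsup : ⨆ k, U k = ⊤) (b : ℕ)
    (hb : ∀ k, finrank K (U k) < n ∧ Nat.log 2 (finrank K (U k)) + 1 ≤ b) :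
    derivedSeries H b = ⊥ := by
  rw [eq_bot_iff]
  intro h hh
  rw [Subgroup.mem_bot]
  have hfix : ∀ k, ∀ u ∈ U k, ((h : (Module.End K V)ˣ) : Module.End K V) u = u := by
    intro k u hu
    have hfin : Finite (resHom H (U k) (hinv k)).range :=
      Finite.of_surjective _ (resHom H (U k) (hinv k)).rangeRestrict_surjective
    have hp : IsPGroup p (resHom H (U k) (hinv k)).range :=
      hH.of_surjective _ (resHom H (U k) (hinv k)).rangeRestrict_surjective
    have h1 := ih _ (hb k).1 (U k) rfl (resHom H (U k) (hinv k)).range hfin hp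
    have h2 := ds_mono (hb k).2 h1
    have h3 := ds_map_eq_one (resHom H (U k) (hinv k)) b h2 hh
    have h4 := resHom_apply H (U k) (hinv k) h ⟨u, hu⟩
    rw [h3] at h4
    simpa using h4.symm
  have htop : ∀ v : V, ((h : (Module.End K V)ˣ) : Module.End K V) v = v := by
    intro v
    have hv : v ∈ ⨆ k, U k := by rw [hsup]; trivial
    induction hv using Submodule.iSup_induction' with
    | mem k u hu => exact hfix k u hu
    | zero => simp
    | add x y _ _ hx hy => rw [map_add, hx, hy]
  apply Subtype.ext
  apply Units.ext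
  apply LinearMap.ext
  intro v
  simpa using htop v


theorem sup_commutator_ne_top' {H : Type*} [Group H] [Finite H] [Group.IsNilpotent H]
    (K : Subgroup H) (hK : K ≠ ⊤) : K ⊔ commutator H ≠ ⊤ := by
  obtain ⟨C, hC, hKC⟩ := (eq_top_or_exists_le_coatom K).resolve_left hK
  have hCn : C.Normal := Subgroup.NormalizerCondition.normal_of_coatom C (Group.normalizerCondition_of_isNilpotent (G := H)) hC
  have hne : C ≠ ⊤ := hC.1
  have : Nontrivial (H ⧸ C) := by
    rw [QuotientGroup.nontrivial_iff]
    exact hne
  have hlt := Group.IsSolvable.commutator_lt_top_of_nontrivial (H ⧸ C)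
  have h1 : C ≤ (commutator (H ⧸ C)).comap (QuotientGroup.mk' C) := by
    intro c hc
    rw [Subgroup.mem_comap]
    have : (QuotientGroup.mk' C) c = 1 := by
      rw [QuotientGroup.mk'_apply, QuotientGroup.eq_one_iff]; exact hc
    rw [this]; exact one_mem _
  have h2 : (commutator (H ⧸ C)).comap (QuotientGroup.mk' C) ≠ ⊤ := by
    intro h
    apply hlt.ne
    rw [eq_top_iff]
    intro x _
    obtain ⟨y, rfl⟩ := QuotientGroup.mk'_surjective C x
    have : y ∈ (commutator (H ⧸ C)).comap (QuotientGroup.mk' C) := by rw [h]; trivial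
    exact this
  have h3 : (commutator (H ⧸ C)).comap (QuotientGroup.mk' C) = C := by
    rcases eq_or_lt_of_le h1 with h | h
    · exact h.symm
    · exact absurd (hC.2 _ h) h2
  have h4 : commutator H ≤ C := by
    rw [← h3, ← Subgroup.map_le_iff_le_comap]
    rw [commutator_def, Subgroup.map_commutator]
    exact Subgroup.commutator_mono le_top le_top
  intro h
  apply hne
  rw [eq_top_iff, ← h]
  exact sup_le hKC h4

theorem inv_of_map_le (G : Subgroup (Module.End K V)ˣ) (U : Submodule K V)
    (h : ∀ g ∈ G, U.map ((g : (Module.End K V)ˣ) : Module.End K V) ≤ U) : Inv G U := by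
  intro g hg u hu
  exact h g hg (Submodule.mem_map_of_mem hu)

theorem map_mul_units (g h : (Module.End K V)ˣ) (U : Submodule K V) :
    U.map (((g * h : (Module.End K V)ˣ)) : Module.End K V)
      = (U.map (h : Module.End K V)).map (g : Module.End K V) := by
  rw [← Submodule.map_comp]
  rfl

theorem map_one_units (U : Submodule K V) :
    U.map (((1 : (Module.End K V)ˣ)) : Module.End K V) = U := by
  rw [Units.val_one]
  exact Submodule.map_id U

theorem map_inv_map (g : (Module.End K V)ˣ) (U : Submodule K V) :
    (U.map (g : Module.End K V)).map ((g⁻¹ : (Module.End K V)ˣ) : Module.End K V) = U := by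
  rw [← map_mul_units, inv_mul_cancel, map_one_units]

theorem finrank_map_units [FiniteDimensional K V] (g : (Module.End K V)ˣ) (U : Submodule K V) :
    finrank K (U.map (g : Module.End K V)) = finrank K U := by
  have hinj : Function.Injective (g : Module.End K V) := by
    intro a b hab
    have := congrArg ((g⁻¹ : (Module.End K V)ˣ) : Module.End K V) hab
    simpa [← Module.End.mul_apply] using this
  exact (LinearEquiv.finrank_eq (Submodule.equivMapOfInjective _ hinj U)).symm


theorem log_bound {d n : ℕ} (hd : 1 ≤ d) (h2 : 2 * d ≤ n) : Nat.log 2 d + 1 ≤ Nat.log 2 n := by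
  have h1 : Nat.log 2 (d * 2) = Nat.log 2 d + 1 := Nat.log_mul_base (by norm_num) (by omega)
  rw [← h1]
  exact Nat.log_mono_right (by omega)

open scoped commutatorElement in
theorem sys {p n : ℕ} [hp : Fact p.Prime] (ih : ∀ m < n, Bound.{u, v} K p m)
    [FiniteDimensional K V] (hn : finrank K V = n)
    (G : Subgroup (Module.End K V)ˣ) [Finite G] (hG : IsPGroup p G)
    {ι : Type*} (E : ι → Submodule K V) (hind : iSupIndep E) (hsup : ⨆ i, E i = ⊤)
    (hstab : ∀ g ∈ G, ∀ i, ∃ j, (E i).map ((g : (Module.End K V)ˣ) : Module.End K V) = E j)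
    (i₀ : ι) (h0 : E i₀ ≠ ⊥) (h1 : E i₀ ≠ ⊤) :
    derivedSeries G (Nat.log 2 n + 1) = ⊥ := by
  classical
  set E₀ := E i₀ with hE₀
  let I : Set ι := {i | ∃ g ∈ G, E i = E₀.map ((g : (Module.End K V)ˣ) : Module.End K V)}
  let W : Submodule K V := ⨆ i ∈ I, E i
  let W' : Submodule K V := ⨆ i ∈ Iᶜ, E i
  have hWW' : W ⊔ W' = ⊤ := by
    rw [← hsup]
    exact (iSup_split E (fun i => i ∈ I)).symm
  have hdisj : Disjoint W W' := hind.disjoint_biSup_biSup disjoint_compl_right
  have hi₀ : i₀ ∈ I := ⟨1, G.one_mem, by rw [map_one_units]⟩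
  have hE₀W : E₀ ≤ W := le_biSup E hi₀
  have hWdesc : ∀ g ∈ G, E₀.map ((g : (Module.End K V)ˣ) : Module.End K V) ≤ W := by
    intro g hg
    obtain ⟨j, hj⟩ := hstab g hg i₀
    have hjI : j ∈ I := ⟨g, hg, hj.symm⟩
    rw [hj]
    exact le_biSup E hjI
  have hWinv : Inv G W := by
    apply inv_of_map_le
    intro h hh
    simp only [W, Submodule.map_iSup]
    apply iSup₂_le
    intro i hi
    obtain ⟨g, hg, hgi⟩ := hi
    rw [hgi, ← map_mul_units]
    exact hWdesc _ (G.mul_mem hh hg)
  have hW'inv : Inv G W' := by
    apply inv_of_map_le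
    intro h hh
    simp only [W', Submodule.map_iSup]
    apply iSup₂_le
    intro i hi
    obtain ⟨j, hj⟩ := hstab h hh i
    have hjI : j ∈ Iᶜ := by
      intro hjI
      obtain ⟨g, hg, hgj⟩ := hjI
      apply hi
      refine ⟨h⁻¹ * g, G.mul_mem (G.inv_mem hh) hg, ?_⟩
      rw [map_mul_units, ← hgj, ← hj, map_inv_map]
    rw [hj]
    exact le_biSup E hjI
  have hW0 : W ≠ ⊥ := fun h => h0 (le_bot_iff.1 (h ▸ hE₀W))
  by_cases hWtop : W = ⊤
  · -- transitive case
    have hnil : Group.IsNilpotent G := hG.isNilpotent
    let S₀ : Subgroup G :=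
      { carrier := {g | E₀.map (((g : G) : (Module.End K V)ˣ) : Module.End K V) = E₀}
        one_mem' := by
          show E₀.map ((((1 : G) : (Module.End K V)ˣ)) : Module.End K V) = E₀
          rw [Subgroup.coe_one, map_one_units]
        mul_mem' := by
          intro a b ha hb
          show E₀.map ((((a * b : G) : (Module.End K V)ˣ)) : Module.End K V) = E₀
          rw [Subgroup.coe_mul, map_mul_units]
          rw [show E₀.map (((b : G) : (Module.End K V)ˣ) : Module.End K V) = E₀ from hb]
          exact ha
        inv_mem' := by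
          intro a ha
          show E₀.map ((((a⁻¹ : G) : (Module.End K V)ˣ)) : Module.End K V) = E₀
          rw [Subgroup.coe_inv]
          conv_lhs => rw [← show E₀.map (((a : G) : (Module.End K V)ˣ) : Module.End K V) = E₀ from ha]
          exact map_inv_map _ _ }
    have hS₀ : S₀ ≠ ⊤ := by
      intro hS
      apply h1
      have hall : ∀ g ∈ G, E₀.map ((g : (Module.End K V)ˣ) : Module.End K V) = E₀ := by
        intro g hg
        have : (⟨g, hg⟩ : G) ∈ S₀ := by rw [hS]; trivial
        exact this
      have hWle : W ≤ E₀ := by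
        apply iSup₂_le
        intro i hi
        obtain ⟨g, hg, hgi⟩ := hi
        rw [hgi, hall g hg]
      exact top_le_iff.1 (hWtop ▸ hWle)
    let M : Subgroup G := S₀ ⊔ commutator G
    have hM : M ≠ ⊤ := sup_commutator_ne_top' S₀ hS₀
    have hconj : ∀ g : G, ∀ m ∈ M, g⁻¹ * m * g ∈ M := by
      intro g m hm
      have h1 : g⁻¹ * m * g = m * ⁅m⁻¹, g⁻¹⁆ := by
        rw [commutatorElement_def]; group
      rw [h1]
      apply M.mul_mem hm
      apply (le_sup_right : commutator G ≤ M)
      rw [commutator_def]
      exact Subgroup.commutator_mem_commutator (Subgroup.mem_top _) (Subgroup.mem_top _)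
    let MG : Subgroup (Module.End K V)ˣ := M.map G.subtype
    have hMGmem : ∀ x ∈ MG, ∃ m : G, m ∈ M ∧ (m : (Module.End K V)ˣ) = x := by
      intro x hx
      obtain ⟨m, hm, rfl⟩ := hx
      exact ⟨m, hm, rfl⟩
    let U : Submodule K V := ⨆ m : M, E₀.map ((((m : G) : (Module.End K V)ˣ)) : Module.End K V)
    have hE₀U : E₀ ≤ U := by
      have h := le_iSup (fun m : M => E₀.map ((((m : G) : (Module.End K V)ˣ)) : Module.End K V)) 1
      have h1 : E₀.map (((((1 : M) : G) : (Module.End K V)ˣ)) : Module.End K V) = E₀ := by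
        rw [Subgroup.coe_one, Subgroup.coe_one, map_one_units]
      calc E₀ = _ := h1.symm
        _ ≤ U := h
    have hUM : ∀ m ∈ M, U.map ((((m : G) : (Module.End K V)ˣ)) : Module.End K V) ≤ U := by
      intro m hm
      simp only [U, Submodule.map_iSup]
      apply iSup_le
      intro m'
      rw [← map_mul_units]
      have := le_iSup (fun m : M => E₀.map ((((m : G) : (Module.End K V)ˣ)) : Module.End K V))
        (⟨m, hm⟩ * m')
      simpa using this
    have hUinv : ∀ g : G, Inv MG (U.map (((g : (Module.End K V)ˣ)) : Module.End K V)) := by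
      intro g
      apply inv_of_map_le
      intro x hx
      obtain ⟨m, hm, rfl⟩ := hMGmem x hx
      have h2 : ((m : G) : (Module.End K V)ˣ) * (g : (Module.End K V)ˣ)
          = (g : (Module.End K V)ˣ) * ((g⁻¹ * m * g : G) : (Module.End K V)ˣ) := by
        rw [← Subgroup.coe_mul, ← Subgroup.coe_mul]
        congr 1
        group
      rw [← map_mul_units, h2, map_mul_units]
      exact Submodule.map_mono (hUM _ (hconj g m hm))
    have hUsup : ⨆ g : G, U.map (((g : (Module.End K V)ˣ)) : Module.End K V) = ⊤ := by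
      rw [eq_top_iff, ← hWtop]
      apply iSup₂_le
      intro i hi
      obtain ⟨g, hg, hgi⟩ := hi
      rw [hgi]
      refine le_trans ?_ (le_iSup _ (⟨g, hg⟩ : G))
      exact Submodule.map_mono hE₀U
    have hUpos : 1 ≤ finrank K U := by
      rw [Submodule.one_le_finrank_iff]
      exact fun h => h0 (le_bot_iff.1 (h ▸ hE₀U))
    obtain ⟨g₁, hg₁⟩ : ∃ g₁ : G, g₁ ∉ M := by
      by_contra hcon
      push Not at hcon
      exact hM (eq_top_iff.2 fun x _ => hcon x)
    have hUdisj : Disjoint U (U.map (((g₁ : (Module.End K V)ˣ)) : Module.End K V)) := by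
      let I₁ : Set ι := {i | ∃ m ∈ M, E i = E₀.map ((((m : G) : (Module.End K V)ˣ)) : Module.End K V)}
      let I₂ : Set ι := {i | ∃ m ∈ M, E i = E₀.map ((((g₁ * m : G) : (Module.End K V)ˣ)) : Module.End K V)}
      have hI : Disjoint I₁ I₂ := by
        rw [Set.disjoint_left]
        rintro i ⟨m, hm, hmi⟩ ⟨m', hm', hmi'⟩
        apply hg₁
        have h3 : m⁻¹ * g₁ * m' ∈ S₀ := by
          show E₀.map ((((m⁻¹ * g₁ * m' : G) : (Module.End K V)ˣ)) : Module.End K V) = E₀
          rw [mul_assoc, Subgroup.coe_mul, map_mul_units, ← hmi', hmi, Subgroup.coe_inv, map_inv_map]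
        have h4 : m⁻¹ * g₁ * m' ∈ M := (le_sup_left : S₀ ≤ M) h3
        have h5 : g₁ = m * (m⁻¹ * g₁ * m') * m'⁻¹ := by group
        rw [h5]
        exact M.mul_mem (M.mul_mem hm h4) (M.inv_mem hm')
      have hU1 : U ≤ ⨆ i ∈ I₁, E i := by
        apply iSup_le
        intro m
        obtain ⟨j, hj⟩ := hstab _ (m : G).2 i₀
        rw [hj]
        exact le_biSup E (⟨m, m.2, hj.symm⟩ : j ∈ I₁)
      have hU2 : U.map (((g₁ : (Module.End K V)ˣ)) : Module.End K V) ≤ ⨆ i ∈ I₂, E i := by
        simp only [U, Submodule.map_iSup]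
        apply iSup_le
        intro m
        rw [← map_mul_units, ← Subgroup.coe_mul]
        obtain ⟨j, hj⟩ := hstab _ (g₁ * (m : G)).2 i₀
        rw [hj]
        exact le_biSup E (⟨m, m.2, hj.symm⟩ : j ∈ I₂)
      exact (hind.disjoint_biSup_biSup hI).mono hU1 hU2
    have h2U : 2 * finrank K U ≤ n := by
      have h3 := Submodule.finrank_sup_add_finrank_inf_eq U
        (U.map (((g₁ : (Module.End K V)ˣ)) : Module.End K V))
      rw [disjoint_iff.1 hUdisj, finrank_bot, add_zero, finrank_map_units] at h3
      have h4 := Submodule.finrank_le (U ⊔ U.map (((g₁ : (Module.End K V)ˣ)) : Module.End K V))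
      rw [hn] at h4
      omega
    have hMGfin : Finite MG := by
      have : Finite M := inferInstance
      exact Finite.of_surjective (fun m : M => (⟨((m : G) : (Module.End K V)ˣ),
        Subgroup.mem_map_of_mem G.subtype m.2⟩ : MG)) (by
          rintro ⟨x, hx⟩
          obtain ⟨m, hm, rfl⟩ := hx
          exact ⟨⟨m, hm⟩, rfl⟩)
    have hMGp : IsPGroup p MG := by
      intro x
      obtain ⟨k, hk⟩ := hG ⟨x.1, by
        obtain ⟨m, _, hm⟩ := hMGmem x.1 x.2
        rw [← hm]; exact m.2⟩
      refine ⟨k, ?_⟩
      apply Subtype.ext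
      have := congrArg Subtype.val hk
      simpa using this
    have hMGds : derivedSeries MG (Nat.log 2 n) = ⊥ := by
      apply fam ih MG hMGp (fun g : G => U.map (((g : (Module.End K V)ˣ)) : Module.End K V))
        hUinv hUsup
      intro g
      rw [finrank_map_units]
      exact ⟨by omega, log_bound hUpos h2U⟩
    have hMds : derivedSeries M (Nat.log 2 n) = ⊥ := by
      apply ds_of_injective ((G.subtype.comp M.subtype).codRestrict MG (fun m =>
        Subgroup.mem_map_of_mem G.subtype m.2)) _ _ hMGds
      intro a b hab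
      have := congrArg Subtype.val hab
      apply Subtype.ext
      apply Subtype.ext
      simpa using this
    have h5 : derivedSeries G (1 + Nat.log 2 n) = ⊥ := by
      apply ds_add M 1 (Nat.log 2 n) _ hMds
      rw [derivedSeries_one]
      exact le_sup_right
    rw [add_comm]
    exact h5
  · -- intransitive case: split
    have hW'top : W' ≠ ⊤ := by
      intro h
      apply hW0
      have := disjoint_iff.1 hdisj
      rwa [h, inf_top_eq] at this
    apply fam ih G hG (fun b : Bool => if b then W else W') _ _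
    · intro b
      cases b
      · show finrank K W' < n ∧ Nat.log 2 (finrank K W') + 1 ≤ Nat.log 2 n + 1
        have := Submodule.finrank_lt hW'top
        rw [hn] at this
        exact ⟨this, Nat.succ_le_succ (Nat.log_mono_right this.le)⟩
      · show finrank K W < n ∧ Nat.log 2 (finrank K W) + 1 ≤ Nat.log 2 n + 1
        have := Submodule.finrank_lt hWtop
        rw [hn] at this
        exact ⟨this, Nat.succ_le_succ (Nat.log_mono_right this.le)⟩
    · intro b
      cases b
      · exact hW'inv
      · exact hWinv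
    · rw [iSup_bool_eq]
      simpa using hWW'


theorem iSup_eigenspace_of_pow_eq_one [IsAlgClosed K] [FiniteDimensional K V]
    (y : (Module.End K V)ˣ) (m : ℕ) (hm : (m : K) ≠ 0) (hy : y ^ m = 1) :
    ⨆ μ : K, (y : Module.End K V).eigenspace μ = ⊤ := by
  have hsep : (Polynomial.X ^ m - Polynomial.C (1 : K)).Separable :=
    Polynomial.separable_X_pow_sub_C (1 : K) hm one_ne_zero
  have haev : Polynomial.aeval (y : Module.End K V) (Polynomial.X ^ m - Polynomial.C (1 : K)) = 0 := by
    have h1 : ((y : Module.End K V)) ^ m = 1 := by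
      rw [← Units.val_pow_eq_pow_val, hy, Units.val_one]
    simp [h1]
  exact (Module.End.isSemisimple_of_squarefree_aeval_eq_zero hsep.squarefree haev).iSup_eigenspace_eq_top

theorem exists_eigenspace_ne_bot [Nontrivial V] (f : Module.End K V)
    (h : ⨆ μ : K, f.eigenspace μ = ⊤) : ∃ μ : K, f.eigenspace μ ≠ ⊥ := by
  by_contra hcon
  push Not at hcon
  have : (⨆ μ : K, f.eigenspace μ) = ⊥ := by simp [hcon]
  rw [h] at this
  exact top_ne_bot this

theorem apply_eq_smul_of_eigenspace_eq_top (f : Module.End K V) (μ : K)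
    (h : f.eigenspace μ = ⊤) (v : V) : f v = μ • v := by
  have : v ∈ f.eigenspace μ := by rw [h]; trivial
  exact Module.End.mem_eigenspace_iff.1 this

open scoped commutatorElement in
theorem bound_of_ne {p : ℕ} [hp : Fact p.Prime] [IsAlgClosed K] (hpK : (p : K) ≠ 0) :
    ∀ n, Bound.{u, v} K p n := by
  intro n
  induction n using Nat.strong_induction_on with
  | _ n ih =>
  intro V _ _ _ hn G hfin hG
  by_cases hab : ∀ a b : G, a * b = b * a
  · apply ds_mono (Nat.le_add_left 1 _)
    rw [derivedSeries_one, eq_bot_iff, commutator_def, Subgroup.commutator_le]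
    intro a _ b _
    rw [Subgroup.mem_bot, commutatorElement_def, hab a b]
    group
  · push Not at hab
    obtain ⟨a₀, b₀, hab₀⟩ := hab
    have hVnt : Nontrivial V := by
      by_contra hV
      rw [not_nontrivial_iff_subsingleton] at hV
      apply hab₀
      apply Subtype.ext
      apply Units.ext
      apply LinearMap.ext
      intro v
      exact Subsingleton.elim _ _
    -- every element has order prime to the characteristic
    have hsemi : ∀ y : G, ⨆ μ : K, ((y : (Module.End K V)ˣ) : Module.End K V).eigenspace μ = ⊤ := by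
      intro y
      obtain ⟨k, hk⟩ := hG y
      apply iSup_eigenspace_of_pow_eq_one _ (p ^ k)
      · rw [Nat.cast_pow]; exact pow_ne_zero _ hpK
      · have := congrArg Subtype.val hk
        simpa using this
    let Z : Subgroup G := Subgroup.center G
    by_cases hsc : ∀ z ∈ Z, ∃ c : K, ∀ v : V, (((z : G) : (Module.End K V)ˣ) : Module.End K V) v = c • v
    · -- case B
      have hZtop : Z ≠ ⊤ := by
        intro h
        apply hab₀
        have : b₀ ∈ Z := by rw [h]; trivial
        exact Subgroup.mem_center_iff.1 this a₀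
      have hnt : Nontrivial (G ⧸ Z) := by
        rw [QuotientGroup.nontrivial_iff]; exact hZtop
      have hpq : IsPGroup p (G ⧸ Z) := hG.to_quotient Z
      have hcnt := hpq.center_nontrivial
      obtain ⟨⟨xb, hxb⟩, hxb1⟩ := exists_ne (1 : Subgroup.center (G ⧸ Z))
      obtain ⟨x, rfl⟩ := QuotientGroup.mk_surjective xb
      have hxZ : x ∉ Z := by
        intro h
        apply hxb1
        apply Subtype.ext
        exact (QuotientGroup.eq_one_iff x).2 h
      have hcomm : ∀ g : G, g⁻¹ * x * g * x⁻¹ ∈ Z := by
        intro g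
        rw [← QuotientGroup.eq_one_iff]
        have h1 := Subgroup.mem_center_iff.1 hxb ((g : G ⧸ Z))
        have h2 : ((g⁻¹ * x * g * x⁻¹ : G) : G ⧸ Z)
            = (g : G ⧸ Z)⁻¹ * (x : G ⧸ Z) * (g : G ⧸ Z) * (x : G ⧸ Z)⁻¹ := by
          simp
        rw [h2, mul_assoc (g : G ⧸ Z)⁻¹, ← h1]
        group
      -- scalars
      have hrel : ∀ g : G, ∃ c : K, c ≠ 0 ∧
          ((x : (Module.End K V)ˣ) : Module.End K V) * ((g : (Module.End K V)ˣ) : Module.End K V)
            = c • (((g : (Module.End K V)ˣ) : Module.End K V) * ((x : (Module.End K V)ˣ) : Module.End K V)) := by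
        intro g
        obtain ⟨c, hc⟩ := hsc _ (hcomm g)
        have hc0 : c ≠ 0 := by
          intro h0
          obtain ⟨v, hv⟩ := exists_ne (0 : V)
          have h1 := hc v
          rw [h0, zero_smul] at h1
          have h2 := congrArg ((((g⁻¹ * x * g * x⁻¹ : G)⁻¹ : G) : (Module.End K V)ˣ) : Module.End K V) h1
          rw [map_zero, ← Module.End.mul_apply, ← Units.val_mul, ← Subgroup.coe_mul, inv_mul_cancel] at h2
          exact hv (by simpa using h2)
        refine ⟨c, hc0, ?_⟩
        have h1 : (x : (Module.End K V)ˣ) * (g : (Module.End K V)ˣ)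
            = (g : (Module.End K V)ˣ) * ((g⁻¹ * x * g * x⁻¹ : G) : (Module.End K V)ˣ) * (x : (Module.End K V)ˣ) := by
          rw [← Subgroup.coe_mul, ← Subgroup.coe_mul, ← Subgroup.coe_mul]
          congr 1
          group
        have h2 := congrArg (fun u : (Module.End K V)ˣ => (u : Module.End K V)) h1
        simp only [Units.val_mul] at h2
        rw [h2]
        apply LinearMap.ext
        intro v
        simp only [Module.End.mul_apply, LinearMap.smul_apply]
        rw [hc, map_smul]
      have hstab : ∀ g ∈ G, ∀ μ : K, ∃ μ' : K,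
          (((x : (Module.End K V)ˣ) : Module.End K V).eigenspace μ).map ((g : (Module.End K V)ˣ) : Module.End K V)
            = ((x : (Module.End K V)ˣ) : Module.End K V).eigenspace μ' := by
        intro g hg μ
        obtain ⟨c, hc0, hc⟩ := hrel ⟨g, hg⟩
        refine ⟨c * μ, le_antisymm ?_ ?_⟩
        · rintro w ⟨v, hv, rfl⟩
          rw [SetLike.mem_coe, Module.End.mem_eigenspace_iff] at hv
          rw [Module.End.mem_eigenspace_iff]
          have h1 := congrArg (fun f : Module.End K V => f v) hc
          simp only [Module.End.mul_apply, LinearMap.smul_apply] at h1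
          rw [h1, hv, map_smul, smul_smul]
        · intro w hw
          rw [Module.End.mem_eigenspace_iff] at hw
          refine ⟨((g⁻¹ : (Module.End K V)ˣ) : Module.End K V) w, ?_, ?_⟩
          · rw [SetLike.mem_coe, Module.End.mem_eigenspace_iff]
            set v := ((g⁻¹ : (Module.End K V)ˣ) : Module.End K V) w with hv
            have hgv : ((g : (Module.End K V)ˣ) : Module.End K V) v = w := by
              rw [hv, ← Module.End.mul_apply, ← Units.val_mul, mul_inv_cancel]; simp
            have h1 := congrArg (fun f : Module.End K V => f v) hc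
            simp only [Module.End.mul_apply, LinearMap.smul_apply] at h1
            rw [hgv, hw] at h1
            -- (c*μ) • w = c • g (x v)
            have h2 : ((g : (Module.End K V)ˣ) : Module.End K V) (μ • v)
                = ((g : (Module.End K V)ˣ) : Module.End K V) (((x : (Module.End K V)ˣ) : Module.End K V) v) := by
              rw [map_smul, hgv]
              have h3 : c • (μ • w) = c • ((g : (Module.End K V)ˣ) : Module.End K V) (((x : (Module.End K V)ˣ) : Module.End K V) v) := by
                rw [smul_smul]; exact h1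
              exact smul_right_injective V hc0 h3
            have hinj : Function.Injective ((g : (Module.End K V)ˣ) : Module.End K V) := by
              intro a b hab
              have := congrArg ((g⁻¹ : (Module.End K V)ˣ) : Module.End K V) hab
              simpa [← Module.End.mul_apply] using this
            exact (hinj h2).symm
          · rw [← Module.End.mul_apply, ← Units.val_mul, mul_inv_cancel]; simp
      obtain ⟨μ₀, hμ₀⟩ := exists_eigenspace_ne_bot _ (hsemi x)
      have hμ₀top : ((x : (Module.End K V)ˣ) : Module.End K V).eigenspace μ₀ ≠ ⊤ := by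
        intro htop
        apply hxZ
        rw [Subgroup.mem_center_iff]
        intro g
        apply Subtype.ext
        apply Units.ext
        apply LinearMap.ext
        intro v
        simp only [Subgroup.coe_mul, Units.val_mul, Module.End.mul_apply]
        rw [apply_eq_smul_of_eigenspace_eq_top _ μ₀ htop, apply_eq_smul_of_eigenspace_eq_top _ μ₀ htop,
          map_smul]
      exact sys ih hn G hG (fun μ : K => ((x : (Module.End K V)ˣ) : Module.End K V).eigenspace μ)
        (Module.End.eigenspaces_iSupIndep _) (hsemi x) hstab μ₀ hμ₀ hμ₀top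
    · -- case A
      push Not at hsc
      obtain ⟨z, hzZ, hz⟩ := hsc
      have hstab : ∀ g ∈ G, ∀ μ : K, ∃ μ' : K,
          (((z : (Module.End K V)ˣ) : Module.End K V).eigenspace μ).map ((g : (Module.End K V)ˣ) : Module.End K V)
            = ((z : (Module.End K V)ˣ) : Module.End K V).eigenspace μ' := by
        have hle : ∀ g ∈ G, ∀ μ : K,
            (((z : (Module.End K V)ˣ) : Module.End K V).eigenspace μ).map ((g : (Module.End K V)ˣ) : Module.End K V)
              ≤ ((z : (Module.End K V)ˣ) : Module.End K V).eigenspace μ := by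
          intro g hg μ
          rintro w ⟨v, hv, rfl⟩
          rw [SetLike.mem_coe, Module.End.mem_eigenspace_iff] at hv
          rw [Module.End.mem_eigenspace_iff]
          have h1 : (⟨g, hg⟩ : G) * z = z * ⟨g, hg⟩ := Subgroup.mem_center_iff.1 hzZ ⟨g, hg⟩
          have h2 := congrArg (fun u : G => (((u : (Module.End K V)ˣ) : Module.End K V)) v) h1
          simp only [Subgroup.coe_mul, Units.val_mul, Module.End.mul_apply] at h2
          rw [← h2, hv, map_smul]
        intro g hg μ
        refine ⟨μ, le_antisymm (hle g hg μ) ?_⟩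
        have h1 := hle g⁻¹ (G.inv_mem hg) μ
        have h2 := Submodule.map_mono (f := ((g : (Module.End K V)ˣ) : Module.End K V)) h1
        have h3 := map_inv_map g⁻¹ (((z : (Module.End K V)ˣ) : Module.End K V).eigenspace μ)
        rw [inv_inv] at h3
        rw [h3] at h2
        exact h2
      obtain ⟨μ₀, hμ₀⟩ := exists_eigenspace_ne_bot _ (hsemi z)
      have hμ₀top : ((z : (Module.End K V)ˣ) : Module.End K V).eigenspace μ₀ ≠ ⊤ := by
        intro htop
        obtain ⟨v, hv⟩ := hz μ₀
        exact hv (apply_eq_smul_of_eigenspace_eq_top _ μ₀ htop v)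
      exact sys ih hn G hG (fun μ : K => ((z : (Module.End K V)ˣ) : Module.End K V).eigenspace μ)
        (Module.End.eigenspaces_iSupIndep _) (hsemi z) hstab μ₀ hμ₀ hμ₀top


section charp

variable {p : ℕ} [hp : Fact p.Prime] [CharP K p]

/-- an operator with `f ^ (p ^ k) = 1` in characteristic `p` has a nonzero fixed vector -/
theorem exists_fixed_of_pow_eq_one [Nontrivial V] (f : Module.End K V) (k : ℕ)
    (hf : f ^ p ^ k = 1) : ∃ v : V, v ≠ 0 ∧ f v = v := by
  have h1 : (f - 1) ^ p ^ k = 0 := by
    have h2 : ((Polynomial.X : Polynomial K) - 1) ^ p ^ k = Polynomial.X ^ p ^ k - 1 := by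
      rw [sub_pow_char_pow, one_pow]
    have h3 := congrArg (Polynomial.aeval f) h2
    simp only [map_pow, map_sub, Polynomial.aeval_X, map_one] at h3
    rw [h3, hf, sub_self]
  by_contra hcon
  push Not at hcon
  have hinj : Function.Injective ⇑(f - 1 : Module.End K V) := by
    rw [← LinearMap.ker_eq_bot, LinearMap.ker_eq_bot']
    intro v hv
    by_contra hv0
    apply hcon v hv0
    have : f v - v = 0 := by simpa using hv
    exact sub_eq_zero.1 this
  have hinj2 : Function.Injective ⇑((f - 1 : Module.End K V) ^ p ^ k) := by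
    rw [Module.End.coe_pow]
    exact hinj.iterate _
  obtain ⟨v, hv⟩ := exists_ne (0 : V)
  apply hv
  apply hinj2
  rw [h1]
  simp

theorem exists_fixed_vector : ∀ (N : ℕ) (V : Type v) [AddCommGroup V] [Module K V] [Nontrivial V]
    (G : Subgroup (Module.End K V)ˣ) [Finite G], IsPGroup p G → Nat.card G = N →
    ∃ v : V, v ≠ 0 ∧ ∀ g ∈ G, ((g : (Module.End K V)ˣ) : Module.End K V) v = v := by
  intro N
  induction N using Nat.strong_induction_on with
  | _ N ih =>
  intro V _ _ _ G _ hG hN
  by_cases htriv : G = ⊥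
  · obtain ⟨v, hv⟩ := exists_ne (0 : V)
    refine ⟨v, hv, ?_⟩
    intro g hg
    rw [htriv, Subgroup.mem_bot] at hg
    rw [hg]; simp
  · have hnt : Nontrivial G := (Subgroup.nontrivial_iff_ne_bot G).2 htriv
    have hcnt := hG.center_nontrivial
    obtain ⟨⟨z, hz⟩, hz1⟩ := exists_ne (1 : Subgroup.center G)
    have hz1' : z ≠ 1 := fun h => hz1 (Subtype.ext h)
    obtain ⟨k, hk⟩ := hG z
    have hk' : (((z : (Module.End K V)ˣ)) : Module.End K V) ^ p ^ k = 1 := by
      have := congrArg (fun g : G => ((g : (Module.End K V)ˣ) : Module.End K V)) hk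
      simpa using this
    let U : Submodule K V := LinearMap.ker ((((z : (Module.End K V)ˣ)) : Module.End K V) - 1)
    have hUmem : ∀ v : V, v ∈ U ↔ (((z : (Module.End K V)ˣ)) : Module.End K V) v = v := by
      intro v
      rw [LinearMap.mem_ker, LinearMap.sub_apply, Module.End.one_apply, sub_eq_zero]
    obtain ⟨v₀, hv₀, hzv₀⟩ := exists_fixed_of_pow_eq_one (p := p) _ k hk'
    have hUnt : Nontrivial U := ⟨⟨⟨v₀, (hUmem v₀).2 hzv₀⟩, 0, fun h => hv₀ (congrArg Subtype.val h)⟩⟩
    have hUinv : Inv G U := by
      intro g hg u hu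
      rw [hUmem] at hu ⊢
      have h1 : (⟨g, hg⟩ : G) * z = z * ⟨g, hg⟩ := Subgroup.mem_center_iff.1 hz ⟨g, hg⟩
      have h2 := congrArg (fun w : G => (((w : (Module.End K V)ˣ) : Module.End K V)) u) h1
      simp only [Subgroup.coe_mul, Units.val_mul, Module.End.mul_apply] at h2
      rw [← h2, hu]
    let φ := resHom G U hUinv
    have hfin : Finite φ.range := Finite.of_surjective _ φ.rangeRestrict_surjective
    have hpr : IsPGroup p φ.range := hG.of_surjective _ φ.rangeRestrict_surjective
    have hzker : z ∈ φ.ker := by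
      rw [MonoidHom.mem_ker]
      apply Units.ext
      apply LinearMap.ext
      intro u
      apply Subtype.ext
      rw [resHom_apply]
      simpa using (hUmem u).1 u.2
    have hcard : Nat.card φ.range < N := by
      have h1 : Nat.card φ.range * Nat.card φ.ker = Nat.card G := by
        rw [← Nat.card_congr (QuotientGroup.quotientKerEquivRange φ).toEquiv, mul_comm]
        exact (Subgroup.card_eq_card_quotient_mul_card_subgroup φ.ker).symm ▸ (mul_comm _ _)
      have h2 : 1 < Nat.card φ.ker := by
        rw [Finite.one_lt_card_iff_nontrivial]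
        exact ⟨⟨⟨z, hzker⟩, 1, fun h => hz1' (congrArg Subtype.val h)⟩⟩
      have h3 : 0 < Nat.card φ.range := Nat.card_pos
      rw [← hN, ← h1]
      nlinarith
    obtain ⟨u, hu0, hu⟩ := ih _ hcard U φ.range hpr rfl
    refine ⟨u, fun h => hu0 (Subtype.ext h), ?_⟩
    intro g hg
    have h1 := hu (φ ⟨g, hg⟩) ⟨⟨g, hg⟩, rfl⟩
    have h2 := resHom_apply G U hUinv ⟨g, hg⟩ u
    rw [h1] at h2
    exact h2.symm

end charp


/-- induced hom on the quotient by an invariant subspace -/
noncomputable def quotHom (G : Subgroup (Module.End K V)ˣ) (W : Submodule K V) (hW : Inv G W) :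
    G →* (Module.End K (V ⧸ W))ˣ :=
  MonoidHom.toHomUnits
    { toFun := fun g => W.mapQ W ((g : (Module.End K V)ˣ) : Module.End K V)
        (fun w hw => hW g.1 g.2 w hw)
      map_one' := by
        apply LinearMap.ext
        intro x
        induction x using Submodule.Quotient.induction_on with
        | H x => simp
      map_mul' := by
        intro g h
        apply LinearMap.ext
        intro x
        induction x using Submodule.Quotient.induction_on with
        | H x => simp }

theorem quotHom_apply (G : Subgroup (Module.End K V)ˣ) (W : Submodule K V) (hW : Inv G W) (g : G)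
    (x : V) : ((quotHom G W hW g : (Module.End K (V ⧸ W))ˣ) : Module.End K (V ⧸ W))
      (Submodule.Quotient.mk x)
      = Submodule.Quotient.mk (((g : (Module.End K V)ˣ) : Module.End K V) x) := rfl

/-- the ascending fixed-point flag -/
noncomputable def Wf (G : Subgroup (Module.End K V)ˣ) : ℕ → Submodule K V
  | 0 => ⊥
  | (i + 1) => ⨅ g : G, (Wf G i).comap ((((g : (Module.End K V)ˣ)) : Module.End K V) - 1)

theorem mem_Wf_succ (G : Subgroup (Module.End K V)ˣ) (i : ℕ) (v : V) :
    v ∈ Wf G (i + 1) ↔ ∀ g ∈ G, ((g : (Module.End K V)ˣ) : Module.End K V) v - v ∈ Wf G i := by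
  rw [Wf, Submodule.mem_iInf]
  constructor
  · intro h g hg
    have := h ⟨g, hg⟩
    simpa using this
  · intro h g
    have := h g.1 g.2
    simpa using this

theorem Wf_le_succ (G : Subgroup (Module.End K V)ˣ) (i : ℕ) : Wf G i ≤ Wf G (i + 1) := by
  induction i with
  | zero => rw [Wf]; exact bot_le
  | succ i ih =>
    intro v hv
    rw [mem_Wf_succ] at hv ⊢
    intro g hg
    exact ih (hv g hg)

theorem Wf_mono (G : Subgroup (Module.End K V)ˣ) : Monotone (Wf G) :=
  monotone_nat_of_le_succ (Wf_le_succ G)

theorem Wf_sub_mem (G : Subgroup (Module.End K V)ˣ) (i : ℕ) {g : (Module.End K V)ˣ} (hg : g ∈ G)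
    {v : V} (hv : v ∈ Wf G i) : (g : Module.End K V) v - v ∈ Wf G i := by
  cases i with
  | zero =>
    rw [Wf, Submodule.mem_bot] at hv
    rw [hv]; simp
  | succ i =>
    exact Wf_le_succ G i ((mem_Wf_succ G i v).1 hv g hg)

theorem Wf_inv (G : Subgroup (Module.End K V)ˣ) (i : ℕ) : Inv G (Wf G i) := by
  intro g hg v hv
  have := Wf_sub_mem G i hg hv
  have h2 := (Wf G i).add_mem this hv
  simpa using h2

section charp2

variable {p : ℕ} [hp : Fact p.Prime] [CharP K p]

theorem Wf_lt_succ (G : Subgroup (Module.End K V)ˣ) [Finite G] (hG : IsPGroup p G) (i : ℕ)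
    (hi : Wf G i ≠ ⊤) : Wf G i < Wf G (i + 1) := by
  refine lt_of_le_of_ne (Wf_le_succ G i) ?_
  intro heq
  have hnt : Nontrivial (V ⧸ Wf G i) := Submodule.Quotient.nontrivial_iff.2 hi
  let φ := quotHom G (Wf G i) (Wf_inv G i)
  have hfin : Finite φ.range := Finite.of_surjective _ φ.rangeRestrict_surjective
  have hpr : IsPGroup p φ.range := hG.of_surjective _ φ.rangeRestrict_surjective
  obtain ⟨x, hx0, hx⟩ := exists_fixed_vector (p := p) _ (V ⧸ Wf G i) φ.range hpr rfl
  induction x using Submodule.Quotient.induction_on with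
  | H v =>
    have hv : v ∉ Wf G i := by
      intro h
      apply hx0
      exact (Submodule.Quotient.mk_eq_zero _).2 h
    apply hv
    rw [heq, mem_Wf_succ]
    intro g hg
    have h1 := hx (φ ⟨g, hg⟩) ⟨⟨g, hg⟩, rfl⟩
    rw [quotHom_apply] at h1
    exact (Submodule.Quotient.eq _).1 h1

theorem Wf_finrank [FiniteDimensional K V] (G : Subgroup (Module.End K V)ˣ) [Finite G]
    (hG : IsPGroup p G) (i : ℕ) : Wf G i = ⊤ ∨ i ≤ finrank K (Wf G i) := by
  induction i with
  | zero => right; exact Nat.zero_le _
  | succ i ih =>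
    by_cases htop : Wf G i = ⊤
    · left
      exact top_le_iff.1 (htop ▸ Wf_le_succ G i)
    · right
      have h1 := ih.resolve_left htop
      have h2 := Submodule.finrank_lt_finrank_of_lt (Wf_lt_succ G hG i htop)
      omega

theorem Wf_eq_top [FiniteDimensional K V] (G : Subgroup (Module.End K V)ˣ) [Finite G]
    (hG : IsPGroup p G) {m : ℕ} (hm : finrank K V ≤ m) : Wf G m = ⊤ := by
  rcases Wf_finrank G hG (finrank K V) with h | h
  · exact top_le_iff.1 (h ▸ Wf_mono G hm)
  · have h2 : Wf G (finrank K V) = ⊤ := by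
      by_contra hne
      have := Submodule.finrank_lt hne
      omega
    exact top_le_iff.1 (h2 ▸ Wf_mono G hm)

end charp2

/-- the filtration subgroups -/
def Tm (G : Subgroup (Module.End K V)ˣ) (m : ℕ) : Subgroup G where
  carrier := {g | ∀ i : ℕ, ∀ v ∈ Wf G (i + m),
    (((g : G) : (Module.End K V)ˣ) : Module.End K V) v - v ∈ Wf G i}
  one_mem' := by
    intro i v _
    simp
  mul_mem' := by
    intro a b ha hb i v hv
    have h1 := hb i v hv
    have h2 := ha i v hv
    have h3 := Wf_sub_mem G i a.2 h1
    have h4 : (((a * b : G) : (Module.End K V)ˣ) : Module.End K V) v - v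
        = ((((a : G) : (Module.End K V)ˣ) : Module.End K V)
            ((((b : G) : (Module.End K V)ˣ) : Module.End K V) v - v)
            - ((((b : G) : (Module.End K V)ˣ) : Module.End K V) v - v))
          + ((((a : G) : (Module.End K V)ˣ) : Module.End K V) v - v)
          + ((((b : G) : (Module.End K V)ˣ) : Module.End K V) v - v) := by
      simp only [Subgroup.coe_mul, Units.val_mul, Module.End.mul_apply, map_sub]
      abel
    rw [h4]
    exact (Wf G i).add_mem ((Wf G i).add_mem h3 h2) h1
  inv_mem' := by
    intro a ha i v hv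
    have h1 := ha i v hv
    have h2 := Wf_inv G i _ (G.inv_mem a.2) _ h1
    have h3 : (((a⁻¹ : G) : (Module.End K V)ˣ) : Module.End K V) v - v
        = - ((((a : G) : (Module.End K V)ˣ)⁻¹ : (Module.End K V)ˣ) : Module.End K V)
            ((((a : G) : (Module.End K V)ˣ) : Module.End K V) v - v) := by
      rw [map_sub, ← Module.End.mul_apply, ← Units.val_mul, inv_mul_cancel]
      simp
    rw [h3]
    exact (Wf G i).neg_mem h2


theorem mem_Tm (G : Subgroup (Module.End K V)ˣ) (m : ℕ) (g : G) :
    g ∈ Tm G m ↔ ∀ i : ℕ, ∀ v ∈ Wf G (i + m),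
      (((g : G) : (Module.End K V)ˣ) : Module.End K V) v - v ∈ Wf G i := Iff.rfl

open scoped commutatorElement in
theorem commutator_mem_Tm (G : Subgroup (Module.End K V)ˣ) (m : ℕ) {a b : G} (ha : a ∈ Tm G m)
    (hb : b ∈ Tm G m) : ⁅a, b⁆ ∈ Tm G (m + m) := by
  rw [mem_Tm]
  intro i v hv
  set A : Module.End K V := (((a : G) : (Module.End K V)ˣ) : Module.End K V) with hA
  set B : Module.End K V := (((b : G) : (Module.End K V)ˣ) : Module.End K V) with hB
  set Ai : Module.End K V := (((a⁻¹ : G) : (Module.End K V)ˣ) : Module.End K V) with hAi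
  set Bi : Module.End K V := (((b⁻¹ : G) : (Module.End K V)ˣ) : Module.End K V) with hBi
  have hAAi : A * Ai = 1 := by
    rw [hA, hAi, ← Units.val_mul, ← Subgroup.coe_mul, mul_inv_cancel]; simp
  have hBBi : B * Bi = 1 := by
    rw [hB, hBi, ← Units.val_mul, ← Subgroup.coe_mul, mul_inv_cancel]; simp
  have hcomm : (((⁅a, b⁆ : G) : (Module.End K V)ˣ) : Module.End K V) = A * B * Ai * Bi := by
    rw [commutatorElement_def]
    simp only [Subgroup.coe_mul, Units.val_mul]
    rfl
  have hid : A * B * Ai * Bi - 1 = ((A - 1) * (B - 1) - (B - 1) * (A - 1)) * (Ai * Bi) := by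
    have h1 : (A - 1) * (B - 1) - (B - 1) * (A - 1) = A * B - B * A := by noncomm_ring
    rw [h1, sub_mul]
    have h2 : B * A * (Ai * Bi) = 1 := by
      rw [mul_assoc, ← mul_assoc A, hAAi, one_mul, hBBi]
    rw [h2]
    simp only [mul_assoc]
  set w : V := Ai (Bi v) with hw
  have hw' : w ∈ Wf G (i + (m + m)) := by
    apply Wf_inv G _ _ (a⁻¹ : G).2
    exact Wf_inv G _ _ (b⁻¹ : G).2 _ hv
  have hw'' : w ∈ Wf G ((i + m) + m) := by rwa [add_assoc]
  have e1 : (((⁅a, b⁆ : G) : (Module.End K V)ˣ) : Module.End K V) v - v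
      = (A (B w - w) - (B w - w)) - (B (A w - w) - (A w - w)) := by
    have h3 := congrArg (fun f : Module.End K V => f v) hid
    simp only [LinearMap.sub_apply, Module.End.mul_apply, Module.End.one_apply] at h3
    rw [hcomm]
    simp only [Module.End.mul_apply]
    rw [h3]
  rw [e1]
  have hbw := hb (i + m) w hw''
  have haw := ha (i + m) w hw''
  exact (Wf G i).sub_mem (ha i _ hbw) (hb i _ haw)

theorem derivedSeries_le_Tm (G : Subgroup (Module.End K V)ˣ) (k : ℕ) :
    derivedSeries G k ≤ Tm G (2 ^ k) := by
  induction k with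
  | zero =>
    intro g _
    rw [mem_Tm]
    intro i v hv
    rw [pow_zero] at hv
    exact (mem_Wf_succ G i v).1 hv _ g.2
  | succ k ih =>
    rw [derivedSeries_succ, Subgroup.commutator_le]
    intro a ha b hb
    have := commutator_mem_Tm G (2 ^ k) (ih ha) (ih hb)
    rwa [pow_succ, mul_two]

theorem bound_of_char {p : ℕ} [hp : Fact p.Prime] [CharP K p] : ∀ n, Bound.{u, v} K p n := by
  intro n V _ _ _ hn G hfin hG
  rw [eq_bot_iff]
  intro g hg
  have h1 := derivedSeries_le_Tm G (Nat.log 2 n + 1) hg
  rw [mem_Tm] at h1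
  have h2 : Wf G (0 + 2 ^ (Nat.log 2 n + 1)) = ⊤ := by
    apply Wf_eq_top G hG
    rw [hn, zero_add]
    exact (Nat.lt_pow_succ_log_self (by norm_num) n).le
  rw [Subgroup.mem_bot]
  apply Subtype.ext
  apply Units.ext
  apply LinearMap.ext
  intro v
  have h3 := h1 0 v (by rw [h2]; trivial)
  rw [Wf, Submodule.mem_bot, sub_eq_zero] at h3
  simpa using h3


theorem map_GL_injective {F L : Type*} [Field F] [Field L] (f : F →+* L) (n : ℕ) :
    Function.Injective (Matrix.GeneralLinearGroup.map (n := Fin n) f) := by
  intro A B hAB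
  apply Units.ext
  have h1 := congrArg (fun u : Matrix.GeneralLinearGroup (Fin n) L => (u : Matrix (Fin n) (Fin n) L)) hAB
  simp only [Matrix.GeneralLinearGroup.map, Units.coe_map, RingHom.toMonoidHom_eq_coe,
    MonoidHom.coe_coe, RingHom.mapMatrix_apply] at h1
  ext i j
  have h2 := congrFun (congrFun h1 i) j
  simp only [Matrix.map_apply] at h2
  exact f.injective h2

/-- A finite `p`-subgroup of `GL_n(F)` has derived length at most `⌊log₂ n⌋ + 1`. -/
theorem linear_pgroup_derivedSeries {P : Type*} [Group P] [Finite P] (p : ℕ) [hp : Fact p.Prime]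
    (hP : IsPGroup p P) (F : Type*) [Field F] (n : ℕ)
    (ρ : P →* Matrix.GeneralLinearGroup (Fin n) F) (hρ : Function.Injective ρ) :
    derivedSeries P (Nat.log 2 n + 1) = ⊥ := by
  let L := AlgebraicClosure F
  let ψ : P →* (Module.End L (Fin n → L))ˣ :=
    (Matrix.GeneralLinearGroup.toLin (n := Fin n) (R := L)).toMonoidHom.comp
      ((Matrix.GeneralLinearGroup.map (n := Fin n) (algebraMap F L)).comp ρ)
  have hψ : Function.Injective ψ := by
    intro a b hab
    apply hρ
    apply map_GL_injective (algebraMap F L) n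
    exact (Matrix.GeneralLinearGroup.toLin (n := Fin n) (R := L)).injective hab
  have hfin : Finite ψ.range := Finite.of_surjective _ ψ.rangeRestrict_surjective
  have hpr : IsPGroup p ψ.range := hP.of_surjective _ ψ.rangeRestrict_surjective
  have hrank : finrank L (Fin n → L) = n := Module.finrank_fin_fun L
  have key : derivedSeries ψ.range (Nat.log 2 n + 1) = ⊥ := by
    by_cases hpL : (p : L) = 0
    · have : CharP L p := (CharP.charP_iff_prime_eq_zero hp.out).2 hpL
      exact bound_of_char (K := L) (p := p) n (Fin n → L) hrank ψ.range hfin hpr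
    · exact bound_of_ne (K := L) (p := p) hpL n (Fin n → L) hrank ψ.range hfin hpr
  apply ds_of_injective ψ.rangeRestrict _ _ key
  intro a b hab
  apply hψ
  have := congrArg Subtype.val hab
  simpa using this

end Cfsg.Agent.Lib.Helper10.LinearPGroup
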