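import Mathlib
import Cfsg.Agent.Lib.Helper10.LinearPGroup

set_option autoImplicit false

namespace Cfsg.Agent.Lib.Helper10.LinearPGroupFinite

open Module Polynomial Cfsg.Agent.Lib.Helper10.LinearPGroup

universe u v

/-- General-`V` version of the `⌊log₂ n⌋ + 1` bound over an arbitrary field. -/
theorem bound_general {E : Type*} [Field E] {W : Type*} [AddCommGroup W] [Module E W]
    [FiniteDimensional E W] (p : ℕ) [Fact p.Prime] (G : Subgroup (Module.End E W)ˣ) [Finite G]
    (hG : IsPGroup p G) : derivedSeries G (Nat.log 2 (finrank E W) + 1) = ⊥ := by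
  let b := Module.finBasis E W
  let e : (Module.End E W)ˣ ≃* Matrix.GeneralLinearGroup (Fin (finrank E W)) E :=
    Units.mapEquiv (LinearMap.toMatrixAlgEquiv b).toMulEquiv
  exact linear_pgroup_derivedSeries p hG E (finrank E W) (e.toMonoidHom.comp G.subtype)
    (e.injective.comp Subtype.val_injective)

variable {K : Type u} [Field K] {V : Type v} [AddCommGroup V] [Module K V]

/-- the inductive bound with a divisor `e` -/
def BoundE (K : Type u) [Field K] (p e : ℕ) (n : ℕ) : Prop :=
  ∀ (V : Type v) [AddCommGroup V] [Module K V] [FiniteDimensional K V], finrank K V = n →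
    ∀ (G : Subgroup (Module.End K V)ˣ), Finite G → IsPGroup p G →
      derivedSeries G (Nat.log 2 (n / e) + 1) = ⊥

theorem famE {p e n : ℕ} (ih : ∀ m < n, BoundE.{u, v} K p e m) [FiniteDimensional K V]
    (H : Subgroup (Module.End K V)ˣ) [Finite H] (hH : IsPGroup p H)
    {κ : Type*} (U : κ → Submodule K V) (hinv : ∀ k, Inv H (U k)) (hsup : ⨆ k, U k = ⊤) (b : ℕ)
    (hb : ∀ k, finrank K (U k) < n ∧ Nat.log 2 (finrank K (U k) / e) + 1 ≤ b) :
    derivedSeries H b = ⊥ := by
  rw [eq_bot_iff]
  intro h hh
  rw [Subgroup.mem_bot]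
  have hfix : ∀ k, ∀ u ∈ U k, ((h : (Module.End K V)ˣ) : Module.End K V) u = u := by
    intro k u hu
    have hfin : Finite (resHom H (U k) (hinv k)).range :=
      Finite.of_surjective _ (resHom H (U k) (hinv k)).rangeRestrict_surjective
    have hp : IsPGroup p (resHom H (U k) (hinv k)).range :=
      hH.of_surjective _ (resHom H (U k) (hinv k)).rangeRestrict_surjective
    have h1 := ih _ (hb k).1 (U k) rfl (resHom H (U k) (hinv k)).range hfin hp
    have h2 := ds_mono (hb k).2 h1
    have h3 := ds_map_eq_one (resHom H (U k) (hinv k)) b h2 hh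
    have h4 := resHom_apply H (U k) (hinv k) h ⟨u, hu⟩
    rw [h3] at h4
    simpa using h4.symm
  have htop : ∀ v : V, ((h : (Module.End K V)ˣ) : Module.End K V) v = v := by
    intro v
    have hv : v ∈ ⨆ k, U k := by rw [hsup]; trivial
    induction hv using Submodule.iSup_induction' with
    | mem k u hu => exact hfix k u hu
    | zero => simp
    | add x y _ _ hx hy => rw [map_add, hx, hy]
  apply Subtype.ext
  apply Units.ext
  apply LinearMap.ext
  intro v
  simpa using htop v

/-- an endomorphism commuting with `z` commutes with every polynomial in `z` -/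
theorem commute_aeval (z g : Module.End K V) (h : g * z = z * g) (f : K[X]) :
    g * aeval z f = aeval z f * g := by
  have h1 : aeval z f ∈ Algebra.adjoin K {z} := Polynomial.aeval_mem_adjoin_singleton K z
  have h2 : Algebra.adjoin K {z} ≤ Subalgebra.centralizer K {g} := by
    apply Algebra.adjoin_le
    intro x hx
    rw [Set.mem_singleton_iff] at hx
    subst hx
    rw [SetLike.mem_coe, Subalgebra.mem_centralizer_iff]
    intro y hy
    rw [Set.mem_singleton_iff] at hy
    subst hy
    exact h
  have h3 := h2 h1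
  rw [Subalgebra.mem_centralizer_iff] at h3
  exact h3 g (Set.mem_singleton g)

theorem ker_aeval_ne_top (z : Module.End K V) (a b : K[X]) (hab : minpoly K z = a * b)
    (hz : IsIntegral K z) (hb : ¬ IsUnit b) : LinearMap.ker (aeval z a) ≠ ⊤ := by
  intro htop
  have h0 : aeval z a = 0 := LinearMap.ker_eq_top.1 htop
  have h1 : minpoly K z ∣ a := minpoly.dvd K z h0
  have hne : minpoly K z ≠ 0 := minpoly.ne_zero hz
  have ha0 : a ≠ 0 := by
    intro h
    rw [h, zero_mul] at hab
    exact hne hab
  rw [hab] at h1
  have h2 : a * b ∣ a * 1 := by rwa [mul_one]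
  have h3 : b ∣ 1 := (mul_dvd_mul_iff_left ha0).1 h2
  exact hb (isUnit_of_dvd_one h3)

theorem reducible_case {p e n : ℕ} (ih : ∀ m < n, BoundE.{u, v} K p e m)
    [FiniteDimensional K V] (hn : finrank K V = n)
    (G : Subgroup (Module.End K V)ˣ) [Finite G] (hG : IsPGroup p G)
    (z : Module.End K V)
    (hz : ∀ g ∈ G, ((g : (Module.End K V)ˣ) : Module.End K V) * z = z * ((g : (Module.End K V)ˣ) : Module.End K V))
    (a b : K[X]) (hab : minpoly K z = a * b) (ha : ¬ IsUnit a) (hb : ¬ IsUnit b)
    (hcop : IsCoprime a b) :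
    derivedSeries G (Nat.log 2 (n / e) + 1) = ⊥ := by
  have hint : IsIntegral K z := Algebra.IsIntegral.isIntegral z
  let U : Bool → Submodule K V := fun i => cond i (LinearMap.ker (aeval z a)) (LinearMap.ker (aeval z b))
  have hinv : ∀ k, Inv G (U k) := by
    intro k g hg u hu
    cases k
    · show _ ∈ LinearMap.ker (aeval z b)
      have hu' : u ∈ LinearMap.ker (aeval z b) := hu
      rw [LinearMap.mem_ker] at hu' ⊢
      have h1 := commute_aeval z _ (hz g hg) b
      have h2 := congrArg (fun f : Module.End K V => f u) h1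
      simp only [Module.End.mul_apply] at h2
      rw [← h2, hu', map_zero]
    · show _ ∈ LinearMap.ker (aeval z a)
      have hu' : u ∈ LinearMap.ker (aeval z a) := hu
      rw [LinearMap.mem_ker] at hu' ⊢
      have h1 := commute_aeval z _ (hz g hg) a
      have h2 := congrArg (fun f : Module.End K V => f u) h1
      simp only [Module.End.mul_apply] at h2
      rw [← h2, hu', map_zero]
  have hsup : ⨆ k, U k = ⊤ := by
    rw [iSup_bool_eq]
    show LinearMap.ker (aeval z a) ⊔ LinearMap.ker (aeval z b) = ⊤
    rw [Polynomial.sup_ker_aeval_eq_ker_aeval_mul_of_coprime z hcop, ← hab, minpoly.aeval]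
    exact LinearMap.ker_zero
  have hlt : ∀ k, finrank K (U k) < n := by
    intro k
    rw [← hn]
    apply Submodule.finrank_lt
    cases k
    · show LinearMap.ker (aeval z b) ≠ ⊤
      exact ker_aeval_ne_top z b a (by rw [hab, mul_comm]) hint ha
    · show LinearMap.ker (aeval z a) ≠ ⊤
      exact ker_aeval_ne_top z a b hab hint hb
  apply famE ih G hG U hinv hsup
  intro k
  refine ⟨hlt k, ?_⟩
  apply Nat.succ_le_succ
  apply Nat.log_mono_right
  exact Nat.div_le_div_right (le_of_lt (hlt k))

/-- ring hom from `K[X]/(minpoly z)` to `End V` -/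
noncomputable def psi (z : Module.End K V) : AdjoinRoot (minpoly K z) →+* Module.End K V :=
  Ideal.Quotient.lift (Ideal.span {minpoly K z})
    ((aeval z : K[X] →ₐ[K] Module.End K V) : K[X] →+* Module.End K V)
    (by
      intro a ha
      rcases Ideal.mem_span_singleton.1 ha with ⟨y, rfl⟩
      rw [map_mul]
      have : ((aeval z : K[X] →ₐ[K] Module.End K V) : K[X] →+* Module.End K V) (minpoly K z) = 0 :=
        minpoly.aeval K z
      rw [this, zero_mul])

theorem psi_mk (z : Module.End K V) (f : K[X]) : psi z (AdjoinRoot.mk _ f) = aeval z f := rfl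

theorem irreducible_case {p : ℕ} [hp : Fact p.Prime] [Fintype K] (q : ℕ) (hq : Fintype.card K = q)
    (e : ℕ) (he : e = orderOf (q : ZMod p))
    [FiniteDimensional K V] {n : ℕ} (hn : finrank K V = n)
    (G : Subgroup (Module.End K V)ˣ) [Finite G] (hG : IsPGroup p G)
    (z : Module.End K V)
    (hz : ∀ g ∈ G, ((g : (Module.End K V)ˣ) : Module.End K V) * z = z * ((g : (Module.End K V)ˣ) : Module.End K V))
    (k : ℕ) (hzk : z ^ (p ^ k) = 1) (hz1 : z ≠ 1)
    (hirr : Irreducible (minpoly K z)) :
    derivedSeries G (Nat.log 2 (n / e) + 1) = ⊥ := by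
  have : Fact (Irreducible (minpoly K z)) := ⟨hirr⟩
  have : Nontrivial (Module.End K V) := ⟨⟨z, 1, hz1⟩⟩
  let _ : Module (AdjoinRoot (minpoly K z)) V := Module.compHom V (psi z)
  have hsmul : ∀ (x : AdjoinRoot (minpoly K z)) (v : V), x • v = psi z x v := fun _ _ => rfl
  have : IsScalarTower K (AdjoinRoot (minpoly K z)) V := ⟨fun a x v => by
    rw [hsmul, hsmul]
    induction x using AdjoinRoot.induction_on with
    | ih f =>
      rw [AdjoinRoot.smul_mk, psi_mk, psi_mk, map_smul, LinearMap.smul_apply]⟩
  have : Module.Finite K (AdjoinRoot (minpoly K z)) := (AdjoinRoot.powerBasis hirr.ne_zero).finite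
  have : Finite (AdjoinRoot (minpoly K z)) := Module.finite_of_finite K
  let _ : Fintype (AdjoinRoot (minpoly K z)) := Fintype.ofFinite _
  have : FiniteDimensional (AdjoinRoot (minpoly K z)) V := FiniteDimensional.right K _ V
  -- linearity
  have hlin : ∀ g ∈ G, ∀ (x : AdjoinRoot (minpoly K z)) (v : V),
      ((g : (Module.End K V)ˣ) : Module.End K V) (x • v) = x • ((g : (Module.End K V)ˣ) : Module.End K V) v := by
    intro g hg x v
    rw [hsmul, hsmul]
    induction x using AdjoinRoot.induction_on with
    | ih f =>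
      rw [psi_mk]
      have h1 := commute_aeval z _ (hz g hg) f
      have h2 := congrArg (fun F : Module.End K V => F v) h1
      simpa only [Module.End.mul_apply] using h2
  let ρ0 : G →* Module.End (AdjoinRoot (minpoly K z)) V :=
    { toFun := fun g =>
        { toFun := fun v => ((g : (Module.End K V)ˣ) : Module.End K V) v
          map_add' := fun v w => map_add _ v w
          map_smul' := fun x v => hlin g.1 g.2 x v }
      map_one' := by ext v; simp
      map_mul' := by intro g h; ext v; simp }
  let ρ : G →* (Module.End (AdjoinRoot (minpoly K z)) V)ˣ := MonoidHom.toHomUnits ρ0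
  have hρ : Function.Injective ρ := by
    intro g h hgh
    apply Subtype.ext
    apply Units.ext
    apply LinearMap.ext
    intro v
    have h1 := congrArg (fun u : (Module.End (AdjoinRoot (minpoly K z)) V)ˣ =>
      (u : Module.End (AdjoinRoot (minpoly K z)) V) v) hgh
    exact h1
  have hfin : Finite ρ.range := Finite.of_surjective _ ρ.rangeRestrict_surjective
  have hpr : IsPGroup p ρ.range := hG.of_surjective _ ρ.rangeRestrict_surjective
  have key := bound_general p ρ.range hpr
  have key2 : derivedSeries G (Nat.log 2 (finrank (AdjoinRoot (minpoly K z)) V) + 1) = ⊥ := by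
    apply ds_of_injective ρ.rangeRestrict _ _ key
    intro a b hab
    apply hρ
    have := congrArg Subtype.val hab
    simpa using this
  -- numerics
  have hmul : finrank K (AdjoinRoot (minpoly K z)) * finrank (AdjoinRoot (minpoly K z)) V = n := by
    rw [Module.finrank_mul_finrank, hn]
  have hdpos : 0 < finrank K (AdjoinRoot (minpoly K z)) := Module.finrank_pos
  have hcard : Fintype.card (AdjoinRoot (minpoly K z)) = q ^ finrank K (AdjoinRoot (minpoly K z)) := by
    rw [Module.card_eq_pow_finrank (K := K), hq]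
  have hinj : Function.Injective (psi z) := RingHom.injective _
  have hroot : psi z (AdjoinRoot.root (minpoly K z)) = z := by
    rw [AdjoinRoot.root, psi_mk, aeval_X]
  have hr1 : AdjoinRoot.root (minpoly K z) ≠ 1 := by
    intro h
    apply hz1
    rw [← hroot, h, map_one]
  have hrk : AdjoinRoot.root (minpoly K z) ^ (p ^ k) = 1 := by
    apply hinj
    rw [map_pow, hroot, hzk, map_one]
  have hr0 : AdjoinRoot.root (minpoly K z) ≠ 0 := by
    intro h
    rw [h, zero_pow (pow_ne_zero _ hp.out.ne_zero)] at hrk
    exact zero_ne_one hrk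
  have hord1 : orderOf (AdjoinRoot.root (minpoly K z)) ∣ p ^ k := orderOf_dvd_of_pow_eq_one hrk
  obtain ⟨j, hj, hj2⟩ := (Nat.dvd_prime_pow hp.out).1 hord1
  have hj0 : j ≠ 0 := by
    intro h
    rw [h, pow_zero, orderOf_eq_one_iff] at hj2
    exact hr1 hj2
  have hpdvd : p ∣ orderOf (AdjoinRoot.root (minpoly K z)) := by
    rw [hj2]; exact dvd_pow_self p hj0
  have hord2 : orderOf (AdjoinRoot.root (minpoly K z)) ∣ Fintype.card (AdjoinRoot (minpoly K z)) - 1 :=
    orderOf_dvd_of_pow_eq_one (FiniteField.pow_card_sub_one_eq_one _ hr0)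
  have hpq : p ∣ q ^ finrank K (AdjoinRoot (minpoly K z)) - 1 := by
    rw [← hcard]; exact hpdvd.trans hord2
  have hqpos : 0 < q := by rw [← hq]; exact Fintype.card_pos
  have hpow : (q : ZMod p) ^ finrank K (AdjoinRoot (minpoly K z)) = 1 := by
    have h1 := (ZMod.natCast_eq_zero_iff _ _).2 hpq
    rw [Nat.cast_sub (Nat.one_le_pow _ _ hqpos), Nat.cast_pow, Nat.cast_one, sub_eq_zero] at h1
    exact h1
  have hed : e ∣ finrank K (AdjoinRoot (minpoly K z)) := by
    rw [he]; exact orderOf_dvd_of_pow_eq_one hpow
  have hele : e ≤ finrank K (AdjoinRoot (minpoly K z)) := Nat.le_of_dvd hdpos hed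
  have hepos : 0 < e := Nat.pos_of_dvd_of_pos hed hdpos
  have hm : finrank (AdjoinRoot (minpoly K z)) V ≤ n / e := by
    rw [Nat.le_div_iff_mul_le hepos, ← hmul, mul_comm]
    exact Nat.mul_le_mul_right _ hele
  apply ds_mono _ key2
  apply Nat.succ_le_succ
  exact Nat.log_mono_right hm


theorem boundE_all {p : ℕ} [hp : Fact p.Prime] [Fintype K] (q : ℕ) (hq : Fintype.card K = q)
    (hpq : ¬ p ∣ q) (e : ℕ) (he : e = orderOf (q : ZMod p)) : ∀ n, BoundE.{u, v} K p e n := by
  intro n
  induction n using Nat.strong_induction_on with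
  | _ n ih =>
  intro V _ _ _ hn G hfin hG
  by_cases htriv : ∀ g : G, g = 1
  · rw [eq_bot_iff]
    intro x _
    rw [Subgroup.mem_bot]
    exact htriv x
  · push Not at htriv
    obtain ⟨g₀, hg₀⟩ := htriv
    have hnt : Nontrivial G := ⟨⟨g₀, 1, hg₀⟩⟩
    have hcnt := hG.center_nontrivial
    obtain ⟨⟨z, hzZ⟩, hz1⟩ := exists_ne (1 : Subgroup.center G)
    have hz1G : z ≠ 1 := by
      intro h
      apply hz1
      apply Subtype.ext
      exact h
    have hzcomm : ∀ g ∈ G, ((g : (Module.End K V)ˣ) : Module.End K V) * ((z : (Module.End K V)ˣ) : Module.End K V)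
        = ((z : (Module.End K V)ˣ) : Module.End K V) * ((g : (Module.End K V)ˣ) : Module.End K V) := by
      intro g hg
      have h1 : (⟨g, hg⟩ : G) * z = z * ⟨g, hg⟩ := Subgroup.mem_center_iff.1 hzZ ⟨g, hg⟩
      have h2 := congrArg (fun u : G => (((u : (Module.End K V)ˣ) : Module.End K V))) h1
      simpa only [Subgroup.coe_mul, Units.val_mul] using h2
    obtain ⟨k, hk⟩ := hG z
    have hzk : ((z : (Module.End K V)ˣ) : Module.End K V) ^ (p ^ k) = 1 := by
      have h2 := congrArg (fun u : G => (((u : (Module.End K V)ˣ) : Module.End K V))) hk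
      simpa using h2
    have hz1' : ((z : (Module.End K V)ˣ) : Module.End K V) ≠ 1 := by
      intro h
      apply hz1G
      apply Subtype.ext
      apply Units.ext
      exact h
    by_cases hirr : Irreducible (minpoly K ((z : (Module.End K V)ˣ) : Module.End K V))
    · exact irreducible_case q hq e he hn G hG _ hzcomm k hzk hz1' hirr
    · have hntE : Nontrivial (Module.End K V) := ⟨⟨_, 1, hz1'⟩⟩
      have hnu : ¬ IsUnit (minpoly K ((z : (Module.End K V)ˣ) : Module.End K V)) :=
        minpoly.not_isUnit K _
      rw [irreducible_iff] at hirr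
      push Not at hirr
      obtain ⟨a, b, hab, ha, hb⟩ := hirr hnu
      have hpK : (p : K) ≠ 0 := by
        intro h
        apply hpq
        have : CharP K p := (CharP.charP_iff_prime_eq_zero hp.out).2 h
        obtain ⟨m, -, hm⟩ := FiniteField.card K p
        rw [← hq, hm]
        exact dvd_pow_self p m.ne_zero
      have hsep : (X ^ (p ^ k) - C (1 : K)).Separable := by
        apply separable_X_pow_sub_C 1 _ one_ne_zero
        rw [Nat.cast_pow]
        exact pow_ne_zero _ hpK
      have hdvd : minpoly K ((z : (Module.End K V)ˣ) : Module.End K V) ∣ X ^ (p ^ k) - C (1 : K) := by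
        apply minpoly.dvd
        simp [hzk]
      have hsep2 := hsep.of_dvd hdvd
      rw [hab] at hsep2
      exact reducible_case ih hn G hG _ hzcomm a b hab ha hb hsep2.isCoprime

/-- `p`-subgroups of `GL_n(q)`, `p ∤ q`, `e` the order of `q` mod `p`:
derived length at most `⌊log₂ (n / e)⌋ + 1`. -/
theorem finite_field_pgroup {F : Type*} [Field F] [Fintype F] (q : ℕ) (hF : Fintype.card F = q)
    (p : ℕ) [hp : Fact p.Prime] (hpq : ¬ p ∣ q) (n e : ℕ) (he : e = orderOf (q : ZMod p))
    (P : Subgroup (Matrix.GeneralLinearGroup (Fin n) F)) (hP : IsPGroup p P) :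
    derivedSeries ↥P (Nat.log 2 (n / e) + 1) = ⊥ := by
  let ψ : P →* (Module.End F (Fin n → F))ˣ :=
    (Matrix.GeneralLinearGroup.toLin (n := Fin n) (R := F)).toMonoidHom.comp P.subtype
  have hψ : Function.Injective ψ := by
    intro a b hab
    apply Subtype.ext
    exact (Matrix.GeneralLinearGroup.toLin (n := Fin n) (R := F)).injective hab
  have hfin : Finite ψ.range := Finite.of_surjective _ ψ.rangeRestrict_surjective
  have hpr : IsPGroup p ψ.range := hP.of_surjective _ ψ.rangeRestrict_surjective
  have hrank : finrank F (Fin n → F) = n := Module.finrank_fin_fun F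
  have key := boundE_all (K := F) q hF hpq e he n (Fin n → F) hrank ψ.range hfin hpr
  apply ds_of_injective ψ.rangeRestrict _ _ key
  intro a b hab
  apply hψ
  have := congrArg Subtype.val hab
  simpa using this

end Cfsg.Agent.Lib.Helper10.LinearPGroupFinite
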