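import Mathlib
import Cfsg.Agent.Lib.Helper10.LinearPGroup
import Cfsg.Agent.Lib.Helper10.LinearPGroupFinite

set_option autoImplicit false

namespace Cfsg.Agent.Lib.Helper10.LinearPGroupP

open Module Polynomial Cfsg.Agent.Lib.Helper10.LinearPGroup Cfsg.Agent.Lib.Helper10.LinearPGroupFinite

universe u v

variable {K : Type u} [Field K] {V : Type v} [AddCommGroup V] [Module K V]

/-- the inductive bound with a general bound function -/
def BoundF (K : Type u) [Field K] (p : ℕ) (b : ℕ → ℕ) (n : ℕ) : Prop :=
  ∀ (V : Type v) [AddCommGroup V] [Module K V] [FiniteDimensional K V], finrank K V = n →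
    ∀ (G : Subgroup (Module.End K V)ˣ), Finite G → IsPGroup p G →
      derivedSeries G (b n) = ⊥

theorem famF {p n : ℕ} {b : ℕ → ℕ} (ih : ∀ m < n, BoundF.{u, v} K p b m) [FiniteDimensional K V]
    (H : Subgroup (Module.End K V)ˣ) [Finite H] (hH : IsPGroup p H)
    {κ : Type*} (U : κ → Submodule K V) (hinv : ∀ k, Inv H (U k)) (hsup : ⨆ k, U k = ⊤) (c : ℕ)
    (hb : ∀ k, finrank K (U k) < n ∧ b (finrank K (U k)) ≤ c) :
    derivedSeries H c = ⊥ := by
  rw [eq_bot_iff]
  intro h hh
  rw [Subgroup.mem_bot]
  have hfix : ∀ k, ∀ u ∈ U k, ((h : (Module.End K V)ˣ) : Module.End K V) u = u := by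
    intro k u hu
    have hfin : Finite (resHom H (U k) (hinv k)).range :=
      Finite.of_surjective _ (resHom H (U k) (hinv k)).rangeRestrict_surjective
    have hp : IsPGroup p (resHom H (U k) (hinv k)).range :=
      hH.of_surjective _ (resHom H (U k) (hinv k)).rangeRestrict_surjective
    have h1 := ih _ (hb k).1 (U k) rfl (resHom H (U k) (hinv k)).range hfin hp
    have h2 := ds_mono (hb k).2 h1
    have h3 := ds_map_eq_one (resHom H (U k) (hinv k)) c h2 hh
    have h4 := resHom_apply H (U k) (hinv k) h ⟨u, hu⟩
    rw [h3] at h4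
    simpa using h4.symm
  have htop : ∀ v : V, ((h : (Module.End K V)ˣ) : Module.End K V) v = v := by
    intro v
    have hv : v ∈ ⨆ k, U k := by rw [hsup]; trivial
    induction hv using Submodule.iSup_induction' with
    | mem k u hu => exact hfix k u hu
    | zero => simp
    | add x y _ _ hx hy => rw [map_add, hx, hy]
  apply Subtype.ext
  apply Units.ext
  apply LinearMap.ext
  intro v
  simpa using htop v

theorem log_boundP {p d n : ℕ} (hp : 1 < p) (hd : 1 ≤ d) (h2 : p * d ≤ n) :
    Nat.log p d + 1 ≤ Nat.log p n := by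
  have h1 : Nat.log p (d * p) = Nat.log p d + 1 := Nat.log_mul_base hp (by omega)
  rw [← h1]
  exact Nat.log_mono_right (by rw [mul_comm]; exact h2)

/-- translates lying over disjoint index sets of an independent family: dimension count -/
theorem translates_bound [FiniteDimensional K V] {ι : Type*} (E : ι → Submodule K V)
    (hind : iSupIndep E) {T : Type*} [Fintype T] (U : T → Submodule K V) (I : T → Set ι)
    (hI : ∀ c c', c ≠ c' → Disjoint (I c) (I c')) (hU : ∀ c, U c ≤ ⨆ i ∈ I c, E i)
    (d : ℕ) (hd : ∀ c, finrank K (U c) = d) : Fintype.card T * d ≤ finrank K V := by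
  classical
  have key : ∀ S : Finset T, finrank K (↥(⨆ c ∈ S, U c)) = S.card * d := by
    intro S
    induction S using Finset.induction_on with
    | empty => simp
    | insert c S hc ih =>
      rw [Finset.iSup_insert, Finset.card_insert_of_notMem hc]
      have hdisj : Disjoint (U c) (⨆ c' ∈ S, U c') := by
        have h1 : (⨆ c' ∈ S, U c') ≤ ⨆ i ∈ (⋃ c' ∈ S, I c'), E i := by
          apply iSup₂_le
          intro c' hc'
          refine le_trans (hU c') ?_
          apply biSup_mono
          intro i hi
          exact Set.mem_biUnion hc' hi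
        have h2 : Disjoint (I c) (⋃ c' ∈ S, I c') := by
          rw [Set.disjoint_iUnion₂_right]
          intro c' hc'
          apply hI
          intro h
          rw [h] at hc
          exact hc hc'
        exact (hind.disjoint_biSup_biSup h2).mono (hU c) h1
      have h3 := Submodule.finrank_sup_add_finrank_inf_eq (U c) (⨆ c' ∈ S, U c')
      rw [disjoint_iff.1 hdisj, finrank_bot, add_zero, hd c, ih] at h3
      rw [h3]
      ring
  have h1 := key Finset.univ
  have h2 := Submodule.finrank_le (⨆ c ∈ (Finset.univ : Finset T), U c)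
  rw [h1, Finset.card_univ] at h2
  exact h2

open scoped commutatorElement in
theorem sysP {p n : ℕ} [hp : Fact p.Prime] (ih : ∀ m < n, BoundF.{u, v} K p (fun n => Nat.log p n + 1) m)
    [FiniteDimensional K V] (hn : finrank K V = n)
    (G : Subgroup (Module.End K V)ˣ) [Finite G] (hG : IsPGroup p G)
    {ι : Type*} (E : ι → Submodule K V) (hind : iSupIndep E) (hsup : ⨆ i, E i = ⊤)
    (hstab : ∀ g ∈ G, ∀ i, ∃ j, (E i).map ((g : (Module.End K V)ˣ) : Module.End K V) = E j)
    (i₀ : ι) (h0 : E i₀ ≠ ⊥) (h1 : E i₀ ≠ ⊤) :
    derivedSeries G (Nat.log p n + 1) = ⊥ := by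
  classical
  set E₀ := E i₀ with hE₀
  let I : Set ι := {i | ∃ g ∈ G, E i = E₀.map ((g : (Module.End K V)ˣ) : Module.End K V)}
  let W : Submodule K V := ⨆ i ∈ I, E i
  let W' : Submodule K V := ⨆ i ∈ Iᶜ, E i
  have hWW' : W ⊔ W' = ⊤ := by
    rw [← hsup]
    exact (iSup_split E (fun i => i ∈ I)).symm
  have hdisj : Disjoint W W' := hind.disjoint_biSup_biSup disjoint_compl_right
  have hi₀ : i₀ ∈ I := ⟨1, G.one_mem, by rw [map_one_units]⟩
  have hE₀W : E₀ ≤ W := le_biSup E hi₀
  have hWdesc : ∀ g ∈ G, E₀.map ((g : (Module.End K V)ˣ) : Module.End K V) ≤ W := by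
    intro g hg
    obtain ⟨j, hj⟩ := hstab g hg i₀
    have hjI : j ∈ I := ⟨g, hg, hj.symm⟩
    rw [hj]
    exact le_biSup E hjI
  have hWinv : Inv G W := by
    apply inv_of_map_le
    intro h hh
    simp only [W, Submodule.map_iSup]
    apply iSup₂_le
    intro i hi
    obtain ⟨g, hg, hgi⟩ := hi
    rw [hgi, ← map_mul_units]
    exact hWdesc _ (G.mul_mem hh hg)
  have hW'inv : Inv G W' := by
    apply inv_of_map_le
    intro h hh
    simp only [W', Submodule.map_iSup]
    apply iSup₂_le
    intro i hi
    obtain ⟨j, hj⟩ := hstab h hh i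
    have hjI : j ∈ Iᶜ := by
      intro hjI
      obtain ⟨g, hg, hgj⟩ := hjI
      apply hi
      refine ⟨h⁻¹ * g, G.mul_mem (G.inv_mem hh) hg, ?_⟩
      rw [map_mul_units, ← hgj, ← hj, map_inv_map]
    rw [hj]
    exact le_biSup E hjI
  have hW0 : W ≠ ⊥ := fun h => h0 (le_bot_iff.1 (h ▸ hE₀W))
  by_cases hWtop : W = ⊤
  · -- transitive case
    have hnil : Group.IsNilpotent G := hG.isNilpotent
    let S₀ : Subgroup G :=
      { carrier := {g | E₀.map (((g : G) : (Module.End K V)ˣ) : Module.End K V) = E₀}
        one_mem' := by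
          show E₀.map ((((1 : G) : (Module.End K V)ˣ)) : Module.End K V) = E₀
          rw [Subgroup.coe_one, map_one_units]
        mul_mem' := by
          intro a b ha hb
          show E₀.map ((((a * b : G) : (Module.End K V)ˣ)) : Module.End K V) = E₀
          rw [Subgroup.coe_mul, map_mul_units]
          rw [show E₀.map (((b : G) : (Module.End K V)ˣ) : Module.End K V) = E₀ from hb]
          exact ha
        inv_mem' := by
          intro a ha
          show E₀.map ((((a⁻¹ : G) : (Module.End K V)ˣ)) : Module.End K V) = E₀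
          rw [Subgroup.coe_inv]
          conv_lhs => rw [← show E₀.map (((a : G) : (Module.End K V)ˣ) : Module.End K V) = E₀ from ha]
          exact map_inv_map _ _ }
    have hS₀ : S₀ ≠ ⊤ := by
      intro hS
      apply h1
      have hall : ∀ g ∈ G, E₀.map ((g : (Module.End K V)ˣ) : Module.End K V) = E₀ := by
        intro g hg
        have : (⟨g, hg⟩ : G) ∈ S₀ := by rw [hS]; trivial
        exact this
      have hWle : W ≤ E₀ := by
        apply iSup₂_le
        intro i hi
        obtain ⟨g, hg, hgi⟩ := hi
        rw [hgi, hall g hg]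
      exact top_le_iff.1 (hWtop ▸ hWle)
    let M : Subgroup G := S₀ ⊔ commutator G
    have hM : M ≠ ⊤ := sup_commutator_ne_top' S₀ hS₀
    have hconj : ∀ g : G, ∀ m ∈ M, g⁻¹ * m * g ∈ M := by
      intro g m hm
      have h1 : g⁻¹ * m * g = m * ⁅m⁻¹, g⁻¹⁆ := by
        rw [commutatorElement_def]; group
      rw [h1]
      apply M.mul_mem hm
      apply (le_sup_right : commutator G ≤ M)
      rw [commutator_def]
      exact Subgroup.commutator_mem_commutator (Subgroup.mem_top _) (Subgroup.mem_top _)
    let MG : Subgroup (Module.End K V)ˣ := M.map G.subtype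
    have hMGmem : ∀ x ∈ MG, ∃ m : G, m ∈ M ∧ (m : (Module.End K V)ˣ) = x := by
      intro x hx
      obtain ⟨m, hm, rfl⟩ := hx
      exact ⟨m, hm, rfl⟩
    let U : Submodule K V := ⨆ m : M, E₀.map ((((m : G) : (Module.End K V)ˣ)) : Module.End K V)
    have hE₀U : E₀ ≤ U := by
      have h := le_iSup (fun m : M => E₀.map ((((m : G) : (Module.End K V)ˣ)) : Module.End K V)) 1
      have h1 : E₀.map (((((1 : M) : G) : (Module.End K V)ˣ)) : Module.End K V) = E₀ := by
        rw [Subgroup.coe_one, Subgroup.coe_one, map_one_units]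
      calc E₀ = _ := h1.symm
        _ ≤ U := h
    have hUM : ∀ m ∈ M, U.map ((((m : G) : (Module.End K V)ˣ)) : Module.End K V) ≤ U := by
      intro m hm
      simp only [U, Submodule.map_iSup]
      apply iSup_le
      intro m'
      rw [← map_mul_units]
      have := le_iSup (fun m : M => E₀.map ((((m : G) : (Module.End K V)ˣ)) : Module.End K V))
        (⟨m, hm⟩ * m')
      simpa using this
    have hUinv : ∀ g : G, Inv MG (U.map (((g : (Module.End K V)ˣ)) : Module.End K V)) := by
      intro g
      apply inv_of_map_le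
      intro x hx
      obtain ⟨m, hm, rfl⟩ := hMGmem x hx
      have h2 : ((m : G) : (Module.End K V)ˣ) * (g : (Module.End K V)ˣ)
          = (g : (Module.End K V)ˣ) * ((g⁻¹ * m * g : G) : (Module.End K V)ˣ) := by
        rw [← Subgroup.coe_mul, ← Subgroup.coe_mul]
        congr 1
        group
      rw [← map_mul_units, h2, map_mul_units]
      exact Submodule.map_mono (hUM _ (hconj g m hm))
    have hUsup : ⨆ g : G, U.map (((g : (Module.End K V)ˣ)) : Module.End K V) = ⊤ := by
      rw [eq_top_iff, ← hWtop]
      apply iSup₂_le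
      intro i hi
      obtain ⟨g, hg, hgi⟩ := hi
      rw [hgi]
      refine le_trans ?_ (le_iSup _ (⟨g, hg⟩ : G))
      exact Submodule.map_mono hE₀U
    have hUpos : 1 ≤ finrank K U := by
      rw [Submodule.one_le_finrank_iff]
      exact fun h => h0 (le_bot_iff.1 (h ▸ hE₀U))
    have hMn : M.Normal := ⟨fun m hm g => by
      have := hconj g⁻¹ m hm
      simpa using this⟩
    have hTp : IsPGroup p (G ⧸ M) := hG.to_quotient M
    have hTfin : Finite (G ⧸ M) := inferInstance
    let _ : Fintype (G ⧸ M) := Fintype.ofFinite _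
    have hTcard : p ≤ Fintype.card (G ⧸ M) := by
      obtain ⟨c, hc⟩ := hTp.exists_card_eq
      rw [Nat.card_eq_fintype_card] at hc
      rw [hc]
      have hc0 : c ≠ 0 := by
        intro h
        rw [h, pow_zero] at hc
        apply hM
        rw [← Subgroup.index_eq_one, Subgroup.index_eq_card, Nat.card_eq_fintype_card]
        exact hc
      exact Nat.le_self_pow hc0 p
    let rep : G ⧸ M → G := fun c => Quotient.out c
    have hrep : ∀ c : G ⧸ M, ((rep c : G) : G ⧸ M) = c := fun c => QuotientGroup.out_eq' c
    let I : G ⧸ M → Set ι := fun c =>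
      {i | ∃ m ∈ M, E i = E₀.map ((((rep c * m : G) : (Module.End K V)ˣ)) : Module.End K V)}
    have hI : ∀ c c', c ≠ c' → Disjoint (I c) (I c') := by
      intro c c' hcc'
      rw [Set.disjoint_left]
      rintro i ⟨m, hm, hmi⟩ ⟨m', hm', hmi'⟩
      apply hcc'
      have h3 : (rep c * m)⁻¹ * (rep c' * m') ∈ S₀ := by
        show E₀.map (((((rep c * m)⁻¹ * (rep c' * m') : G) : (Module.End K V)ˣ)) : Module.End K V) = E₀
        rw [Subgroup.coe_mul, map_mul_units, ← hmi', hmi, Subgroup.coe_inv, map_inv_map]
      have h4 : (rep c * m)⁻¹ * (rep c' * m') ∈ M := (le_sup_left : S₀ ≤ M) h3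
      have h5 : (rep c)⁻¹ * rep c' = m * ((rep c * m)⁻¹ * (rep c' * m')) * m'⁻¹ := by group
      have h6 : (rep c)⁻¹ * rep c' ∈ M := by
        rw [h5]
        exact M.mul_mem (M.mul_mem hm h4) (M.inv_mem hm')
      rw [← hrep c, ← hrep c']
      exact (QuotientGroup.eq).2 h6
    have hUI : ∀ c : G ⧸ M, U.map ((((rep c : G) : (Module.End K V)ˣ)) : Module.End K V)
        ≤ ⨆ i ∈ I c, E i := by
      intro c
      simp only [U, Submodule.map_iSup]
      apply iSup_le
      intro m
      rw [← map_mul_units, ← Subgroup.coe_mul]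
      obtain ⟨j, hj⟩ := hstab _ (rep c * (m : G)).2 i₀
      rw [hj]
      exact le_biSup E (⟨m, m.2, hj.symm⟩ : j ∈ I c)
    have hpU : p * finrank K U ≤ n := by
      have h3 := translates_bound E hind
        (fun c : G ⧸ M => U.map ((((rep c : G) : (Module.End K V)ˣ)) : Module.End K V)) I hI hUI
        (finrank K U) (fun c => finrank_map_units _ U)
      rw [hn] at h3
      exact le_trans (Nat.mul_le_mul_right _ hTcard) h3
    have hMGfin : Finite MG := by
      have : Finite M := inferInstance
      exact Finite.of_surjective (fun m : M => (⟨((m : G) : (Module.End K V)ˣ),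
        Subgroup.mem_map_of_mem G.subtype m.2⟩ : MG)) (by
          rintro ⟨x, hx⟩
          obtain ⟨m, hm, rfl⟩ := hx
          exact ⟨⟨m, hm⟩, rfl⟩)
    have hMGp : IsPGroup p MG := by
      intro x
      obtain ⟨k, hk⟩ := hG ⟨x.1, by
        obtain ⟨m, _, hm⟩ := hMGmem x.1 x.2
        rw [← hm]; exact m.2⟩
      refine ⟨k, ?_⟩
      apply Subtype.ext
      have := congrArg Subtype.val hk
      simpa using this
    have hMGds : derivedSeries MG (Nat.log p n) = ⊥ := by
      apply famF ih MG hMGp (fun g : G => U.map (((g : (Module.End K V)ˣ)) : Module.End K V))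
        hUinv hUsup
      intro g
      rw [finrank_map_units]
      have hp1 : 1 < p := hp.out.one_lt
      refine ⟨?_, log_boundP hp1 hUpos hpU⟩
      calc finrank K U < p * finrank K U := by
            apply (Nat.lt_mul_iff_one_lt_left (by omega)).2 hp1
        _ ≤ n := hpU
    have hMds : derivedSeries M (Nat.log p n) = ⊥ := by
      apply ds_of_injective ((G.subtype.comp M.subtype).codRestrict MG (fun m =>
        Subgroup.mem_map_of_mem G.subtype m.2)) _ _ hMGds
      intro a b hab
      have := congrArg Subtype.val hab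
      apply Subtype.ext
      apply Subtype.ext
      simpa using this
    have h5 : derivedSeries G (1 + Nat.log p n) = ⊥ := by
      apply ds_add M 1 (Nat.log p n) _ hMds
      rw [derivedSeries_one]
      exact le_sup_right
    rw [add_comm]
    exact h5
  · -- intransitive case: split
    have hW'top : W' ≠ ⊤ := by
      intro h
      apply hW0
      have := disjoint_iff.1 hdisj
      rwa [h, inf_top_eq] at this
    apply famF ih G hG (fun b : Bool => if b then W else W') _ _
    · intro b
      cases b
      · show finrank K W' < n ∧ Nat.log p (finrank K W') + 1 ≤ Nat.log p n + 1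
        have := Submodule.finrank_lt hW'top
        rw [hn] at this
        exact ⟨this, Nat.succ_le_succ (Nat.log_mono_right this.le)⟩
      · show finrank K W < n ∧ Nat.log p (finrank K W) + 1 ≤ Nat.log p n + 1
        have := Submodule.finrank_lt hWtop
        rw [hn] at this
        exact ⟨this, Nat.succ_le_succ (Nat.log_mono_right this.le)⟩
    · intro b
      cases b
      · exact hW'inv
      · exact hWinv
    · rw [iSup_bool_eq]
      simpa using hWW'

theorem bound_of_neP {p : ℕ} [hp : Fact p.Prime] [IsAlgClosed K] (hpK : (p : K) ≠ 0) :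
    ∀ n, BoundF.{u, v} K p (fun n => Nat.log p n + 1) n := by
  intro n
  induction n using Nat.strong_induction_on with
  | _ n ih =>
  intro V _ _ _ hn G hfin hG
  by_cases hab : ∀ a b : G, a * b = b * a
  · apply ds_mono (Nat.le_add_left 1 _)
    rw [derivedSeries_one, eq_bot_iff, commutator_def, Subgroup.commutator_le]
    intro a _ b _
    rw [Subgroup.mem_bot, commutatorElement_def, hab a b]
    group
  · push Not at hab
    obtain ⟨a₀, b₀, hab₀⟩ := hab
    have hVnt : Nontrivial V := by
      by_contra hV
      rw [not_nontrivial_iff_subsingleton] at hV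
      apply hab₀
      apply Subtype.ext
      apply Units.ext
      apply LinearMap.ext
      intro v
      exact Subsingleton.elim _ _
    -- every element has order prime to the characteristic
    have hsemi : ∀ y : G, ⨆ μ : K, ((y : (Module.End K V)ˣ) : Module.End K V).eigenspace μ = ⊤ := by
      intro y
      obtain ⟨k, hk⟩ := hG y
      apply iSup_eigenspace_of_pow_eq_one _ (p ^ k)
      · rw [Nat.cast_pow]; exact pow_ne_zero _ hpK
      · have := congrArg Subtype.val hk
        simpa using this
    let Z : Subgroup G := Subgroup.center G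
    by_cases hsc : ∀ z ∈ Z, ∃ c : K, ∀ v : V, (((z : G) : (Module.End K V)ˣ) : Module.End K V) v = c • v
    · -- case B
      have hZtop : Z ≠ ⊤ := by
        intro h
        apply hab₀
        have : b₀ ∈ Z := by rw [h]; trivial
        exact Subgroup.mem_center_iff.1 this a₀
      have hnt : Nontrivial (G ⧸ Z) := by
        rw [QuotientGroup.nontrivial_iff]; exact hZtop
      have hpq : IsPGroup p (G ⧸ Z) := hG.to_quotient Z
      have hcnt := hpq.center_nontrivial
      obtain ⟨⟨xb, hxb⟩, hxb1⟩ := exists_ne (1 : Subgroup.center (G ⧸ Z))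
      obtain ⟨x, rfl⟩ := QuotientGroup.mk_surjective xb
      have hxZ : x ∉ Z := by
        intro h
        apply hxb1
        apply Subtype.ext
        exact (QuotientGroup.eq_one_iff x).2 h
      have hcomm : ∀ g : G, g⁻¹ * x * g * x⁻¹ ∈ Z := by
        intro g
        rw [← QuotientGroup.eq_one_iff]
        have h1 := Subgroup.mem_center_iff.1 hxb ((g : G ⧸ Z))
        have h2 : ((g⁻¹ * x * g * x⁻¹ : G) : G ⧸ Z)
            = (g : G ⧸ Z)⁻¹ * (x : G ⧸ Z) * (g : G ⧸ Z) * (x : G ⧸ Z)⁻¹ := by
          simp
        rw [h2, mul_assoc (g : G ⧸ Z)⁻¹, ← h1]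
        group
      -- scalars
      have hrel : ∀ g : G, ∃ c : K, c ≠ 0 ∧
          ((x : (Module.End K V)ˣ) : Module.End K V) * ((g : (Module.End K V)ˣ) : Module.End K V)
            = c • (((g : (Module.End K V)ˣ) : Module.End K V) * ((x : (Module.End K V)ˣ) : Module.End K V)) := by
        intro g
        obtain ⟨c, hc⟩ := hsc _ (hcomm g)
        have hc0 : c ≠ 0 := by
          intro h0
          obtain ⟨v, hv⟩ := exists_ne (0 : V)
          have h1 := hc v
          rw [h0, zero_smul] at h1
          have h2 := congrArg ((((g⁻¹ * x * g * x⁻¹ : G)⁻¹ : G) : (Module.End K V)ˣ) : Module.End K V) h1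
          rw [map_zero, ← Module.End.mul_apply, ← Units.val_mul, ← Subgroup.coe_mul, inv_mul_cancel] at h2
          exact hv (by simpa using h2)
        refine ⟨c, hc0, ?_⟩
        have h1 : (x : (Module.End K V)ˣ) * (g : (Module.End K V)ˣ)
            = (g : (Module.End K V)ˣ) * ((g⁻¹ * x * g * x⁻¹ : G) : (Module.End K V)ˣ) * (x : (Module.End K V)ˣ) := by
          rw [← Subgroup.coe_mul, ← Subgroup.coe_mul, ← Subgroup.coe_mul]
          congr 1
          group
        have h2 := congrArg (fun u : (Module.End K V)ˣ => (u : Module.End K V)) h1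
        simp only [Units.val_mul] at h2
        rw [h2]
        apply LinearMap.ext
        intro v
        simp only [Module.End.mul_apply, LinearMap.smul_apply]
        rw [hc, map_smul]
      have hstab : ∀ g ∈ G, ∀ μ : K, ∃ μ' : K,
          (((x : (Module.End K V)ˣ) : Module.End K V).eigenspace μ).map ((g : (Module.End K V)ˣ) : Module.End K V)
            = ((x : (Module.End K V)ˣ) : Module.End K V).eigenspace μ' := by
        intro g hg μ
        obtain ⟨c, hc0, hc⟩ := hrel ⟨g, hg⟩
        refine ⟨c * μ, le_antisymm ?_ ?_⟩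
        · rintro w ⟨v, hv, rfl⟩
          rw [SetLike.mem_coe, Module.End.mem_eigenspace_iff] at hv
          rw [Module.End.mem_eigenspace_iff]
          have h1 := congrArg (fun f : Module.End K V => f v) hc
          simp only [Module.End.mul_apply, LinearMap.smul_apply] at h1
          rw [h1, hv, map_smul, smul_smul]
        · intro w hw
          rw [Module.End.mem_eigenspace_iff] at hw
          refine ⟨((g⁻¹ : (Module.End K V)ˣ) : Module.End K V) w, ?_, ?_⟩
          · rw [SetLike.mem_coe, Module.End.mem_eigenspace_iff]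
            set v := ((g⁻¹ : (Module.End K V)ˣ) : Module.End K V) w with hv
            have hgv : ((g : (Module.End K V)ˣ) : Module.End K V) v = w := by
              rw [hv, ← Module.End.mul_apply, ← Units.val_mul, mul_inv_cancel]; simp
            have h1 := congrArg (fun f : Module.End K V => f v) hc
            simp only [Module.End.mul_apply, LinearMap.smul_apply] at h1
            rw [hgv, hw] at h1
            -- (c*μ) • w = c • g (x v)
            have h2 : ((g : (Module.End K V)ˣ) : Module.End K V) (μ • v)
                = ((g : (Module.End K V)ˣ) : Module.End K V) (((x : (Module.End K V)ˣ) : Module.End K V) v) := by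
              rw [map_smul, hgv]
              have h3 : c • (μ • w) = c • ((g : (Module.End K V)ˣ) : Module.End K V) (((x : (Module.End K V)ˣ) : Module.End K V) v) := by
                rw [smul_smul]; exact h1
              exact smul_right_injective V hc0 h3
            have hinj : Function.Injective ((g : (Module.End K V)ˣ) : Module.End K V) := by
              intro a b hab
              have := congrArg ((g⁻¹ : (Module.End K V)ˣ) : Module.End K V) hab
              simpa [← Module.End.mul_apply] using this
            exact (hinj h2).symm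
          · rw [← Module.End.mul_apply, ← Units.val_mul, mul_inv_cancel]; simp
      obtain ⟨μ₀, hμ₀⟩ := exists_eigenspace_ne_bot _ (hsemi x)
      have hμ₀top : ((x : (Module.End K V)ˣ) : Module.End K V).eigenspace μ₀ ≠ ⊤ := by
        intro htop
        apply hxZ
        rw [Subgroup.mem_center_iff]
        intro g
        apply Subtype.ext
        apply Units.ext
        apply LinearMap.ext
        intro v
        simp only [Subgroup.coe_mul, Units.val_mul, Module.End.mul_apply]
        rw [apply_eq_smul_of_eigenspace_eq_top _ μ₀ htop, apply_eq_smul_of_eigenspace_eq_top _ μ₀ htop,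
          map_smul]
      exact sysP ih hn G hG (fun μ : K => ((x : (Module.End K V)ˣ) : Module.End K V).eigenspace μ)
        (Module.End.eigenspaces_iSupIndep _) (hsemi x) hstab μ₀ hμ₀ hμ₀top
    · -- case A
      push Not at hsc
      obtain ⟨z, hzZ, hz⟩ := hsc
      have hstab : ∀ g ∈ G, ∀ μ : K, ∃ μ' : K,
          (((z : (Module.End K V)ˣ) : Module.End K V).eigenspace μ).map ((g : (Module.End K V)ˣ) : Module.End K V)
            = ((z : (Module.End K V)ˣ) : Module.End K V).eigenspace μ' := by
        have hle : ∀ g ∈ G, ∀ μ : K,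
            (((z : (Module.End K V)ˣ) : Module.End K V).eigenspace μ).map ((g : (Module.End K V)ˣ) : Module.End K V)
              ≤ ((z : (Module.End K V)ˣ) : Module.End K V).eigenspace μ := by
          intro g hg μ
          rintro w ⟨v, hv, rfl⟩
          rw [SetLike.mem_coe, Module.End.mem_eigenspace_iff] at hv
          rw [Module.End.mem_eigenspace_iff]
          have h1 : (⟨g, hg⟩ : G) * z = z * ⟨g, hg⟩ := Subgroup.mem_center_iff.1 hzZ ⟨g, hg⟩
          have h2 := congrArg (fun u : G => (((u : (Module.End K V)ˣ) : Module.End K V)) v) h1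
          simp only [Subgroup.coe_mul, Units.val_mul, Module.End.mul_apply] at h2
          rw [← h2, hv, map_smul]
        intro g hg μ
        refine ⟨μ, le_antisymm (hle g hg μ) ?_⟩
        have h1 := hle g⁻¹ (G.inv_mem hg) μ
        have h2 := Submodule.map_mono (f := ((g : (Module.End K V)ˣ) : Module.End K V)) h1
        have h3 := map_inv_map g⁻¹ (((z : (Module.End K V)ˣ) : Module.End K V).eigenspace μ)
        rw [inv_inv] at h3
        rw [h3] at h2
        exact h2
      obtain ⟨μ₀, hμ₀⟩ := exists_eigenspace_ne_bot _ (hsemi z)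
      have hμ₀top : ((z : (Module.End K V)ˣ) : Module.End K V).eigenspace μ₀ ≠ ⊤ := by
        intro htop
        obtain ⟨v, hv⟩ := hz μ₀
        exact hv (apply_eq_smul_of_eigenspace_eq_top _ μ₀ htop v)
      exact sysP ih hn G hG (fun μ : K => ((z : (Module.End K V)ˣ) : Module.End K V).eigenspace μ)
        (Module.End.eigenspaces_iSupIndep _) (hsemi z) hstab μ₀ hμ₀ hμ₀top


/-- General-`V` version of the `⌊log_p n⌋ + 1` bound over an arbitrary field of characteristic
different from `p`. -/
theorem bound_generalP {E : Type*} [Field E] {W : Type*} [AddCommGroup W] [Module E W]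
    [FiniteDimensional E W] {p : ℕ} [hp : Fact p.Prime] (hpE : (p : E) ≠ 0)
    (G : Subgroup (Module.End E W)ˣ) [Finite G]
    (hG : IsPGroup p G) : derivedSeries G (Nat.log p (finrank E W) + 1) = ⊥ := by
  let b := Module.finBasis E W
  let e : (Module.End E W)ˣ ≃* Matrix.GeneralLinearGroup (Fin (finrank E W)) E :=
    Units.mapEquiv (LinearMap.toMatrixAlgEquiv b).toMulEquiv
  let L := AlgebraicClosure E
  let ψ : G →* (Module.End L (Fin (finrank E W) → L))ˣ :=
    (Matrix.GeneralLinearGroup.toLin (n := Fin (finrank E W)) (R := L)).toMonoidHom.comp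
      ((Matrix.GeneralLinearGroup.map (n := Fin (finrank E W)) (algebraMap E L)).comp
        (e.toMonoidHom.comp G.subtype))
  have hψ : Function.Injective ψ := by
    intro a b hab
    apply Subtype.ext
    apply e.injective
    apply map_GL_injective (algebraMap E L) (finrank E W)
    exact (Matrix.GeneralLinearGroup.toLin (n := Fin (finrank E W)) (R := L)).injective hab
  have hfin : Finite ψ.range := Finite.of_surjective _ ψ.rangeRestrict_surjective
  have hpr : IsPGroup p ψ.range := hG.of_surjective _ ψ.rangeRestrict_surjective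
  have hrank : finrank L (Fin (finrank E W) → L) = finrank E W := Module.finrank_fin_fun L
  have hpL : (p : L) ≠ 0 := by
    intro h
    apply hpE
    apply (algebraMap E L).injective
    rw [map_natCast, map_zero]
    exact h
  have key := bound_of_neP (K := L) (p := p) hpL (finrank E W) (Fin (finrank E W) → L) hrank
    ψ.range hfin hpr
  apply ds_of_injective ψ.rangeRestrict _ _ key
  intro a b hab
  apply hψ
  have := congrArg Subtype.val hab
  simpa using this

theorem reducible_caseP {p e n : ℕ} (ih : ∀ m < n, BoundF.{u, v} K p (fun n => Nat.log p (n / e) + 1) m)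
    [FiniteDimensional K V] (hn : finrank K V = n)
    (G : Subgroup (Module.End K V)ˣ) [Finite G] (hG : IsPGroup p G)
    (z : Module.End K V)
    (hz : ∀ g ∈ G, ((g : (Module.End K V)ˣ) : Module.End K V) * z = z * ((g : (Module.End K V)ˣ) : Module.End K V))
    (a b : K[X]) (hab : minpoly K z = a * b) (ha : ¬ IsUnit a) (hb : ¬ IsUnit b)
    (hcop : IsCoprime a b) :
    derivedSeries G (Nat.log p (n / e) + 1) = ⊥ := by
  have hint : IsIntegral K z := Algebra.IsIntegral.isIntegral z
  let U : Bool → Submodule K V := fun i => cond i (LinearMap.ker (aeval z a)) (LinearMap.ker (aeval z b))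
  have hinv : ∀ k, Inv G (U k) := by
    intro k g hg u hu
    cases k
    · show _ ∈ LinearMap.ker (aeval z b)
      have hu' : u ∈ LinearMap.ker (aeval z b) := hu
      rw [LinearMap.mem_ker] at hu' ⊢
      have h1 := commute_aeval z _ (hz g hg) b
      have h2 := congrArg (fun f : Module.End K V => f u) h1
      simp only [Module.End.mul_apply] at h2
      rw [← h2, hu', map_zero]
    · show _ ∈ LinearMap.ker (aeval z a)
      have hu' : u ∈ LinearMap.ker (aeval z a) := hu
      rw [LinearMap.mem_ker] at hu' ⊢
      have h1 := commute_aeval z _ (hz g hg) a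
      have h2 := congrArg (fun f : Module.End K V => f u) h1
      simp only [Module.End.mul_apply] at h2
      rw [← h2, hu', map_zero]
  have hsup : ⨆ k, U k = ⊤ := by
    rw [iSup_bool_eq]
    show LinearMap.ker (aeval z a) ⊔ LinearMap.ker (aeval z b) = ⊤
    rw [Polynomial.sup_ker_aeval_eq_ker_aeval_mul_of_coprime z hcop, ← hab, minpoly.aeval]
    exact LinearMap.ker_zero
  have hlt : ∀ k, finrank K (U k) < n := by
    intro k
    rw [← hn]
    apply Submodule.finrank_lt
    cases k
    · show LinearMap.ker (aeval z b) ≠ ⊤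
      exact ker_aeval_ne_top z b a (by rw [hab, mul_comm]) hint ha
    · show LinearMap.ker (aeval z a) ≠ ⊤
      exact ker_aeval_ne_top z a b hab hint hb
  apply famF ih G hG U hinv hsup
  intro k
  refine ⟨hlt k, ?_⟩
  apply Nat.succ_le_succ
  apply Nat.log_mono_right
  exact Nat.div_le_div_right (le_of_lt (hlt k))


theorem irreducible_caseP {p : ℕ} [hp : Fact p.Prime] [Fintype K] (q : ℕ) (hq : Fintype.card K = q)
    (e : ℕ) (he : e = orderOf (q : ZMod p))
    [FiniteDimensional K V] {n : ℕ} (hn : finrank K V = n)
    (G : Subgroup (Module.End K V)ˣ) [Finite G] (hG : IsPGroup p G)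
    (z : Module.End K V)
    (hz : ∀ g ∈ G, ((g : (Module.End K V)ˣ) : Module.End K V) * z = z * ((g : (Module.End K V)ˣ) : Module.End K V))
    (k : ℕ) (hzk : z ^ (p ^ k) = 1) (hz1 : z ≠ 1)
    (hirr : Irreducible (minpoly K z)) (hpK : (p : K) ≠ 0) :
    derivedSeries G (Nat.log p (n / e) + 1) = ⊥ := by
  have : Fact (Irreducible (minpoly K z)) := ⟨hirr⟩
  have : Nontrivial (Module.End K V) := ⟨⟨z, 1, hz1⟩⟩
  let _ : Module (AdjoinRoot (minpoly K z)) V := Module.compHom V (psi z)
  have hsmul : ∀ (x : AdjoinRoot (minpoly K z)) (v : V), x • v = psi z x v := fun _ _ => rfl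
  have : IsScalarTower K (AdjoinRoot (minpoly K z)) V := ⟨fun a x v => by
    rw [hsmul, hsmul]
    induction x using AdjoinRoot.induction_on with
    | ih f =>
      rw [AdjoinRoot.smul_mk, psi_mk, psi_mk, map_smul, LinearMap.smul_apply]⟩
  have : Module.Finite K (AdjoinRoot (minpoly K z)) := (AdjoinRoot.powerBasis hirr.ne_zero).finite
  have : Finite (AdjoinRoot (minpoly K z)) := Module.finite_of_finite K
  let _ : Fintype (AdjoinRoot (minpoly K z)) := Fintype.ofFinite _
  have : FiniteDimensional (AdjoinRoot (minpoly K z)) V := FiniteDimensional.right K _ V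
  -- linearity
  have hlin : ∀ g ∈ G, ∀ (x : AdjoinRoot (minpoly K z)) (v : V),
      ((g : (Module.End K V)ˣ) : Module.End K V) (x • v) = x • ((g : (Module.End K V)ˣ) : Module.End K V) v := by
    intro g hg x v
    rw [hsmul, hsmul]
    induction x using AdjoinRoot.induction_on with
    | ih f =>
      rw [psi_mk]
      have h1 := commute_aeval z _ (hz g hg) f
      have h2 := congrArg (fun F : Module.End K V => F v) h1
      simpa only [Module.End.mul_apply] using h2
  let ρ0 : G →* Module.End (AdjoinRoot (minpoly K z)) V :=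
    { toFun := fun g =>
        { toFun := fun v => ((g : (Module.End K V)ˣ) : Module.End K V) v
          map_add' := fun v w => map_add _ v w
          map_smul' := fun x v => hlin g.1 g.2 x v }
      map_one' := by ext v; simp
      map_mul' := by intro g h; ext v; simp }
  let ρ : G →* (Module.End (AdjoinRoot (minpoly K z)) V)ˣ := MonoidHom.toHomUnits ρ0
  have hρ : Function.Injective ρ := by
    intro g h hgh
    apply Subtype.ext
    apply Units.ext
    apply LinearMap.ext
    intro v
    have h1 := congrArg (fun u : (Module.End (AdjoinRoot (minpoly K z)) V)ˣ =>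
      (u : Module.End (AdjoinRoot (minpoly K z)) V) v) hgh
    exact h1
  have hfin : Finite ρ.range := Finite.of_surjective _ ρ.rangeRestrict_surjective
  have hpr : IsPGroup p ρ.range := hG.of_surjective _ ρ.rangeRestrict_surjective
  have hpE : (p : AdjoinRoot (minpoly K z)) ≠ 0 := by
    intro h
    apply hpK
    apply (algebraMap K (AdjoinRoot (minpoly K z))).injective
    rw [map_natCast, map_zero]
    exact h
  have key := bound_generalP hpE ρ.range hpr
  have key2 : derivedSeries G (Nat.log p (finrank (AdjoinRoot (minpoly K z)) V) + 1) = ⊥ := by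
    apply ds_of_injective ρ.rangeRestrict _ _ key
    intro a b hab
    apply hρ
    have := congrArg Subtype.val hab
    simpa using this
  -- numerics
  have hmul : finrank K (AdjoinRoot (minpoly K z)) * finrank (AdjoinRoot (minpoly K z)) V = n := by
    rw [Module.finrank_mul_finrank, hn]
  have hdpos : 0 < finrank K (AdjoinRoot (minpoly K z)) := Module.finrank_pos
  have hcard : Fintype.card (AdjoinRoot (minpoly K z)) = q ^ finrank K (AdjoinRoot (minpoly K z)) := by
    rw [Module.card_eq_pow_finrank (K := K), hq]
  have hinj : Function.Injective (psi z) := RingHom.injective _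
  have hroot : psi z (AdjoinRoot.root (minpoly K z)) = z := by
    rw [AdjoinRoot.root, psi_mk, aeval_X]
  have hr1 : AdjoinRoot.root (minpoly K z) ≠ 1 := by
    intro h
    apply hz1
    rw [← hroot, h, map_one]
  have hrk : AdjoinRoot.root (minpoly K z) ^ (p ^ k) = 1 := by
    apply hinj
    rw [map_pow, hroot, hzk, map_one]
  have hr0 : AdjoinRoot.root (minpoly K z) ≠ 0 := by
    intro h
    rw [h, zero_pow (pow_ne_zero _ hp.out.ne_zero)] at hrk
    exact zero_ne_one hrk
  have hord1 : orderOf (AdjoinRoot.root (minpoly K z)) ∣ p ^ k := orderOf_dvd_of_pow_eq_one hrk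
  obtain ⟨j, hj, hj2⟩ := (Nat.dvd_prime_pow hp.out).1 hord1
  have hj0 : j ≠ 0 := by
    intro h
    rw [h, pow_zero, orderOf_eq_one_iff] at hj2
    exact hr1 hj2
  have hpdvd : p ∣ orderOf (AdjoinRoot.root (minpoly K z)) := by
    rw [hj2]; exact dvd_pow_self p hj0
  have hord2 : orderOf (AdjoinRoot.root (minpoly K z)) ∣ Fintype.card (AdjoinRoot (minpoly K z)) - 1 :=
    orderOf_dvd_of_pow_eq_one (FiniteField.pow_card_sub_one_eq_one _ hr0)
  have hpq : p ∣ q ^ finrank K (AdjoinRoot (minpoly K z)) - 1 := by
    rw [← hcard]; exact hpdvd.trans hord2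
  have hqpos : 0 < q := by rw [← hq]; exact Fintype.card_pos
  have hpow : (q : ZMod p) ^ finrank K (AdjoinRoot (minpoly K z)) = 1 := by
    have h1 := (ZMod.natCast_eq_zero_iff _ _).2 hpq
    rw [Nat.cast_sub (Nat.one_le_pow _ _ hqpos), Nat.cast_pow, Nat.cast_one, sub_eq_zero] at h1
    exact h1
  have hed : e ∣ finrank K (AdjoinRoot (minpoly K z)) := by
    rw [he]; exact orderOf_dvd_of_pow_eq_one hpow
  have hele : e ≤ finrank K (AdjoinRoot (minpoly K z)) := Nat.le_of_dvd hdpos hed
  have hepos : 0 < e := Nat.pos_of_dvd_of_pos hed hdpos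
  have hm : finrank (AdjoinRoot (minpoly K z)) V ≤ n / e := by
    rw [Nat.le_div_iff_mul_le hepos, ← hmul, mul_comm]
    exact Nat.mul_le_mul_right _ hele
  apply ds_mono _ key2
  apply Nat.succ_le_succ
  exact Nat.log_mono_right hm



theorem boundE_allP {p : ℕ} [hp : Fact p.Prime] [Fintype K] (q : ℕ) (hq : Fintype.card K = q)
    (hpq : ¬ p ∣ q) (e : ℕ) (he : e = orderOf (q : ZMod p)) : ∀ n, BoundF.{u, v} K p (fun n => Nat.log p (n / e) + 1) n := by
  intro n
  induction n using Nat.strong_induction_on with
  | _ n ih =>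
  intro V _ _ _ hn G hfin hG
  by_cases htriv : ∀ g : G, g = 1
  · rw [eq_bot_iff]
    intro x _
    rw [Subgroup.mem_bot]
    exact htriv x
  · push Not at htriv
    obtain ⟨g₀, hg₀⟩ := htriv
    have hnt : Nontrivial G := ⟨⟨g₀, 1, hg₀⟩⟩
    have hcnt := hG.center_nontrivial
    obtain ⟨⟨z, hzZ⟩, hz1⟩ := exists_ne (1 : Subgroup.center G)
    have hz1G : z ≠ 1 := by
      intro h
      apply hz1
      apply Subtype.ext
      exact h
    have hzcomm : ∀ g ∈ G, ((g : (Module.End K V)ˣ) : Module.End K V) * ((z : (Module.End K V)ˣ) : Module.End K V)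
        = ((z : (Module.End K V)ˣ) : Module.End K V) * ((g : (Module.End K V)ˣ) : Module.End K V) := by
      intro g hg
      have h1 : (⟨g, hg⟩ : G) * z = z * ⟨g, hg⟩ := Subgroup.mem_center_iff.1 hzZ ⟨g, hg⟩
      have h2 := congrArg (fun u : G => (((u : (Module.End K V)ˣ) : Module.End K V))) h1
      simpa only [Subgroup.coe_mul, Units.val_mul] using h2
    obtain ⟨k, hk⟩ := hG z
    have hzk : ((z : (Module.End K V)ˣ) : Module.End K V) ^ (p ^ k) = 1 := by
      have h2 := congrArg (fun u : G => (((u : (Module.End K V)ˣ) : Module.End K V))) hk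
      simpa using h2
    have hz1' : ((z : (Module.End K V)ˣ) : Module.End K V) ≠ 1 := by
      intro h
      apply hz1G
      apply Subtype.ext
      apply Units.ext
      exact h
    have hpK : (p : K) ≠ 0 := by
      intro h
      apply hpq
      have : CharP K p := (CharP.charP_iff_prime_eq_zero hp.out).2 h
      obtain ⟨m, -, hm⟩ := FiniteField.card K p
      rw [← hq, hm]
      exact dvd_pow_self p m.ne_zero
    by_cases hirr : Irreducible (minpoly K ((z : (Module.End K V)ˣ) : Module.End K V))
    · exact irreducible_caseP q hq e he hn G hG _ hzcomm k hzk hz1' hirr hpK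
    · have hntE : Nontrivial (Module.End K V) := ⟨⟨_, 1, hz1'⟩⟩
      have hnu : ¬ IsUnit (minpoly K ((z : (Module.End K V)ˣ) : Module.End K V)) :=
        minpoly.not_isUnit K _
      rw [irreducible_iff] at hirr
      push Not at hirr
      obtain ⟨a, b, hab, ha, hb⟩ := hirr hnu
      have hsep : (X ^ (p ^ k) - C (1 : K)).Separable := by
        apply separable_X_pow_sub_C 1 _ one_ne_zero
        rw [Nat.cast_pow]
        exact pow_ne_zero _ hpK
      have hdvd : minpoly K ((z : (Module.End K V)ˣ) : Module.End K V) ∣ X ^ (p ^ k) - C (1 : K) := by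
        apply minpoly.dvd
        simp [hzk]
      have hsep2 := hsep.of_dvd hdvd
      rw [hab] at hsep2
      exact reducible_caseP ih hn G hG _ hzcomm a b hab ha hb hsep2.isCoprime


/-- `p`-subgroups of `GL_n(q)`, `p ∤ q`, `e` the order of `q` mod `p`:
derived length at most `⌊log₂ (n / e)⌋ + 1`. -/
theorem finite_field_pgroupP {F : Type*} [Field F] [Fintype F] (q : ℕ) (hF : Fintype.card F = q)
    (p : ℕ) [hp : Fact p.Prime] (hpq : ¬ p ∣ q) (n e : ℕ) (he : e = orderOf (q : ZMod p))
    (P : Subgroup (Matrix.GeneralLinearGroup (Fin n) F)) (hP : IsPGroup p P) :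
    derivedSeries ↥P (Nat.log p (n / e) + 1) = ⊥ := by
  let ψ : P →* (Module.End F (Fin n → F))ˣ :=
    (Matrix.GeneralLinearGroup.toLin (n := Fin n) (R := F)).toMonoidHom.comp P.subtype
  have hψ : Function.Injective ψ := by
    intro a b hab
    apply Subtype.ext
    exact (Matrix.GeneralLinearGroup.toLin (n := Fin n) (R := F)).injective hab
  have hfin : Finite ψ.range := Finite.of_surjective _ ψ.rangeRestrict_surjective
  have hpr : IsPGroup p ψ.range := hP.of_surjective _ ψ.rangeRestrict_surjective
  have hrank : finrank F (Fin n → F) = n := Module.finrank_fin_fun F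
  have key := boundE_allP (K := F) q hF hpq e he n (Fin n → F) hrank ψ.range hfin hpr
  apply ds_of_injective ψ.rangeRestrict _ _ key
  intro a b hab
  apply hψ
  have := congrArg Subtype.val hab
  simpa using this



end Cfsg.Agent.Lib.Helper10.LinearPGroupP
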