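import Mathlib
import Cfsg.Agent.Lib.Helper10.LinearPGroup

set_option autoImplicit false

namespace Cfsg.Agent.Lib.Helper10.WreathLinear

open Module Cfsg.Agent.Lib.Helper10.LinearPGroup

universe u

theorem ds_succ_eq_map {G : Type*} [Group G] (j : ℕ) :
    derivedSeries G (j + 1) = (derivedSeries (derivedSeries G 1) j).map (derivedSeries G 1).subtype := by
  induction j with
  | zero =>
    rw [derivedSeries_zero, ← MonoidHom.range_eq_map, Subgroup.range_subtype]
  | succ j ih =>
    rw [derivedSeries_succ, ih, derivedSeries_succ (G := ↥(derivedSeries G 1)), Subgroup.map_commutator]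

open scoped commutatorElement in
theorem wreath_ds_ne_bot {D Q : Type*} [Group D] [CommGroup Q] [Nontrivial Q] (j : ℕ)
    (h : derivedSeries D j ≠ ⊥) : derivedSeries (RegularWreathProduct D Q) (j + 1) ≠ ⊥ := by
  classical
  obtain ⟨q₀, hq₀⟩ := exists_ne (1 : Q)
  have hright : ∀ g ∈ derivedSeries (RegularWreathProduct D Q) 1, g.right = 1 := by
    intro g hg
    rw [derivedSeries_one] at hg
    have := Abelianization.commutator_subset_ker (RegularWreathProduct.rightHom : RegularWreathProduct D Q →* Q) hg
    exact this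
  let ev : ↥(derivedSeries (RegularWreathProduct D Q) 1) →* D :=
    { toFun := fun g => g.1.left 1
      map_one' := rfl
      map_mul' := by
        intro a b
        show (a.1 * b.1).left 1 = a.1.left 1 * b.1.left 1
        rw [RegularWreathProduct.mul_left, hright a.1 a.2]
        simp }
  have hsurj : Function.Surjective ev := by
    intro x
    let g₁ : RegularWreathProduct D Q := ⟨Pi.mulSingle 1 x, 1⟩
    let g₂ : RegularWreathProduct D Q := RegularWreathProduct.inl q₀
    have hc : ⁅g₁, g₂⁆ ∈ derivedSeries (RegularWreathProduct D Q) 1 := by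
      rw [derivedSeries_one, commutator_def]
      exact Subgroup.commutator_mem_commutator (Subgroup.mem_top _) (Subgroup.mem_top _)
    refine ⟨⟨⁅g₁, g₂⁆, hc⟩, ?_⟩
    show (⁅g₁, g₂⁆).left 1 = x
    rw [commutatorElement_def]
    simp only [RegularWreathProduct.mul_left, RegularWreathProduct.inv_left,
      RegularWreathProduct.mul_right, RegularWreathProduct.inv_right, g₁, g₂,
      RegularWreathProduct.left_inl, RegularWreathProduct.right_inl, Pi.mul_apply, Pi.inv_apply,
      Pi.one_apply]
    have hne : q₀⁻¹ ≠ 1 := by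
      intro h
      apply hq₀
      rw [inv_eq_one] at h
      exact h
    simp [hne]
  intro hbot
  rw [ds_succ_eq_map, Subgroup.map_eq_bot_iff_of_injective _ (Subgroup.subtype_injective _)] at hbot
  apply h
  rw [← map_derivedSeries_eq hsurj, hbot, Subgroup.map_bot]

variable {F : Type u} [Field F]

/-- the induced (wreath) representation on `Q → W` -/
noncomputable def wrRep0 {D Q : Type*} [Group D] [Group Q] {W : Type*} [AddCommGroup W] [Module F W]
    (ρ : D →* (Module.End F W)ˣ) : RegularWreathProduct D Q →* Module.End F (Q → W) where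
  toFun w :=
    { toFun := fun φ x => ((ρ (w.left x) : (Module.End F W)ˣ) : Module.End F W) (φ (w.right⁻¹ * x))
      map_add' := by
        intro φ ψ
        funext x
        simp
      map_smul' := by
        intro c φ
        funext x
        simp }
  map_one' := by
    apply LinearMap.ext
    intro φ
    funext x
    simp
  map_mul' := by
    intro a b
    apply LinearMap.ext
    intro φ
    funext x
    simp [RegularWreathProduct.mul_left, mul_assoc]

noncomputable def wrRep {D Q : Type*} [Group D] [Group Q] {W : Type*} [AddCommGroup W] [Module F W]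
    (ρ : D →* (Module.End F W)ˣ) : RegularWreathProduct D Q →* (Module.End F (Q → W))ˣ :=
  MonoidHom.toHomUnits (wrRep0 ρ)

theorem wrRep_apply {D Q : Type*} [Group D] [Group Q] {W : Type*} [AddCommGroup W] [Module F W]
    (ρ : D →* (Module.End F W)ˣ) (w : RegularWreathProduct D Q) (φ : Q → W) (x : Q) :
    ((wrRep ρ w : (Module.End F (Q → W))ˣ) : Module.End F (Q → W)) φ x
      = ((ρ (w.left x) : (Module.End F W)ˣ) : Module.End F W) (φ (w.right⁻¹ * x)) := rfl

theorem wrRep_injective {D Q : Type*} [Group D] [Group Q] {W : Type*} [AddCommGroup W] [Module F W]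
    [Nontrivial W] (ρ : D →* (Module.End F W)ˣ) (hρ : Function.Injective ρ) :
    Function.Injective (wrRep (Q := Q) ρ) := by
  classical
  rw [injective_iff_map_eq_one]
  intro w hw
  have key : ∀ (φ : Q → W) (x : Q),
      ((ρ (w.left x) : (Module.End F W)ˣ) : Module.End F W) (φ (w.right⁻¹ * x)) = φ x := by
    intro φ x
    rw [← wrRep_apply, hw]
    simp
  have hr : w.right = 1 := by
    by_contra hne
    obtain ⟨v, hv⟩ := exists_ne (0 : W)
    have h1 := key (Pi.single 1 v) 1
    have hne' : w.right⁻¹ * 1 ≠ 1 := by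
      rw [mul_one]
      intro h
      apply hne
      rw [inv_eq_one] at h
      exact h
    rw [Pi.single_eq_of_ne hne', map_zero, Pi.single_eq_same] at h1
    exact hv h1.symm
  have hl : ∀ x, w.left x = 1 := by
    intro x
    apply hρ
    rw [map_one]
    apply Units.ext
    apply LinearMap.ext
    intro v
    have h1 := key (Pi.single x v) x
    rw [hr, inv_one, one_mul, Pi.single_eq_same] at h1
    simpa using h1
  apply RegularWreathProduct.ext
  · funext x
    exact hl x
  · exact hr

/-- there is a `p`-subgroup of `GL(W)`, `dim W = d`, whose `j`-th derived subgroup is nontrivial -/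
def HasRep (F : Type u) [Field F] (p j d : ℕ) : Prop :=
  ∃ (W : Type u) (_ : AddCommGroup W) (_ : Module F W) (_ : FiniteDimensional F W),
    finrank F W = d ∧ ∃ Q : Subgroup (Module.End F W)ˣ, Finite Q ∧ IsPGroup p Q ∧
      derivedSeries Q j ≠ ⊥

theorem hasRep_step {p : ℕ} [hp : Fact p.Prime] {j d : ℕ} (h : HasRep F p j d) :
    HasRep F p (j + 1) (p * d) := by
  obtain ⟨W, _, _, _, hd, Q, hQfin, hQp, hQds⟩ := h
  have hWnt : Nontrivial W := by
    by_contra hW
    rw [not_nontrivial_iff_subsingleton] at hW
    apply hQds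
    rw [eq_bot_iff]
    intro x _
    rw [Subgroup.mem_bot]
    apply Subtype.ext
    apply Units.ext
    apply LinearMap.ext
    intro v
    exact Subsingleton.elim _ _
  let C := Multiplicative (ZMod p)
  have hCnt : Nontrivial C := by
    have : Nontrivial (ZMod p) := ZMod.nontrivial_iff.2 hp.out.ne_one
    exact inferInstanceAs (Nontrivial (Multiplicative (ZMod p)))
  have hCfin : Finite C := inferInstanceAs (Finite (Multiplicative (ZMod p)))
  have hCcard : Nat.card C = p := by
    show Nat.card (Multiplicative (ZMod p)) = p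
    rw [Nat.card_eq_fintype_card, Fintype.card_multiplicative, ZMod.card]
  let R : RegularWreathProduct Q C →* (Module.End F (C → W))ˣ := wrRep Q.subtype
  have hR : Function.Injective R := wrRep_injective Q.subtype Q.subtype_injective
  have hfinG : Finite (RegularWreathProduct Q C) := inferInstance
  have hpG : IsPGroup p (RegularWreathProduct Q C) := by
    obtain ⟨a, ha⟩ := hQp.exists_card_eq
    apply IsPGroup.of_card (n := a * p + 1)
    rw [RegularWreathProduct.card, ha, hCcard, ← pow_mul, pow_succ]
  refine ⟨C → W, inferInstance, inferInstance, inferInstance, ?_, R.range, ?_, ?_, ?_⟩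
  · rw [Module.finrank_pi_fintype]
    simp only [Finset.sum_const, Finset.card_univ, smul_eq_mul, hd]
    congr 1
    show Fintype.card (Multiplicative (ZMod p)) = p
    rw [Fintype.card_multiplicative, ZMod.card]
  · exact Finite.of_surjective _ R.rangeRestrict_surjective
  · exact hpG.of_surjective _ R.rangeRestrict_surjective
  · intro hbot
    have h1 : derivedSeries (RegularWreathProduct Q C) (j + 1) = ⊥ := by
      apply ds_of_injective R.rangeRestrict _ _ hbot
      intro a b hab
      apply hR
      have := congrArg Subtype.val hab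
      simpa using this
    exact wreath_ds_ne_bot j hQds h1

theorem hasRep_base {p : ℕ} [hp : Fact p.Prime] [Fintype F] (q : ℕ) (hq : Fintype.card F = q)
    (hpq : ¬ p ∣ q) : HasRep F p 0 (orderOf (q : ZMod p)) := by
  set e := orderOf (q : ZMod p) with he
  have hq0 : (q : ZMod p) ≠ 0 := by
    rw [Ne, ZMod.natCast_eq_zero_iff]
    exact hpq
  have hepos : 0 < e := by
    have h1 : (q : ZMod p) = ((Units.mk0 (q : ZMod p) hq0 : (ZMod p)ˣ) : ZMod p) := rfl
    rw [he, h1, orderOf_units]
    exact orderOf_pos _
  have hqpos : 0 < q := by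
    rw [← hq]
    exact Fintype.card_pos
  have hdvd : p ∣ q ^ e - 1 := by
    rw [← ZMod.natCast_eq_zero_iff, Nat.cast_sub (Nat.one_le_pow _ _ hqpos), Nat.cast_pow,
      Nat.cast_one, he, pow_orderOf_eq_one, sub_self]
  have hcard : p ∣ Nat.card (Matrix.GeneralLinearGroup (Fin e) F) := by
    rw [Matrix.card_GL_field, hq]
    have hmem : (⟨0, hepos⟩ : Fin e) ∈ Finset.univ := Finset.mem_univ _
    refine dvd_trans ?_ (Finset.dvd_prod_of_mem _ hmem)
    simpa using hdvd
  have hfinGL : Finite (Matrix.GeneralLinearGroup (Fin e) F) := inferInstance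
  obtain ⟨c, hc⟩ := exists_prime_orderOf_dvd_card' p hcard
  let c' : (Module.End F (Fin e → F))ˣ := Matrix.GeneralLinearGroup.toLin (n := Fin e) (R := F) c
  have hc' : orderOf c' = p := by
    rw [← hc]
    exact MulEquiv.orderOf_eq (Matrix.GeneralLinearGroup.toLin (n := Fin e) (R := F)) c
  have hcardQ : Nat.card (Subgroup.zpowers c') = p := by
    rw [Nat.card_zpowers, hc']
  have hQfin : Finite (Subgroup.zpowers c') :=
    Nat.finite_of_card_ne_zero (by rw [hcardQ]; exact hp.out.ne_zero)
  refine ⟨Fin e → F, inferInstance, inferInstance, inferInstance, Module.finrank_fin_fun F,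
    Subgroup.zpowers c', hQfin, ?_, ?_⟩
  · apply IsPGroup.of_card (n := 1)
    rw [hcardQ, pow_one]
  · rw [derivedSeries_zero]
    have hne : c' ≠ 1 := by
      intro h
      rw [h, orderOf_one] at hc'
      exact hp.out.ne_one hc'.symm
    have hnt : Nontrivial (Subgroup.zpowers c') := by
      rw [Subgroup.nontrivial_iff_ne_bot]
      exact Subgroup.zpowers_ne_bot.2 hne
    exact top_ne_bot

theorem hasRep_iter {p : ℕ} [hp : Fact p.Prime] [Fintype F] (q : ℕ) (hq : Fintype.card F = q)
    (hpq : ¬ p ∣ q) (j : ℕ) : HasRep F p j (p ^ j * orderOf (q : ZMod p)) := by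
  induction j with
  | zero =>
    rw [pow_zero, one_mul]
    exact hasRep_base q hq hpq
  | succ j ih =>
    have := hasRep_step ih
    rw [← mul_assoc, ← pow_succ'] at this
    exact this

theorem hasRep_pad {p j d n : ℕ} (h : HasRep F p j d) (hdn : d ≤ n) :
    ∃ Q : Subgroup (Matrix.GeneralLinearGroup (Fin n) F), IsPGroup p Q ∧ derivedSeries Q j ≠ ⊥ := by
  obtain ⟨W, _, _, _, hd, Q, hQfin, hQp, hQds⟩ := h
  have hrk : finrank F (W × (Fin (n - d) → F)) = finrank F (Fin n → F) := by
    rw [Module.finrank_prod, hd, Module.finrank_fin_fun, Module.finrank_fin_fun]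
    omega
  let ε : (W × (Fin (n - d) → F)) ≃ₗ[F] (Fin n → F) := LinearEquiv.ofFinrankEq _ _ hrk
  let θ0 : Module.End F W →* Module.End F (Fin n → F) :=
    { toFun := fun g => ε.toLinearMap ∘ₗ (g.prodMap LinearMap.id) ∘ₗ ε.symm.toLinearMap
      map_one' := by
        apply LinearMap.ext
        intro v
        simp
      map_mul' := by
        intro g h
        apply LinearMap.ext
        intro v
        simp }
  have hθ0 : Function.Injective θ0 := by
    intro g h hgh
    apply LinearMap.ext
    intro w
    have h1 := congrArg (fun f : Module.End F (Fin n → F) => ε.symm (f (ε (w, 0)))) hgh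
    simp only [θ0, MonoidHom.coe_mk, OneHom.coe_mk, LinearMap.coe_comp, LinearEquiv.coe_coe,
      Function.comp_apply, LinearEquiv.symm_apply_apply, LinearMap.prodMap_apply] at h1
    exact congrArg Prod.fst h1
  let θ : (Module.End F W)ˣ →* (Module.End F (Fin n → F))ˣ := Units.map θ0
  have hθ : Function.Injective θ := by
    intro a b hab
    apply Units.ext
    apply hθ0
    have := congrArg (fun u : (Module.End F (Fin n → F))ˣ => (u : Module.End F (Fin n → F))) hab
    simpa [θ] using this
  let Ψ : Q →* Matrix.GeneralLinearGroup (Fin n) F :=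
    (Matrix.GeneralLinearGroup.toLin (n := Fin n) (R := F)).symm.toMonoidHom.comp (θ.comp Q.subtype)
  have hΨ : Function.Injective Ψ := by
    intro a b hab
    apply Subtype.ext
    apply hθ
    exact (Matrix.GeneralLinearGroup.toLin (n := Fin n) (R := F)).symm.injective hab
  refine ⟨Ψ.range, hQp.of_surjective _ Ψ.rangeRestrict_surjective, ?_⟩
  intro hbot
  apply hQds
  apply ds_of_injective Ψ.rangeRestrict _ _ hbot
  intro a b hab
  apply hΨ
  have := congrArg Subtype.val hab
  simpa using this

theorem sylow_ds_ne_bot [Fintype F] (p : ℕ) [hp : Fact p.Prime] (q : ℕ) (hq : Fintype.card F = q)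
    (hpq : ¬ p ∣ q) (n : ℕ) (hn : orderOf (q : ZMod p) ≤ n)
    (P : Sylow p (Matrix.GeneralLinearGroup (Fin n) F)) :
    derivedSeries ↥(P : Subgroup (Matrix.GeneralLinearGroup (Fin n) F))
      (Nat.log p (n / orderOf (q : ZMod p))) ≠ ⊥ := by
  set e := orderOf (q : ZMod p) with he
  have hq0 : (q : ZMod p) ≠ 0 := by
    rw [Ne, ZMod.natCast_eq_zero_iff]
    exact hpq
  have hepos : 0 < e := by
    have h1 : (q : ZMod p) = ((Units.mk0 (q : ZMod p) hq0 : (ZMod p)ˣ) : ZMod p) := rfl
    rw [he, h1, orderOf_units]
    exact orderOf_pos _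
  have hne : n / e ≠ 0 := by
    have := Nat.div_pos hn hepos
    omega
  have hle : p ^ Nat.log p (n / e) * e ≤ n :=
    le_trans (Nat.mul_le_mul_right _ (Nat.pow_log_le_self p hne)) (Nat.div_mul_le_self n e)
  obtain ⟨Q, hQp, hQds⟩ := hasRep_pad (hasRep_iter q hq hpq (Nat.log p (n / e))) hle
  obtain ⟨P', hP'⟩ := hQp.exists_le_sylow
  have hfinGL : Finite (Matrix.GeneralLinearGroup (Fin n) F) := inferInstance
  have hP'ds : derivedSeries ↥(P' : Subgroup (Matrix.GeneralLinearGroup (Fin n) F))
      (Nat.log p (n / e)) ≠ ⊥ := by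
    intro hbot
    apply hQds
    exact ds_of_injective (Subgroup.inclusion hP') (Subgroup.inclusion_injective hP') _ hbot
  obtain ⟨g, hg⟩ := MulAction.exists_smul_eq (Matrix.GeneralLinearGroup (Fin n) F) P' P
  intro hbot
  apply hP'ds
  subst hg
  exact ds_of_injective (Sylow.equivSMul P' g).toMonoidHom (Sylow.equivSMul P' g).injective _ hbot

end Cfsg.Agent.Lib.Helper10.WreathLinear
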