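import Mathlib
import Cfsg.Agent.Lib.Helper10.LinearPGroupP
import Cfsg.Agent.Lib.Helper10.WreathLinear

set_option autoImplicit false

namespace Cfsg.Agent.Lib.Helper10.SpSylow

open Module Cfsg.Agent.Lib.Helper10.LinearPGroup Cfsg.Agent.Lib.Helper10.WreathLinear
  Cfsg.Agent.Lib.Helper10.LinearPGroupP

universe u

variable {F : Type u} [Field F]

/-- the standard alternating form on `l ⊕ l → F`, written with Mathlib's matrix `J` -/
def om (l : Type*) [Fintype l] [DecidableEq l] (u v : l ⊕ l → F) : F :=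
  u ⬝ᵥ (Matrix.J l F).mulVec v

theorem om_eq (l : Type*) [Fintype l] [DecidableEq l] (u v : l ⊕ l → F) :
    om l u v = ∑ i : l, (u (Sum.inr i) * v (Sum.inl i) - u (Sum.inl i) * v (Sum.inr i)) := by
  unfold om
  simp only [dotProduct, Matrix.mulVec, Fintype.sum_sum_type, Matrix.J, Matrix.fromBlocks_apply₁₁,
    Matrix.fromBlocks_apply₁₂, Matrix.fromBlocks_apply₂₁, Matrix.fromBlocks_apply₂₂,
    Matrix.zero_apply, Matrix.neg_apply, Matrix.one_apply, zero_mul, Finset.sum_const_zero,
    zero_add, add_zero, neg_mul, ite_mul, one_mul, Finset.sum_neg_distrib, Finset.sum_ite_eq,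
    Finset.mem_univ, if_true]
  rw [← Finset.sum_add_distrib]
  apply Finset.sum_congr rfl
  intro i _
  ring

/-- a matrix whose linear map preserves `om` is symplectic -/
theorem mem_symplectic_of_pres (l : Type*) [Fintype l] [DecidableEq l]
    (A : Matrix (l ⊕ l) (l ⊕ l) F)
    (h : ∀ u v, om l (A.mulVec u) (A.mulVec v) = om l u v) :
    A ∈ Matrix.symplecticGroup l F := by
  rw [SymplecticGroup.mem_iff']
  ext a b
  have h1 : ∀ (M : Matrix (l ⊕ l) (l ⊕ l) F), M a b = Pi.single a 1 ⬝ᵥ M.mulVec (Pi.single b 1) := by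
    intro M
    rw [Matrix.mulVec_single_one, single_one_dotProduct]
    rfl
  rw [h1 (A.transpose * Matrix.J l F * A), h1 (Matrix.J l F)]
  have h2 := h (Pi.single a 1) (Pi.single b 1)
  unfold om at h2
  rw [← h2, ← Matrix.mulVec_mulVec, ← Matrix.mulVec_mulVec, Matrix.dotProduct_mulVec,
    Matrix.vecMul_transpose]

/-- pushing a finite 2-group of form-preserving maps along an injective monoid homomorphism
of endomorphism rings -/
theorem push {V V' : Type*} [AddCommGroup V] [Module F V] [AddCommGroup V'] [Module F V']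
    (B : V → V → F) (B' : V' → V' → F)
    (θ0 : Module.End F V →* Module.End F V') (hθ0 : Function.Injective θ0)
    (hθ : ∀ g : Module.End F V, (∀ u v, B (g u) (g v) = B u v) →
      ∀ u v, B' (θ0 g u) (θ0 g v) = B' u v)
    (Q : Subgroup (Module.End F V)ˣ) (hfin : Finite Q) (hQ2 : IsPGroup 2 Q)
    (hQB : ∀ g ∈ Q, ∀ u v, B (((g : (Module.End F V)ˣ) : Module.End F V) u)
      (((g : (Module.End F V)ˣ) : Module.End F V) v) = B u v)
    (j : ℕ) (hds : derivedSeries Q j ≠ ⊥) :
    ∃ Q' : Subgroup (Module.End F V')ˣ, Finite Q' ∧ IsPGroup 2 Q' ∧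
      (∀ g ∈ Q', ∀ u v, B' (((g : (Module.End F V')ˣ) : Module.End F V') u)
        (((g : (Module.End F V')ˣ) : Module.End F V') v) = B' u v) ∧
      derivedSeries Q' j ≠ ⊥ := by
  let θ : (Module.End F V)ˣ →* (Module.End F V')ˣ := Units.map θ0
  have hθinj : Function.Injective θ := by
    intro a b hab
    apply Units.ext
    apply hθ0
    have := congrArg (fun u : (Module.End F V')ˣ => (u : Module.End F V')) hab
    simpa [θ] using this
  let Ψ : Q →* (Module.End F V')ˣ := θ.comp Q.subtype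
  have hΨ : Function.Injective Ψ := by
    intro a b hab
    apply Subtype.ext
    exact hθinj hab
  refine ⟨Ψ.range, Finite.of_surjective _ Ψ.rangeRestrict_surjective,
    hQ2.of_surjective _ Ψ.rangeRestrict_surjective, ?_, ?_⟩
  · rintro g ⟨q, rfl⟩ u v
    exact hθ _ (hQB q.1 q.2) u v
  · intro hbot
    apply hds
    apply ds_of_injective Ψ.rangeRestrict _ _ hbot
    intro a b hab
    apply hΨ
    have := congrArg Subtype.val hab
    simpa using this

/-- conjugation by a linear equivalence, as a monoid homomorphism -/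
def conjHom {V V' : Type*} [AddCommGroup V] [Module F V] [AddCommGroup V'] [Module F V']
    (ε : V ≃ₗ[F] V') : Module.End F V →* Module.End F V' where
  toFun g := ε.toLinearMap ∘ₗ g ∘ₗ ε.symm.toLinearMap
  map_one' := by
    apply LinearMap.ext
    intro v
    simp
  map_mul' := by
    intro g h
    apply LinearMap.ext
    intro v
    simp

theorem conjHom_apply {V V' : Type*} [AddCommGroup V] [Module F V] [AddCommGroup V'] [Module F V']
    (ε : V ≃ₗ[F] V') (g : Module.End F V) (v : V') : conjHom ε g v = ε (g (ε.symm v)) := rfl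

theorem conjHom_injective {V V' : Type*} [AddCommGroup V] [Module F V] [AddCommGroup V']
    [Module F V'] (ε : V ≃ₗ[F] V') : Function.Injective (conjHom ε) := by
  intro g h hgh
  apply LinearMap.ext
  intro w
  have h1 := congrArg (fun f : Module.End F V' => ε.symm (f (ε w))) hgh
  simpa [conjHom_apply] using h1

/-- transport along a linear equivalence compatible with the forms -/
theorem transport {V V' : Type*} [AddCommGroup V] [Module F V] [AddCommGroup V'] [Module F V']
    (ε : V ≃ₗ[F] V') (B : V → V → F) (B' : V' → V' → F)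
    (hB : ∀ u v, B' (ε u) (ε v) = B u v)
    (Q : Subgroup (Module.End F V)ˣ) (hfin : Finite Q) (hQ2 : IsPGroup 2 Q)
    (hQB : ∀ g ∈ Q, ∀ u v, B (((g : (Module.End F V)ˣ) : Module.End F V) u)
      (((g : (Module.End F V)ˣ) : Module.End F V) v) = B u v)
    (j : ℕ) (hds : derivedSeries Q j ≠ ⊥) :
    ∃ Q' : Subgroup (Module.End F V')ˣ, Finite Q' ∧ IsPGroup 2 Q' ∧
      (∀ g ∈ Q', ∀ u v, B' (((g : (Module.End F V')ˣ) : Module.End F V') u)
        (((g : (Module.End F V')ˣ) : Module.End F V') v) = B' u v) ∧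
      derivedSeries Q' j ≠ ⊥ := by
  apply push B B' (conjHom ε) (conjHom_injective ε) _ Q hfin hQ2 hQB j hds
  intro g hg u v
  rw [conjHom_apply, conjHom_apply, hB, hg, ← hB, LinearEquiv.apply_symm_apply,
    LinearEquiv.apply_symm_apply]

/-- there is a finite 2-group of symplectic maps of the standard `2d`-dimensional symplectic
space whose `j`-th derived subgroup is nontrivial -/
def HasSp (F : Type u) [Field F] (j d : ℕ) : Prop :=
  ∃ (l : Type) (_ : Fintype l) (_ : DecidableEq l), Fintype.card l = d ∧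
    ∃ Q : Subgroup (Module.End F (l ⊕ l → F))ˣ, Finite Q ∧ IsPGroup 2 Q ∧
      (∀ g ∈ Q, ∀ u v, om l (((g : (Module.End F (l ⊕ l → F))ˣ) : Module.End F (l ⊕ l → F)) u)
        (((g : (Module.End F (l ⊕ l → F))ˣ) : Module.End F (l ⊕ l → F)) v) = om l u v) ∧
      derivedSeries Q j ≠ ⊥

/-- the wreath reindexing -/
def wrEquiv (C l : Type*) : (C → (l ⊕ l → F)) ≃ₗ[F] ((C × l) ⊕ (C × l) → F) where
  toFun φ := Sum.elim (fun xi : C × l => φ xi.1 (Sum.inl xi.2)) (fun xi => φ xi.1 (Sum.inr xi.2))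
  invFun χ := fun x => Sum.elim (fun i => χ (Sum.inl (x, i))) (fun i => χ (Sum.inr (x, i)))
  map_add' := by
    intro φ ψ
    funext s
    rcases s with s | s <;> rfl
  map_smul' := by
    intro c φ
    funext s
    rcases s with s | s <;> rfl
  left_inv := by
    intro φ
    funext x s
    rcases s with s | s <;> rfl
  right_inv := by
    intro χ
    funext s
    rcases s with s | s <;> rfl

theorem om_wrEquiv (C l : Type*) [Fintype C] [DecidableEq C] [Fintype l] [DecidableEq l]
    (φ ψ : C → (l ⊕ l → F)) :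
    om (C × l) (wrEquiv C l φ) (wrEquiv C l ψ) = ∑ x : C, om l (φ x) (ψ x) := by
  rw [om_eq, Fintype.sum_prod_type]
  apply Finset.sum_congr rfl
  intro x _
  rw [om_eq]
  rfl

/-- the padding reindexing -/
def padEquiv (l l' : Type*) :
    ((l ⊕ l → F) × (l' ⊕ l' → F)) ≃ₗ[F] ((l ⊕ l') ⊕ (l ⊕ l') → F) where
  toFun w := Sum.elim (Sum.elim (fun i => w.1 (Sum.inl i)) (fun i => w.2 (Sum.inl i)))
    (Sum.elim (fun i => w.1 (Sum.inr i)) (fun i => w.2 (Sum.inr i)))
  invFun χ := (Sum.elim (fun i => χ (Sum.inl (Sum.inl i))) (fun i => χ (Sum.inr (Sum.inl i))),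
    Sum.elim (fun i => χ (Sum.inl (Sum.inr i))) (fun i => χ (Sum.inr (Sum.inr i))))
  map_add' := by
    intro φ ψ
    funext s
    rcases s with (s | s) | (s | s) <;> rfl
  map_smul' := by
    intro c φ
    funext s
    rcases s with (s | s) | (s | s) <;> rfl
  left_inv := by
    intro φ
    apply Prod.ext
    · funext s
      rcases s with s | s <;> rfl
    · funext s
      rcases s with s | s <;> rfl
  right_inv := by
    intro χ
    funext s
    rcases s with (s | s) | (s | s) <;> rfl

theorem om_padEquiv (l l' : Type*) [Fintype l] [DecidableEq l] [Fintype l'] [DecidableEq l']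
    (w z : (l ⊕ l → F) × (l' ⊕ l' → F)) :
    om (l ⊕ l') (padEquiv l l' w) (padEquiv l l' z) = om l w.1 z.1 + om l' w.2 z.2 := by
  rw [om_eq, om_eq, om_eq, Fintype.sum_sum_type]
  rfl

/-- reindexing along an equivalence of index types -/
def reEquiv {l l' : Type*} (e : l ≃ l') : (l ⊕ l → F) ≃ₗ[F] (l' ⊕ l' → F) where
  toFun u := fun s => u (Sum.map e.symm e.symm s)
  invFun u := fun s => u (Sum.map e e s)
  map_add' := by
    intro φ ψ
    rfl
  map_smul' := by
    intro c φ
    rfl
  left_inv := by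
    intro φ
    funext s
    rcases s with s | s <;> simp
  right_inv := by
    intro χ
    funext s
    rcases s with s | s <;> simp

theorem om_reEquiv {l l' : Type*} [Fintype l] [DecidableEq l] [Fintype l'] [DecidableEq l']
    (e : l ≃ l') (u v : l ⊕ l → F) :
    om l' (reEquiv e u) (reEquiv e v) = om l u v := by
  rw [om_eq, om_eq]
  rw [← Equiv.sum_comp e]
  apply Finset.sum_congr rfl
  intro i _
  simp [reEquiv]

theorem hasSp_step {j d : ℕ} (h : HasSp F j d) : HasSp F (j + 1) (2 * d) := by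
  classical
  obtain ⟨l, _, _, hd, Q, hQfin, hQp, hQB, hQds⟩ := h
  have hWnt : Nontrivial (l ⊕ l → F) := by
    by_contra hW
    rw [not_nontrivial_iff_subsingleton] at hW
    apply hQds
    rw [eq_bot_iff]
    intro x _
    rw [Subgroup.mem_bot]
    apply Subtype.ext
    apply Units.ext
    apply LinearMap.ext
    intro v
    exact Subsingleton.elim _ _
  let C := Multiplicative (ZMod 2)
  have hCnt : Nontrivial C := inferInstanceAs (Nontrivial (Multiplicative (ZMod 2)))
  have hCfin : Finite C := inferInstanceAs (Finite (Multiplicative (ZMod 2)))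
  let _ : Fintype C := inferInstanceAs (Fintype (Multiplicative (ZMod 2)))
  let _ : DecidableEq C := inferInstanceAs (DecidableEq (Multiplicative (ZMod 2)))
  have hCcard : Fintype.card C = 2 := by
    show Fintype.card (Multiplicative (ZMod 2)) = 2
    rw [Fintype.card_multiplicative, ZMod.card]
  let R : RegularWreathProduct Q C →* (Module.End F (C → (l ⊕ l → F)))ˣ := wrRep Q.subtype
  have hR : Function.Injective R := wrRep_injective Q.subtype Q.subtype_injective
  have hfinG : Finite (RegularWreathProduct Q C) := inferInstance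
  have hpG : IsPGroup 2 (RegularWreathProduct Q C) := by
    obtain ⟨a, ha⟩ := hQp.exists_card_eq
    apply IsPGroup.of_card (n := a * 2 + 1)
    rw [RegularWreathProduct.card, ha, Nat.card_eq_fintype_card (α := C), hCcard, ← pow_mul, pow_succ]
  -- the intermediate form
  let B₁ : (C → (l ⊕ l → F)) → (C → (l ⊕ l → F)) → F := fun φ ψ => ∑ x : C, om l (φ x) (ψ x)
  have hB₁ : ∀ g ∈ R.range, ∀ φ ψ,
      B₁ (((g : (Module.End F (C → (l ⊕ l → F)))ˣ) : Module.End F (C → (l ⊕ l → F))) φ)
        (((g : (Module.End F (C → (l ⊕ l → F)))ˣ) : Module.End F (C → (l ⊕ l → F))) ψ) = B₁ φ ψ := by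
    rintro g ⟨w, rfl⟩ φ ψ
    show ∑ x : C, om l _ _ = ∑ x : C, om l (φ x) (ψ x)
    have h1 : ∀ x : C, om l (((R w : (Module.End F (C → (l ⊕ l → F)))ˣ) :
          Module.End F (C → (l ⊕ l → F))) φ x)
        (((R w : (Module.End F (C → (l ⊕ l → F)))ˣ) : Module.End F (C → (l ⊕ l → F))) ψ x)
        = om l (φ (w.right⁻¹ * x)) (ψ (w.right⁻¹ * x)) := by
      intro x
      rw [wrRep_apply, wrRep_apply]
      exact hQB (w.left x).1 (w.left x).2 _ _
    rw [Finset.sum_congr rfl (fun x _ => h1 x)]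
    exact Fintype.sum_equiv (Equiv.mulLeft w.right⁻¹) _ _ (fun x => rfl)
  have hds₁ : derivedSeries R.range (j + 1) ≠ ⊥ := by
    intro hbot
    have h1 : derivedSeries (RegularWreathProduct Q C) (j + 1) = ⊥ := by
      apply ds_of_injective R.rangeRestrict _ _ hbot
      intro a b hab
      apply hR
      have := congrArg Subtype.val hab
      simpa using this
    exact wreath_ds_ne_bot j hQds h1
  obtain ⟨Q', hQ'fin, hQ'p, hQ'B, hQ'ds⟩ := transport (wrEquiv C l) B₁ (om (C × l))
    (fun φ ψ => om_wrEquiv C l φ ψ) R.range (Finite.of_surjective _ R.rangeRestrict_surjective)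
    (hpG.of_surjective _ R.rangeRestrict_surjective) hB₁ (j + 1) hds₁
  refine ⟨C × l, inferInstance, inferInstance, ?_, Q', hQ'fin, hQ'p, hQ'B, hQ'ds⟩
  rw [Fintype.card_prod, hCcard, hd]

theorem hasSp_pad {j d : ℕ} (h : HasSp F j d) (m : ℕ) : HasSp F j (d + m) := by
  classical
  obtain ⟨l, _, _, hd, Q, hQfin, hQp, hQB, hQds⟩ := h
  let B₁ : ((l ⊕ l → F) × (Fin m ⊕ Fin m → F)) → ((l ⊕ l → F) × (Fin m ⊕ Fin m → F)) → F :=
    fun w z => om l w.1 z.1 + om (Fin m) w.2 z.2
  let θ0 : Module.End F (l ⊕ l → F) →* Module.End F ((l ⊕ l → F) × (Fin m ⊕ Fin m → F)) :=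
    { toFun := fun g => g.prodMap LinearMap.id
      map_one' := by
        apply LinearMap.ext
        intro v
        simp
      map_mul' := by
        intro g h
        apply LinearMap.ext
        intro v
        simp }
  have hθ0 : Function.Injective θ0 := by
    intro g h hgh
    apply LinearMap.ext
    intro w
    have h1 := congrArg (fun f : Module.End F ((l ⊕ l → F) × (Fin m ⊕ Fin m → F)) => (f (w, 0)).1) hgh
    simpa [θ0] using h1
  obtain ⟨Q₁, hQ₁fin, hQ₁p, hQ₁B, hQ₁ds⟩ := push (om l) B₁ θ0 hθ0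
    (by
      intro g hg u v
      show om l (g u.1) (g v.1) + om (Fin m) u.2 v.2 = _
      rw [hg]) Q hQfin hQp hQB j hQds
  obtain ⟨Q', hQ'fin, hQ'p, hQ'B, hQ'ds⟩ := transport (padEquiv l (Fin m)) B₁ (om (l ⊕ Fin m))
    (fun w z => om_padEquiv l (Fin m) w z) Q₁ hQ₁fin hQ₁p hQ₁B j hQ₁ds
  refine ⟨l ⊕ Fin m, inferInstance, inferInstance, ?_, Q', hQ'fin, hQ'p, hQ'B, hQ'ds⟩
  rw [Fintype.card_sum, hd, Fintype.card_fin]


theorem hasSp_fin {j n : ℕ} (h : HasSp F j n) :
    ∃ Q : Subgroup (Module.End F (Fin n ⊕ Fin n → F))ˣ, Finite Q ∧ IsPGroup 2 Q ∧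
      (∀ g ∈ Q, ∀ u v, om (Fin n)
        (((g : (Module.End F (Fin n ⊕ Fin n → F))ˣ) : Module.End F (Fin n ⊕ Fin n → F)) u)
        (((g : (Module.End F (Fin n ⊕ Fin n → F))ˣ) : Module.End F (Fin n ⊕ Fin n → F)) v)
          = om (Fin n) u v) ∧
      derivedSeries Q j ≠ ⊥ := by
  classical
  obtain ⟨l, _, _, hd, Q, hQfin, hQp, hQB, hQds⟩ := h
  let e : l ≃ Fin n := Fintype.equivFinOfCardEq hd
  have key := transport (reEquiv (F := F) e) (om l) (om (Fin n)) (fun u v => om_reEquiv e u v) Q hQfin hQp hQB j hQds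
  exact key


/-- the subgroup of units preserving a "form" -/
def presSubgroup {V : Type*} [AddCommGroup V] [Module F V] (B : V → V → F) :
    Subgroup (Module.End F V)ˣ where
  carrier := {g | ∀ u v, B (((g : (Module.End F V)ˣ) : Module.End F V) u)
    (((g : (Module.End F V)ˣ) : Module.End F V) v) = B u v}
  mul_mem' := by
    intro a b ha hb u v
    rw [Units.val_mul, Module.End.mul_apply, Module.End.mul_apply, ha, hb]
  one_mem' := by
    intro u v
    rfl
  inv_mem' := by
    intro a ha u v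
    have h1 : ∀ w, ((a : (Module.End F V)ˣ) : Module.End F V)
        (((a⁻¹ : (Module.End F V)ˣ) : Module.End F V) w) = w := by
      intro w
      rw [← Module.End.mul_apply, Units.mul_inv, Module.End.one_apply]
    have h2 := ha (((a⁻¹ : (Module.End F V)ˣ) : Module.End F V) u)
      (((a⁻¹ : (Module.End F V)ˣ) : Module.End F V) v)
    rw [h1, h1] at h2
    exact h2.symm

/-- the base reindexing -/
def baseEquiv : (Fin 2 → F) ≃ₗ[F] (Unit ⊕ Unit → F) where
  toFun u := Sum.elim (fun _ => u 0) (fun _ => u 1)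
  invFun w := ![w (Sum.inl ()), w (Sum.inr ())]
  map_add' := by
    intro φ ψ
    funext s
    rcases s with s | s <;> rfl
  map_smul' := by
    intro c φ
    funext s
    rcases s with s | s <;> rfl
  left_inv := by
    intro φ
    funext s
    fin_cases s <;> rfl
  right_inv := by
    intro χ
    funext s
    rcases s with s | s <;> rfl

theorem om_baseEquiv (u v : Fin 2 → F) :
    om Unit (baseEquiv u) (baseEquiv v) = u 1 * v 0 - u 0 * v 1 := by
  rw [om_eq]
  simp [baseEquiv]

theorem det_form (M : Matrix (Fin 2) (Fin 2) F) (u v : Fin 2 → F) :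
    (M.mulVec u) 1 * (M.mulVec v) 0 - (M.mulVec u) 0 * (M.mulVec v) 1
      = M.det * (u 1 * v 0 - u 0 * v 1) := by
  simp only [Matrix.mulVec, dotProduct, Fin.sum_univ_two, Matrix.det_fin_two]
  ring

/-- a quaternion-type configuration in a group generates a 2-group -/
theorem quat_isPGroup {Γ : Type*} [Group Γ] (x y : Γ) (hx : x ^ 4 = 1) (hy : y ^ 4 = 1)
    (hxy : x * y * x = y) : IsPGroup 2 (Subgroup.zpowers y ⊔ Subgroup.zpowers x : Subgroup Γ) := by
  have hpz : ∀ z : Γ, z ^ 4 = 1 → IsPGroup 2 (Subgroup.zpowers z) := by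
    intro z hz
    rintro ⟨g, hg⟩
    obtain ⟨m, rfl⟩ := Subgroup.mem_zpowers_iff.1 hg
    refine ⟨2, ?_⟩
    apply Subtype.ext
    show (z ^ m) ^ 2 ^ 2 = 1
    rw [← zpow_natCast, ← zpow_mul, mul_comm, zpow_mul, zpow_natCast]
    norm_num [hz]
  have hconj : y * x * y⁻¹ = x⁻¹ := by
    have h1 : y * x = x⁻¹ * y := by
      rw [eq_inv_mul_iff_mul_eq, ← mul_assoc]
      exact hxy
    rw [h1, mul_assoc, mul_inv_cancel, mul_one]
  have hconj' : y⁻¹ * x * y = x⁻¹ := by
    have h1 : y * x⁻¹ * y⁻¹ = x := by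
      have := congrArg (fun t => t⁻¹) hconj
      simp only [mul_inv_rev, inv_inv] at this
      rw [← mul_assoc] at this
      exact this
    calc y⁻¹ * x * y = y⁻¹ * (y * x⁻¹ * y⁻¹) * y := by rw [h1]
      _ = x⁻¹ := by group
  apply IsPGroup.to_sup_of_normal_right' (hpz y hy) (hpz x hx)
  rw [Subgroup.zpowers_le, Subgroup.mem_normalizer_iff]
  intro h
  constructor
  · intro hh
    obtain ⟨m, rfl⟩ := Subgroup.mem_zpowers_iff.1 hh
    have : y * x ^ m * y⁻¹ = (y * x * y⁻¹) ^ m := by
      rw [← MulAut.conj_apply, map_zpow, MulAut.conj_apply]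
    rw [this, hconj]
    exact Subgroup.zpow_mem _ (Subgroup.inv_mem _ (Subgroup.mem_zpowers x)) m
  · intro hh
    obtain ⟨m, hm⟩ := Subgroup.mem_zpowers_iff.1 hh
    have h1 : h = y⁻¹ * x ^ m * y := by
      rw [hm]
      group
    have : y⁻¹ * x ^ m * y = (y⁻¹ * x * y) ^ m := by
      have := map_zpow (MulAut.conj y⁻¹) x m
      simpa [MulAut.conj_apply] using this
    rw [h1, this, hconj']
    exact Subgroup.zpow_mem _ (Subgroup.inv_mem _ (Subgroup.mem_zpowers x)) m

open scoped commutatorElement in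
theorem hasSp_base [Finite F] (h2 : (2 : F) ≠ 0) : HasSp F 1 1 := by
  classical
  obtain ⟨p, hp⟩ := CharP.exists F
  have hpprime : p.Prime := CharP.char_is_prime F p
  have hne : NeZero p := ⟨hpprime.ne_zero⟩
  obtain ⟨a', b', hab'⟩ := CharP.sq_add_sq F p (-1)
  obtain ⟨a, ha⟩ : ∃ a : F, a = (a' : F) := ⟨_, rfl⟩
  obtain ⟨b, hb⟩ : ∃ b : F, b = (b' : F) := ⟨_, rfl⟩
  have hab : a ^ 2 + b ^ 2 = -1 := by
    rw [ha, hb, hab']
    simp
  let X : Matrix (Fin 2) (Fin 2) F := !![a, b; b, -a]
  let Y : Matrix (Fin 2) (Fin 2) F := !![0, 1; -1, 0]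
  have hdetX : X.det = 1 := by
    rw [Matrix.det_fin_two_of]
    linear_combination (-1 : F) * hab
  have hdetY : Y.det = 1 := by
    rw [Matrix.det_fin_two_of]
    ring
  let gX : Matrix.GeneralLinearGroup (Fin 2) F :=
    Matrix.GeneralLinearGroup.mkOfDetNeZero X (by rw [hdetX]; exact one_ne_zero)
  let gY : Matrix.GeneralLinearGroup (Fin 2) F :=
    Matrix.GeneralLinearGroup.mkOfDetNeZero Y (by rw [hdetY]; exact one_ne_zero)
  have hXX : X * X = -1 := by
    ext i j
    fin_cases i <;> fin_cases j <;> simp [X, Matrix.mul_apply, Fin.sum_univ_two] <;>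
      first | ring1 | linear_combination hab
  have hYY : Y * Y = -1 := by
    ext i j
    fin_cases i <;> fin_cases j <;> simp [Y, Matrix.mul_apply, Fin.sum_univ_two]
  have hXYX : X * Y * X = Y := by
    ext i j
    fin_cases i <;> fin_cases j <;> simp [X, Y, Matrix.mul_apply, Fin.sum_univ_two] <;>
      first | ring1 | linear_combination hab | linear_combination (-1 : F) * hab
  have hX4 : gX ^ 4 = 1 := by
    apply Units.ext
    show X ^ 4 = 1
    have : X ^ 4 = (X * X) * (X * X) := by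
      rw [pow_succ, pow_succ, pow_succ, pow_one, mul_assoc]
    rw [this, hXX]
    simp
  have hY4 : gY ^ 4 = 1 := by
    apply Units.ext
    show Y ^ 4 = 1
    have : Y ^ 4 = (Y * Y) * (Y * Y) := by
      rw [pow_succ, pow_succ, pow_succ, pow_one, mul_assoc]
    rw [this, hYY]
    simp
  have hgXYX : gX * gY * gX = gY := by
    apply Units.ext
    exact hXYX
  have hncomm : gX * gY ≠ gY * gX := by
    intro h
    have h1 : X * Y = Y * X := congrArg Units.val h
    have h00 := congrFun (congrFun h1 0) 0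
    have h01 := congrFun (congrFun h1 0) 1
    simp [X, Y, Matrix.mul_apply, Fin.sum_univ_two] at h00 h01
    -- h00 : -b = b, h01 : a = -a
    have hb0 : b = 0 := by
      have : (2 : F) * b = 0 := by linear_combination (-1 : F) * h00
      rcases mul_eq_zero.1 this with h | h
      · exact absurd h h2
      · exact h
    have ha0 : a = 0 := by
      have : (2 : F) * a = 0 := by linear_combination h01
      rcases mul_eq_zero.1 this with h | h
      · exact absurd h h2
      · exact h
    rw [ha0, hb0] at hab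
    norm_num at hab
  let T := Matrix.GeneralLinearGroup.toLin (n := Fin 2) (R := F)
  let x : (Module.End F (Fin 2 → F))ˣ := T gX
  let y : (Module.End F (Fin 2 → F))ˣ := T gY
  have hx4 : x ^ 4 = 1 := by rw [← map_pow, hX4, map_one]
  have hy4 : y ^ 4 = 1 := by rw [← map_pow, hY4, map_one]
  have hxyx : x * y * x = y := by rw [← map_mul, ← map_mul, hgXYX]
  have hxy : x * y ≠ y * x := by
    intro h
    apply hncomm
    apply T.injective
    rw [map_mul, map_mul]
    exact h
  let B₀ : (Fin 2 → F) → (Fin 2 → F) → F := fun u v => u 1 * v 0 - u 0 * v 1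
  have hpres : ∀ g : Matrix.GeneralLinearGroup (Fin 2) F,
      (g : Matrix (Fin 2) (Fin 2) F).det = 1 → T g ∈ presSubgroup B₀ := by
    intro g hg u v
    show B₀ (((T g : (Module.End F (Fin 2 → F))ˣ) : Module.End F (Fin 2 → F)) u)
      (((T g : (Module.End F (Fin 2 → F))ˣ) : Module.End F (Fin 2 → F)) v) = B₀ u v
    rw [Matrix.GeneralLinearGroup.coe_toLin]
    show ((g : Matrix (Fin 2) (Fin 2) F).mulVec u) 1 * ((g : Matrix (Fin 2) (Fin 2) F).mulVec v) 0
      - ((g : Matrix (Fin 2) (Fin 2) F).mulVec u) 0 * ((g : Matrix (Fin 2) (Fin 2) F).mulVec v) 1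
      = u 1 * v 0 - u 0 * v 1
    rw [det_form, hg, one_mul]
  have hxP : x ∈ presSubgroup B₀ := hpres gX hdetX
  have hyP : y ∈ presSubgroup B₀ := hpres gY hdetY
  let Q : Subgroup (Module.End F (Fin 2 → F))ˣ := Subgroup.zpowers y ⊔ Subgroup.zpowers x
  have hQP : Q ≤ presSubgroup B₀ :=
    sup_le ((Subgroup.zpowers_le).2 hyP) ((Subgroup.zpowers_le).2 hxP)
  have hQ2 : IsPGroup 2 Q := quat_isPGroup x y hx4 hy4 hxyx
  have hfinV : Finite (Fin 2 → F) := inferInstance
  have hfinU : Finite (Module.End F (Fin 2 → F))ˣ :=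
    Finite.of_injective (fun u : (Module.End F (Fin 2 → F))ˣ =>
      (((u : Module.End F (Fin 2 → F)) : (Fin 2 → F) → (Fin 2 → F))))
      (by
        intro u v huv
        apply Units.ext
        apply LinearMap.ext
        intro w
        exact congrFun huv w)
  have hQfin : Finite Q := inferInstance
  have hxQ : x ∈ Q := (le_sup_right : Subgroup.zpowers x ≤ Q) (Subgroup.mem_zpowers x)
  have hyQ : y ∈ Q := (le_sup_left : Subgroup.zpowers y ≤ Q) (Subgroup.mem_zpowers y)
  have hQds : derivedSeries Q 1 ≠ ⊥ := by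
    intro hbot
    have hc : ⁅(⟨x, hxQ⟩ : Q), ⟨y, hyQ⟩⁆ ∈ derivedSeries Q 1 := by
      rw [derivedSeries_one, commutator_def]
      exact Subgroup.commutator_mem_commutator (Subgroup.mem_top _) (Subgroup.mem_top _)
    rw [hbot, Subgroup.mem_bot, commutatorElement_eq_one_iff_mul_comm] at hc
    apply hxy
    exact congrArg Subtype.val hc
  obtain ⟨Q', hQ'fin, hQ'p, hQ'B, hQ'ds⟩ := transport (baseEquiv (F := F)) B₀ (om Unit)
    (fun u v => om_baseEquiv u v) Q hQfin hQ2 (fun g hg => hQP hg) 1 hQds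
  exact ⟨Unit, inferInstance, inferInstance, Fintype.card_unit, Q', hQ'fin, hQ'p, hQ'B, hQ'ds⟩

theorem hasSp_iter [Finite F] (h2 : (2 : F) ≠ 0) (s : ℕ) : HasSp F (s + 1) (2 ^ s) := by
  induction s with
  | zero => exact hasSp_base h2
  | succ s ih =>
    have := hasSp_step ih
    rw [← pow_succ'] at this
    exact this

/-- the natural map from the symplectic group to the units of the endomorphism ring -/
noncomputable def spToEnd (l : Type*) [Fintype l] [DecidableEq l] :
    Matrix.symplecticGroup l F →* (Module.End F (l ⊕ l → F))ˣ :=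
  MonoidHom.toHomUnits
    (((Matrix.toLinAlgEquiv' : Matrix (l ⊕ l) (l ⊕ l) F ≃ₐ[F] Module.End F (l ⊕ l → F)) :
        Matrix (l ⊕ l) (l ⊕ l) F →* Module.End F (l ⊕ l → F)).comp
      (Matrix.symplecticGroup l F).subtype)

theorem spToEnd_injective (l : Type*) [Fintype l] [DecidableEq l] :
    Function.Injective (spToEnd (F := F) l) := by
  intro A B hAB
  apply Subtype.ext
  have h1 := congrArg (fun u : (Module.End F (l ⊕ l → F))ˣ => (u : Module.End F (l ⊕ l → F))) hAB
  simp only [spToEnd, MonoidHom.coe_toHomUnits, MonoidHom.coe_comp, Function.comp_apply] at h1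
  exact (Matrix.toLinAlgEquiv' : Matrix (l ⊕ l) (l ⊕ l) F ≃ₐ[F] Module.End F (l ⊕ l → F)).injective h1

theorem two_ne_zero_of_odd [Fintype F] (q : ℕ) (hF : Fintype.card F = q) (hq : Odd q) :
    (2 : F) ≠ 0 := by
  intro h
  have h' : ((2 : ℕ) : F) = 0 := by exact_mod_cast h
  have : CharP F 2 := (CharP.charP_iff_prime_eq_zero Nat.prime_two).2 h'
  obtain ⟨m, -, hm⟩ := FiniteField.card F 2
  rw [hF] at hm
  rw [hm] at hq
  have : Even (2 ^ (m : ℕ)) := (Nat.even_pow.2 ⟨even_two, m.ne_zero⟩)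
  exact (Nat.not_even_iff_odd.2 hq) this

theorem sylow_sp_upper [Fintype F] (q : ℕ) (hF : Fintype.card F = q) (hq : Odd q) (n : ℕ)
    (R : Sylow 2 ↥(Matrix.symplecticGroup (Fin n) F)) :
    derivedSeries ↥(R : Subgroup ↥(Matrix.symplecticGroup (Fin n) F)) (Nat.log 2 (2 * n) + 1) = ⊥ := by
  have h2 := two_ne_zero_of_odd q hF hq
  let ψ : ↥(R : Subgroup ↥(Matrix.symplecticGroup (Fin n) F)) →* (Module.End F (Fin n ⊕ Fin n → F))ˣ :=
    (spToEnd (F := F) (Fin n)).comp (R : Subgroup ↥(Matrix.symplecticGroup (Fin n) F)).subtype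
  have hψ : Function.Injective ψ := by
    intro a b hab
    apply Subtype.ext
    exact spToEnd_injective (Fin n) hab
  have hfinSp : Finite ↥(Matrix.symplecticGroup (Fin n) F) := inferInstance
  have hfin : Finite ψ.range := Finite.of_surjective _ ψ.rangeRestrict_surjective
  have hpr : IsPGroup 2 ψ.range := R.isPGroup'.of_surjective _ ψ.rangeRestrict_surjective
  have hrank : finrank F (Fin n ⊕ Fin n → F) = 2 * n := by
    rw [Module.finrank_fintype_fun_eq_card, Fintype.card_sum, Fintype.card_fin]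
    ring
  have h2' : ((2 : ℕ) : F) ≠ 0 := by exact_mod_cast h2
  have key := bound_generalP (E := F) (W := Fin n ⊕ Fin n → F) (p := 2) h2' ψ.range hpr
  rw [hrank] at key
  apply ds_of_injective ψ.rangeRestrict _ _ key
  intro a b hab
  apply hψ
  have := congrArg Subtype.val hab
  simpa using this

theorem sylow_sp_lower [Fintype F] (q : ℕ) (hF : Fintype.card F = q) (hq : Odd q) (n : ℕ)
    (hn : 1 ≤ n) (R : Sylow 2 ↥(Matrix.symplecticGroup (Fin n) F)) :
    derivedSeries ↥(R : Subgroup ↥(Matrix.symplecticGroup (Fin n) F)) (Nat.log 2 (2 * n)) ≠ ⊥ := by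
  classical
  have h2 := two_ne_zero_of_odd q hF hq
  have hkpos : 1 ≤ Nat.log 2 (2 * n) := by
    apply Nat.log_pos (by norm_num)
    omega
  obtain ⟨s, hs⟩ : ∃ s, Nat.log 2 (2 * n) = s + 1 := ⟨Nat.log 2 (2 * n) - 1, by omega⟩
  have hpow : 2 ^ (s + 1) ≤ 2 * n := by
    rw [← hs]
    exact Nat.pow_log_le_self 2 (by omega)
  have hsn : 2 ^ s ≤ n := by
    rw [pow_succ] at hpow
    omega
  have h1 := hasSp_pad (hasSp_iter (F := F) h2 s) (n - 2 ^ s)
  have hsum : 2 ^ s + (n - 2 ^ s) = n := by omega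
  rw [hsum] at h1
  obtain ⟨Q, hQfin, hQp, hQB, hQds⟩ := hasSp_fin h1
  -- into the symplectic group
  let Φ0 : Q →* Matrix (Fin n ⊕ Fin n) (Fin n ⊕ Fin n) F :=
    (((Matrix.toLinAlgEquiv' : Matrix (Fin n ⊕ Fin n) (Fin n ⊕ Fin n) F ≃ₐ[F]
        Module.End F (Fin n ⊕ Fin n → F)).symm :
        Module.End F (Fin n ⊕ Fin n → F) →* Matrix (Fin n ⊕ Fin n) (Fin n ⊕ Fin n) F).comp
      (Units.coeHom (Module.End F (Fin n ⊕ Fin n → F)))).comp Q.subtype
  have hΦ0 : ∀ g : Q, Matrix.toLin' (Φ0 g) = ((g : (Module.End F (Fin n ⊕ Fin n → F))ˣ) :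
      Module.End F (Fin n ⊕ Fin n → F)) := by
    intro g
    show Matrix.toLinAlgEquiv' (Matrix.toLinAlgEquiv'.symm _) = _
    rw [AlgEquiv.apply_symm_apply]
    rfl
  have hmem : ∀ g : Q, Φ0 g ∈ Matrix.symplecticGroup (Fin n) F := by
    intro g
    apply mem_symplectic_of_pres
    intro u v
    have h3 : ∀ w, (Φ0 g).mulVec w = ((g : (Module.End F (Fin n ⊕ Fin n → F))ˣ) :
        Module.End F (Fin n ⊕ Fin n → F)) w := by
      intro w
      rw [← hΦ0 g, Matrix.toLin'_apply]
    rw [h3, h3]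
    exact hQB g.1 g.2 u v
  let Φ : Q →* ↥(Matrix.symplecticGroup (Fin n) F) :=
    Φ0.codRestrict (Matrix.symplecticGroup (Fin n) F) hmem
  have hΦ : Function.Injective Φ := by
    intro a b hab
    have h3 : Φ0 a = Φ0 b := congrArg Subtype.val hab
    apply Subtype.ext
    apply Units.ext
    rw [← hΦ0 a, ← hΦ0 b, h3]
  have hfinSp : Finite ↥(Matrix.symplecticGroup (Fin n) F) := inferInstance
  have hQ'p : IsPGroup 2 Φ.range := hQp.of_surjective _ Φ.rangeRestrict_surjective
  have hQ'ds : derivedSeries Φ.range (s + 1) ≠ ⊥ := by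
    intro hbot
    apply hQds
    apply ds_of_injective Φ.rangeRestrict _ _ hbot
    intro a b hab
    apply hΦ
    have := congrArg Subtype.val hab
    simpa using this
  obtain ⟨P', hP'⟩ := hQ'p.exists_le_sylow
  have hP'ds : derivedSeries ↥(P' : Subgroup ↥(Matrix.symplecticGroup (Fin n) F)) (s + 1) ≠ ⊥ := by
    intro hbot
    apply hQ'ds
    exact ds_of_injective (Subgroup.inclusion hP') (Subgroup.inclusion_injective hP') _ hbot
  obtain ⟨g, hg⟩ := MulAction.exists_smul_eq ↥(Matrix.symplecticGroup (Fin n) F) P' R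
  rw [hs]
  intro hbot
  apply hP'ds
  subst hg
  exact ds_of_injective (Sylow.equivSMul P' g).toMonoidHom (Sylow.equivSMul P' g).injective _ hbot

end Cfsg.Agent.Lib.Helper10.SpSylow
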