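import Mathlib

set_option autoImplicit false

namespace Cfsg.Agent.Lib.Helper10.SpSylowE

universe u

/-- squares lie in the derived subgroup -/
def SqComm (G : Type*) [Group G] : Prop := ∀ x : G, x ^ 2 ∈ commutator G

theorem map_mem_commutator {G H : Type*} [Group G] [Group H] (f : G →* H) {x : G}
    (hx : x ∈ commutator G) : f x ∈ commutator H := by
  have h1 := Abelianization.commutator_subset_ker ((Abelianization.of (G := H)).comp f) hx
  rw [MonoidHom.mem_ker, MonoidHom.comp_apply] at h1
  rw [← Abelianization.ker_of (G := H), MonoidHom.mem_ker]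
  exact h1

theorem SqComm.of_equiv {G H : Type*} [Group G] [Group H] (e : G ≃* H) (h : SqComm G) :
    SqComm H := by
  intro y
  obtain ⟨x, rfl⟩ := e.surjective y
  rw [← map_pow]
  exact map_mem_commutator e.toMonoidHom (h x)

/-- the subgroup of elements whose square lies in the derived subgroup -/
def sqKer (G : Type*) [Group G] : Subgroup G :=
  ((powMonoidHom 2 : Abelianization G →* Abelianization G).comp Abelianization.of).ker

theorem mem_sqKer {G : Type*} [Group G] {x : G} : x ∈ sqKer G ↔ x ^ 2 ∈ commutator G := by
  rw [sqKer, MonoidHom.mem_ker, MonoidHom.comp_apply, powMonoidHom_apply, ← map_pow,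
    ← Abelianization.ker_of (G := G), MonoidHom.mem_ker]

theorem sqComm_of_sqKer {G : Type*} [Group G] (h : ∀ x : G, x ∈ sqKer G) : SqComm G := by
  intro x
  exact mem_sqKer.1 (h x)

theorem SqComm.prod {G H : Type*} [Group G] [Group H] (hG : SqComm G) (hH : SqComm H) :
    SqComm (G × H) := by
  intro x
  have h1 : x ^ 2 = MonoidHom.inl G H (x.1 ^ 2) * MonoidHom.inr G H (x.2 ^ 2) := by
    apply Prod.ext <;> simp
  rw [h1]
  exact (commutator (G × H)).mul_mem (map_mem_commutator _ (hG _)) (map_mem_commutator _ (hH _))

/-- the base group of a regular wreath product -/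
def baseHom (D Q : Type*) [Group D] [Group Q] : (Q → D) →* RegularWreathProduct D Q where
  toFun f := ⟨f, 1⟩
  map_one' := rfl
  map_mul' := by
    intro a b
    apply RegularWreathProduct.ext
    · rw [RegularWreathProduct.mul_left]
      funext x
      simp
    · rw [RegularWreathProduct.mul_right]
      simp

theorem SqComm.wreath {D Q : Type*} [Group D] [Group Q] [Finite Q] (hD : SqComm D)
    (hQ : SqComm Q) : SqComm (RegularWreathProduct D Q) := by
  classical
  have _ := Fintype.ofFinite Q
  apply sqComm_of_sqKer
  intro w
  have hw : w = baseHom D Q w.left * RegularWreathProduct.inl w.right := by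
    apply RegularWreathProduct.ext
    · rw [RegularWreathProduct.mul_left]
      funext x
      simp [baseHom]
    · rw [RegularWreathProduct.mul_right]
      simp [baseHom]
  rw [hw]
  apply Subgroup.mul_mem
  · -- base part
    have hsingle : ∀ (x : Q) (d : D), Pi.mulSingle x d ∈ (sqKer (RegularWreathProduct D Q)).comap (baseHom D Q) := by
      intro x d
      rw [Subgroup.mem_comap, mem_sqKer, ← map_pow]
      have h1 : (Pi.mulSingle x d : Q → D) ^ 2 = MonoidHom.mulSingle (fun _ : Q => D) x (d ^ 2) := by
        rw [map_pow]
        rfl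
      rw [h1]
      exact map_mem_commutator ((baseHom D Q).comp (MonoidHom.mulSingle (fun _ : Q => D) x)) (hD d)
    have h2 := Finset.noncommProd_mulSingle (w.left)
    rw [← Subgroup.mem_comap, ← h2]
    apply Subgroup.noncommProd_mem
    intro x _
    exact hsingle x (w.left x)
  · rw [mem_sqKer, ← map_pow]
    exact map_mem_commutator _ (hQ _)

open scoped commutatorElement in
theorem sqComm_quaternion (m : ℕ) (hm : Even m) : SqComm (QuaternionGroup m) := by
  have key : ∀ i : ZMod (2 * m), (QuaternionGroup.a (i + i) : QuaternionGroup m) ∈ commutator (QuaternionGroup m) := by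
    intro i
    have h1 : ⁅(QuaternionGroup.xa 0 : QuaternionGroup m), QuaternionGroup.a (-i)⁆ = QuaternionGroup.a (i + i) := by
      rw [commutatorElement_def, mul_inv_eq_iff_eq_mul, mul_inv_eq_iff_eq_mul]
      simp only [QuaternionGroup.xa_mul_a, QuaternionGroup.a_mul_a, QuaternionGroup.a_mul_xa]
      congr 1
      ring
    rw [← h1, commutator_def]
    exact Subgroup.commutator_mem_commutator (Subgroup.mem_top _) (Subgroup.mem_top _)
  obtain ⟨k, hk⟩ := hm
  intro x
  rcases x with i | i
  · have : (QuaternionGroup.a i : QuaternionGroup m) ^ 2 = QuaternionGroup.a (i + i) := by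
      rw [pow_two, QuaternionGroup.a_mul_a]
    rw [this]
    exact key i
  · have : (QuaternionGroup.xa i : QuaternionGroup m) ^ 2 = QuaternionGroup.a ((k : ZMod (2 * m)) + (k : ZMod (2 * m))) := by
      rw [pow_two, QuaternionGroup.xa_mul_xa]
      congr 1
      have hmk : (m : ZMod (2 * m)) = (k : ZMod (2 * m)) + (k : ZMod (2 * m)) := by
        have h3 : ((k + k : ℕ) : ZMod (2 * m)) = (m : ZMod (2 * m)) := by rw [← hk]
        rw [← h3]
        push_cast
        rfl
      rw [hmk]
      ring
    rw [this]
    exact key _

end Cfsg.Agent.Lib.Helper10.SpSylowE
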