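import Mathlib
import Cfsg.Agent.Lib.Helper10.SpSylow
import Cfsg.Agent.Lib.Lead.UniqueSubgroup
import Cfsg.Agent.Lib.Helper10.SpSylowE1

set_option autoImplicit false

namespace Cfsg.Agent.Lib.Helper10.SpSylowE

open Cfsg.Agent.Lib.Helper10.SpSylow

universe u

theorem uniq_of_inv {G : Type*} [Group G]
    (huniq_inv : ∀ s t : G, s ≠ 1 → s ^ 2 = 1 → t ≠ 1 → t ^ 2 = 1 → s = t) :
    Cfsg.Agent.Lib.Lead.UniqueOrderP.UniqueOrderP 2 G := by
  have hsq : ∀ (H : Subgroup G) (s : H), s ≠ 1 → (∀ y : H, y ≠ 1 → y = s) → (s : G) ^ 2 = 1 := by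
    intro H s hs hsu
    by_contra hne
    have h1 : s ^ 2 = s := hsu (s ^ 2) (fun h => hne (by
      have := congrArg Subtype.val h; simpa using this))
    have h2 : s = 1 := by
      have h3 : s * s = s * 1 := by rw [mul_one, ← pow_two]; exact h1
      exact mul_left_cancel h3
    exact hs h2
  intro H K hH hK
  obtain ⟨s, hs, hsu⟩ := (Nat.card_eq_two_iff' (1 : H)).1 hH
  obtain ⟨t, ht, htu⟩ := (Nat.card_eq_two_iff' (1 : K)).1 hK
  have hs2 := hsq H s hs hsu
  have ht2 := hsq K t ht htu
  have hst : (s : G) = t := huniq_inv s t (fun h => hs (Subtype.ext h)) hs2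
    (fun h => ht (Subtype.ext h)) ht2
  ext g
  constructor
  · intro hg
    by_cases hg1 : g = 1
    · rw [hg1]; exact K.one_mem
    · have h1 : (⟨g, hg⟩ : H) = s := hsu _ (fun h => hg1 (congrArg Subtype.val h))
      have h2 : g = s := congrArg Subtype.val h1
      rw [h2, hst]; exact t.2
  · intro hg
    by_cases hg1 : g = 1
    · rw [hg1]; exact H.one_mem
    · have h1 : (⟨g, hg⟩ : K) = t := htu _ (fun h => hg1 (congrArg Subtype.val h))
      have h2 : g = t := congrArg Subtype.val h1
      rw [h2, ← hst]; exact s.2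

variable {F : Type u} [Field F]

theorem sp1_inv (h2 : (2 : F) ≠ 0) (A : Matrix (Fin 1 ⊕ Fin 1) (Fin 1 ⊕ Fin 1) F)
    (hA : A ∈ Matrix.symplecticGroup (Fin 1) F) (hAA : A * A = 1) (hA1 : A ≠ 1) : A = -1 := by
  rw [SymplecticGroup.mem_iff] at hA
  set a := A (Sum.inl 0) (Sum.inl 0) with ha
  set b := A (Sum.inl 0) (Sum.inr 0) with hb
  set c := A (Sum.inr 0) (Sum.inl 0) with hc
  set d := A (Sum.inr 0) (Sum.inr 0) with hd
  have hdet : d * a - c * b = 1 := by
    have := congrFun (congrFun hA (Sum.inr 0)) (Sum.inl 0)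
    simp [Matrix.mul_apply, Matrix.J, Fintype.sum_sum_type, Matrix.fromBlocks] at this
    rw [ha, hb, hc, hd]
    linear_combination this
  have h11 : a * a + b * c = 1 := by
    have := congrFun (congrFun hAA (Sum.inl 0)) (Sum.inl 0)
    simp [Matrix.mul_apply, Fintype.sum_sum_type] at this
    exact this
  have h12 : a * b + b * d = 0 := by
    have := congrFun (congrFun hAA (Sum.inl 0)) (Sum.inr 0)
    simp [Matrix.mul_apply, Fintype.sum_sum_type] at this
    exact this
  have h21 : c * a + d * c = 0 := by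
    have := congrFun (congrFun hAA (Sum.inr 0)) (Sum.inl 0)
    simp [Matrix.mul_apply, Fintype.sum_sum_type] at this
    exact this
  have h22 : c * b + d * d = 1 := by
    have := congrFun (congrFun hAA (Sum.inr 0)) (Sum.inr 0)
    simp [Matrix.mul_apply, Fintype.sum_sum_type] at this
    exact this
  have hs : a + d ≠ 0 := by
    intro hs
    have hd' : d = -a := by linear_combination hs
    have : (2 : F) = 0 := by
      rw [hd'] at hdet
      linear_combination (-1 : F) * h11 + (-1 : F) * hdet
    exact h2 this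
  have hb0 : b = 0 := by
    have : b * (a + d) = 0 := by linear_combination h12
    rcases mul_eq_zero.1 this with h | h
    · exact h
    · exact absurd h hs
  have hc0 : c = 0 := by
    have : c * (a + d) = 0 := by linear_combination h21
    rcases mul_eq_zero.1 this with h | h
    · exact h
    · exact absurd h hs
  rw [hb0, hc0] at hdet h11 h22
  have had : d = a := by
    have : d = d * (a * a) := by
      have h3 : a * a = 1 := by linear_combination h11
      rw [h3, mul_one]
    rw [this]
    linear_combination a * hdet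
  have ha1 : a = 1 ∨ a = -1 := by
    have : (a - 1) * (a + 1) = 0 := by linear_combination h11
    rcases mul_eq_zero.1 this with h | h
    · left; linear_combination h
    · right; linear_combination h
  have hentries : ∀ i j, A i j = if i = j then a else 0 := by
    intro i j
    rcases i with i | i <;> rcases j with j | j
    · have hi : i = 0 := Subsingleton.elim _ _
      have hj : j = 0 := Subsingleton.elim _ _
      subst hi; subst hj
      simp [ha]
    · have hi : i = 0 := Subsingleton.elim _ _
      have hj : j = 0 := Subsingleton.elim _ _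
      subst hi; subst hj
      simp [← hb, hb0]
    · have hi : i = 0 := Subsingleton.elim _ _
      have hj : j = 0 := Subsingleton.elim _ _
      subst hi; subst hj
      simp [← hc, hc0]
    · have hi : i = 0 := Subsingleton.elim _ _
      have hj : j = 0 := Subsingleton.elim _ _
      subst hi; subst hj
      simp [← hd, had]
  rcases ha1 with h | h
  · exfalso
    apply hA1
    ext i j
    rw [hentries, h, Matrix.one_apply]
  · ext i j
    rw [hentries, h, Matrix.neg_apply, Matrix.one_apply]
    split_ifs <;> simp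

theorem sqComm_sylow_sp1 [Fintype F] (hodd : Odd (Fintype.card F))
    (P : Sylow 2 ↥(Matrix.symplecticGroup (Fin 1) F)) :
    SqComm ↥(P : Subgroup ↥(Matrix.symplecticGroup (Fin 1) F)) := by
  have h2 := two_ne_zero_of_odd (F := F) _ rfl hodd
  have hfin : Finite ↥(Matrix.symplecticGroup (Fin 1) F) := inferInstance
  have hlow := sylow_sp_lower (F := F) _ rfl hodd 1 le_rfl P
  have hlog : Nat.log 2 (2 * 1) = 1 := by
    norm_num
  rw [hlog, derivedSeries_one] at hlow
  have hnc : ¬ ∀ x y : ↥(P : Subgroup ↥(Matrix.symplecticGroup (Fin 1) F)), x * y = y * x := by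
    intro hcomm
    apply hlow
    rw [commutator_def, Subgroup.commutator_eq_bot_iff_le_centralizer]
    intro x _
    rw [Subgroup.mem_centralizer_iff]
    intro y _
    exact hcomm y x
  have huniq : Cfsg.Agent.Lib.Lead.UniqueOrderP.UniqueOrderP 2
      ↥(P : Subgroup ↥(Matrix.symplecticGroup (Fin 1) F)) := by
    apply uniq_of_inv
    intro s t hs1 hs2 ht1 ht2
    have hval : ∀ s : ↥(P : Subgroup ↥(Matrix.symplecticGroup (Fin 1) F)), s ≠ 1 → s ^ 2 = 1 →
        (s.1.1 : Matrix (Fin 1 ⊕ Fin 1) (Fin 1 ⊕ Fin 1) F) = -1 := by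
      intro s hs1 hs2
      apply sp1_inv h2 _ s.1.2
      · have := congrArg (fun z : ↥(P : Subgroup ↥(Matrix.symplecticGroup (Fin 1) F)) =>
          (z.1.1 : Matrix (Fin 1 ⊕ Fin 1) (Fin 1 ⊕ Fin 1) F)) hs2
        simpa [pow_two] using this
      · intro h
        apply hs1
        apply Subtype.ext
        apply Subtype.ext
        exact h
    apply Subtype.ext
    apply Subtype.ext
    rw [hval s hs1 hs2, hval t ht1 ht2]
  rcases Cfsg.Agent.Lib.Lead.UniqueSubgroup.cyclic_or_quaternion P.isPGroup' huniq with hc | ⟨-, n, ⟨e⟩⟩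
  · exfalso
    apply hnc
    intro x y
    obtain ⟨g, hg⟩ := hc.exists_generator
    obtain ⟨i, rfl⟩ := Subgroup.mem_zpowers_iff.1 (hg x)
    obtain ⟨j, rfl⟩ := Subgroup.mem_zpowers_iff.1 (hg y)
    rw [← zpow_add, ← zpow_add, add_comm]
  · rcases Nat.eq_zero_or_pos n with hn | hn
    · exfalso
      subst hn
      apply hnc
      have hc : IsCyclic (QuaternionGroup (2 ^ 0)) := by
        rw [pow_zero]
        exact QuaternionGroup.quaternionGroup_one_isCyclic
      obtain ⟨g, hg⟩ := hc.exists_generator
      intro x y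
      apply e.injective
      rw [map_mul, map_mul]
      obtain ⟨i, hi⟩ := Subgroup.mem_zpowers_iff.1 (hg (e x))
      obtain ⟨j, hj⟩ := Subgroup.mem_zpowers_iff.1 (hg (e y))
      rw [← hi, ← hj, ← zpow_add, ← zpow_add, add_comm]
    · have hev : Even (2 ^ n) := (Nat.even_pow.2 ⟨even_two, by omega⟩)
      exact (sqComm_quaternion (2 ^ n) hev).of_equiv e.symm

end Cfsg.Agent.Lib.Helper10.SpSylowE
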