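import Mathlib
import Cfsg.Agent.Lib.Helper10.SpSylow
import Cfsg.Agent.Lib.Lead.UniqueSubgroup
import Cfsg.Agent.Lib.Helper10.SpSylowE1
import Cfsg.Agent.Lib.Helper10.SpSylowE2

set_option autoImplicit false

namespace Cfsg.Agent.Lib.Helper10.SpSylowE

open Module Cfsg.Agent.Lib.Helper10.SpSylow Cfsg.Agent.Lib.Helper10.WreathLinear

universe u

variable {F : Type u} [Field F]

/-- there is a 2-group of order `2 ^ k` of symplectic maps of the standard `2d`-dimensional
symplectic space with elementary abelian abelianization -/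
def HasE (F : Type u) [Field F] (k d : ℕ) : Prop :=
  ∃ (l : Type) (_ : Fintype l) (_ : DecidableEq l), Fintype.card l = d ∧
    ∃ Q : Subgroup (Module.End F (l ⊕ l → F))ˣ, Nat.card Q = 2 ^ k ∧
      Q ≤ presSubgroup (om l) ∧ SqComm Q

theorem repE {G : Type*} [Group G] {V : Type*} [AddCommGroup V] [Module F V] (B : V → V → F)
    (R : G →* (Module.End F V)ˣ) (hR : Function.Injective R) (hRB : ∀ g, R g ∈ presSubgroup B) :
    ∃ Q' : Subgroup (Module.End F V)ˣ, Q' ≤ presSubgroup B ∧ Nonempty (G ≃* Q') := by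
  refine ⟨R.range, ?_, ⟨MonoidHom.ofInjective hR⟩⟩
  rintro g ⟨x, rfl⟩
  exact hRB x

theorem pushE {V V' : Type*} [AddCommGroup V] [Module F V] [AddCommGroup V'] [Module F V']
    (B : V → V → F) (B' : V' → V' → F)
    (θ0 : Module.End F V →* Module.End F V') (hθ0 : Function.Injective θ0)
    (hθ : ∀ g : Module.End F V, (∀ u v, B (g u) (g v) = B u v) →
      ∀ u v, B' (θ0 g u) (θ0 g v) = B' u v)
    (Q : Subgroup (Module.End F V)ˣ) (hQB : Q ≤ presSubgroup B) :
    ∃ Q' : Subgroup (Module.End F V')ˣ, Q' ≤ presSubgroup B' ∧ Nonempty (Q ≃* Q') := by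
  let θ : (Module.End F V)ˣ →* (Module.End F V')ˣ := Units.map θ0
  have hθinj : Function.Injective θ := by
    intro a b hab
    apply Units.ext
    apply hθ0
    have := congrArg (fun u : (Module.End F V')ˣ => (u : Module.End F V')) hab
    simpa [θ] using this
  apply repE B' (θ.comp Q.subtype)
  · intro a b hab
    apply Subtype.ext
    exact hθinj hab
  · intro g u v
    exact hθ _ (hQB g.2) u v

theorem transportE {V V' : Type*} [AddCommGroup V] [Module F V] [AddCommGroup V'] [Module F V']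
    (ε : V ≃ₗ[F] V') (B : V → V → F) (B' : V' → V' → F)
    (hB : ∀ u v, B' (ε u) (ε v) = B u v)
    (Q : Subgroup (Module.End F V)ˣ) (hQB : Q ≤ presSubgroup B) :
    ∃ Q' : Subgroup (Module.End F V')ˣ, Q' ≤ presSubgroup B' ∧ Nonempty (Q ≃* Q') := by
  apply pushE B B' (conjHom ε) (conjHom_injective ε) _ Q hQB
  intro g hg u v
  rw [conjHom_apply, conjHom_apply, hB, hg, ← hB, LinearEquiv.apply_symm_apply,
    LinearEquiv.apply_symm_apply]

theorem hasE_zero : HasE F 0 0 := by
  refine ⟨Empty, inferInstance, inferInstance, Fintype.card_empty, ⊥, ?_, bot_le, ?_⟩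
  · rw [Subgroup.card_bot, pow_zero]
  · intro x
    have : x = 1 := Subsingleton.elim _ _
    rw [this, one_pow]
    exact Subgroup.one_mem _

theorem hasE_step {k d : ℕ} (hd : 0 < d) (h : HasE F k d) : HasE F (2 * k + 1) (2 * d) := by
  classical
  obtain ⟨l, _, _, hld, Q, hQcard, hQB, hQE⟩ := h
  have hlne : Nonempty l := by
    rw [← Fintype.card_pos_iff, hld]
    exact hd
  have hWnt : Nontrivial (l ⊕ l → F) := inferInstance
  let C := Multiplicative (ZMod 2)
  have hCfin : Finite C := inferInstanceAs (Finite (Multiplicative (ZMod 2)))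
  let _ : Fintype C := inferInstanceAs (Fintype (Multiplicative (ZMod 2)))
  let _ : DecidableEq C := inferInstanceAs (DecidableEq (Multiplicative (ZMod 2)))
  have hCcard : Fintype.card C = 2 := by
    show Fintype.card (Multiplicative (ZMod 2)) = 2
    rw [Fintype.card_multiplicative, ZMod.card]
  have hCE : SqComm C := by
    intro x
    have : x ^ 2 = 1 := by
      revert x
      show ∀ x : Multiplicative (ZMod 2), x ^ 2 = 1
      decide
    rw [this]
    exact Subgroup.one_mem _
  let R : RegularWreathProduct Q C →* (Module.End F (C → (l ⊕ l → F)))ˣ := wrRep Q.subtype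
  have hR : Function.Injective R := wrRep_injective Q.subtype Q.subtype_injective
  let B₁ : (C → (l ⊕ l → F)) → (C → (l ⊕ l → F)) → F := fun φ ψ => ∑ x : C, om l (φ x) (ψ x)
  have hB₁ : ∀ w, R w ∈ presSubgroup B₁ := by
    intro w φ ψ
    show ∑ x : C, om l _ _ = ∑ x : C, om l (φ x) (ψ x)
    have h1 : ∀ x : C, om l (((R w : (Module.End F (C → (l ⊕ l → F)))ˣ) :
          Module.End F (C → (l ⊕ l → F))) φ x)
        (((R w : (Module.End F (C → (l ⊕ l → F)))ˣ) : Module.End F (C → (l ⊕ l → F))) ψ x)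
        = om l (φ (w.right⁻¹ * x)) (ψ (w.right⁻¹ * x)) := by
      intro x
      rw [wrRep_apply, wrRep_apply]
      exact hQB (w.left x).2 _ _
    rw [Finset.sum_congr rfl (fun x _ => h1 x)]
    exact Fintype.sum_equiv (Equiv.mulLeft w.right⁻¹) _ _ (fun x => rfl)
  obtain ⟨Q₁, hQ₁B, ⟨e₁⟩⟩ := repE B₁ R hR hB₁
  obtain ⟨Q', hQ'B, ⟨e'⟩⟩ := transportE (wrEquiv C l) B₁ (om (C × l))
    (fun φ ψ => om_wrEquiv C l φ ψ) Q₁ hQ₁B
  have hQfin : Finite Q := Nat.finite_of_card_ne_zero (by rw [hQcard]; positivity)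
  refine ⟨C × l, inferInstance, inferInstance, ?_, Q', ?_, hQ'B, ?_⟩
  · rw [Fintype.card_prod, hCcard, hld]
  · rw [← Nat.card_congr (e₁.trans e').toEquiv, RegularWreathProduct.card, hQcard,
      Nat.card_eq_fintype_card (α := C), hCcard, ← pow_mul, pow_succ]
    ring
  · exact ((SqComm.wreath hQE hCE).of_equiv (e₁.trans e'))

/-- the product representation -/
noncomputable def prodRep0 {V V' : Type*} [AddCommGroup V] [Module F V] [AddCommGroup V']
    [Module F V'] (Q : Subgroup (Module.End F V)ˣ) (Q' : Subgroup (Module.End F V')ˣ) :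
    Q × Q' →* Module.End F (V × V') where
  toFun p := (((p.1 : (Module.End F V)ˣ) : Module.End F V)).prodMap
    (((p.2 : (Module.End F V')ˣ) : Module.End F V'))
  map_one' := by
    apply LinearMap.ext
    intro v
    simp
  map_mul' := by
    intro a b
    apply LinearMap.ext
    intro v
    simp

noncomputable def prodRep {V V' : Type*} [AddCommGroup V] [Module F V] [AddCommGroup V']
    [Module F V'] (Q : Subgroup (Module.End F V)ˣ) (Q' : Subgroup (Module.End F V')ˣ) :
    Q × Q' →* (Module.End F (V × V'))ˣ := MonoidHom.toHomUnits (prodRep0 Q Q')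

theorem prodRep_apply {V V' : Type*} [AddCommGroup V] [Module F V] [AddCommGroup V']
    [Module F V'] (Q : Subgroup (Module.End F V)ˣ) (Q' : Subgroup (Module.End F V')ˣ)
    (p : Q × Q') (w : V × V') :
    ((prodRep Q Q' p : (Module.End F (V × V'))ˣ) : Module.End F (V × V')) w =
      ((((p.1 : (Module.End F V)ˣ) : Module.End F V)) w.1,
        (((p.2 : (Module.End F V')ˣ) : Module.End F V')) w.2) := rfl

theorem prodRep_injective {V V' : Type*} [AddCommGroup V] [Module F V] [AddCommGroup V']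
    [Module F V'] (Q : Subgroup (Module.End F V)ˣ) (Q' : Subgroup (Module.End F V')ˣ) :
    Function.Injective (prodRep Q Q') := by
  intro p p' h
  have h1 : ∀ w : V × V', ((prodRep Q Q' p : (Module.End F (V × V'))ˣ) : Module.End F (V × V')) w
      = ((prodRep Q Q' p' : (Module.End F (V × V'))ˣ) : Module.End F (V × V')) w := by
    intro w
    rw [h]
  apply Prod.ext
  · apply Subtype.ext
    apply Units.ext
    apply LinearMap.ext
    intro v
    have := congrArg Prod.fst (h1 (v, 0))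
    rw [prodRep_apply, prodRep_apply] at this
    exact this
  · apply Subtype.ext
    apply Units.ext
    apply LinearMap.ext
    intro v
    have := congrArg Prod.snd (h1 (0, v))
    rw [prodRep_apply, prodRep_apply] at this
    exact this

theorem hasE_add {k d k' d' : ℕ} (h : HasE F k d) (h' : HasE F k' d') :
    HasE F (k + k') (d + d') := by
  classical
  obtain ⟨l, _, _, hld, Q, hQcard, hQB, hQE⟩ := h
  obtain ⟨l', _, _, hld', Q', hQ'card, hQ'B, hQ'E⟩ := h'
  let B₁ : ((l ⊕ l → F) × (l' ⊕ l' → F)) → ((l ⊕ l → F) × (l' ⊕ l' → F)) → F :=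
    fun w z => om l w.1 z.1 + om l' w.2 z.2
  have hB₁ : ∀ p, prodRep Q Q' p ∈ presSubgroup B₁ := by
    intro p w z
    rw [prodRep_apply, prodRep_apply]
    show om l _ _ + om l' _ _ = om l w.1 z.1 + om l' w.2 z.2
    rw [hQB p.1.2, hQ'B p.2.2]
  obtain ⟨Q₁, hQ₁B, ⟨e₁⟩⟩ := repE B₁ (prodRep Q Q') (prodRep_injective Q Q') hB₁
  obtain ⟨Q₂, hQ₂B, ⟨e₂⟩⟩ := transportE (padEquiv l l') B₁ (om (l ⊕ l'))
    (fun w z => om_padEquiv l l' w z) Q₁ hQ₁B
  refine ⟨l ⊕ l', inferInstance, inferInstance, ?_, Q₂, ?_, hQ₂B, ?_⟩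
  · rw [Fintype.card_sum, hld, hld']
  · rw [← Nat.card_congr (e₁.trans e₂).toEquiv, Nat.card_prod, hQcard, hQ'card, pow_add]
  · exact ((SqComm.prod hQE hQ'E).of_equiv (e₁.trans e₂))

theorem hasE_fin {k n : ℕ} (h : HasE F k n) :
    ∃ Q : Subgroup (Module.End F (Fin n ⊕ Fin n → F))ˣ, Nat.card Q = 2 ^ k ∧
      Q ≤ presSubgroup (om (Fin n)) ∧ SqComm Q := by
  classical
  obtain ⟨l, _, _, hld, Q, hQcard, hQB, hQE⟩ := h
  let e : l ≃ Fin n := Fintype.equivFinOfCardEq hld
  obtain ⟨Q', hQ'B, ⟨e'⟩⟩ := transportE (reEquiv (F := F) e) (om l) (om (Fin n))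
    (fun u v => om_reEquiv e u v) Q hQB
  refine ⟨Q', ?_, hQ'B, hQE.of_equiv e'⟩
  rw [← Nat.card_congr e'.toEquiv, hQcard]

end Cfsg.Agent.Lib.Helper10.SpSylowE
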