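import Mathlib
import Cfsg.Agent.Lib.Helper10.SpSylow
import Cfsg.Agent.Lib.Helper10.SpSylowE1
import Cfsg.Agent.Lib.Helper10.SpSylowE2
import Cfsg.Agent.Lib.Helper10.SpSylowE3
import Cfsg.Agent.Lib.Helper27.SympOrder

set_option autoImplicit false

namespace Cfsg.Agent.Lib.Helper10.SpSylowE

open Module Cfsg.Agent.Lib.Helper10.SpSylow Cfsg.Agent.Lib.Helper10.WreathLinear

universe u

variable {F : Type u} [Field F]

theorem pres_of_mem_symplectic (l : Type*) [Fintype l] [DecidableEq l]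
    (A : Matrix (l ⊕ l) (l ⊕ l) F) (hA : A ∈ Matrix.symplecticGroup l F) (u v : l ⊕ l → F) :
    om l (A.mulVec u) (A.mulVec v) = om l u v := by
  rw [SymplecticGroup.mem_iff'] at hA
  have h1 : om l u v = u ⬝ᵥ (A.transpose * Matrix.J l F * A).mulVec v := by
    rw [hA]
    rfl
  rw [h1, ← Matrix.mulVec_mulVec, ← Matrix.mulVec_mulVec, Matrix.dotProduct_mulVec,
    Matrix.vecMul_transpose]
  rfl

theorem spToEnd_apply (l : Type*) [Fintype l] [DecidableEq l] (A : ↥(Matrix.symplecticGroup l F))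
    (w : l ⊕ l → F) :
    ((spToEnd (F := F) l A : (Module.End F (l ⊕ l → F))ˣ) : Module.End F (l ⊕ l → F)) w =
      (A.1).mulVec w := rfl

theorem hasE_base [Fintype F] (hodd : Odd (Fintype.card F)) :
    HasE F ((Nat.card ↥(Matrix.symplecticGroup (Fin 1) F)).factorization 2) 1 := by
  classical
  have hfin : Finite ↥(Matrix.symplecticGroup (Fin 1) F) := inferInstance
  let P : Sylow 2 ↥(Matrix.symplecticGroup (Fin 1) F) := default
  have hPE := sqComm_sylow_sp1 hodd P
  let R : ↥(P : Subgroup ↥(Matrix.symplecticGroup (Fin 1) F)) →*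
      (Module.End F (Fin 1 ⊕ Fin 1 → F))ˣ :=
    (spToEnd (F := F) (Fin 1)).comp (P : Subgroup ↥(Matrix.symplecticGroup (Fin 1) F)).subtype
  have hR : Function.Injective R := by
    intro a b hab
    apply Subtype.ext
    exact spToEnd_injective (Fin 1) hab
  have hRB : ∀ g, R g ∈ presSubgroup (om (F := F) (Fin 1)) := by
    intro g u v
    show om (Fin 1) (((spToEnd (F := F) (Fin 1) g.1 : (Module.End F (Fin 1 ⊕ Fin 1 → F))ˣ) :
      Module.End F (Fin 1 ⊕ Fin 1 → F)) u) (((spToEnd (F := F) (Fin 1) g.1 :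
      (Module.End F (Fin 1 ⊕ Fin 1 → F))ˣ) : Module.End F (Fin 1 ⊕ Fin 1 → F)) v) = om (Fin 1) u v
    rw [spToEnd_apply, spToEnd_apply]
    exact pres_of_mem_symplectic (Fin 1) _ g.1.2 u v
  obtain ⟨Q, hQB, ⟨e⟩⟩ := repE (om (F := F) (Fin 1)) R hR hRB
  refine ⟨Fin 1, inferInstance, inferInstance, Fintype.card_fin 1, Q, ?_, hQB, hPE.of_equiv e⟩
  rw [← Nat.card_congr e.toEquiv, P.card_eq_multiplicity]

/-- the 2-adic valuation of `n!` -/
def ff (n : ℕ) : ℕ := padicValNat 2 n.factorial

theorem ff_zero : ff 0 = 0 := by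
  simp [ff]

theorem ff_succ (n : ℕ) : ff (n + 1) = padicValNat 2 (n + 1) + ff n := by
  unfold ff
  rw [Nat.factorial_succ, padicValNat.mul (by omega) (Nat.factorial_ne_zero n)]

theorem ff_eq_sum (n : ℕ) : ff n = ∑ i ∈ Finset.range n, padicValNat 2 (i + 1) := by
  induction n with
  | zero => simp [ff_zero]
  | succ n ih => rw [ff_succ, Finset.sum_range_succ, ih, add_comm]

theorem ff_pow (s : ℕ) : ff (2 ^ s) + 1 = 2 ^ s := by
  induction s with
  | zero => simp [ff]
  | succ s ih =>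
    have h1 : ff (2 * 2 ^ s) = ff (2 ^ s) + 2 ^ s := by
      unfold ff
      exact padicValNat_factorial_mul (p := 2) (2 ^ s)
    rw [pow_succ', h1]
    omega

theorem val_add_pow (s j : ℕ) (hj0 : 0 < j) (hj : j < 2 ^ s) :
    padicValNat 2 (2 ^ s + j) = padicValNat 2 j := by
  obtain ⟨a, b, hb, hjab⟩ := Nat.exists_eq_two_pow_mul_odd (n := j) (by omega)
  have has : a < s := by
    by_contra hcon
    push Not at hcon
    have h1 : 2 ^ s ≤ 2 ^ a := Nat.pow_le_pow_right (by norm_num) hcon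
    have hb1 : 1 ≤ b := by
      rcases hb with ⟨t, ht⟩
      omega
    have : 2 ^ a ≤ 2 ^ a * b := Nat.le_mul_of_pos_right _ hb1
    omega
  obtain ⟨t, ht⟩ : ∃ t, s = a + (t + 1) := ⟨s - a - 1, by omega⟩
  have hsum : 2 ^ s + j = 2 ^ a * (2 ^ (t + 1) + b) := by
    rw [hjab, ht, pow_add]
    ring
  have hodd2 : Odd (2 ^ (t + 1) + b) := by
    apply Even.add_odd _ hb
    exact (Nat.even_pow.2 ⟨even_two, by omega⟩)
  have hval : ∀ c : ℕ, Odd c → padicValNat 2 (2 ^ a * c) = a := by
    intro c hc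
    have hc0 : c ≠ 0 := by
      rcases hc with ⟨t, ht⟩
      omega
    rw [padicValNat.mul (by positivity) hc0, padicValNat.prime_pow,
      padicValNat.eq_zero_of_not_dvd, add_zero]
    rw [← even_iff_two_dvd, Nat.not_even_iff_odd]
    exact hc
  rw [hsum, hval _ hodd2, hjab, hval _ hb]

theorem ff_add (s r : ℕ) (hr : r < 2 ^ s) : ff (2 ^ s + r) = ff (2 ^ s) + ff r := by
  induction r with
  | zero => simp [ff_zero]
  | succ r ih =>
    have h1 : 2 ^ s + (r + 1) = (2 ^ s + r) + 1 := by ring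
    rw [h1, ff_succ, ih (by omega), ← h1, val_add_pow s (r + 1) (by omega) hr, ff_succ]
    ring

theorem val_card_sp [Fintype F] (hodd : Odd (Fintype.card F)) (n : ℕ) :
    (Nat.card ↥(Matrix.symplecticGroup (Fin n) F)).factorization 2 =
      n * (padicValNat 2 (Fintype.card F + 1) + padicValNat 2 (Fintype.card F - 1)) + ff n := by
  set q := Fintype.card F with hqdef
  have hq2 : 2 ≤ q := Fintype.one_lt_card
  rw [Cfsg.Agent.Lib.Helper27.SympTransv.card_symplecticGroup (F := F) (q := q) rfl n]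
  have hne1 : q ^ (n ^ 2) ≠ 0 := by positivity
  have hterm_ne : ∀ i ∈ Finset.range n, q ^ (2 * (i + 1)) - 1 ≠ 0 := by
    intro i _
    have : 2 ≤ q ^ (2 * (i + 1)) := by
      calc 2 ≤ q := hq2
        _ = q ^ 1 := (pow_one q).symm
        _ ≤ q ^ (2 * (i + 1)) := Nat.pow_le_pow_right (by omega) (by omega)
    omega
  have hne2 : ∏ i ∈ Finset.range n, (q ^ (2 * (i + 1)) - 1) ≠ 0 :=
    Finset.prod_ne_zero_iff.2 hterm_ne
  rw [Nat.factorization_mul hne1 hne2, Finsupp.add_apply, Nat.factorization_prod hterm_ne,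
    Finsupp.finsetSum_apply]
  have hq2' : ¬ 2 ∣ q := by
    rw [← even_iff_two_dvd, Nat.not_even_iff_odd]
    exact hodd
  have h0 : (q ^ (n ^ 2)).factorization 2 = 0 := by
    rw [Nat.factorization_def _ Nat.prime_two]
    apply padicValNat.eq_zero_of_not_dvd
    intro h
    exact hq2' (Nat.prime_two.dvd_of_dvd_pow h)
  rw [h0, zero_add, ff_eq_sum]
  have hterm : ∀ i ∈ Finset.range n, (q ^ (2 * (i + 1)) - 1).factorization 2 =
      (padicValNat 2 (q + 1) + padicValNat 2 (q - 1)) + padicValNat 2 (i + 1) := by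
    intro i _
    rw [Nat.factorization_def _ Nat.prime_two]
    have hdvd : 2 ∣ q - 1 := by
      rcases hodd with ⟨t, ht⟩
      exact ⟨t, by omega⟩
    have h1 := padicValNat.pow_two_sub_pow (x := q) (y := 1) (by omega) hdvd hq2'
      (n := 2 * (i + 1)) (by omega) (even_two_mul _)
    rw [one_pow, padicValNat.mul (by norm_num) (by omega), padicValNat_self] at h1
    omega
  rw [Finset.sum_congr rfl hterm, Finset.sum_add_distrib, Finset.sum_const, Finset.card_range,
    smul_eq_mul]

theorem hasE_pow [Fintype F] (hodd : Odd (Fintype.card F)) (s : ℕ) :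
    HasE F (2 ^ s * (padicValNat 2 (Fintype.card F + 1) + padicValNat 2 (Fintype.card F - 1))
      + ff (2 ^ s)) (2 ^ s) := by
  induction s with
  | zero =>
    have h := hasE_base (F := F) hodd
    rw [val_card_sp hodd 1] at h
    simpa using h
  | succ s ih =>
    have h := hasE_step (by positivity) ih
    have h1 := ff_pow s
    have h2 := ff_pow (s + 1)
    rw [← pow_succ'] at h
    have hk : 2 * (2 ^ s * (padicValNat 2 (Fintype.card F + 1) + padicValNat 2 (Fintype.card F - 1))
        + ff (2 ^ s)) + 1 =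
        2 ^ (s + 1) * (padicValNat 2 (Fintype.card F + 1) + padicValNat 2 (Fintype.card F - 1))
          + ff (2 ^ (s + 1)) := by
      rw [pow_succ'] at h2 ⊢
      set c := padicValNat 2 (Fintype.card F + 1) + padicValNat 2 (Fintype.card F - 1)
      have : 2 * (2 ^ s * c) = 2 * 2 ^ s * c := by ring
      omega
    rw [hk] at h
    exact h

theorem hasE_all [Fintype F] (hodd : Odd (Fintype.card F)) (n : ℕ) :
    HasE F (n * (padicValNat 2 (Fintype.card F + 1) + padicValNat 2 (Fintype.card F - 1))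
      + ff n) n := by
  induction n using Nat.strong_induction_on with
  | _ n ih =>
    rcases Nat.eq_zero_or_pos n with hn | hn
    · subst hn
      simpa [ff_zero] using hasE_zero (F := F)
    · set s := Nat.log 2 n with hs
      have h1 : 2 ^ s ≤ n := Nat.pow_log_le_self 2 (by omega)
      have h2 : n < 2 ^ (s + 1) := Nat.lt_pow_succ_log_self (by norm_num) n
      have hr : n - 2 ^ s < 2 ^ s := by
        rw [pow_succ] at h2
        omega
      have hpos : 0 < 2 ^ s := by positivity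
      have h3 := hasE_add (hasE_pow (F := F) hodd s) (ih (n - 2 ^ s) (by omega))
      have hsum : 2 ^ s + (n - 2 ^ s) = n := by omega
      have h4 := ff_add s (n - 2 ^ s) hr
      rw [hsum] at h3 h4
      have hk : 2 ^ s * (padicValNat 2 (Fintype.card F + 1) + padicValNat 2 (Fintype.card F - 1))
          + ff (2 ^ s) + ((n - 2 ^ s) * (padicValNat 2 (Fintype.card F + 1) +
            padicValNat 2 (Fintype.card F - 1)) + ff (n - 2 ^ s)) =
          n * (padicValNat 2 (Fintype.card F + 1) + padicValNat 2 (Fintype.card F - 1)) + ff n := by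
        set c := padicValNat 2 (Fintype.card F + 1) + padicValNat 2 (Fintype.card F - 1)
        have : 2 ^ s * c + (n - 2 ^ s) * c = n * c := by
          rw [← add_mul, hsum]
        omega
      rw [hk] at h3
      exact h3

theorem sqComm_sylow_sp [Fintype F] (hodd : Odd (Fintype.card F)) (n : ℕ)
    (P : Sylow 2 ↥(Matrix.symplecticGroup (Fin n) F)) :
    SqComm ↥(P : Subgroup ↥(Matrix.symplecticGroup (Fin n) F)) := by
  classical
  have h1 := hasE_all (F := F) hodd n
  rw [← val_card_sp hodd n] at h1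
  obtain ⟨Q, hQcard, hQB, hQE⟩ := hasE_fin h1
  let Φ0 : Q →* Matrix (Fin n ⊕ Fin n) (Fin n ⊕ Fin n) F :=
    (((Matrix.toLinAlgEquiv' : Matrix (Fin n ⊕ Fin n) (Fin n ⊕ Fin n) F ≃ₐ[F]
        Module.End F (Fin n ⊕ Fin n → F)).symm :
        Module.End F (Fin n ⊕ Fin n → F) →* Matrix (Fin n ⊕ Fin n) (Fin n ⊕ Fin n) F).comp
      (Units.coeHom (Module.End F (Fin n ⊕ Fin n → F)))).comp Q.subtype
  have hΦ0 : ∀ g : Q, Matrix.toLin' (Φ0 g) = ((g : (Module.End F (Fin n ⊕ Fin n → F))ˣ) :
      Module.End F (Fin n ⊕ Fin n → F)) := by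
    intro g
    show Matrix.toLinAlgEquiv' (Matrix.toLinAlgEquiv'.symm _) = _
    rw [AlgEquiv.apply_symm_apply]
    rfl
  have hmem : ∀ g : Q, Φ0 g ∈ Matrix.symplecticGroup (Fin n) F := by
    intro g
    apply mem_symplectic_of_pres
    intro u v
    have h3 : ∀ w, (Φ0 g).mulVec w = ((g : (Module.End F (Fin n ⊕ Fin n → F))ˣ) :
        Module.End F (Fin n ⊕ Fin n → F)) w := by
      intro w
      rw [← hΦ0 g, Matrix.toLin'_apply]
    rw [h3, h3]
    exact hQB g.2 u v
  let Φ : Q →* ↥(Matrix.symplecticGroup (Fin n) F) :=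
    Φ0.codRestrict (Matrix.symplecticGroup (Fin n) F) hmem
  have hΦ : Function.Injective Φ := by
    intro a b hab
    have h3 : Φ0 a = Φ0 b := congrArg Subtype.val hab
    apply Subtype.ext
    apply Units.ext
    rw [← hΦ0 a, ← hΦ0 b, h3]
  have hfinSp : Finite ↥(Matrix.symplecticGroup (Fin n) F) := inferInstance
  let e : Q ≃* Φ.range := MonoidHom.ofInjective hΦ
  have hcard : Nat.card Φ.range = 2 ^ (Nat.card ↥(Matrix.symplecticGroup (Fin n) F)).factorization 2 := by
    rw [← Nat.card_congr e.toEquiv, hQcard]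
  let P' : Sylow 2 ↥(Matrix.symplecticGroup (Fin n) F) := Sylow.ofCard Φ.range hcard
  have hP'E : SqComm ↥(P' : Subgroup ↥(Matrix.symplecticGroup (Fin n) F)) := hQE.of_equiv e
  obtain ⟨g, hg⟩ := MulAction.exists_smul_eq ↥(Matrix.symplecticGroup (Fin n) F) P' P
  subst hg
  exact hP'E.of_equiv (Sylow.equivSMul P' g)

end Cfsg.Agent.Lib.Helper10.SpSylowE
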