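import Mathlib
import Cfsg.Agent.Lib.Helper10.SpSylowE4

set_option autoImplicit false

namespace Cfsg.Agent.Lib.Helper10.GLSylowE

open Module Cfsg.Agent.Lib.Helper10.SpSylow Cfsg.Agent.Lib.Helper10.WreathLinear
  Cfsg.Agent.Lib.Helper10.SpSylowE

universe u

variable {F : Type u} [Field F]

/-- there is a 2-group of order `2 ^ k` of linear maps of a `d`-dimensional space with
elementary abelian abelianization -/
def HasG (F : Type u) [Field F] (k d : ℕ) : Prop :=
  ∃ (W : Type u) (_ : AddCommGroup W) (_ : Module F W) (_ : FiniteDimensional F W),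
    finrank F W = d ∧ ∃ Q : Subgroup (Module.End F W)ˣ, Nat.card Q = 2 ^ k ∧ SqComm Q

theorem hasG_zero : HasG F 0 0 := by
  refine ⟨PUnit, inferInstance, inferInstance, inferInstance, Module.finrank_zero_of_subsingleton,
    ⊥, ?_, ?_⟩
  · rw [Subgroup.card_bot, pow_zero]
  · intro x
    have : x = 1 := Subsingleton.elim _ _
    rw [this, one_pow]
    exact Subgroup.one_mem _

theorem hasG_step {k d : ℕ} (hd : 0 < d) (h : HasG F k d) : HasG F (2 * k + 1) (2 * d) := by
  classical
  obtain ⟨W, _, _, _, hWd, Q, hQcard, hQE⟩ := h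
  have hWnt : Nontrivial W := by
    rw [← Module.finrank_pos_iff (R := F), hWd]
    exact hd
  let C := Multiplicative (ZMod 2)
  have hCfin : Finite C := inferInstanceAs (Finite (Multiplicative (ZMod 2)))
  let _ : Fintype C := inferInstanceAs (Fintype (Multiplicative (ZMod 2)))
  let _ : DecidableEq C := inferInstanceAs (DecidableEq (Multiplicative (ZMod 2)))
  have hCcard : Fintype.card C = 2 := by
    show Fintype.card (Multiplicative (ZMod 2)) = 2
    rw [Fintype.card_multiplicative, ZMod.card]
  have hCE : SqComm C := by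
    intro x
    have : x ^ 2 = 1 := by
      revert x
      show ∀ x : Multiplicative (ZMod 2), x ^ 2 = 1
      decide
    rw [this]
    exact Subgroup.one_mem _
  let R : RegularWreathProduct Q C →* (Module.End F (C → W))ˣ := wrRep Q.subtype
  have hR : Function.Injective R := wrRep_injective Q.subtype Q.subtype_injective
  let e : RegularWreathProduct Q C ≃* R.range := MonoidHom.ofInjective hR
  have hQfin : Finite Q := Nat.finite_of_card_ne_zero (by rw [hQcard]; positivity)
  refine ⟨C → W, inferInstance, inferInstance, inferInstance, ?_, R.range, ?_, ?_⟩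
  · rw [Module.finrank_pi_fintype]
    simp only [Finset.sum_const, Finset.card_univ, smul_eq_mul, hWd, hCcard]
  · rw [← Nat.card_congr e.toEquiv, RegularWreathProduct.card, hQcard,
      Nat.card_eq_fintype_card (α := C), hCcard, ← pow_mul, pow_succ]
    ring
  · exact (SqComm.wreath hQE hCE).of_equiv e

theorem hasG_add {k d k' d' : ℕ} (h : HasG F k d) (h' : HasG F k' d') :
    HasG F (k + k') (d + d') := by
  classical
  obtain ⟨W, _, _, _, hWd, Q, hQcard, hQE⟩ := h
  obtain ⟨W', _, _, _, hWd', Q', hQ'card, hQ'E⟩ := h'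
  let e : Q × Q' ≃* (prodRep Q Q').range := MonoidHom.ofInjective (prodRep_injective Q Q')
  refine ⟨W × W', inferInstance, inferInstance, inferInstance, ?_, (prodRep Q Q').range, ?_, ?_⟩
  · rw [Module.finrank_prod, hWd, hWd']
  · rw [← Nat.card_congr e.toEquiv, Nat.card_prod, hQcard, hQ'card, pow_add]
  · exact (SqComm.prod hQE hQ'E).of_equiv e

end Cfsg.Agent.Lib.Helper10.GLSylowE
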