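import Mathlib
import Cfsg.Agent.Lib.Helper10.GLSylowE1

set_option autoImplicit false

namespace Cfsg.Agent.Lib.Helper10.GLSylowE

open Module Cfsg.Agent.Lib.Helper10.SpSylow Cfsg.Agent.Lib.Helper10.WreathLinear
  Cfsg.Agent.Lib.Helper10.SpSylowE

universe u

/-- enlarging by an involution -/
theorem sqComm_of_index_two {P : Type*} [Group P] [Finite P] (P₀ : Subgroup P)
    (hcard : Nat.card P = 2 * Nat.card P₀) (hE : SqComm P₀) (t : P) (htP : t ∉ P₀)
    (ht : t ^ 2 = 1) : SqComm P := by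
  apply sqComm_of_sqKer
  have h1 : P₀ ≤ sqKer P := by
    intro x hx
    rw [mem_sqKer]
    have := map_mem_commutator P₀.subtype (hE ⟨x, hx⟩)
    simpa using this
  have h2 : t ∈ sqKer P := by
    rw [mem_sqKer, ht]
    exact Subgroup.one_mem _
  have h3 : Nat.card P₀ ∣ Nat.card (sqKer P) := Subgroup.card_dvd_of_le h1
  have h4 : Nat.card (sqKer P) ∣ Nat.card P := Subgroup.card_subgroup_dvd_card _
  have h5 : Nat.card P₀ < Nat.card (sqKer P) := by
    apply lt_of_le_of_ne (Nat.le_of_dvd Nat.card_pos h3)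
    intro heq
    have : P₀ = sqKer P := Subgroup.eq_of_le_of_card_ge h1 (le_of_eq heq.symm)
    rw [this] at htP
    exact htP h2
  have h6 : Nat.card (sqKer P) = Nat.card P := by
    obtain ⟨a, ha⟩ := h3
    rw [hcard, ha] at h4 ⊢
    rw [ha] at h5
    have hpos : 0 < Nat.card P₀ := Nat.card_pos
    have h4' : Nat.card P₀ * a ∣ Nat.card P₀ * 2 := by
      rw [mul_comm _ 2]
      exact h4
    have ha2 : a ∣ 2 := Nat.dvd_of_mul_dvd_mul_left hpos h4'
    have ha1 : 1 < a := by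
      by_contra hcon
      push Not at hcon
      have : Nat.card P₀ * a ≤ Nat.card P₀ * 1 := Nat.mul_le_mul_left _ hcon
      omega
    have : a = 2 := by
      have := Nat.le_of_dvd (by norm_num) ha2
      omega
    rw [this, mul_comm]
  have h7 : sqKer P = ⊤ := Subgroup.eq_top_of_card_eq _ h6
  intro x
  rw [h7]
  exact Subgroup.mem_top x

variable {F : Type u} [Field F]

theorem val_card_GL2 [Fintype F] (hodd : Odd (Fintype.card F)) (h4 : 4 ∣ Fintype.card F + 1) :
    (Nat.card (Module.End F (Fin 2 → F))ˣ).factorization 2 =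
      (padicValNat 2 (Fintype.card F + 1) + padicValNat 2 (Fintype.card F - 1)) + 1 := by
  set q := Fintype.card F with hqdef
  have hq2 : 2 ≤ q := Fintype.one_lt_card
  have hcard : Nat.card (Module.End F (Fin 2 → F))ˣ = Nat.card (Matrix.GeneralLinearGroup (Fin 2) F) :=
    (Nat.card_congr (Matrix.GeneralLinearGroup.toLin (n := Fin 2) (R := F)).toEquiv).symm
  rw [hcard, Matrix.card_GL_field, Fin.prod_univ_two]
  simp only [Fin.val_zero, Fin.val_one, pow_zero, pow_one]
  rw [← hqdef]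
  have hq2' : ¬ 2 ∣ q := by
    rw [← even_iff_two_dvd, Nat.not_even_iff_odd]
    exact hodd
  have e1 : q ^ 2 - 1 = (q + 1) * (q - 1) := by
    have := Nat.sq_sub_sq q 1
    simpa using this
  have e2 : q ^ 2 - q = q * (q - 1) := by
    rw [pow_two, Nat.mul_sub_one]
  have hv1 : padicValNat 2 (q - 1) = 1 := by
    obtain ⟨a, ha⟩ := h4
    have hq1 : q - 1 = 2 * (2 * a - 1) := by omega
    have hodd' : ¬ 2 ∣ 2 * a - 1 := by omega
    rw [hq1, padicValNat.mul (by norm_num) (by omega), padicValNat_self,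
      padicValNat.eq_zero_of_not_dvd hodd']
  have n1 : q + 1 ≠ 0 := by omega
  have n2 : q - 1 ≠ 0 := by omega
  have n3 : q ≠ 0 := by omega
  rw [e1, e2, Nat.factorization_def _ Nat.prime_two,
    padicValNat.mul (Nat.mul_ne_zero n1 n2) (Nat.mul_ne_zero n3 n2),
    padicValNat.mul n1 n2, padicValNat.mul n3 n2,
    padicValNat.eq_zero_of_not_dvd hq2', hv1]

theorem sqComm_sylow_GL2 [Fintype F] (hodd : Odd (Fintype.card F)) (h4 : 4 ∣ Fintype.card F + 1) :
    ∃ P : Sylow 2 (Module.End F (Fin 2 → F))ˣ,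
      SqComm ↥(P : Subgroup (Module.End F (Fin 2 → F))ˣ) := by
  classical
  have h2 := two_ne_zero_of_odd (F := F) _ rfl hodd
  have hfinSp : Finite ↥(Matrix.symplecticGroup (Fin 1) F) := inferInstance
  have hfinU : Finite (Module.End F (Fin 2 → F))ˣ :=
    Finite.of_equiv _ (Matrix.GeneralLinearGroup.toLin (n := Fin 2) (R := F)).toEquiv
  let P₁ : Sylow 2 ↥(Matrix.symplecticGroup (Fin 1) F) := default
  have hP₁E := sqComm_sylow_sp1 hodd P₁
  let ε : (Fin 1 ⊕ Fin 1 → F) ≃ₗ[F] (Fin 2 → F) :=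
    LinearEquiv.funCongrLeft F F (finSumFinEquiv (m := 1) (n := 1)).symm
  let θ : (Module.End F (Fin 1 ⊕ Fin 1 → F))ˣ →* (Module.End F (Fin 2 → F))ˣ :=
    Units.map (conjHom ε)
  have hθinj : Function.Injective θ := by
    intro a b hab
    apply Units.ext
    apply conjHom_injective ε
    have := congrArg (fun u : (Module.End F (Fin 2 → F))ˣ => (u : Module.End F (Fin 2 → F))) hab
    simpa [θ] using this
  let ψ : ↥(P₁ : Subgroup ↥(Matrix.symplecticGroup (Fin 1) F)) →* (Module.End F (Fin 2 → F))ˣ :=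
    (θ.comp (spToEnd (F := F) (Fin 1))).comp
      (P₁ : Subgroup ↥(Matrix.symplecticGroup (Fin 1) F)).subtype
  have hψ : Function.Injective ψ := by
    intro a b hab
    apply Subtype.ext
    apply spToEnd_injective (Fin 1)
    exact hθinj hab
  let e₀ : ↥(P₁ : Subgroup ↥(Matrix.symplecticGroup (Fin 1) F)) ≃* ψ.range :=
    MonoidHom.ofInjective hψ
  have hP₀card : Nat.card ψ.range =
      2 ^ (padicValNat 2 (Fintype.card F + 1) + padicValNat 2 (Fintype.card F - 1)) := by
    rw [← Nat.card_congr e₀.toEquiv, P₁.card_eq_multiplicity, val_card_sp hodd 1]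
    simp [ff]
  have hP₀p : IsPGroup 2 ψ.range := IsPGroup.of_card hP₀card
  obtain ⟨P, hP⟩ := hP₀p.exists_le_sylow
  have hPcard : Nat.card ↥(P : Subgroup (Module.End F (Fin 2 → F))ˣ) =
      2 * Nat.card ψ.range := by
    rw [P.card_eq_multiplicity, val_card_GL2 hodd h4, hP₀card, pow_succ, mul_comm]
  -- the involution
  let M₀ : Matrix (Fin 2) (Fin 2) F := !![1, 0; 0, -1]
  have hM₀det : M₀.det = -1 := by
    rw [Matrix.det_fin_two_of]
    ring
  let g₀ : Matrix.GeneralLinearGroup (Fin 2) F :=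
    Matrix.GeneralLinearGroup.mkOfDetNeZero M₀ (by rw [hM₀det]; simp)
  have hg₀sq : g₀ ^ 2 = 1 := by
    apply Units.ext
    show M₀ ^ 2 = 1
    rw [pow_two]
    ext i j
    fin_cases i <;> fin_cases j <;> simp [M₀, Matrix.mul_apply, Fin.sum_univ_two]
  let t₀ : (Module.End F (Fin 2 → F))ˣ := Matrix.GeneralLinearGroup.toLin (n := Fin 2) (R := F) g₀
  have ht₀sq : t₀ ^ 2 = 1 := by
    rw [← map_pow, hg₀sq, map_one]
  have ht₀ne : t₀ ≠ -1 := by
    intro h
    have h1 := congrArg (fun u : (Module.End F (Fin 2 → F))ˣ =>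
      (u : Module.End F (Fin 2 → F)) ![1, 0] 0) h
    simp only [t₀, Matrix.GeneralLinearGroup.coe_toLin] at h1
    have h3 : (Matrix.mulVecLin (g₀ : Matrix (Fin 2) (Fin 2) F)) ![1, 0] 0 = 1 := by
      show (M₀.mulVec ![1, 0]) 0 = 1
      simp [M₀, Matrix.mulVec, dotProduct, Fin.sum_univ_two]
    rw [h3] at h1
    simp at h1
    apply h2
    linear_combination h1
  have ht₀ne1 : t₀ ≠ 1 := by
    intro h
    have h1 := congrArg (fun u : (Module.End F (Fin 2 → F))ˣ =>
      (u : Module.End F (Fin 2 → F)) ![0, 1] 1) h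
    simp only [t₀, Matrix.GeneralLinearGroup.coe_toLin] at h1
    have h3 : (Matrix.mulVecLin (g₀ : Matrix (Fin 2) (Fin 2) F)) ![0, 1] 1 = -1 := by
      show (M₀.mulVec ![0, 1]) 1 = -1
      simp [M₀, Matrix.mulVec, dotProduct, Fin.sum_univ_two]
    rw [h3] at h1
    simp at h1
    apply h2
    linear_combination (-1 : F) * h1
  have ht₀p : IsPGroup 2 (Subgroup.zpowers t₀) := by
    rintro ⟨g, hg⟩
    obtain ⟨m, rfl⟩ := Subgroup.mem_zpowers_iff.1 hg
    refine ⟨1, ?_⟩
    apply Subtype.ext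
    show (t₀ ^ m) ^ 2 ^ 1 = 1
    rw [pow_one, ← zpow_natCast, ← zpow_mul, mul_comm, zpow_mul, zpow_natCast, ht₀sq, one_zpow]
  obtain ⟨P₂, hP₂⟩ := ht₀p.exists_le_sylow
  obtain ⟨g, hg⟩ := MulAction.exists_smul_eq (Module.End F (Fin 2 → F))ˣ P₂ P
  have htP : g * t₀ * g⁻¹ ∈ (P : Subgroup (Module.End F (Fin 2 → F))ˣ) := by
    rw [← hg, Sylow.coe_subgroup_smul]
    exact ⟨t₀, hP₂ (Subgroup.mem_zpowers t₀), rfl⟩
  set t := g * t₀ * g⁻¹ with ht
  have htsq : t ^ 2 = 1 := by
    rw [ht, pow_two]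
    have : g * t₀ * g⁻¹ * (g * t₀ * g⁻¹) = g * (t₀ ^ 2) * g⁻¹ := by
      rw [pow_two]; group
    rw [this, ht₀sq]
    group
  have htne : t ≠ -1 := by
    intro h
    apply ht₀ne
    have : t₀ = g⁻¹ * t * g := by rw [ht]; group
    rw [this, h]
    apply Units.ext
    simp
  have htne1 : t ≠ 1 := by
    intro h
    apply ht₀ne1
    have : t₀ = g⁻¹ * t * g := by rw [ht]; group
    rw [this, h, mul_one, inv_mul_cancel]
  have htP₀ : t ∉ ψ.range := by
    rintro ⟨s, hs⟩
    have hs1 : s ≠ 1 := by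
      intro h
      apply htne1
      rw [← hs, h, map_one]
    have hs2 : s ^ 2 = 1 := by
      apply hψ
      rw [map_pow, hs, htsq, map_one]
    have hmat : (s.1.1 : Matrix (Fin 1 ⊕ Fin 1) (Fin 1 ⊕ Fin 1) F) = -1 := by
      apply sp1_inv h2 _ s.1.2
      · have := congrArg (fun z : ↥(P₁ : Subgroup ↥(Matrix.symplecticGroup (Fin 1) F)) =>
          (z.1.1 : Matrix (Fin 1 ⊕ Fin 1) (Fin 1 ⊕ Fin 1) F)) hs2
        simpa [pow_two] using this
      · intro h
        apply hs1
        apply Subtype.ext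
        apply Subtype.ext
        exact h
    apply htne
    rw [← hs]
    apply Units.ext
    apply LinearMap.ext
    intro w
    show ε ((((spToEnd (F := F) (Fin 1) s.1 : (Module.End F (Fin 1 ⊕ Fin 1 → F))ˣ) :
      Module.End F (Fin 1 ⊕ Fin 1 → F))) (ε.symm w)) = _
    rw [spToEnd_apply, hmat, Matrix.neg_mulVec, Matrix.one_mulVec, map_neg,
      LinearEquiv.apply_symm_apply]
    rfl
  -- assemble
  refine ⟨P, ?_⟩
  have hfinP : Finite ↥(P : Subgroup (Module.End F (Fin 2 → F))ˣ) := inferInstance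
  apply sqComm_of_index_two (ψ.range.subgroupOf (P : Subgroup (Module.End F (Fin 2 → F))ˣ))
    _ _ ⟨t, htP⟩
  · rw [Subgroup.mem_subgroupOf]
    exact htP₀
  · apply Subtype.ext
    exact htsq
  · rw [hPcard, Nat.card_congr (Subgroup.subgroupOfEquivOfLe hP).toEquiv]
  · exact (hP₁E.of_equiv e₀).of_equiv (Subgroup.subgroupOfEquivOfLe hP).symm

theorem hasG_base [Fintype F] (hodd : Odd (Fintype.card F)) (h4 : 4 ∣ Fintype.card F + 1) :
    HasG F ((padicValNat 2 (Fintype.card F + 1) + padicValNat 2 (Fintype.card F - 1)) + 1) 2 := by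
  obtain ⟨P, hP⟩ := sqComm_sylow_GL2 hodd h4
  have hfinU : Finite (Module.End F (Fin 2 → F))ˣ :=
    Finite.of_equiv _ (Matrix.GeneralLinearGroup.toLin (n := Fin 2) (R := F)).toEquiv
  refine ⟨Fin 2 → F, inferInstance, inferInstance, inferInstance, Module.finrank_fin_fun F,
    (P : Subgroup (Module.End F (Fin 2 → F))ˣ), ?_, hP⟩
  rw [P.card_eq_multiplicity, val_card_GL2 hodd h4]

end Cfsg.Agent.Lib.Helper10.GLSylowE
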