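import Mathlib
import Cfsg.Agent.Lib.Helper25.GLSylow
import Cfsg.Agent.Lib.Helper25.GLSylow2
import Cfsg.Agent.Lib.Helper27.SympOrder

set_option autoImplicit false
open scoped MatrixGroups

namespace Cfsg.Agent.Lib.Helper10.SpSylowR

open Cfsg.Agent.Lib.Helper25.GLSylow

section Arith

variable (r : ℕ) [hr : Fact r.Prime]

theorem val_pow_mul' (q : ℕ) (hq : 2 ≤ q) (d t : ℕ) (hd0 : 0 < d) (hd : r ∣ q ^ d - 1)
    (htr : ¬ r ∣ t) : padicValNat r (q ^ (d * t) - 1) = padicValNat r (q ^ d - 1) := by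
  have hx : 2 ≤ q ^ d := by
    calc 2 ≤ q := hq
      _ = q ^ 1 := (pow_one q).symm
      _ ≤ q ^ d := Nat.pow_le_pow_right (by omega) hd0
  obtain ⟨y, hy⟩ : ∃ y, q ^ d = y + 1 := ⟨q ^ d - 1, by omega⟩
  have hy0 : y ≠ 0 := by omega
  have hgeom := geom_id y t
  have e1 : q ^ (d * t) - 1 = y * ∑ s ∈ Finset.range t, (y + 1) ^ s := by
    rw [pow_mul, hy, ← hgeom]
    omega
  have e2 : q ^ d - 1 = y := by omega
  rw [e2] at hd
  have hsum : ¬ r ∣ ∑ s ∈ Finset.range t, (y + 1) ^ s := by
    rw [← ZMod.natCast_eq_zero_iff]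
    have hy' : ((y : ℕ) : ZMod r) = 0 := (ZMod.natCast_eq_zero_iff y r).mpr hd
    push_cast
    rw [hy']
    simp only [zero_add, one_pow, Finset.sum_const, Finset.card_range, nsmul_eq_mul, mul_one]
    rw [ZMod.natCast_eq_zero_iff]
    exact htr
  have hsum0 : (∑ s ∈ Finset.range t, (y + 1) ^ s) ≠ 0 := by
    intro h0
    rw [h0] at hsum
    exact hsum (dvd_zero r)
  rw [e1, e2, padicValNat.mul hy0 hsum0, padicValNat.eq_zero_of_not_dvd hsum, add_zero]

/-- the valuation of `q ^ j - 1` -/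
theorem val_pow_sub_one (q : ℕ) (hq : 2 ≤ q) (hrq : ¬ r ∣ q) (j : ℕ) (hj : ¬ r ∣ j) :
    padicValNat r (q ^ j - 1) =
      if orderOf (q : ZMod r) ∣ j then padicValNat r (q ^ orderOf (q : ZMod r) - 1) else 0 := by
  set d := orderOf (q : ZMod r) with hddef
  have hunit : IsUnit ((q : ℕ) : ZMod r) := by
    rw [ZMod.isUnit_iff_coprime]
    exact ((Nat.Prime.coprime_iff_not_dvd hr.out).mpr hrq).symm
  have hd0 : 0 < d := by
    rw [hddef, orderOf_pos_iff]
    exact hunit.isOfFinOrder
  split_ifs with h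
  · obtain ⟨t, rfl⟩ := h
    have hdd : r ∣ q ^ d - 1 := (dvd_pow_sub_one_iff r q (by omega) d).mpr dvd_rfl
    apply val_pow_mul' r q hq d t hd0 hdd
    intro hrt
    exact hj (dvd_mul_of_dvd_right hrt d)
  · apply padicValNat.eq_zero_of_not_dvd
    rw [dvd_pow_sub_one_iff r q (by omega) j]
    exact h

theorem val_card_GL' {F : Type*} [Field F] [Fintype F] (N : ℕ) (hrq : ¬ r ∣ Fintype.card F)
    (hrN : ∀ t, 0 < t → orderOf ((Fintype.card F : ℕ) : ZMod r) * t ≤ N → ¬ r ∣ t) :
    (Nat.card (GL (Fin N) F)).factorization r =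
      (N / orderOf ((Fintype.card F : ℕ) : ZMod r)) *
        padicValNat r (Fintype.card F ^ orderOf ((Fintype.card F : ℕ) : ZMod r) - 1) := by
  set q := Fintype.card F with hqdef
  have hq2 : 2 ≤ q := Fintype.one_lt_card
  set d := orderOf ((q : ℕ) : ZMod r) with hddef
  have hunit : IsUnit ((q : ℕ) : ZMod r) := by
    rw [ZMod.isUnit_iff_coprime]
    exact ((Nat.Prime.coprime_iff_not_dvd hr.out).mpr hrq).symm
  have hd0 : 0 < d := by
    rw [hddef, orderOf_pos_iff]
    exact hunit.isOfFinOrder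
  let w : ℕ → ℕ := fun j => padicValNat r (q ^ j - 1)
  have hw0 : ∀ j, ¬ d ∣ j → w j = 0 := by
    intro j hj
    apply padicValNat.eq_zero_of_not_dvd
    rw [dvd_pow_sub_one_iff r q (by omega) j]
    exact hj
  have hdd : r ∣ q ^ d - 1 := (dvd_pow_sub_one_iff r q (by omega) d).mpr dvd_rfl
  have hw1 : ∀ t, 0 < t → d * t ≤ N → w (d * t) = w d := by
    intro t ht htn
    exact val_pow_mul' r q hq2 d t hd0 hdd (hrN t ht htn)
  have hsum := sum_val' w d N hw0 hw1
  rw [Matrix.card_GL_field, Nat.factorization_prod, Finsupp.finsetSum_apply]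
  · rw [← hsum]
    have hterm : ∀ i : Fin N, (q ^ N - q ^ (i : ℕ)).factorization r = w (N - i) := by
      intro i
      have hi : (i : ℕ) < N := i.2
      have e1 : q ^ N - q ^ (i : ℕ) = q ^ (i : ℕ) * (q ^ (N - i) - 1) := by
        rw [Nat.mul_sub, mul_one, ← pow_add]
        congr 2
        omega
      have hqi : q ^ (i : ℕ) ≠ 0 := by positivity
      have hne : q ^ (N - (i : ℕ)) - 1 ≠ 0 := by
        have : 2 ≤ q ^ (N - (i : ℕ)) := by
          calc 2 ≤ q := hq2
            _ = q ^ 1 := (pow_one q).symm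
            _ ≤ q ^ (N - (i : ℕ)) := Nat.pow_le_pow_right (by omega) (by omega)
        omega
      rw [Nat.factorization_def _ hr.out, e1, padicValNat.mul hqi hne]
      have : padicValNat r (q ^ (i : ℕ)) = 0 := by
        apply padicValNat.eq_zero_of_not_dvd
        intro h
        exact hrq (hr.out.dvd_of_dvd_pow h)
      rw [this, zero_add]
    rw [Finset.sum_congr rfl (fun i _ => hterm i)]
    rw [Fin.sum_univ_eq_sum_range (fun i => w (N - i)) N]
    have h2 : ∀ j ∈ Finset.range N, w (N - j) = (fun e => w (e + 1)) (N - 1 - j) := by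
      intro j hj
      rw [Finset.mem_range] at hj
      show w (N - j) = w (N - 1 - j + 1)
      congr 1
      omega
    rw [Finset.sum_congr rfl h2]
    exact Finset.sum_range_reflect (fun e => w (e + 1)) N
  · intro i _
    have hi : (i : ℕ) < N := i.2
    have : q ^ (i : ℕ) < q ^ N := Nat.pow_lt_pow_right (by omega) hi
    show q ^ N - q ^ (i : ℕ) ≠ 0
    omega

end Arith

section Arith2

variable (r : ℕ) [hr : Fact r.Prime]

theorem count_odd (n d : ℕ) (hd : Odd d) :
    ((Finset.Icc 1 n).filter (fun i => d ∣ 2 * i)).card = n / d := by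
  rw [← Nat.Ioc_filter_dvd_card_eq_div n d]
  congr 1
  ext i
  simp only [Finset.mem_filter, Finset.mem_Icc, Finset.mem_Ioc]
  have hcop : Nat.Coprime d 2 := Nat.Coprime.symm (Nat.coprime_two_left.2 hd)
  constructor
  · rintro ⟨h1, h2⟩
    exact ⟨by omega, hcop.dvd_of_dvd_mul_left h2⟩
  · rintro ⟨h1, h2⟩
    exact ⟨by omega, dvd_mul_of_dvd_right h2 2⟩

theorem count_even (n e : ℕ) :
    ((Finset.Icc 1 n).filter (fun i => 2 * e ∣ 2 * i)).card = n / e := by
  rw [← Nat.Ioc_filter_dvd_card_eq_div n e]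
  congr 1
  ext i
  simp only [Finset.mem_filter, Finset.mem_Icc, Finset.mem_Ioc]
  rw [Nat.mul_dvd_mul_iff_left (by norm_num : 0 < 2)]
  constructor
  · rintro ⟨h1, h2⟩
    exact ⟨by omega, h2⟩
  · rintro ⟨h1, h2⟩
    exact ⟨by omega, h2⟩

theorem val_card_Sp {F : Type*} [Field F] [Fintype F] (n : ℕ) (hr2 : r ≠ 2) (hrn : n < r)
    (hrq : ¬ r ∣ Fintype.card F) :
    (Nat.card (Matrix.symplecticGroup (Fin n) F)).factorization r =
      ((Finset.Icc 1 n).filter (fun i => orderOf ((Fintype.card F : ℕ) : ZMod r) ∣ 2 * i)).card *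
        padicValNat r (Fintype.card F ^ orderOf ((Fintype.card F : ℕ) : ZMod r) - 1) := by
  set q := Fintype.card F with hqdef
  have hq2 : 2 ≤ q := Fintype.one_lt_card
  set d := orderOf ((q : ℕ) : ZMod r) with hddef
  set v := padicValNat r (q ^ d - 1) with hvdef
  rw [Cfsg.Agent.Lib.Helper27.SympTransv.card_symplecticGroup (F := F) (q := q) rfl n]
  have hne1 : q ^ (n ^ 2) ≠ 0 := by positivity
  have hterm_ne : ∀ i ∈ Finset.range n, q ^ (2 * (i + 1)) - 1 ≠ 0 := by
    intro i _
    have : 2 ≤ q ^ (2 * (i + 1)) := by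
      calc 2 ≤ q := hq2
        _ = q ^ 1 := (pow_one q).symm
        _ ≤ q ^ (2 * (i + 1)) := Nat.pow_le_pow_right (by omega) (by omega)
    omega
  have hne2 : ∏ i ∈ Finset.range n, (q ^ (2 * (i + 1)) - 1) ≠ 0 :=
    Finset.prod_ne_zero_iff.2 hterm_ne
  rw [Nat.factorization_mul hne1 hne2, Finsupp.add_apply, Nat.factorization_prod hterm_ne,
    Finsupp.finsetSum_apply]
  have h0 : (q ^ (n ^ 2)).factorization r = 0 := by
    rw [Nat.factorization_def _ hr.out]
    apply padicValNat.eq_zero_of_not_dvd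
    intro h
    exact hrq (hr.out.dvd_of_dvd_pow h)
  rw [h0, zero_add]
  have hterm : ∀ i ∈ Finset.range n, (q ^ (2 * (i + 1)) - 1).factorization r
      = if d ∣ 2 * (i + 1) then v else 0 := by
    intro i hi
    rw [Finset.mem_range] at hi
    rw [Nat.factorization_def _ hr.out]
    apply val_pow_sub_one r q hq2 hrq
    intro hdvd
    rcases (Nat.Prime.dvd_mul hr.out).1 hdvd with h | h
    · have := (Nat.prime_dvd_prime_iff_eq hr.out Nat.prime_two).1 h
      exact hr2 this
    · have := Nat.le_of_dvd (by omega) h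
      omega
  rw [Finset.sum_congr rfl hterm, Finset.card_filter, Finset.sum_mul]
  have hIcc : Finset.Icc 1 n = Finset.Ico 1 (n + 1) := by
    ext i
    simp only [Finset.mem_Icc, Finset.mem_Ico]
    omega
  rw [hIcc, Finset.sum_Ico_eq_sum_range]
  simp only [Nat.add_sub_cancel]
  apply Finset.sum_congr rfl
  intro i _
  rw [add_comm 1 i]
  split_ifs <;> simp

end Arith2

section Emb

open Matrix

variable {F : Type*} [Field F]

/-- the embedding `A ↦ diag(A, A⁻ᵀ)` of `GL_n` into `Sp_2n` -/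
def glToSp (n : ℕ) : GL (Fin n) F →* Matrix.symplecticGroup (Fin n) F where
  toFun A := ⟨Matrix.fromBlocks (A : Matrix (Fin n) (Fin n) F) 0 0
      ((A⁻¹ : GL (Fin n) F) : Matrix (Fin n) (Fin n) F)ᵀ, by
    rw [SymplecticGroup.fromBlocks_mem_iff]
    refine ⟨by simp, by simp, ?_⟩
    rw [← Matrix.transpose_mul, ← Units.val_mul, inv_mul_cancel]
    simp⟩
  map_one' := by
    apply Subtype.ext
    show Matrix.fromBlocks ((1 : GL (Fin n) F) : Matrix (Fin n) (Fin n) F) 0 0
      (((1 : GL (Fin n) F)⁻¹ : GL (Fin n) F) : Matrix (Fin n) (Fin n) F)ᵀ = 1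
    simp
  map_mul' := by
    intro A B
    apply Subtype.ext
    show Matrix.fromBlocks ((A * B : GL (Fin n) F) : Matrix (Fin n) (Fin n) F) 0 0
        (((A * B)⁻¹ : GL (Fin n) F) : Matrix (Fin n) (Fin n) F)ᵀ
      = Matrix.fromBlocks (A : Matrix (Fin n) (Fin n) F) 0 0
          ((A⁻¹ : GL (Fin n) F) : Matrix (Fin n) (Fin n) F)ᵀ
        * Matrix.fromBlocks (B : Matrix (Fin n) (Fin n) F) 0 0
          ((B⁻¹ : GL (Fin n) F) : Matrix (Fin n) (Fin n) F)ᵀ
    rw [Matrix.fromBlocks_multiply, _root_.mul_inv_rev, Units.val_mul, Units.val_mul,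
      Matrix.transpose_mul]
    simp

theorem glToSp_injective (n : ℕ) : Function.Injective (glToSp (F := F) n) := by
  intro A B hAB
  have h1 := congrArg Subtype.val hAB
  have h2 := (Matrix.fromBlocks_inj.1 h1).1
  exact Units.ext h2

/-- the embedding of `Sp_2n` into `GL_(n+n)` -/
noncomputable def spToGL (n : ℕ) : Matrix.symplecticGroup (Fin n) F →* GL (Fin (n + n)) F :=
  (Units.mapEquiv (Matrix.reindexAlgEquiv F F (finSumFinEquiv : Fin n ⊕ Fin n ≃ Fin (n + n))).toMulEquiv).toMonoidHom.comp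
    (MonoidHom.toHomUnits (Matrix.symplecticGroup (Fin n) F).subtype)

theorem spToGL_injective (n : ℕ) : Function.Injective (spToGL (F := F) n) := by
  intro A B hAB
  have h1 := (Units.mapEquiv (Matrix.reindexAlgEquiv F F
    (finSumFinEquiv : Fin n ⊕ Fin n ≃ Fin (n + n))).toMulEquiv).injective hAB
  have h2 := congrArg Units.val h1
  exact Subtype.ext h2

end Emb

open Matrix in
theorem main_Sp {F : Type*} [Field F] [Fintype F] (n r : ℕ) [hr : Fact r.Prime] (hr2 : r ≠ 2)
    (hrn : n < r) (hrq : ¬ r ∣ Fintype.card F) (d v : ℕ)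
    (hd : d = orderOf ((Fintype.card F : ℕ) : ZMod r))
    (hv : v = padicValNat r (Fintype.card F ^ d - 1))
    (P : Sylow r ↥(Matrix.symplecticGroup (Fin n) F)) :
    Nonempty (↥(P : Subgroup ↥(Matrix.symplecticGroup (Fin n) F)) ≃*
      (Fin ((Finset.Icc 1 n).filter (fun i => d ∣ 2 * i)).card →
        Multiplicative (ZMod (r ^ v)))) := by
  classical
  have hfinSp : Finite ↥(Matrix.symplecticGroup (Fin n) F) := inferInstance
  have hval := val_card_Sp r (F := F) n hr2 hrn hrq
  rw [← hd, ← hv] at hval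
  have hunit : IsUnit ((Fintype.card F : ℕ) : ZMod r) := by
    rw [ZMod.isUnit_iff_coprime]
    exact ((Nat.Prime.coprime_iff_not_dvd hr.out).mpr hrq).symm
  have hd0 : 0 < d := by
    rw [hd, orderOf_pos_iff]
    exact hunit.isOfFinOrder
  have hne : NeZero (r ^ v) := ⟨pow_ne_zero _ hr.out.ne_zero⟩
  have hcardZ : Nat.card (Multiplicative (ZMod (r ^ v))) = r ^ v := by
    rw [Nat.card_eq_fintype_card, Fintype.card_multiplicative, ZMod.card]
  rcases Nat.even_or_odd d with hde | hdo
  · obtain ⟨e, he⟩ := hde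
    have hd2 : d = 2 * e := by omega
    have hcount : ((Finset.Icc 1 n).filter (fun i => d ∣ 2 * i)).card = (n + n) / d := by
      rw [hd2, count_even]
      have : n + n = 2 * n := by ring
      rw [this, Nat.mul_div_mul_left _ _ (by norm_num : 0 < 2)]
    rw [hcount]
    rw [hcount] at hval
    obtain ⟨f, hf⟩ := exists_torus (F := F) (n + n) r hrq d v hd hv
    have hGLval := val_card_GL' r (F := F) (n + n) hrq (by
      intro t ht htn hrt
      rw [← hd] at htn
      have h1 := Nat.le_of_dvd ht hrt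
      have h2 : 2 * t ≤ d * t := Nat.mul_le_mul_right t (by omega)
      omega)
    rw [← hd, ← hv] at hGLval
    have hg := spToGL_injective (F := F) n
    have hP₁card : Nat.card ((P : Subgroup ↥(Matrix.symplecticGroup (Fin n) F)).map (spToGL (F := F) n))
        = r ^ (Nat.card (GL (Fin (n + n)) F)).factorization r := by
      rw [← Nat.card_congr ((P : Subgroup ↥(Matrix.symplecticGroup (Fin n) F)).equivMapOfInjective
        (spToGL (F := F) n) hg).toEquiv, Sylow.card_eq_multiplicity, hval, hGLval]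
    let Q₁ : Sylow r (GL (Fin (n + n)) F) := Sylow.ofCard _ hP₁card
    have hcardA : Nat.card (Fin ((n + n) / d) → Multiplicative (ZMod (r ^ v)))
        = r ^ (Nat.card (GL (Fin (n + n)) F)).factorization r := by
      rw [Nat.card_fun, Nat.card_fin, hcardZ, hGLval, ← pow_mul, mul_comm]
    obtain ⟨φ⟩ := sylow_iso_of_embedding r f hf hcardA Q₁
    exact ⟨((P : Subgroup ↥(Matrix.symplecticGroup (Fin n) F)).equivMapOfInjective
      (spToGL (F := F) n) hg).trans φ⟩
  · have hcount : ((Finset.Icc 1 n).filter (fun i => d ∣ 2 * i)).card = n / d := count_odd n d hdo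
    rw [hcount]
    rw [hcount] at hval
    obtain ⟨f, hf⟩ := exists_torus (F := F) n r hrq d v hd hv
    have hcardA : Nat.card (Fin (n / d) → Multiplicative (ZMod (r ^ v)))
        = r ^ (Nat.card ↥(Matrix.symplecticGroup (Fin n) F)).factorization r := by
      rw [Nat.card_fun, Nat.card_fin, hcardZ, hval, ← pow_mul, mul_comm]
    exact sylow_iso_of_embedding r ((glToSp (F := F) n).comp f)
      ((glToSp_injective n).comp hf) hcardA P

end Cfsg.Agent.Lib.Helper10.SpSylowR
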