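import Mathlib
import Cfsg.Agent.Lib.Helper10.GLSylowE2
import Cfsg.Agent.Lib.Helper10.SpSylowR
import Cfsg.Agent.Lib.Helper19.ExcIso

set_option autoImplicit false
open scoped MatrixGroups

namespace Cfsg.Agent.Lib.Helper10.GLSylowE

open Module Cfsg.Agent.Lib.Helper10.SpSylow Cfsg.Agent.Lib.Helper10.WreathLinear
  Cfsg.Agent.Lib.Helper10.SpSylowE

universe u

variable {F : Type u} [Field F]

theorem val_card_GL_two [Fintype F] (hodd : Odd (Fintype.card F)) (N : ℕ) :
    (Nat.card (GL (Fin N) F)).factorization 2 =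
      ∑ e ∈ Finset.range N, padicValNat 2 (Fintype.card F ^ (e + 1) - 1) := by
  set q := Fintype.card F with hqdef
  have hq2 : 2 ≤ q := Fintype.one_lt_card
  have hq2' : ¬ 2 ∣ q := by
    rw [← even_iff_two_dvd, Nat.not_even_iff_odd]
    exact hodd
  let w : ℕ → ℕ := fun j => padicValNat 2 (q ^ j - 1)
  rw [Matrix.card_GL_field, Nat.factorization_prod, Finsupp.finsetSum_apply]
  · have hterm : ∀ i : Fin N, (q ^ N - q ^ (i : ℕ)).factorization 2 = w (N - i) := by
      intro i
      have hi : (i : ℕ) < N := i.2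
      have e1 : q ^ N - q ^ (i : ℕ) = q ^ (i : ℕ) * (q ^ (N - i) - 1) := by
        rw [Nat.mul_sub, mul_one, ← pow_add]
        congr 2
        omega
      have hqi : q ^ (i : ℕ) ≠ 0 := by positivity
      have hne : q ^ (N - (i : ℕ)) - 1 ≠ 0 := by
        have : 2 ≤ q ^ (N - (i : ℕ)) := by
          calc 2 ≤ q := hq2
            _ = q ^ 1 := (pow_one q).symm
            _ ≤ q ^ (N - (i : ℕ)) := Nat.pow_le_pow_right (by omega) (by omega)
        omega
      rw [Nat.factorization_def _ Nat.prime_two, e1, padicValNat.mul hqi hne]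
      have : padicValNat 2 (q ^ (i : ℕ)) = 0 := by
        apply padicValNat.eq_zero_of_not_dvd
        intro h
        exact hq2' (Nat.prime_two.dvd_of_dvd_pow h)
      rw [this, zero_add]
    rw [Finset.sum_congr rfl (fun i _ => hterm i)]
    rw [Fin.sum_univ_eq_sum_range (fun i => w (N - i)) N]
    have h2 : ∀ j ∈ Finset.range N, w (N - j) = (fun e => w (e + 1)) (N - 1 - j) := by
      intro j hj
      rw [Finset.mem_range] at hj
      show w (N - j) = w (N - 1 - j + 1)
      congr 1
      omega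
    rw [Finset.sum_congr rfl h2]
    exact Finset.sum_range_reflect (fun e => w (e + 1)) N
  · intro i _
    have hi : (i : ℕ) < N := i.2
    have : q ^ (i : ℕ) < q ^ N := Nat.pow_lt_pow_right (by omega) hi
    show q ^ N - q ^ (i : ℕ) ≠ 0
    omega

theorem val_sub_one (q : ℕ) (h4 : 4 ∣ q + 1) : padicValNat 2 (q - 1) = 1 := by
  obtain ⟨a, ha⟩ := h4
  have hq1 : q - 1 = 2 * (2 * a - 1) := by omega
  have hodd' : ¬ 2 ∣ 2 * a - 1 := by omega
  rw [hq1, padicValNat.mul (by norm_num) (by omega), padicValNat_self,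
    padicValNat.eq_zero_of_not_dvd hodd']

theorem w_odd (q : ℕ) (hodd : Odd q) (hq2 : 2 ≤ q) (h4 : 4 ∣ q + 1) (i : ℕ) :
    padicValNat 2 (q ^ (2 * i + 1) - 1) = 1 := by
  have hdvd : 2 ∣ q ^ 1 - 1 := by
    rcases hodd with ⟨t, ht⟩
    exact ⟨t, by rw [pow_one]; omega⟩
  have h1 := Cfsg.Agent.Lib.Helper10.SpSylowR.val_pow_mul' 2 q hq2 1 (2 * i + 1) (by norm_num) hdvd
    (by omega)
  rw [one_mul, pow_one] at h1
  rw [h1, val_sub_one q h4]

theorem w_even (q : ℕ) (hodd : Odd q) (hq2 : 2 ≤ q) (i : ℕ) :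
    padicValNat 2 (q ^ (2 * (i + 1)) - 1) =
      (padicValNat 2 (q + 1) + padicValNat 2 (q - 1)) + padicValNat 2 (i + 1) := by
  have hq2' : ¬ 2 ∣ q := by
    rw [← even_iff_two_dvd, Nat.not_even_iff_odd]
    exact hodd
  have hdvd : 2 ∣ q - 1 := by
    rcases hodd with ⟨t, ht⟩
    exact ⟨t, by omega⟩
  have h1 := padicValNat.pow_two_sub_pow (x := q) (y := 1) (by omega) hdvd hq2'
    (n := 2 * (i + 1)) (by omega) (even_two_mul _)
  rw [one_pow, padicValNat.mul (by norm_num) (by omega), padicValNat_self] at h1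
  omega

theorem sum_w (q : ℕ) (hodd : Odd q) (hq2 : 2 ≤ q) (h4 : 4 ∣ q + 1) (m : ℕ) :
    ∑ e ∈ Finset.range (2 * m), padicValNat 2 (q ^ (e + 1) - 1) =
      m * ((padicValNat 2 (q + 1) + padicValNat 2 (q - 1)) + 1) + ff m := by
  induction m with
  | zero => simp [ff_zero]
  | succ m ih =>
    have e1 : 2 * (m + 1) = 2 * m + 1 + 1 := by ring
    rw [e1, Finset.sum_range_succ, Finset.sum_range_succ, ih, w_odd q hodd hq2 h4 m]
    have e2 : 2 * m + 1 + 1 = 2 * (m + 1) := by ring
    rw [e2, w_even q hodd hq2 m, ff_succ]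
    ring

theorem val_card_GL_even [Fintype F] (hodd : Odd (Fintype.card F)) (h4 : 4 ∣ Fintype.card F + 1)
    (m : ℕ) :
    (Nat.card (GL (Fin (2 * m)) F)).factorization 2 =
      m * ((padicValNat 2 (Fintype.card F + 1) + padicValNat 2 (Fintype.card F - 1)) + 1) + ff m := by
  rw [val_card_GL_two hodd, sum_w _ hodd Fintype.one_lt_card h4]

theorem val_card_SL_odd [Fintype F] (hodd : Odd (Fintype.card F)) (h4 : 4 ∣ Fintype.card F + 1)
    (m : ℕ) :
    (Nat.card (Matrix.SpecialLinearGroup (Fin (2 * m + 1)) F)).factorization 2 =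
      m * ((padicValNat 2 (Fintype.card F + 1) + padicValNat 2 (Fintype.card F - 1)) + 1) + ff m := by
  have h1 := Cfsg.Agent.Lib.Helper19.ExcIso.card_GL_eq_card_SL (F := F) (2 * m)
  have h2 := val_card_GL_two hodd (2 * m + 1)
  rw [Finset.sum_range_succ, sum_w _ hodd Fintype.one_lt_card h4,
    w_odd _ hodd Fintype.one_lt_card h4 m] at h2
  have hq2 : 2 ≤ Fintype.card F := Fintype.one_lt_card
  have hfin : Finite (Matrix.SpecialLinearGroup (Fin (2 * m + 1)) F) := inferInstance
  have hne : Nat.card (Matrix.SpecialLinearGroup (Fin (2 * m + 1)) F) ≠ 0 := Nat.card_pos.ne'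
  have hne2 : Fintype.card F - 1 ≠ 0 := by omega
  have h3 : (Nat.card (GL (Fin (2 * m + 1)) F)).factorization 2 =
      (Nat.card (Matrix.SpecialLinearGroup (Fin (2 * m + 1)) F)).factorization 2 + 1 := by
    rw [h1, Nat.factorization_mul hne hne2, Finsupp.add_apply,
      Nat.factorization_def (Fintype.card F - 1) Nat.prime_two, val_sub_one _ h4]
  omega

theorem hasG_pow [Fintype F] (hodd : Odd (Fintype.card F)) (h4 : 4 ∣ Fintype.card F + 1) (s : ℕ) :
    HasG F (2 ^ s * ((padicValNat 2 (Fintype.card F + 1) + padicValNat 2 (Fintype.card F - 1)) + 1)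
      + ff (2 ^ s)) (2 * 2 ^ s) := by
  induction s with
  | zero =>
    have h := hasG_base (F := F) hodd h4
    simpa [ff] using h
  | succ s ih =>
    have h := hasG_step (by positivity) ih
    have h1 := ff_pow s
    have h2 := ff_pow (s + 1)
    rw [← pow_succ'] at h
    have hk : 2 * (2 ^ s * ((padicValNat 2 (Fintype.card F + 1) +
        padicValNat 2 (Fintype.card F - 1)) + 1) + ff (2 ^ s)) + 1 =
        2 ^ (s + 1) * ((padicValNat 2 (Fintype.card F + 1) + padicValNat 2 (Fintype.card F - 1)) + 1)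
          + ff (2 ^ (s + 1)) := by
      rw [pow_succ'] at h2 ⊢
      set c := (padicValNat 2 (Fintype.card F + 1) + padicValNat 2 (Fintype.card F - 1)) + 1
      have : 2 * (2 ^ s * c) = 2 * 2 ^ s * c := by ring
      omega
    rw [hk] at h
    exact h

theorem hasG_all [Fintype F] (hodd : Odd (Fintype.card F)) (h4 : 4 ∣ Fintype.card F + 1) (n : ℕ) :
    HasG F (n * ((padicValNat 2 (Fintype.card F + 1) + padicValNat 2 (Fintype.card F - 1)) + 1)
      + ff n) (2 * n) := by
  induction n using Nat.strong_induction_on with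
  | _ n ih =>
    rcases Nat.eq_zero_or_pos n with hn | hn
    · subst hn
      simpa [ff_zero] using hasG_zero (F := F)
    · set s := Nat.log 2 n with hs
      have h1 : 2 ^ s ≤ n := Nat.pow_log_le_self 2 (by omega)
      have h2 : n < 2 ^ (s + 1) := Nat.lt_pow_succ_log_self (by norm_num) n
      have hr : n - 2 ^ s < 2 ^ s := by
        rw [pow_succ] at h2
        omega
      have hpos : 0 < 2 ^ s := by positivity
      have h3 := hasG_add (hasG_pow (F := F) hodd h4 s) (ih (n - 2 ^ s) (by omega))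
      have hsum : 2 ^ s + (n - 2 ^ s) = n := by omega
      have hsum2 : 2 * 2 ^ s + 2 * (n - 2 ^ s) = 2 * n := by omega
      have h4' := ff_add s (n - 2 ^ s) hr
      rw [hsum] at h4'
      rw [hsum2] at h3
      have hk : 2 ^ s * ((padicValNat 2 (Fintype.card F + 1) + padicValNat 2 (Fintype.card F - 1)) + 1)
          + ff (2 ^ s) + ((n - 2 ^ s) * ((padicValNat 2 (Fintype.card F + 1) +
            padicValNat 2 (Fintype.card F - 1)) + 1) + ff (n - 2 ^ s)) =
          n * ((padicValNat 2 (Fintype.card F + 1) + padicValNat 2 (Fintype.card F - 1)) + 1)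
            + ff n := by
        set c := (padicValNat 2 (Fintype.card F + 1) + padicValNat 2 (Fintype.card F - 1)) + 1
        have : 2 ^ s * c + (n - 2 ^ s) * c = n * c := by
          rw [← add_mul, hsum]
        omega
      rw [hk] at h3
      exact h3

end Cfsg.Agent.Lib.Helper10.GLSylowE
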