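import Mathlib
import Cfsg.Agent.Lib.Helper10.GLSylowE3

set_option autoImplicit false
open scoped MatrixGroups

namespace Cfsg.Agent.Lib.Helper10.GLSylowE

open Module Cfsg.Agent.Lib.Helper10.SpSylow Cfsg.Agent.Lib.Helper10.WreathLinear
  Cfsg.Agent.Lib.Helper10.SpSylowE

universe u

variable {F : Type u} [Field F]

/-- the determinant character of a group of linear maps -/
noncomputable def detChar {W : Type*} [AddCommGroup W] [Module F W]
    (Q : Subgroup (Module.End F W)ˣ) : Q →* Fˣ :=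
  (Units.map (LinearMap.det : Module.End F W →* F)).comp Q.subtype

theorem detChar_val {W : Type*} [AddCommGroup W] [Module F W]
    (Q : Subgroup (Module.End F W)ˣ) (g : Q) :
    ((detChar Q g : Fˣ) : F) = LinearMap.det (((g : (Module.End F W)ˣ) : Module.End F W)) := rfl

/-- padding by the inverse determinant -/
noncomputable def padSL0 {W : Type*} [AddCommGroup W] [Module F W]
    (Q : Subgroup (Module.End F W)ˣ) : Q →* Module.End F (W × F) where
  toFun g := (((g : (Module.End F W)ˣ) : Module.End F W)).prodMap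
    ((((detChar Q g)⁻¹ : Fˣ) : F) • (LinearMap.id : F →ₗ[F] F))
  map_one' := by
    apply LinearMap.ext
    intro v
    simp
  map_mul' := by
    intro a b
    apply LinearMap.ext
    intro v
    apply Prod.ext
    · simp
    · simp [mul_comm, mul_left_comm]

theorem padSL0_apply {W : Type*} [AddCommGroup W] [Module F W]
    (Q : Subgroup (Module.End F W)ˣ) (g : Q) (v : W × F) :
    padSL0 Q g v = ((((g : (Module.End F W)ˣ) : Module.End F W)) v.1,
      (((detChar Q g)⁻¹ : Fˣ) : F) * v.2) := rfl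

theorem padSL0_injective {W : Type*} [AddCommGroup W] [Module F W]
    (Q : Subgroup (Module.End F W)ˣ) : Function.Injective (padSL0 Q) := by
  intro a b hab
  apply Subtype.ext
  apply Units.ext
  apply LinearMap.ext
  intro w
  have h1 := congrArg (fun f : Module.End F (W × F) => (f (w, 0)).1) hab
  simpa [padSL0_apply] using h1

theorem det_padSL0 {W : Type*} [AddCommGroup W] [Module F W] [FiniteDimensional F W]
    (Q : Subgroup (Module.End F W)ˣ) (g : Q) : LinearMap.det (padSL0 Q g) = 1 := by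
  show LinearMap.det ((((g : (Module.End F W)ˣ) : Module.End F W)).prodMap
    ((((detChar Q g)⁻¹ : Fˣ) : F) • (LinearMap.id : F →ₗ[F] F))) = 1
  rw [LinearMap.det_prodMap, LinearMap.det_smul, LinearMap.det_id, Module.finrank_self, pow_one,
    mul_one, ← detChar_val, ← Units.val_mul, mul_inv_cancel, Units.val_one]

theorem exists_SL_of_hasG {k d : ℕ} (h : HasG F k d) :
    ∃ H : Subgroup (Matrix.SpecialLinearGroup (Fin (d + 1)) F), Nat.card H = 2 ^ k ∧ SqComm H := by
  classical
  obtain ⟨W, _, _, _, hWd, Q, hQcard, hQE⟩ := h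
  have hrk : finrank F (W × F) = finrank F (Fin (d + 1) → F) := by
    rw [Module.finrank_prod, hWd, Module.finrank_self, Module.finrank_fin_fun]
  let ε : (W × F) ≃ₗ[F] (Fin (d + 1) → F) := LinearEquiv.ofFinrankEq _ _ hrk
  let Φ0 : Q →* Matrix (Fin (d + 1)) (Fin (d + 1)) F :=
    (((Matrix.toLinAlgEquiv' : Matrix (Fin (d + 1)) (Fin (d + 1)) F ≃ₐ[F]
        Module.End F (Fin (d + 1) → F)).symm :
        Module.End F (Fin (d + 1) → F) →* Matrix (Fin (d + 1)) (Fin (d + 1)) F).comp
      (conjHom ε)).comp (padSL0 Q)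
  have hΦ0 : ∀ g : Q, Matrix.toLin' (Φ0 g) = conjHom ε (padSL0 Q g) := by
    intro g
    show (Matrix.toLinAlgEquiv' : Matrix (Fin (d + 1)) (Fin (d + 1)) F ≃ₐ[F]
        Module.End F (Fin (d + 1) → F))
      ((Matrix.toLinAlgEquiv' : Matrix (Fin (d + 1)) (Fin (d + 1)) F ≃ₐ[F]
        Module.End F (Fin (d + 1) → F)).symm (conjHom ε (padSL0 Q g))) = conjHom ε (padSL0 Q g)
    rw [AlgEquiv.apply_symm_apply]
  have hdet : ∀ g : Q, (Φ0 g).det = 1 := by
    intro g
    rw [← LinearMap.det_toLin', hΦ0 g]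
    show LinearMap.det ((ε : (W × F) →ₗ[F] (Fin (d + 1) → F)) ∘ₗ (padSL0 Q g) ∘ₗ
      (ε.symm : (Fin (d + 1) → F) →ₗ[F] (W × F))) = 1
    rw [LinearMap.det_conj, det_padSL0]
  let Φ : Q →* Matrix.SpecialLinearGroup (Fin (d + 1)) F :=
    { toFun := fun g => ⟨Φ0 g, hdet g⟩
      map_one' := Subtype.ext (map_one Φ0)
      map_mul' := fun a b => Subtype.ext (map_mul Φ0 a b) }
  have hΦ : Function.Injective Φ := by
    intro a b hab
    have h3 : Φ0 a = Φ0 b := congrArg Subtype.val hab
    apply padSL0_injective Q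
    apply conjHom_injective ε
    rw [← hΦ0 a, ← hΦ0 b, h3]
  let e : Q ≃* Φ.range := MonoidHom.ofInjective hΦ
  refine ⟨Φ.range, ?_, hQE.of_equiv e⟩
  rw [← Nat.card_congr e.toEquiv, hQcard]

theorem sqComm_sylow_SL_odd [Fintype F] (hodd : Odd (Fintype.card F))
    (h4 : 4 ∣ Fintype.card F + 1) (m : ℕ)
    (P : Sylow 2 (Matrix.SpecialLinearGroup (Fin (2 * m + 1)) F)) :
    SqComm ↥(P : Subgroup (Matrix.SpecialLinearGroup (Fin (2 * m + 1)) F)) := by
  classical
  have h1 := hasG_all (F := F) hodd h4 m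
  rw [← val_card_SL_odd hodd h4 m] at h1
  obtain ⟨H, hHcard, hHE⟩ := exists_SL_of_hasG h1
  have hfin : Finite (Matrix.SpecialLinearGroup (Fin (2 * m + 1)) F) := inferInstance
  let P' : Sylow 2 (Matrix.SpecialLinearGroup (Fin (2 * m + 1)) F) := Sylow.ofCard H hHcard
  have hP'E : SqComm ↥(P' : Subgroup (Matrix.SpecialLinearGroup (Fin (2 * m + 1)) F)) := hHE
  obtain ⟨g, hg⟩ := MulAction.exists_smul_eq (Matrix.SpecialLinearGroup (Fin (2 * m + 1)) F) P' P
  subst hg
  exact hP'E.of_equiv (Sylow.equivSMul P' g)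

end Cfsg.Agent.Lib.Helper10.GLSylowE
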