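import Mathlib
import Cfsg.Agent.Lib.Helper10.SpSylowE4

set_option autoImplicit false

namespace Cfsg.Agent.Lib.Helper10.SpSylowP

open Module Cfsg.Agent.Lib.Helper10.SpSylow Cfsg.Agent.Lib.Helper10.WreathLinear
  Cfsg.Agent.Lib.Helper10.SpSylowE

universe u

/-- closure properties of a graded group property used to run through the standard construction
of the Sylow 2-subgroups of the symplectic groups -/
structure PrClosed (Pr : ℕ → ∀ (G : Type u) [Group G], Prop) : Prop where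
  equiv : ∀ {d : ℕ} {G H : Type u} [Group G] [Group H], (G ≃* H) → Pr d G → Pr d H
  zero : ∀ {G : Type u} [Group G] [Subsingleton G], Pr 0 G
  prod : ∀ {d d' : ℕ} {G H : Type u} [Group G] [Group H] [Finite G] [Finite H],
    Pr d G → Pr d' H → Pr (d + d') (G × H)
  wreath : ∀ {d : ℕ} {G : Type u} [Group G] [Finite G], 0 < d → Pr d G →
    Pr (2 * d) (RegularWreathProduct G (Multiplicative (ZMod 2)))

variable {F : Type u} [Field F]

def HasPr (Pr : ℕ → ∀ (G : Type u) [Group G], Prop) (F : Type u) [Field F] (k d : ℕ) : Prop :=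
  ∃ (l : Type) (_ : Fintype l) (_ : DecidableEq l), Fintype.card l = d ∧
    ∃ Q : Subgroup (Module.End F (l ⊕ l → F))ˣ, Nat.card Q = 2 ^ k ∧
      Q ≤ presSubgroup (om l) ∧ Pr d ↥Q

variable {Pr : ℕ → ∀ (G : Type u) [Group G], Prop}

theorem hasPr_zero (hPr : PrClosed Pr) : HasPr Pr F 0 0 := by
  refine ⟨Empty, inferInstance, inferInstance, Fintype.card_empty, ⊥, ?_, bot_le, ?_⟩
  · rw [Subgroup.card_bot, pow_zero]
  · exact hPr.zero

theorem hasPr_step (hPr : PrClosed Pr) {k d : ℕ} (hd : 0 < d) (h : HasPr Pr F k d) :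
    HasPr Pr F (2 * k + 1) (2 * d) := by
  classical
  obtain ⟨l, _, _, hld, Q, hQcard, hQB, hQE⟩ := h
  have hlne : Nonempty l := by
    rw [← Fintype.card_pos_iff, hld]
    exact hd
  have hWnt : Nontrivial (l ⊕ l → F) := inferInstance
  let C := Multiplicative (ZMod 2)
  have hCfin : Finite C := inferInstanceAs (Finite (Multiplicative (ZMod 2)))
  let _ : Fintype C := inferInstanceAs (Fintype (Multiplicative (ZMod 2)))
  let _ : DecidableEq C := inferInstanceAs (DecidableEq (Multiplicative (ZMod 2)))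
  have hCcard : Fintype.card C = 2 := by
    show Fintype.card (Multiplicative (ZMod 2)) = 2
    rw [Fintype.card_multiplicative, ZMod.card]
  let R : RegularWreathProduct Q C →* (Module.End F (C → (l ⊕ l → F)))ˣ := wrRep Q.subtype
  have hR : Function.Injective R := wrRep_injective Q.subtype Q.subtype_injective
  let B₁ : (C → (l ⊕ l → F)) → (C → (l ⊕ l → F)) → F := fun φ ψ => ∑ x : C, om l (φ x) (ψ x)
  have hB₁ : ∀ w, R w ∈ presSubgroup B₁ := by
    intro w φ ψ
    show ∑ x : C, om l _ _ = ∑ x : C, om l (φ x) (ψ x)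
    have h1 : ∀ x : C, om l (((R w : (Module.End F (C → (l ⊕ l → F)))ˣ) :
          Module.End F (C → (l ⊕ l → F))) φ x)
        (((R w : (Module.End F (C → (l ⊕ l → F)))ˣ) : Module.End F (C → (l ⊕ l → F))) ψ x)
        = om l (φ (w.right⁻¹ * x)) (ψ (w.right⁻¹ * x)) := by
      intro x
      rw [wrRep_apply, wrRep_apply]
      exact hQB (w.left x).2 _ _
    rw [Finset.sum_congr rfl (fun x _ => h1 x)]
    exact Fintype.sum_equiv (Equiv.mulLeft w.right⁻¹) _ _ (fun x => rfl)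
  obtain ⟨Q₁, hQ₁B, ⟨e₁⟩⟩ := repE B₁ R hR hB₁
  obtain ⟨Q', hQ'B, ⟨e'⟩⟩ := transportE (wrEquiv C l) B₁ (om (C × l))
    (fun φ ψ => om_wrEquiv C l φ ψ) Q₁ hQ₁B
  have hQfin : Finite Q := Nat.finite_of_card_ne_zero (by rw [hQcard]; positivity)
  refine ⟨C × l, inferInstance, inferInstance, ?_, Q', ?_, hQ'B, ?_⟩
  · rw [Fintype.card_prod, hCcard, hld]
  · rw [← Nat.card_congr (e₁.trans e').toEquiv, RegularWreathProduct.card, hQcard,
      Nat.card_eq_fintype_card (α := C), hCcard, ← pow_mul, pow_succ]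
    ring
  · exact hPr.equiv (e₁.trans e') (hPr.wreath hd hQE)

theorem hasPr_add (hPr : PrClosed Pr) {k d k' d' : ℕ} (h : HasPr Pr F k d)
    (h' : HasPr Pr F k' d') : HasPr Pr F (k + k') (d + d') := by
  classical
  obtain ⟨l, _, _, hld, Q, hQcard, hQB, hQE⟩ := h
  obtain ⟨l', _, _, hld', Q', hQ'card, hQ'B, hQ'E⟩ := h'
  let B₁ : ((l ⊕ l → F) × (l' ⊕ l' → F)) → ((l ⊕ l → F) × (l' ⊕ l' → F)) → F :=
    fun w z => om l w.1 z.1 + om l' w.2 z.2
  have hB₁ : ∀ p, prodRep Q Q' p ∈ presSubgroup B₁ := by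
    intro p w z
    rw [prodRep_apply, prodRep_apply]
    show om l _ _ + om l' _ _ = om l w.1 z.1 + om l' w.2 z.2
    rw [hQB p.1.2, hQ'B p.2.2]
  obtain ⟨Q₁, hQ₁B, ⟨e₁⟩⟩ := repE B₁ (prodRep Q Q') (prodRep_injective Q Q') hB₁
  obtain ⟨Q₂, hQ₂B, ⟨e₂⟩⟩ := transportE (padEquiv l l') B₁ (om (l ⊕ l'))
    (fun w z => om_padEquiv l l' w z) Q₁ hQ₁B
  have hQfin : Finite Q := Nat.finite_of_card_ne_zero (by rw [hQcard]; positivity)
  have hQ'fin : Finite Q' := Nat.finite_of_card_ne_zero (by rw [hQ'card]; positivity)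
  refine ⟨l ⊕ l', inferInstance, inferInstance, ?_, Q₂, ?_, hQ₂B, ?_⟩
  · rw [Fintype.card_sum, hld, hld']
  · rw [← Nat.card_congr (e₁.trans e₂).toEquiv, Nat.card_prod, hQcard, hQ'card, pow_add]
  · rw [← hld, ← hld'] at *
    exact hPr.equiv (e₁.trans e₂) (hPr.prod hQE hQ'E)

theorem hasPr_fin (hPr : PrClosed Pr) {k n : ℕ} (h : HasPr Pr F k n) :
    ∃ Q : Subgroup (Module.End F (Fin n ⊕ Fin n → F))ˣ, Nat.card Q = 2 ^ k ∧
      Q ≤ presSubgroup (om (Fin n)) ∧ Pr n ↥Q := by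
  classical
  obtain ⟨l, _, _, hld, Q, hQcard, hQB, hQE⟩ := h
  let e : l ≃ Fin n := Fintype.equivFinOfCardEq hld
  obtain ⟨Q', hQ'B, ⟨e'⟩⟩ := transportE (reEquiv (F := F) e) (om l) (om (Fin n))
    (fun u v => om_reEquiv e u v) Q hQB
  refine ⟨Q', ?_, hQ'B, hPr.equiv e' hQE⟩
  rw [← Nat.card_congr e'.toEquiv, hQcard]

theorem hasPr_base [Fintype F]
    (hbase : ∀ P : Sylow 2 ↥(Matrix.symplecticGroup (Fin 1) F),
      Pr 1 ↥(P : Subgroup ↥(Matrix.symplecticGroup (Fin 1) F))) (hPr : PrClosed Pr) :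
    HasPr Pr F ((Nat.card ↥(Matrix.symplecticGroup (Fin 1) F)).factorization 2) 1 := by
  classical
  have hfin : Finite ↥(Matrix.symplecticGroup (Fin 1) F) := inferInstance
  let P : Sylow 2 ↥(Matrix.symplecticGroup (Fin 1) F) := default
  have hPE := hbase P
  let R : ↥(P : Subgroup ↥(Matrix.symplecticGroup (Fin 1) F)) →*
      (Module.End F (Fin 1 ⊕ Fin 1 → F))ˣ :=
    (spToEnd (F := F) (Fin 1)).comp (P : Subgroup ↥(Matrix.symplecticGroup (Fin 1) F)).subtype
  have hR : Function.Injective R := by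
    intro a b hab
    apply Subtype.ext
    exact spToEnd_injective (Fin 1) hab
  have hRB : ∀ g, R g ∈ presSubgroup (om (F := F) (Fin 1)) := by
    intro g u v
    show om (Fin 1) (((spToEnd (F := F) (Fin 1) g.1 : (Module.End F (Fin 1 ⊕ Fin 1 → F))ˣ) :
      Module.End F (Fin 1 ⊕ Fin 1 → F)) u) (((spToEnd (F := F) (Fin 1) g.1 :
      (Module.End F (Fin 1 ⊕ Fin 1 → F))ˣ) : Module.End F (Fin 1 ⊕ Fin 1 → F)) v) = om (Fin 1) u v
    rw [spToEnd_apply, spToEnd_apply]
    exact pres_of_mem_symplectic (Fin 1) _ g.1.2 u v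
  obtain ⟨Q, hQB, ⟨e⟩⟩ := repE (om (F := F) (Fin 1)) R hR hRB
  refine ⟨Fin 1, inferInstance, inferInstance, Fintype.card_fin 1, Q, ?_, hQB, hPr.equiv e hPE⟩
  rw [← Nat.card_congr e.toEquiv, P.card_eq_multiplicity]

theorem hasPr_pow [Fintype F] (hodd : Odd (Fintype.card F))
    (hbase : ∀ P : Sylow 2 ↥(Matrix.symplecticGroup (Fin 1) F),
      Pr 1 ↥(P : Subgroup ↥(Matrix.symplecticGroup (Fin 1) F))) (hPr : PrClosed Pr) (s : ℕ) :
    HasPr Pr F (2 ^ s * (padicValNat 2 (Fintype.card F + 1) + padicValNat 2 (Fintype.card F - 1))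
      + ff (2 ^ s)) (2 ^ s) := by
  induction s with
  | zero =>
    have h := hasPr_base (F := F) hbase hPr
    rw [val_card_sp hodd 1] at h
    simpa using h
  | succ s ih =>
    have h := hasPr_step hPr (by positivity) ih
    have h1 := ff_pow s
    have h2 := ff_pow (s + 1)
    rw [← pow_succ'] at h
    have hk : 2 * (2 ^ s * (padicValNat 2 (Fintype.card F + 1) + padicValNat 2 (Fintype.card F - 1))
        + ff (2 ^ s)) + 1 =
        2 ^ (s + 1) * (padicValNat 2 (Fintype.card F + 1) + padicValNat 2 (Fintype.card F - 1))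
          + ff (2 ^ (s + 1)) := by
      rw [pow_succ'] at h2 ⊢
      set c := padicValNat 2 (Fintype.card F + 1) + padicValNat 2 (Fintype.card F - 1)
      have : 2 * (2 ^ s * c) = 2 * 2 ^ s * c := by ring
      omega
    rw [hk] at h
    exact h

theorem hasPr_all [Fintype F] (hodd : Odd (Fintype.card F))
    (hbase : ∀ P : Sylow 2 ↥(Matrix.symplecticGroup (Fin 1) F),
      Pr 1 ↥(P : Subgroup ↥(Matrix.symplecticGroup (Fin 1) F))) (hPr : PrClosed Pr) (n : ℕ) :
    HasPr Pr F (n * (padicValNat 2 (Fintype.card F + 1) + padicValNat 2 (Fintype.card F - 1))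
      + ff n) n := by
  induction n using Nat.strong_induction_on with
  | _ n ih =>
    rcases Nat.eq_zero_or_pos n with hn | hn
    · subst hn
      simpa [ff_zero] using hasPr_zero (F := F) hPr
    · set s := Nat.log 2 n with hs
      have h1 : 2 ^ s ≤ n := Nat.pow_log_le_self 2 (by omega)
      have h2 : n < 2 ^ (s + 1) := Nat.lt_pow_succ_log_self (by norm_num) n
      have hr : n - 2 ^ s < 2 ^ s := by
        rw [pow_succ] at h2
        omega
      have hpos : 0 < 2 ^ s := by positivity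
      have h3 := hasPr_add hPr (hasPr_pow (F := F) hodd hbase hPr s) (ih (n - 2 ^ s) (by omega))
      have hsum : 2 ^ s + (n - 2 ^ s) = n := by omega
      have h4 := ff_add s (n - 2 ^ s) hr
      rw [hsum] at h3 h4
      have hk : 2 ^ s * (padicValNat 2 (Fintype.card F + 1) + padicValNat 2 (Fintype.card F - 1))
          + ff (2 ^ s) + ((n - 2 ^ s) * (padicValNat 2 (Fintype.card F + 1) +
            padicValNat 2 (Fintype.card F - 1)) + ff (n - 2 ^ s)) =
          n * (padicValNat 2 (Fintype.card F + 1) + padicValNat 2 (Fintype.card F - 1)) + ff n := by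
        set c := padicValNat 2 (Fintype.card F + 1) + padicValNat 2 (Fintype.card F - 1)
        have : 2 ^ s * c + (n - 2 ^ s) * c = n * c := by
          rw [← add_mul, hsum]
        omega
      rw [hk] at h3
      exact h3

theorem pr_sylow_sp [Fintype F] (hodd : Odd (Fintype.card F))
    (hbase : ∀ P : Sylow 2 ↥(Matrix.symplecticGroup (Fin 1) F),
      Pr 1 ↥(P : Subgroup ↥(Matrix.symplecticGroup (Fin 1) F))) (hPr : PrClosed Pr) (n : ℕ)
    (P : Sylow 2 ↥(Matrix.symplecticGroup (Fin n) F)) :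
    Pr n ↥(P : Subgroup ↥(Matrix.symplecticGroup (Fin n) F)) := by
  classical
  have h1 := hasPr_all (F := F) hodd hbase hPr n
  rw [← val_card_sp hodd n] at h1
  obtain ⟨Q, hQcard, hQB, hQE⟩ := hasPr_fin hPr h1
  let Φ0 : Q →* Matrix (Fin n ⊕ Fin n) (Fin n ⊕ Fin n) F :=
    (((Matrix.toLinAlgEquiv' : Matrix (Fin n ⊕ Fin n) (Fin n ⊕ Fin n) F ≃ₐ[F]
        Module.End F (Fin n ⊕ Fin n → F)).symm :
        Module.End F (Fin n ⊕ Fin n → F) →* Matrix (Fin n ⊕ Fin n) (Fin n ⊕ Fin n) F).comp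
      (Units.coeHom (Module.End F (Fin n ⊕ Fin n → F)))).comp Q.subtype
  have hΦ0 : ∀ g : Q, Matrix.toLin' (Φ0 g) = ((g : (Module.End F (Fin n ⊕ Fin n → F))ˣ) :
      Module.End F (Fin n ⊕ Fin n → F)) := by
    intro g
    show Matrix.toLinAlgEquiv' (Matrix.toLinAlgEquiv'.symm _) = _
    rw [AlgEquiv.apply_symm_apply]
    rfl
  have hmem : ∀ g : Q, Φ0 g ∈ Matrix.symplecticGroup (Fin n) F := by
    intro g
    apply mem_symplectic_of_pres
    intro u v
    have h3 : ∀ w, (Φ0 g).mulVec w = ((g : (Module.End F (Fin n ⊕ Fin n → F))ˣ) :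
        Module.End F (Fin n ⊕ Fin n → F)) w := by
      intro w
      rw [← hΦ0 g, Matrix.toLin'_apply]
    rw [h3, h3]
    exact hQB g.2 u v
  let Φ : Q →* ↥(Matrix.symplecticGroup (Fin n) F) :=
    Φ0.codRestrict (Matrix.symplecticGroup (Fin n) F) hmem
  have hΦ : Function.Injective Φ := by
    intro a b hab
    have h3 : Φ0 a = Φ0 b := congrArg Subtype.val hab
    apply Subtype.ext
    apply Units.ext
    rw [← hΦ0 a, ← hΦ0 b, h3]
  have hfinSp : Finite ↥(Matrix.symplecticGroup (Fin n) F) := inferInstance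
  let e : Q ≃* Φ.range := MonoidHom.ofInjective hΦ
  have hcard : Nat.card Φ.range = 2 ^ (Nat.card ↥(Matrix.symplecticGroup (Fin n) F)).factorization 2 := by
    rw [← Nat.card_congr e.toEquiv, hQcard]
  let P' : Sylow 2 ↥(Matrix.symplecticGroup (Fin n) F) := Sylow.ofCard Φ.range hcard
  have hP'E : Pr n ↥(P' : Subgroup ↥(Matrix.symplecticGroup (Fin n) F)) := hPr.equiv e hQE
  obtain ⟨g, hg⟩ := MulAction.exists_smul_eq ↥(Matrix.symplecticGroup (Fin n) F) P' P
  subst hg
  exact hPr.equiv (Sylow.equivSMul P' g) hP'E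

end Cfsg.Agent.Lib.Helper10.SpSylowP
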