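import Mathlib
import Cfsg.Agent.Lib.Helper10.SpSylowP1

set_option autoImplicit false

namespace Cfsg.Agent.Lib.Helper10.SpSylowP

universe u

/-- normal 2-rank exactly `d` (with an element of order at least 4 when `d > 0`) -/
def NR (d : ℕ) (G : Type u) [Group G] : Prop :=
  Finite G ∧
  (∃ E : Subgroup G, E.Normal ∧ (∀ a ∈ E, a ^ 2 = 1) ∧ 2 ^ d ≤ Nat.card E) ∧
  (∀ E : Subgroup G, E.Normal → (∀ a ∈ E, a ^ 2 = 1) → Nat.card E ≤ 2 ^ d) ∧
  (0 < d → ∃ x : G, x ^ 2 ≠ 1)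

theorem card_le_of_two_homs {X G H : Type*} [Group X] [Group G] [Group H] [Finite X]
    (E : Subgroup X) (f : X →* G) (g : X →* H)
    (hinj : ∀ x ∈ E, f x = 1 → g x = 1 → x = 1) :
    Nat.card E ≤ Nat.card (E.map f) * Nat.card ((E ⊓ f.ker).map g) := by
  classical
  let φ : E →* G := f.comp E.subtype
  have h1 : Nat.card φ.ker * Nat.card φ.range = Nat.card E := by
    rw [← Subgroup.index_ker]
    exact Subgroup.card_mul_index φ.ker
  have hfinG : Finite (E.map f) := by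
    apply Finite.of_surjective (fun x : E => (⟨f x.1, ⟨x.1, x.2, rfl⟩⟩ : E.map f))
    rintro ⟨y, x, hx, rfl⟩
    exact ⟨⟨x, hx⟩, rfl⟩
  have hfinH : Finite ((E ⊓ f.ker).map g) := by
    apply Finite.of_surjective (fun x : (E ⊓ f.ker : Subgroup X) =>
      (⟨g x.1, ⟨x.1, x.2, rfl⟩⟩ : (E ⊓ f.ker).map g))
    rintro ⟨y, x, hx, rfl⟩
    exact ⟨⟨x, hx⟩, rfl⟩
  have h2 : Nat.card φ.range ≤ Nat.card (E.map f) := by
    apply Nat.card_le_card_of_injective (fun y : φ.range => (⟨y.1, by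
      obtain ⟨x, hx⟩ := y.2
      exact ⟨x.1, x.2, hx⟩⟩ : E.map f))
    intro a b hab
    apply Subtype.ext
    have h5 := congrArg (fun z : E.map f => (z : G)) hab
    exact h5
  have h3 : Nat.card φ.ker ≤ Nat.card ((E ⊓ f.ker).map g) := by
    apply Nat.card_le_card_of_injective (fun k : φ.ker => (⟨g k.1.1, ⟨k.1.1, ⟨k.1.2, by
      have := k.2
      rw [MonoidHom.mem_ker] at this
      exact this⟩, rfl⟩⟩ : (E ⊓ f.ker).map g))
    intro a b hab
    have hg : g a.1.1 = g b.1.1 :=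
      congrArg (fun z : (E ⊓ f.ker).map g => (z : H)) hab
    have ha : f a.1.1 = 1 := by
      have := a.2
      rw [MonoidHom.mem_ker] at this
      exact this
    have hb : f b.1.1 = 1 := by
      have := b.2
      rw [MonoidHom.mem_ker] at this
      exact this
    have h4 : a.1.1 * (b.1.1)⁻¹ = 1 := by
      apply hinj _ (E.mul_mem a.1.2 (E.inv_mem b.1.2))
      · rw [map_mul, map_inv, ha, hb, inv_one, one_mul]
      · rw [map_mul, map_inv, hg, mul_inv_cancel]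
    apply Subtype.ext
    apply Subtype.ext
    exact mul_inv_eq_one.mp h4
  calc Nat.card E = Nat.card φ.ker * Nat.card φ.range := h1.symm
    _ ≤ Nat.card ((E ⊓ f.ker).map g) * Nat.card (E.map f) := Nat.mul_le_mul h3 h2
    _ = _ := mul_comm _ _

theorem NR.of_equiv {d : ℕ} {G H : Type u} [Group G] [Group H] (e : G ≃* H) (h : NR d G) :
    NR d H := by
  obtain ⟨hfin, ⟨E, hEn, hE2, hEc⟩, hup, hx⟩ := h
  have hfinH : Finite H := Finite.of_equiv G e.toEquiv
  refine ⟨hfinH, ⟨E.map e.toMonoidHom, hEn.map _ e.surjective, ?_, ?_⟩, ?_, ?_⟩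
  · rintro _ ⟨a, ha, rfl⟩
    show (e a) ^ 2 = 1
    rw [← map_pow, hE2 a ha, map_one]
  · rw [Subgroup.card_map_of_injective e.injective]
    exact hEc
  · intro E' hE'n hE'2
    have h1 := hup (E'.map e.symm.toMonoidHom) (hE'n.map _ e.symm.surjective) (by
      rintro _ ⟨a, ha, rfl⟩
      show (e.symm a) ^ 2 = 1
      rw [← map_pow, hE'2 a ha, map_one])
    rw [Subgroup.card_map_of_injective e.symm.injective] at h1
    exact h1
  · intro hd
    obtain ⟨x, hx'⟩ := hx hd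
    refine ⟨e x, ?_⟩
    intro h1
    apply hx'
    apply e.injective
    rw [map_pow, h1, map_one]

theorem NR.zero {G : Type u} [Group G] [Subsingleton G] : NR 0 G := by
  refine ⟨inferInstance, ⟨⊥, inferInstance, ?_, ?_⟩, ?_, ?_⟩
  · intro a _
    exact Subsingleton.elim _ _
  · rw [Subgroup.card_bot, pow_zero]
  · intro E _ _
    rw [pow_zero]
    exact Finite.card_le_one_iff_subsingleton.mpr inferInstance
  · intro h
    exact absurd h (lt_irrefl 0)

theorem NR.prod {d d' : ℕ} {G H : Type u} [Group G] [Group H] [Finite G] [Finite H]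
    (hG : NR d G) (hH : NR d' H) : NR (d + d') (G × H) := by
  obtain ⟨-, ⟨E₁, hE₁n, hE₁2, hE₁c⟩, hup₁, hx₁⟩ := hG
  obtain ⟨-, ⟨E₂, hE₂n, hE₂2, hE₂c⟩, hup₂, hx₂⟩ := hH
  refine ⟨inferInstance, ⟨E₁.prod E₂, inferInstance, ?_, ?_⟩, ?_, ?_⟩
  · rintro ⟨a, b⟩ ⟨ha, hb⟩
    apply Prod.ext
    · exact hE₁2 a ha
    · exact hE₂2 b hb
  · rw [Nat.card_congr (Subgroup.prodEquiv E₁ E₂).toEquiv, Nat.card_prod, pow_add]
    exact Nat.mul_le_mul hE₁c hE₂c
  · intro E hEn hE2
    have h1 := card_le_of_two_homs E (MonoidHom.fst G H) (MonoidHom.snd G H) (by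
      intro x _ h3 h4
      exact Prod.ext h3 h4)
    have h3 := hup₁ (E.map (MonoidHom.fst G H)) (hEn.map _ (fun g => ⟨(g, 1), rfl⟩)) (by
      rintro _ ⟨a, ha, rfl⟩
      rw [← map_pow, hE2 a ha, map_one])
    have hKn : (E ⊓ (MonoidHom.fst G H).ker).Normal := inferInstance
    have h4 := hup₂ ((E ⊓ (MonoidHom.fst G H).ker).map (MonoidHom.snd G H))
      (hKn.map _ (fun g => ⟨(1, g), rfl⟩)) (by
      rintro _ ⟨a, ha, rfl⟩
      rw [← map_pow, hE2 a ha.1, map_one])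
    calc Nat.card E ≤ _ := h1
      _ ≤ 2 ^ d * 2 ^ d' := Nat.mul_le_mul h3 h4
      _ = 2 ^ (d + d') := (pow_add 2 d d').symm
  · intro hdd
    rcases Nat.eq_zero_or_pos d with h0 | h0
    · obtain ⟨y, hy⟩ := hx₂ (by omega)
      refine ⟨(1, y), ?_⟩
      intro h1
      exact hy (congrArg Prod.snd h1)
    · obtain ⟨x, hx⟩ := hx₁ h0
      refine ⟨(x, 1), ?_⟩
      intro h1
      exact hx (congrArg Prod.fst h1)

end Cfsg.Agent.Lib.Helper10.SpSylowP
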