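import Mathlib
import Cfsg.Agent.Lib.Helper10.SpSylowP2

set_option autoImplicit false

namespace Cfsg.Agent.Lib.Helper10.SpSylowP

open Cfsg.Agent.Lib.Helper10.SpSylowE

universe u

abbrev C2 := Multiplicative (ZMod 2)

def sg : C2 := Multiplicative.ofAdd (1 : ZMod 2)

theorem c2_cases (c : C2) : c = 1 ∨ c = sg := by
  revert c
  decide

theorem sg_ne_one : sg ≠ 1 := by decide

theorem sg_inv : sg⁻¹ = sg := by decide

theorem c2_inv (c : C2) : c⁻¹ = c := by
  revert c
  decide

theorem conj_base {G : Type*} [Group G] (w : RegularWreathProduct G C2) (f : C2 → G) :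
    w * baseHom G C2 f * w⁻¹ =
      baseHom G C2 (fun x => w.left x * f (w.right⁻¹ * x) * (w.left x)⁻¹) := by
  apply RegularWreathProduct.ext
  · funext x
    simp [RegularWreathProduct.mul_left, RegularWreathProduct.inv_left, baseHom,
      RegularWreathProduct.mul_right]
  · simp [RegularWreathProduct.mul_right, RegularWreathProduct.inv_right, baseHom]

theorem baseHom_left {G : Type*} [Group G] (f : C2 → G) : (baseHom G C2 f).left = f := rfl

theorem baseHom_right {G : Type*} [Group G] (f : C2 → G) : (baseHom G C2 f).right = 1 := rfl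

theorem eq_baseHom {G : Type*} [Group G] (w : RegularWreathProduct G C2) (h : w.right = 1) :
    w = baseHom G C2 w.left := by
  apply RegularWreathProduct.ext
  · rfl
  · exact h

theorem baseHom_injective {G : Type*} [Group G] : Function.Injective (baseHom G C2) := by
  intro f g h
  exact congrArg RegularWreathProduct.left h

theorem NR.wreath {d : ℕ} {G : Type u} [Group G] [Finite G] (hd : 0 < d) (hG : NR d G) :
    NR (2 * d) (RegularWreathProduct G C2) := by
  classical
  obtain ⟨-, ⟨E, hEn, hE2, hEc⟩, hup, hx⟩ := hG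
  obtain ⟨x₀, hx₀⟩ := hx hd
  have hfinC : Finite C2 := inferInstanceAs (Finite (Multiplicative (ZMod 2)))
  have hcardC : Nat.card C2 = 2 := by
    show Nat.card (Multiplicative (ZMod 2)) = 2
    rw [Nat.card_eq_fintype_card, Fintype.card_multiplicative, ZMod.card]
  have hfinW : Finite (RegularWreathProduct G C2) := inferInstance
  refine ⟨hfinW, ?_, ?_, ?_⟩
  · -- lower bound
    let E' : Subgroup (RegularWreathProduct G C2) :=
      (Subgroup.pi Set.univ (fun _ : C2 => E)).map (baseHom G C2)
    have hE'mem : ∀ f : C2 → G, (∀ x, f x ∈ E) → baseHom G C2 f ∈ E' := by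
      intro f hf
      exact ⟨f, fun x _ => hf x, rfl⟩
    refine ⟨E', ?_, ?_, ?_⟩
    · constructor
      rintro _ ⟨f, hf, rfl⟩ w
      rw [conj_base]
      apply hE'mem
      intro x
      exact hEn.conj_mem _ (hf _ (Set.mem_univ _)) _
    · rintro _ ⟨f, hf, rfl⟩
      rw [← map_pow]
      have : f ^ 2 = 1 := by
        funext x
        exact hE2 _ (hf x (Set.mem_univ _))
      rw [this, map_one]
    · have h1 : Nat.card (C2 → ↥E) ≤ Nat.card E' := by
        apply Nat.card_le_card_of_injective (fun φ : C2 → ↥E =>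
          (⟨baseHom G C2 (fun x => (φ x : G)), hE'mem _ (fun x => (φ x).2)⟩ : E'))
        intro φ ψ h
        have h3 := baseHom_injective (congrArg Subtype.val h)
        funext x
        apply Subtype.ext
        exact congrFun h3 x
      rw [Nat.card_fun, hcardC] at h1
      calc 2 ^ (2 * d) = (2 ^ d) ^ 2 := by rw [← pow_mul, mul_comm]
        _ ≤ Nat.card E ^ 2 := Nat.pow_le_pow_left hEc 2
        _ ≤ _ := h1
  · -- upper bound
    intro E' hE'n hE'2
    have hright : ∀ w ∈ E', w.right = 1 := by
      intro w hw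
      by_contra hne
      have hws : w.right = sg := by
        rcases c2_cases w.right with h | h
        · exact absurd h hne
        · exact h
      let b := baseHom G C2 (Pi.mulSingle 1 x₀)
      have hu : w⁻¹ * (b * w * b⁻¹) ∈ E' :=
        E'.mul_mem (E'.inv_mem hw) (hE'n.conj_mem w hw b)
      have hu2 := hE'2 _ hu
      have hkey : w⁻¹ * b * w = baseHom G C2
          (fun x => w⁻¹.left x * (Pi.mulSingle 1 x₀ : C2 → G) (w⁻¹.right⁻¹ * x) * (w⁻¹.left x)⁻¹) := by
        have := conj_base w⁻¹ (Pi.mulSingle 1 x₀)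
        rw [inv_inv] at this
        exact this
      have hu' : w⁻¹ * (b * w * b⁻¹) = (w⁻¹ * b * w) * b⁻¹ := by group
      rw [hu', hkey] at hu2
      have hb : b⁻¹ = baseHom G C2 (Pi.mulSingle 1 x₀)⁻¹ := by
        rw [← map_inv]
      rw [hb, ← map_mul, ← map_pow] at hu2
      have h5 := baseHom_injective (hu2.trans (map_one (baseHom G C2)).symm)
      have h6 := congrFun h5 1
      have hwr : w⁻¹.right⁻¹ = sg := by
        rw [RegularWreathProduct.inv_right, inv_inv]
        exact hws
      simp only [Pi.pow_apply, Pi.mul_apply, Pi.inv_apply, Pi.one_apply, hwr, mul_one] at h6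
      rw [Pi.mulSingle_eq_of_ne sg_ne_one, Pi.mulSingle_eq_same, mul_one, mul_inv_cancel, one_mul]
        at h6
      apply hx₀
      have h7 : (x₀⁻¹) ^ 2 = 1 := h6
      rw [inv_pow, inv_eq_one] at h7
      exact h7
    let E₀ : Subgroup (C2 → G) := E'.comap (baseHom G C2)
    have hE₀n : E₀.Normal := hE'n.comap _
    have hE₀2 : ∀ f ∈ E₀, f ^ 2 = 1 := by
      intro f hf
      apply baseHom_injective
      rw [map_pow, map_one]
      exact hE'2 _ hf
    have hcard1 : Nat.card E' ≤ Nat.card E₀ := by
      apply Nat.card_le_card_of_injective (fun w : E' => (⟨w.1.left, by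
        show baseHom G C2 w.1.left ∈ E'
        rw [← eq_baseHom w.1 (hright w.1 w.2)]
        exact w.2⟩ : E₀))
      intro a b hab
      apply Subtype.ext
      rw [eq_baseHom a.1 (hright a.1 a.2), eq_baseHom b.1 (hright b.1 b.2)]
      have h3 : a.1.left = b.1.left := congrArg (fun z : E₀ => (z : C2 → G)) hab
      rw [h3]
    have h1 := card_le_of_two_homs E₀ (Pi.evalMonoidHom (fun _ : C2 => G) 1)
      (Pi.evalMonoidHom (fun _ : C2 => G) sg) (by
      intro f _ h3 h4
      funext c
      rcases c2_cases c with h | h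
      · rw [h]; exact h3
      · rw [h]; exact h4)
    have hsurj : ∀ c : C2, Function.Surjective (Pi.evalMonoidHom (fun _ : C2 => G) c) := by
      intro c g
      exact ⟨fun _ => g, rfl⟩
    have h3 := hup (E₀.map (Pi.evalMonoidHom (fun _ : C2 => G) 1)) (hE₀n.map _ (hsurj 1)) (by
      rintro _ ⟨a, ha, rfl⟩
      rw [← map_pow, hE₀2 a ha, map_one])
    have hKn : (E₀ ⊓ (Pi.evalMonoidHom (fun _ : C2 => G) 1).ker).Normal := inferInstance
    have h4 := hup ((E₀ ⊓ (Pi.evalMonoidHom (fun _ : C2 => G) 1).ker).map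
      (Pi.evalMonoidHom (fun _ : C2 => G) sg)) (hKn.map _ (hsurj sg)) (by
      rintro _ ⟨a, ha, rfl⟩
      rw [← map_pow, hE₀2 a ha.1, map_one])
    calc Nat.card E' ≤ Nat.card E₀ := hcard1
      _ ≤ _ := h1
      _ ≤ 2 ^ d * 2 ^ d := Nat.mul_le_mul h3 h4
      _ = 2 ^ (2 * d) := by rw [← pow_add, two_mul]
  · intro _
    refine ⟨baseHom G C2 (fun _ => x₀), ?_⟩
    intro h1
    rw [← map_pow] at h1
    have h5 := baseHom_injective (h1.trans (map_one (baseHom G C2)).symm)
    exact hx₀ (congrFun h5 1)

theorem nr_closed : PrClosed (fun d (G : Type u) [Group G] => NR d G) where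
  equiv := fun e h => NR.of_equiv e h
  zero := NR.zero
  prod := fun h h' => NR.prod h h'
  wreath := fun hd h => NR.wreath hd h

end Cfsg.Agent.Lib.Helper10.SpSylowP
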