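import Mathlib
import Cfsg.Agent.Lib.Helper10.SpSylowP3

set_option autoImplicit false

namespace Cfsg.Agent.Lib.Helper10.SpSylowP

open Cfsg.Agent.Lib.Helper10.SpSylowE Cfsg.Agent.Lib.Helper10.SpSylow

universe u

variable {F : Type u} [Field F]

theorem nr_base [Fintype F] (hodd : Odd (Fintype.card F))
    (P : Sylow 2 ↥(Matrix.symplecticGroup (Fin 1) F)) :
    NR 1 ↥(P : Subgroup ↥(Matrix.symplecticGroup (Fin 1) F)) := by
  classical
  have : Fact (Nat.Prime 2) := ⟨Nat.prime_two⟩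
  have h2 := two_ne_zero_of_odd (F := F) _ rfl hodd
  have hfin : Finite ↥(Matrix.symplecticGroup (Fin 1) F) := inferInstance
  have hfinP : Finite ↥(P : Subgroup ↥(Matrix.symplecticGroup (Fin 1) F)) := inferInstance
  have hval : ∀ s : ↥(P : Subgroup ↥(Matrix.symplecticGroup (Fin 1) F)), s ≠ 1 → s ^ 2 = 1 →
      (s.1.1 : Matrix (Fin 1 ⊕ Fin 1) (Fin 1 ⊕ Fin 1) F) = -1 := by
    intro s hs1 hs2
    apply sp1_inv h2 _ s.1.2
    · have := congrArg (fun z : ↥(P : Subgroup ↥(Matrix.symplecticGroup (Fin 1) F)) =>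
        (z.1.1 : Matrix (Fin 1 ⊕ Fin 1) (Fin 1 ⊕ Fin 1) F)) hs2
      simpa [pow_two] using this
    · intro h
      apply hs1
      apply Subtype.ext
      apply Subtype.ext
      exact h
  -- the order of P
  have hcardP : Nat.card ↥(P : Subgroup ↥(Matrix.symplecticGroup (Fin 1) F)) =
      2 ^ (padicValNat 2 (Fintype.card F + 1) + padicValNat 2 (Fintype.card F - 1)) := by
    rw [P.card_eq_multiplicity, val_card_sp hodd 1]
    simp [ff]
  have hq2 : 2 ≤ Fintype.card F := Fintype.one_lt_card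
  have hq3 : 3 ≤ Fintype.card F := by
    obtain ⟨t, ht⟩ := hodd
    omega
  have hc2 : 2 ≤ padicValNat 2 (Fintype.card F + 1) + padicValNat 2 (Fintype.card F - 1) := by
    have h2dvd : 2 ∣ Fintype.card F + 1 := by
      obtain ⟨k, hk⟩ := hodd
      exact ⟨k + 1, by omega⟩
    have h2dvd' : 2 ∣ Fintype.card F - 1 := by
      obtain ⟨k, hk⟩ := hodd
      exact ⟨k, by omega⟩
    have h3 := one_le_padicValNat_of_dvd (p := 2) (n := Fintype.card F + 1) (by omega) h2dvd
    have h4 := one_le_padicValNat_of_dvd (p := 2) (n := Fintype.card F - 1) (by omega) h2dvd'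
    omega
  have hcard4 : 4 ≤ Nat.card ↥(P : Subgroup ↥(Matrix.symplecticGroup (Fin 1) F)) := by
    rw [hcardP]
    calc 4 = 2 ^ 2 := by norm_num
      _ ≤ _ := Nat.pow_le_pow_right (by norm_num) hc2
  have hdvd : 2 ∣ Nat.card ↥(P : Subgroup ↥(Matrix.symplecticGroup (Fin 1) F)) := by
    rw [hcardP]
    exact dvd_pow_self 2 (by omega)
  obtain ⟨s, hs⟩ := exists_prime_orderOf_dvd_card' 2 hdvd
  have hs1 : s ≠ 1 := by
    intro h
    rw [h, orderOf_one] at hs
    omega
  have hs2 : s ^ 2 = 1 := by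
    have h5 := pow_orderOf_eq_one s
    rw [hs] at h5
    exact h5
  have hsm := hval s hs1 hs2
  have hall : ∀ a : ↥(P : Subgroup ↥(Matrix.symplecticGroup (Fin 1) F)), a ^ 2 = 1 →
      a ∈ Subgroup.zpowers s := by
    intro a ha
    by_cases ha1 : a = 1
    · rw [ha1]
      exact Subgroup.one_mem _
    · have : a = s := by
        apply Subtype.ext
        apply Subtype.ext
        rw [hval a ha1 ha, hsm]
      rw [this]
      exact Subgroup.mem_zpowers s
  have hcardZ : Nat.card (Subgroup.zpowers s) = 2 := by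
    rw [Nat.card_zpowers, hs]
  have hscentral : ∀ g : ↥(P : Subgroup ↥(Matrix.symplecticGroup (Fin 1) F)), g * s = s * g := by
    intro g
    apply Subtype.ext
    apply Subtype.ext
    show (g.1.1 : Matrix (Fin 1 ⊕ Fin 1) (Fin 1 ⊕ Fin 1) F) * s.1.1 = s.1.1 * g.1.1
    rw [hsm]
    simp
  refine ⟨hfinP, ⟨Subgroup.zpowers s, ?_, ?_, ?_⟩, ?_, ?_⟩
  · constructor
    intro a ha g
    obtain ⟨k, rfl⟩ := Subgroup.mem_zpowers_iff.mp ha
    have : g * s ^ k * g⁻¹ = s ^ k := by
      rw [mul_inv_eq_iff_eq_mul]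
      have hc : Commute g s := hscentral g
      exact (hc.zpow_right k).eq
    rw [this]
    exact Subgroup.zpow_mem_zpowers s k
  · intro a ha
    obtain ⟨k, rfl⟩ := Subgroup.mem_zpowers_iff.mp ha
    rw [← zpow_natCast, ← zpow_mul, mul_comm, zpow_mul, zpow_natCast, hs2, one_zpow]
  · rw [hcardZ, pow_one]
  · intro E _ hE2
    have hle : E ≤ Subgroup.zpowers s := fun a ha => hall a (hE2 a ha)
    rw [pow_one]
    exact (Subgroup.card_le_of_le hle).trans hcardZ.le
  · intro _
    by_contra hcon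
    push Not at hcon
    have hle : (⊤ : Subgroup ↥(P : Subgroup ↥(Matrix.symplecticGroup (Fin 1) F))) ≤
        Subgroup.zpowers s := fun a _ => hall a (hcon a)
    have h5 := Subgroup.card_le_of_le hle
    rw [Subgroup.card_top, hcardZ] at h5
    omega

theorem normal_rank_sylow_sp [Fintype F] (hodd : Odd (Fintype.card F)) (n : ℕ)
    (P : Sylow 2 ↥(Matrix.symplecticGroup (Fin n) F)) :
    NR n ↥(P : Subgroup ↥(Matrix.symplecticGroup (Fin n) F)) :=
  pr_sylow_sp (Pr := fun d (G : Type u) [Group G] => NR d G) hodd (fun P => nr_base hodd P)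
    nr_closed n P

theorem isMulCommutative_of_sq {G : Type*} [Group G] (E : Subgroup G) (h : ∀ a ∈ E, a ^ 2 = 1) :
    IsMulCommutative ↥E := by
  refine ⟨⟨fun a b => ?_⟩⟩
  have hinv : ∀ c : ↥E, c⁻¹ = c := by
    intro c
    have h1 : c ^ 2 = 1 := by
      apply Subtype.ext
      rw [Subgroup.coe_pow]
      exact h c.1 c.2
    rw [inv_eq_iff_mul_eq_one, ← pow_two]
    exact h1
  have h1 := hinv (a * b)
  rw [mul_inv_rev, hinv a, hinv b] at h1
  exact h1.symm

end Cfsg.Agent.Lib.Helper10.SpSylowP
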