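import Mathlib
import Cfsg.Agent.Lib.Helper10.SpSylowP4
import Cfsg.Agent.Lib.Helper10.GLSylowE4

set_option autoImplicit false
open scoped MatrixGroups

namespace Cfsg.Agent.Lib.Helper10.GLSylowP

open Module Cfsg.Agent.Lib.Helper10.SpSylow Cfsg.Agent.Lib.Helper10.WreathLinear
  Cfsg.Agent.Lib.Helper10.SpSylowE Cfsg.Agent.Lib.Helper10.SpSylowP

universe u

variable {F : Type u} [Field F]

/-- there is a 2-group of order `2 ^ k` of linear maps of a `D`-dimensional space with
property `Pr d` -/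
def HasGP (Pr : ℕ → ∀ (G : Type u) [Group G], Prop) (F : Type u) [Field F] (k D d : ℕ) : Prop :=
  ∃ (W : Type u) (_ : AddCommGroup W) (_ : Module F W) (_ : FiniteDimensional F W),
    finrank F W = D ∧ ∃ Q : Subgroup (Module.End F W)ˣ, Nat.card Q = 2 ^ k ∧ Pr d ↥Q

variable {Pr : ℕ → ∀ (G : Type u) [Group G], Prop}

theorem hasGP_zero (hPr : PrClosed Pr) : HasGP Pr F 0 0 0 := by
  refine ⟨PUnit, inferInstance, inferInstance, inferInstance, Module.finrank_zero_of_subsingleton,
    ⊥, ?_, ?_⟩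
  · rw [Subgroup.card_bot, pow_zero]
  · exact hPr.zero

theorem hasGP_step (hPr : PrClosed Pr) {k D d : ℕ} (hD : 0 < D) (hd : 0 < d)
    (h : HasGP Pr F k D d) : HasGP Pr F (2 * k + 1) (2 * D) (2 * d) := by
  classical
  obtain ⟨W, _, _, _, hWd, Q, hQcard, hQE⟩ := h
  have hWnt : Nontrivial W := by
    rw [← Module.finrank_pos_iff (R := F), hWd]
    exact hD
  let C := Multiplicative (ZMod 2)
  have hCfin : Finite C := inferInstanceAs (Finite (Multiplicative (ZMod 2)))
  let _ : Fintype C := inferInstanceAs (Fintype (Multiplicative (ZMod 2)))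
  let _ : DecidableEq C := inferInstanceAs (DecidableEq (Multiplicative (ZMod 2)))
  have hCcard : Fintype.card C = 2 := by
    show Fintype.card (Multiplicative (ZMod 2)) = 2
    rw [Fintype.card_multiplicative, ZMod.card]
  let R : RegularWreathProduct Q C →* (Module.End F (C → W))ˣ := wrRep Q.subtype
  have hR : Function.Injective R := wrRep_injective Q.subtype Q.subtype_injective
  let e : RegularWreathProduct Q C ≃* R.range := MonoidHom.ofInjective hR
  have hQfin : Finite Q := Nat.finite_of_card_ne_zero (by rw [hQcard]; positivity)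
  refine ⟨C → W, inferInstance, inferInstance, inferInstance, ?_, R.range, ?_, ?_⟩
  · rw [Module.finrank_pi_fintype]
    simp only [Finset.sum_const, Finset.card_univ, smul_eq_mul, hWd, hCcard]
  · rw [← Nat.card_congr e.toEquiv, RegularWreathProduct.card, hQcard,
      Nat.card_eq_fintype_card (α := C), hCcard, ← pow_mul, pow_succ]
    ring
  · exact hPr.equiv e (hPr.wreath hd hQE)

theorem hasGP_add (hPr : PrClosed Pr) {k D d k' D' d' : ℕ} (h : HasGP Pr F k D d)
    (h' : HasGP Pr F k' D' d') : HasGP Pr F (k + k') (D + D') (d + d') := by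
  classical
  obtain ⟨W, _, _, _, hWd, Q, hQcard, hQE⟩ := h
  obtain ⟨W', _, _, _, hWd', Q', hQ'card, hQ'E⟩ := h'
  let e : Q × Q' ≃* (prodRep Q Q').range := MonoidHom.ofInjective (prodRep_injective Q Q')
  have hQfin : Finite Q := Nat.finite_of_card_ne_zero (by rw [hQcard]; positivity)
  have hQ'fin : Finite Q' := Nat.finite_of_card_ne_zero (by rw [hQ'card]; positivity)
  refine ⟨W × W', inferInstance, inferInstance, inferInstance, ?_, (prodRep Q Q').range, ?_, ?_⟩
  · rw [Module.finrank_prod, hWd, hWd']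
  · rw [← Nat.card_congr e.toEquiv, Nat.card_prod, hQcard, hQ'card, pow_add]
  · exact hPr.equiv e (hPr.prod hQE hQ'E)

theorem hasGP_pow (hPr : PrClosed Pr) {k₀ D₀ : ℕ} (hD₀ : 0 < D₀) (hbase : HasGP Pr F k₀ D₀ 1)
    (s : ℕ) : HasGP Pr F (2 ^ s * k₀ + ff (2 ^ s)) (2 ^ s * D₀) (2 ^ s) := by
  induction s with
  | zero =>
    simpa [ff] using hbase
  | succ s ih =>
    have h := hasGP_step hPr (by positivity) (by positivity) ih
    have h1 := ff_pow s
    have h2 := ff_pow (s + 1)
    rw [← pow_succ', ← mul_assoc, ← pow_succ'] at h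
    have hk : 2 * (2 ^ s * k₀ + ff (2 ^ s)) + 1 = 2 ^ (s + 1) * k₀ + ff (2 ^ (s + 1)) := by
      rw [pow_succ'] at h2 ⊢
      have : 2 * (2 ^ s * k₀) = 2 * 2 ^ s * k₀ := by ring
      omega
    rw [hk] at h
    exact h

theorem hasGP_all (hPr : PrClosed Pr) {k₀ D₀ : ℕ} (hD₀ : 0 < D₀) (hbase : HasGP Pr F k₀ D₀ 1)
    (n : ℕ) : HasGP Pr F (n * k₀ + ff n) (n * D₀) n := by
  induction n using Nat.strong_induction_on with
  | _ n ih =>
    rcases Nat.eq_zero_or_pos n with hn | hn
    · subst hn
      simpa [ff_zero] using hasGP_zero (F := F) hPr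
    · set s := Nat.log 2 n with hs
      have h1 : 2 ^ s ≤ n := Nat.pow_log_le_self 2 (by omega)
      have h2 : n < 2 ^ (s + 1) := Nat.lt_pow_succ_log_self (by norm_num) n
      have hr : n - 2 ^ s < 2 ^ s := by
        rw [pow_succ] at h2
        omega
      have hpos : 0 < 2 ^ s := by positivity
      have h3 := hasGP_add hPr (hasGP_pow (F := F) hPr hD₀ hbase s) (ih (n - 2 ^ s) (by omega))
      have hsum : 2 ^ s + (n - 2 ^ s) = n := by omega
      have hsum2 : 2 ^ s * D₀ + (n - 2 ^ s) * D₀ = n * D₀ := by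
        rw [← add_mul, hsum]
      have h4' := ff_add s (n - 2 ^ s) hr
      rw [hsum] at h4' h3
      rw [hsum2] at h3
      have hk : 2 ^ s * k₀ + ff (2 ^ s) + ((n - 2 ^ s) * k₀ + ff (n - 2 ^ s)) =
          n * k₀ + ff n := by
        have : 2 ^ s * k₀ + (n - 2 ^ s) * k₀ = n * k₀ := by
          rw [← add_mul, hsum]
        omega
      rw [hk] at h3
      exact h3

/-- transfer to the Sylow 2-subgroups of the matrix group -/
theorem pr_sylow_GL [Fintype F] {Pr' : ∀ (G : Type u) [Group G], Prop}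
    (hequiv : ∀ {G H : Type u} [Group G] [Group H], (G ≃* H) → Pr' G → Pr' H)
    {k n : ℕ} {W : Type u} [AddCommGroup W] [Module F W] [FiniteDimensional F W]
    (hW : finrank F W = n) (Q : Subgroup (Module.End F W)ˣ) (hQcard : Nat.card Q = 2 ^ k)
    (hk : (Nat.card (GL (Fin n) F)).factorization 2 = k) (hQ : Pr' ↥Q)
    (P : Sylow 2 (GL (Fin n) F)) : Pr' ↥(P : Subgroup (GL (Fin n) F)) := by
  classical
  have hrk : finrank F W = finrank F (Fin n → F) := by
    rw [hW, Module.finrank_fin_fun]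
  let ε : W ≃ₗ[F] (Fin n → F) := LinearEquiv.ofFinrankEq _ _ hrk
  let Φ : Q →* GL (Fin n) F :=
    ((Matrix.GeneralLinearGroup.toLin (n := Fin n) (R := F)).symm.toMonoidHom.comp
      (Units.map (conjHom ε))).comp Q.subtype
  have hΦ : Function.Injective Φ := by
    intro a b hab
    have h1 : Units.map (conjHom ε) (a : (Module.End F W)ˣ) =
        Units.map (conjHom ε) (b : (Module.End F W)ˣ) :=
      (Matrix.GeneralLinearGroup.toLin (n := Fin n) (R := F)).symm.injective hab
    apply Subtype.ext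
    apply Units.ext
    apply conjHom_injective ε
    exact congrArg Units.val h1
  let e : Q ≃* Φ.range := MonoidHom.ofInjective hΦ
  have hfin : Finite (GL (Fin n) F) := inferInstance
  have hcard : Nat.card Φ.range = 2 ^ (Nat.card (GL (Fin n) F)).factorization 2 := by
    rw [← Nat.card_congr e.toEquiv, hQcard, hk]
  let P' : Sylow 2 (GL (Fin n) F) := Sylow.ofCard Φ.range hcard
  have hP'E : Pr' ↥(P' : Subgroup (GL (Fin n) F)) := hequiv e hQ
  obtain ⟨g, hg⟩ := MulAction.exists_smul_eq (GL (Fin n) F) P' P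
  subst hg
  exact hequiv (Sylow.equivSMul P' g) hP'E

end Cfsg.Agent.Lib.Helper10.GLSylowP
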