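import Mathlib
import Cfsg.Agent.Lib.Helper10.SpSylowP4

set_option autoImplicit false

namespace Cfsg.Agent.Lib.Helper10.GLSylowP

open Cfsg.Agent.Lib.Helper10.SpSylowP

universe u

/-- normal 2-rank exactly `d` -/
def NR0 (d : ℕ) (G : Type u) [Group G] : Prop :=
  Finite G ∧
  (∃ E : Subgroup G, E.Normal ∧ (∀ a ∈ E, a ^ 2 = 1) ∧ 2 ^ d ≤ Nat.card E) ∧
  (∀ E : Subgroup G, E.Normal → (∀ a ∈ E, a ^ 2 = 1) → Nat.card E ≤ 2 ^ d)

theorem NR.toNR0 {d : ℕ} {G : Type u} [Group G] (h : NR d G) : NR0 d G :=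
  ⟨h.1, h.2.1, h.2.2.1⟩

theorem NR0.of_equiv {d : ℕ} {G H : Type u} [Group G] [Group H] (e : G ≃* H) (h : NR0 d G) :
    NR0 d H := by
  obtain ⟨hfin, ⟨E, hEn, hE2, hEc⟩, hup⟩ := h
  have hfinH : Finite H := Finite.of_equiv G e.toEquiv
  refine ⟨hfinH, ⟨E.map e.toMonoidHom, hEn.map _ e.surjective, ?_, ?_⟩, ?_⟩
  · rintro _ ⟨a, ha, rfl⟩
    show (e a) ^ 2 = 1
    rw [← map_pow, hE2 a ha, map_one]
  · rw [Subgroup.card_map_of_injective e.injective]
    exact hEc
  · intro E' hE'n hE'2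
    have h1 := hup (E'.map e.symm.toMonoidHom) (hE'n.map _ e.symm.surjective) (by
      rintro _ ⟨a, ha, rfl⟩
      show (e.symm a) ^ 2 = 1
      rw [← map_pow, hE'2 a ha, map_one])
    rw [Subgroup.card_map_of_injective e.symm.injective] at h1
    exact h1

theorem NR0.prod {d d' : ℕ} {G H : Type u} [Group G] [Group H] [Finite G] [Finite H]
    (hG : NR0 d G) (hH : NR0 d' H) : NR0 (d + d') (G × H) := by
  obtain ⟨-, ⟨E₁, hE₁n, hE₁2, hE₁c⟩, hup₁⟩ := hG
  obtain ⟨-, ⟨E₂, hE₂n, hE₂2, hE₂c⟩, hup₂⟩ := hH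
  refine ⟨inferInstance, ⟨E₁.prod E₂, inferInstance, ?_, ?_⟩, ?_⟩
  · rintro ⟨a, b⟩ ⟨ha, hb⟩
    apply Prod.ext
    · exact hE₁2 a ha
    · exact hE₂2 b hb
  · rw [Nat.card_congr (Subgroup.prodEquiv E₁ E₂).toEquiv, Nat.card_prod, pow_add]
    exact Nat.mul_le_mul hE₁c hE₂c
  · intro E hEn hE2
    have h1 := card_le_of_two_homs E (MonoidHom.fst G H) (MonoidHom.snd G H) (by
      intro x _ h3 h4
      exact Prod.ext h3 h4)
    have h3 := hup₁ (E.map (MonoidHom.fst G H)) (hEn.map _ (fun g => ⟨(g, 1), rfl⟩)) (by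
      rintro _ ⟨a, ha, rfl⟩
      rw [← map_pow, hE2 a ha, map_one])
    have hKn : (E ⊓ (MonoidHom.fst G H).ker).Normal := inferInstance
    have h4 := hup₂ ((E ⊓ (MonoidHom.fst G H).ker).map (MonoidHom.snd G H))
      (hKn.map _ (fun g => ⟨(1, g), rfl⟩)) (by
      rintro _ ⟨a, ha, rfl⟩
      rw [← map_pow, hE2 a ha.1, map_one])
    calc Nat.card E ≤ _ := h1
      _ ≤ 2 ^ d * 2 ^ d' := Nat.mul_le_mul h3 h4
      _ = 2 ^ (d + d') := (pow_add 2 d d').symm

theorem nr0_of_card_two {G : Type u} [Group G] (h : Nat.card G = 2) : NR0 1 G := by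
  have hfin : Finite G := Nat.finite_of_card_ne_zero (by rw [h]; norm_num)
  refine ⟨hfin, ⟨⊤, inferInstance, ?_, ?_⟩, ?_⟩
  · intro a _
    have := pow_card_eq_one' (G := G) (x := a)
    rw [h] at this
    exact this
  · rw [Subgroup.card_top, h, pow_one]
  · intro E _ _
    rw [pow_one, ← h]
    exact Subgroup.card_le_card_group E

theorem nr_one_of_forall {G : Type u} [Group G] [Finite G] (z : G) (hz1 : z ≠ 1)
    (hz2 : z ^ 2 = 1) (hzc : ∀ g : G, g * z = z * g)
    (hE : ∀ E : Subgroup G, E.Normal → (∀ a ∈ E, a ^ 2 = 1) → ∀ a ∈ E, a = 1 ∨ a = z)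
    (hx : ∃ x : G, x ^ 2 ≠ 1) : NR 1 G := by
  have : Fact (Nat.Prime 2) := ⟨Nat.prime_two⟩
  have hs : orderOf z = 2 := orderOf_eq_prime hz2 hz1
  have hcardZ : Nat.card (Subgroup.zpowers z) = 2 := by
    rw [Nat.card_zpowers, hs]
  refine ⟨inferInstance, ⟨Subgroup.zpowers z, ?_, ?_, ?_⟩, ?_, ?_⟩
  · constructor
    intro a ha g
    obtain ⟨k, rfl⟩ := Subgroup.mem_zpowers_iff.mp ha
    have : g * z ^ k * g⁻¹ = z ^ k := by
      rw [mul_inv_eq_iff_eq_mul]
      have hc : Commute g z := hzc g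
      exact (hc.zpow_right k).eq
    rw [this]
    exact Subgroup.zpow_mem_zpowers z k
  · intro a ha
    obtain ⟨k, rfl⟩ := Subgroup.mem_zpowers_iff.mp ha
    rw [← zpow_natCast, ← zpow_mul, mul_comm, zpow_mul, zpow_natCast, hz2, one_zpow]
  · rw [hcardZ, pow_one]
  · intro E hEn hE2
    have hle : E ≤ Subgroup.zpowers z := by
      intro a ha
      rcases hE E hEn hE2 a ha with h | h
      · rw [h]
        exact Subgroup.one_mem _
      · rw [h]
        exact Subgroup.mem_zpowers z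
    rw [pow_one]
    exact (Subgroup.card_le_of_le hle).trans hcardZ.le
  · intro _
    exact hx

theorem card_le_two_mul {H : Type*} [Group H] [Finite H] (C : Subgroup H)
    (h : ∀ a b : H, a ∉ C → b ∉ C → a⁻¹ * b ∈ C) : Nat.card H ≤ 2 * Nat.card C := by
  classical
  by_cases hall : ∀ a : H, a ∈ C
  · have : C = ⊤ := by
      ext a
      simp [hall a]
    rw [this, Subgroup.card_top]
    omega
  · push Not at hall
    obtain ⟨k₀, hk₀⟩ := hall
    let f : H → Bool × C := fun k =>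
      if hk : k ∈ C then (false, ⟨k, hk⟩) else (true, ⟨k₀⁻¹ * k, h k₀ k hk₀ hk⟩)
    have hf : Function.Injective f := by
      intro a b hab
      by_cases ha : a ∈ C
      · by_cases hb : b ∈ C
        · simp only [f, dif_pos ha, dif_pos hb, Prod.mk.injEq, true_and, Subtype.mk.injEq] at hab
          exact hab
        · simp only [f, dif_pos ha, dif_neg hb, Prod.mk.injEq] at hab
          exact absurd hab.1 (by decide)
      · by_cases hb : b ∈ C
        · simp only [f, dif_neg ha, dif_pos hb, Prod.mk.injEq] at hab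
          exact absurd hab.1 (by decide)
        · simp only [f, dif_neg ha, dif_neg hb, Prod.mk.injEq, true_and, Subtype.mk.injEq] at hab
          exact mul_left_cancel hab
    have h1 := Nat.card_le_card_of_injective f hf
    rw [Nat.card_prod, Nat.card_eq_fintype_card (α := Bool), Fintype.card_bool] at h1
    exact h1

theorem exists_ne_pair {H : Type*} [Finite H] (h : 3 ≤ Nat.card H) (a b : H) :
    ∃ c : H, c ≠ a ∧ c ≠ b := by
  classical
  by_contra hcon
  push Not at hcon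
  let f : H → Bool := fun c => decide (c = a)
  have hf : Function.Injective f := by
    intro c c' hcc
    by_cases hc : c = a
    · have : c' = a := by
        by_contra hc'
        simp [f, hc, hc'] at hcc
      rw [hc, this]
    · have hc' : c' ≠ a := by
        intro hc'
        simp [f, hc, hc'] at hcc
      rw [hcon c hc, hcon c' hc']
  have h1 := Nat.card_le_card_of_injective f hf
  rw [Nat.card_eq_fintype_card (α := Bool), Fintype.card_bool] at h1
  omega

theorem nr_one_of_kernel {P : Type u} [Group P] [Finite P] (hP : IsPGroup 2 P)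
    {A : Type*} [CommGroup A] (χ : P →* A)
    (z : P) (hzK : χ z = 1) (hz1 : z ≠ 1) (hz2 : z ^ 2 = 1)
    (huniq : ∀ a : P, χ a = 1 → a ^ 2 = 1 → a = 1 ∨ a = z)
    (hcard : 4 ≤ Nat.card χ.ker)
    (hcard' : (∃ e : P, χ e ≠ 1) → 8 ≤ Nat.card χ.ker)
    (hno : ∀ h e : P, χ h = 1 → h ^ 2 = z → e ^ 2 = 1 → χ e ≠ 1 → h * e = e * h → False) :
    NR 1 P := by
  classical
  have hzinv : z⁻¹ = z := by
    rw [inv_eq_iff_mul_eq_one, ← pow_two]
    exact hz2
  -- z is central
  have hzc : ∀ g : P, g * z = z * g := by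
    intro g
    have h1 : χ (g * z * g⁻¹) = 1 := by
      rw [map_mul, map_mul, map_inv, hzK, mul_one, mul_inv_cancel]
    have h2 : (g * z * g⁻¹) ^ 2 = 1 := by
      rw [pow_two]
      have : g * z * g⁻¹ * (g * z * g⁻¹) = g * (z * z) * g⁻¹ := by group
      rw [this, ← pow_two, hz2, mul_one, mul_inv_cancel]
    rcases huniq _ h1 h2 with h | h
    · exfalso
      apply hz1
      have : z = g⁻¹ * (g * z * g⁻¹) * g := by group
      rw [this, h, mul_one, inv_mul_cancel]
    · rw [mul_inv_eq_iff_eq_mul] at h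
      exact h
  -- an element outside {1, z} in the kernel
  have hx : ∃ x : P, x ^ 2 ≠ 1 := by
    obtain ⟨c, hc1, hcz⟩ := exists_ne_pair (H := χ.ker) (by omega) 1 ⟨z, hzK⟩
    refine ⟨c.1, ?_⟩
    intro h2
    rcases huniq c.1 c.2 h2 with h | h
    · exact hc1 (Subtype.ext h)
    · exact hcz (Subtype.ext h)
  apply nr_one_of_forall z hz1 hz2 hzc _ hx
  intro E hEn hE2 e he
  by_cases hχe : χ e = 1
  · exact huniq e hχe (hE2 e he)
  exfalso
  have he2 : e ^ 2 = 1 := hE2 e he
  have heinv : e⁻¹ = e := by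
    rw [inv_eq_iff_mul_eq_one, ← pow_two]
    exact he2
  have hχe2 : χ e * χ e = 1 := by
    rw [← map_mul, ← pow_two, he2, map_one]
  -- conjugates of e by kernel elements
  have hconj : ∀ k : P, χ k = 1 → k * e * k⁻¹ = e ∨ k * e * k⁻¹ = e * z := by
    intro k hk
    have hu : e * (k * e * k⁻¹) ∈ E := E.mul_mem he (hEn.conj_mem e he k)
    have hu2 := hE2 _ hu
    have hχu : χ (e * (k * e * k⁻¹)) = 1 := by
      rw [map_mul, map_mul, map_mul, map_inv, hk, one_mul, inv_one, mul_one, hχe2]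
    rcases huniq _ hχu hu2 with h | h
    · left
      have : k * e * k⁻¹ = e⁻¹ := eq_inv_of_mul_eq_one_right h
      rw [this, heinv]
    · right
      have : k * e * k⁻¹ = e⁻¹ * z := by
        rw [← h]
        group
      rw [this, heinv]
  -- the centralizer of e in the kernel
  let C : Subgroup χ.ker := (Subgroup.centralizer {e}).subgroupOf χ.ker
  have hCmem : ∀ k : χ.ker, k ∈ C ↔ (k : P) * e = e * k := by
    intro k
    show (k : P) ∈ Subgroup.centralizer {e} ↔ _
    rw [Subgroup.mem_centralizer_iff]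
    constructor
    · intro h
      exact (h e rfl).symm
    · intro h x hx
      rw [Set.mem_singleton_iff.mp hx]
      exact h.symm
  have hnotC : ∀ k : χ.ker, k ∉ C → (k : P) * e * (k : P)⁻¹ = e * z := by
    intro k hk
    rcases hconj k.1 k.2 with h | h
    · exfalso
      apply hk
      rw [hCmem]
      rw [mul_inv_eq_iff_eq_mul] at h
      exact h
    · exact h
  have hindex : Nat.card χ.ker ≤ 2 * Nat.card C := by
    apply card_le_two_mul
    intro a b ha hb
    rw [hCmem]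
    have h1 := hnotC a ha
    have h2 := hnotC b hb
    have h1' : (a : P) * e = e * z * a := by
      rw [mul_inv_eq_iff_eq_mul] at h1
      exact h1
    have h2' : (b : P) * e = e * z * b := by
      rw [mul_inv_eq_iff_eq_mul] at h2
      exact h2
    show ((a : P)⁻¹ * (b : P)) * e = e * ((a : P)⁻¹ * (b : P))
    have h3 : (a : P)⁻¹ * (e * z) = e * (a : P)⁻¹ := by
      rw [inv_mul_eq_iff_eq_mul, ← mul_assoc, h1', mul_assoc, mul_assoc, mul_inv_cancel, mul_one]
    calc (a : P)⁻¹ * (b : P) * e = (a : P)⁻¹ * ((b : P) * e) := mul_assoc _ _ _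
      _ = ((a : P)⁻¹ * (e * z)) * (b : P) := by rw [h2']; group
      _ = e * ((a : P)⁻¹ * (b : P)) := by rw [h3, mul_assoc]
  have h8 := hcard' ⟨e, hχe⟩
  have hC4 : 3 ≤ Nat.card C := by omega
  obtain ⟨c, hc1, hcz⟩ := exists_ne_pair hC4 1 ⟨⟨z, hzK⟩, by
    rw [hCmem]
    exact (hzc e).symm⟩
  have hcP1 : (c.1.1 : P) ≠ 1 := by
    intro h
    apply hc1
    apply Subtype.ext
    apply Subtype.ext
    exact h
  have hcPz : (c.1.1 : P) ≠ z := by
    intro h
    apply hcz
    apply Subtype.ext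
    apply Subtype.ext
    exact h
  have hcχ : χ c.1.1 = 1 := c.1.2
  have hce : (c.1.1 : P) * e = e * c.1.1 := (hCmem c.1).mp c.2
  have hc2 : (c.1.1 : P) ^ 2 ≠ 1 := by
    intro h2
    rcases huniq _ hcχ h2 with h | h
    · exact hcP1 h
    · exact hcPz h
  obtain ⟨j, hj⟩ := hP c.1.1
  -- minimal j
  have hex : ∃ j, (c.1.1 : P) ^ 2 ^ j = 1 := ⟨j, hj⟩
  set j₀ := Nat.find hex with hj₀
  have hj₀1 : (c.1.1 : P) ^ 2 ^ j₀ = 1 := Nat.find_spec hex
  have hj₀2 : 2 ≤ j₀ := by
    by_contra hlt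
    push Not at hlt
    interval_cases j₀
    · apply hcP1
      simpa using hj₀1
    · apply hc2
      simpa using hj₀1
  have hmin : (c.1.1 : P) ^ 2 ^ (j₀ - 1) ≠ 1 := by
    intro h
    have := Nat.find_min' hex h
    omega
  set h := (c.1.1 : P) ^ 2 ^ (j₀ - 2) with hh
  have hh2 : h ^ 2 = (c.1.1 : P) ^ 2 ^ (j₀ - 1) := by
    rw [hh, ← pow_mul, ← pow_succ]
    congr 2
    omega
  have hh4 : (h ^ 2) ^ 2 = 1 := by
    rw [hh2, ← pow_mul, ← pow_succ]
    have : j₀ - 1 + 1 = j₀ := by omega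
    rw [this]
    exact hj₀1
  have hχh : χ h = 1 := by
    rw [hh, map_pow, hcχ, one_pow]
  have hχh2 : χ (h ^ 2) = 1 := by
    rw [map_pow, hχh, one_pow]
  have hh2z : h ^ 2 = z := by
    rcases huniq _ hχh2 hh4 with h' | h'
    · exfalso
      apply hmin
      rw [← hh2]
      exact h'
    · exact h'
  have hhe : h * e = e * h := by
    have hc : Commute (c.1.1 : P) e := hce
    exact (hc.pow_left _).eq
  exact hno h e hχh hh2z he2 hχe hhe

end Cfsg.Agent.Lib.Helper10.GLSylowP
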