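import Mathlib
import Cfsg.Agent.Lib.Helper10.GLSylowP1
import Cfsg.Agent.Lib.Helper10.GLSylowP2

set_option autoImplicit false
open scoped MatrixGroups

namespace Cfsg.Agent.Lib.Helper10.GLSylowP

open Module Cfsg.Agent.Lib.Helper10.SpSylow Cfsg.Agent.Lib.Helper10.WreathLinear
  Cfsg.Agent.Lib.Helper10.SpSylowE Cfsg.Agent.Lib.Helper10.SpSylowP
  Cfsg.Agent.Lib.Helper10.GLSylowE

universe u

variable {F : Type u} [Field F]

theorem mat_inv_det_one (h2 : (2 : F) ≠ 0) (A : Matrix (Fin 2) (Fin 2) F) (hA : A * A = 1)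
    (hd : A.det = 1) : A = 1 ∨ A = -1 := by
  have h00 := congrFun (congrFun hA 0) 0
  have h01 := congrFun (congrFun hA 0) 1
  have h10 := congrFun (congrFun hA 1) 0
  have h11 := congrFun (congrFun hA 1) 1
  rw [Matrix.det_fin_two] at hd
  simp only [Matrix.mul_apply, Fin.sum_univ_two, Matrix.one_apply_eq, Matrix.one_apply_ne,
    ne_eq, Fin.reduceEq, not_false_eq_true] at h00 h01 h10 h11
  set a := A 0 0
  set b := A 0 1
  set c := A 1 0
  set d := A 1 1
  have hs : a * (a + d) = 2 := by linear_combination h00 + hd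
  have hne : a + d ≠ 0 := by
    intro h
    rw [h, mul_zero] at hs
    exact h2 hs.symm
  have hb : b = 0 := by
    have : b * (a + d) = 0 := by linear_combination h01
    rcases mul_eq_zero.mp this with h | h
    · exact h
    · exact absurd h hne
  have hc : c = 0 := by
    have : c * (a + d) = 0 := by linear_combination h10
    rcases mul_eq_zero.mp this with h | h
    · exact h
    · exact absurd h hne
  have ha2 : a * a = 1 := by
    rw [hb] at h00
    linear_combination h00
  have had : a * d = 1 := by
    rw [hb] at hd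
    linear_combination hd
  rcases mul_self_eq_one_iff.mp ha2 with ha | ha
  · left
    have hd1 : d = 1 := by
      rw [ha, one_mul] at had
      exact had
    ext i j
    fin_cases i <;> fin_cases j
    · exact ha
    · exact hb
    · exact hc
    · exact hd1
  · right
    have hd1 : d = -1 := by
      rw [ha] at had
      linear_combination -had
    ext i j
    fin_cases i <;> fin_cases j
    · simpa using ha
    · simpa using hb
    · simpa using hc
    · simpa using hd1

theorem mat_sq_neg_one (h2 : (2 : F) ≠ 0) (A : Matrix (Fin 2) (Fin 2) F) (hA : A * A = -1)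
    (hd : A.det = -1) : IsSquare (-1 : F) := by
  have h00 := congrFun (congrFun hA 0) 0
  have h01 := congrFun (congrFun hA 0) 1
  rw [Matrix.det_fin_two] at hd
  simp only [Matrix.mul_apply, Fin.sum_univ_two, Matrix.neg_apply, Matrix.one_apply_eq,
    Matrix.one_apply_ne, ne_eq, Fin.reduceEq, not_false_eq_true, neg_zero] at h00 h01
  set a := A 0 0
  set b := A 0 1
  set c := A 1 0
  set d := A 1 1
  have hs : a * (a + d) = -2 := by linear_combination h00 + hd
  have hne : a + d ≠ 0 := by
    intro h
    rw [h, mul_zero] at hs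
    apply h2
    linear_combination hs
  have hb : b = 0 := by
    have : b * (a + d) = 0 := by linear_combination h01
    rcases mul_eq_zero.mp this with h | h
    · exact h
    · exact absurd h hne
  refine ⟨a, ?_⟩
  rw [hb] at h00
  linear_combination -h00

theorem end_inv_det_one (h2 : (2 : F) ≠ 0) (f : Module.End F (Fin 2 → F)) (hf : f * f = 1)
    (hd : LinearMap.det f = 1) : f = 1 ∨ f = -1 := by
  have hA : LinearMap.toMatrix' f * LinearMap.toMatrix' f = 1 := by
    rw [← LinearMap.toMatrix'_mul, hf, LinearMap.toMatrix'_one]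
  have hdA : (LinearMap.toMatrix' f).det = 1 := by
    rw [LinearMap.det_toMatrix', hd]
  rcases mat_inv_det_one h2 _ hA hdA with h | h
  · left
    apply LinearMap.toMatrix'.injective
    rw [h, LinearMap.toMatrix'_one]
  · right
    apply LinearMap.toMatrix'.injective
    rw [h, map_neg, LinearMap.toMatrix'_one]

theorem end_no_commuting [Fintype F] (h3 : Fintype.card F % 4 = 3) (h2 : (2 : F) ≠ 0)
    (f g : Module.End F (Fin 2 → F)) (hf : LinearMap.det f = 1) (hf2 : f * f = -1)
    (hg2 : g * g = 1) (hg : LinearMap.det g ≠ 1) (hfg : f * g = g * f) : False := by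
  have hx : (f * g) * (f * g) = -1 := by
    calc (f * g) * (f * g) = f * (g * f) * g := by noncomm_ring
      _ = f * (f * g) * g := by rw [hfg]
      _ = (f * f) * (g * g) := by noncomm_ring
      _ = -1 := by rw [hf2, hg2, mul_one]
  have hdg : LinearMap.det g = -1 := by
    have h1 : LinearMap.det g * LinearMap.det g = 1 := by
      rw [← map_mul, hg2, map_one]
    rcases mul_self_eq_one_iff.mp h1 with h | h
    · exact absurd h hg
    · exact h
  have hdx : LinearMap.det (f * g) = -1 := by
    rw [map_mul, hf, hdg, one_mul]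
  have hA : LinearMap.toMatrix' (f * g) * LinearMap.toMatrix' (f * g) = -1 := by
    rw [← LinearMap.toMatrix'_mul, hx, map_neg, LinearMap.toMatrix'_one]
  have hdA : (LinearMap.toMatrix' (f * g)).det = -1 := by
    rw [LinearMap.det_toMatrix', hdx]
  have hsq := mat_sq_neg_one h2 _ hA hdA
  rw [FiniteField.isSquare_neg_one_iff] at hsq
  exact hsq h3

theorem end_one_inv (f : Module.End F (Fin 1 → F)) (hf : f * f = 1) : f = 1 ∨ f = -1 := by
  have hA : LinearMap.toMatrix' f * LinearMap.toMatrix' f = 1 := by
    rw [← LinearMap.toMatrix'_mul, hf, LinearMap.toMatrix'_one]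
  have h00 := congrFun (congrFun hA 0) 0
  simp only [Matrix.mul_apply, Fin.sum_univ_one, Matrix.one_apply_eq] at h00
  rcases mul_self_eq_one_iff.mp h00 with h | h
  · left
    apply LinearMap.toMatrix'.injective
    rw [LinearMap.toMatrix'_one]
    ext i j
    rw [Subsingleton.elim i 0, Subsingleton.elim j 0, h, Matrix.one_apply_eq]
  · right
    apply LinearMap.toMatrix'.injective
    rw [map_neg, LinearMap.toMatrix'_one]
    ext i j
    rw [Subsingleton.elim i 0, Subsingleton.elim j 0, h, Matrix.neg_apply, Matrix.one_apply_eq]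

theorem neg_one_ne_one_units {n : ℕ} (hn : 0 < n) (h2 : (2 : F) ≠ 0) :
    (-1 : (Module.End F (Fin n → F))ˣ) ≠ 1 := by
  intro h
  have h1 : ((-1 : (Module.End F (Fin n → F))ˣ) : Module.End F (Fin n → F)) (fun _ => 1) ⟨0, hn⟩ =
      ((1 : (Module.End F (Fin n → F))ˣ) : Module.End F (Fin n → F)) (fun _ => 1) ⟨0, hn⟩ := by
    rw [h]
  simp only [Units.val_neg, Units.val_one, LinearMap.neg_apply, Module.End.one_apply,
    Pi.neg_apply] at h1
  apply h2
  linear_combination -h1

/-- a Sylow 2-subgroup containing `-1` -/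
theorem exists_sylow_neg_one [Fintype F] {n : ℕ} (hn : 0 < n) (h2 : (2 : F) ≠ 0) :
    ∃ P : Sylow 2 (Module.End F (Fin n → F))ˣ,
      (-1 : (Module.End F (Fin n → F))ˣ) ∈ (P : Subgroup (Module.End F (Fin n → F))ˣ) := by
  have : Fact (Nat.Prime 2) := ⟨Nat.prime_two⟩
  have hz2 : (-1 : (Module.End F (Fin n → F))ˣ) ^ 2 = 1 := by
    apply Units.ext
    simp
  have hord : orderOf (-1 : (Module.End F (Fin n → F))ˣ) = 2 :=
    orderOf_eq_prime hz2 (neg_one_ne_one_units hn h2)
  have hH : IsPGroup 2 (Subgroup.zpowers (-1 : (Module.End F (Fin n → F))ˣ)) := by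
    apply IsPGroup.of_card (n := 1)
    rw [Nat.card_zpowers, hord, pow_one]
  obtain ⟨P, hP⟩ := hH.exists_le_sylow
  exact ⟨P, hP (Subgroup.mem_zpowers _)⟩

end Cfsg.Agent.Lib.Helper10.GLSylowP
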