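import Mathlib
import Cfsg.Agent.Lib.Helper10.SpSylowE4
import Cfsg.Agent.Lib.Helper10.GLSylowE3

set_option autoImplicit false
open scoped MatrixGroups

namespace Cfsg.Agent.Lib.Helper10.OmegaSylow

open Module Cfsg.Agent.Lib.Helper10.SpSylowE Cfsg.Agent.Lib.Helper10.GLSylowE

universe u

theorem val_two_mod_four (n : ℕ) (h : n % 4 = 2) : padicValNat 2 n = 1 := by
  obtain ⟨t, ht⟩ : ∃ t, n = 2 * (2 * t + 1) := ⟨n / 4, by omega⟩
  have hodd' : ¬ 2 ∣ 2 * t + 1 := by omega
  rw [ht, padicValNat.mul (by norm_num) (by omega), padicValNat_self,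
    padicValNat.eq_zero_of_not_dvd hodd']

theorem pow_mod_four_one (q m : ℕ) (hq : q % 4 = 1) : q ^ m % 4 = 1 := by
  rw [Nat.pow_mod, hq, one_pow]
  norm_num

theorem pow_mod_four_three_even (q j : ℕ) (hq : q % 4 = 3) : q ^ (2 * j) % 4 = 1 := by
  rw [pow_mul, Nat.pow_mod]
  have : q ^ 2 % 4 = 1 := by
    rw [Nat.pow_mod, hq]
  rw [this, one_pow]
  norm_num

theorem pow_mod_four_three_odd (q j : ℕ) (hq : q % 4 = 3) : q ^ (2 * j + 1) % 4 = 3 := by
  rw [pow_succ, Nat.mul_mod, pow_mod_four_three_even q j hq, hq]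

theorem val_pow_sub_one_A (q m : ℕ) (hodd : Odd q) (hq2 : 2 ≤ q) (hm : 1 ≤ m)
    (h : q ^ m % 4 = 1) :
    padicValNat 2 (q ^ m - 1) + 1 =
      (padicValNat 2 (q + 1) + padicValNat 2 (q - 1)) + padicValNat 2 m := by
  have : Fact (Nat.Prime 2) := ⟨Nat.prime_two⟩
  rcases Nat.even_or_odd' m with ⟨j, hj | hj⟩
  · have hj1 : 1 ≤ j := by omega
    have h1 := w_even q hodd hq2 (j - 1)
    have h3 : j - 1 + 1 = j := by omega
    rw [h3] at h1
    rw [hj, h1, padicValNat.mul (by norm_num) (by omega), padicValNat_self]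
    ring
  · have hq4 : q % 4 = 1 := by
      obtain ⟨t, ht⟩ := hodd
      have h13 : q % 4 = 1 ∨ q % 4 = 3 := by omega
      rcases h13 with h13 | h13
      · exact h13
      · rw [hj, pow_mod_four_three_odd q j h13] at h
        omega
    have hv1 : padicValNat 2 (q + 1) = 1 := val_two_mod_four _ (by omega)
    have hdvd : 2 ∣ q ^ 1 - 1 := by
      rw [pow_one]
      omega
    have hm2 : ¬ 2 ∣ m := by omega
    have h1 := Cfsg.Agent.Lib.Helper10.SpSylowR.val_pow_mul' 2 q hq2 1 m (by norm_num) hdvd hm2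
    rw [one_mul, pow_one] at h1
    rw [h1, hv1, padicValNat.eq_zero_of_not_dvd hm2]
    ring

theorem val_pow_add_one_A (q m : ℕ) (hodd : Odd q) (hq2 : 2 ≤ q) (hm : 1 ≤ m)
    (h : q ^ m % 4 = 3) :
    padicValNat 2 (q ^ m + 1) + 1 =
      (padicValNat 2 (q + 1) + padicValNat 2 (q - 1)) + padicValNat 2 m ∧ ¬ 2 ∣ m := by
  have : Fact (Nat.Prime 2) := ⟨Nat.prime_two⟩
  have hq4 : q % 4 = 3 := by
    obtain ⟨t, ht⟩ := hodd
    have h13 : q % 4 = 1 ∨ q % 4 = 3 := by omega
    rcases h13 with h13 | h13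
    · rw [pow_mod_four_one q m h13] at h
      omega
    · exact h13
  have hm2 : ¬ 2 ∣ m := by
    rintro ⟨j, hj⟩
    rw [hj, pow_mod_four_three_even q j hq4] at h
    omega
  refine ⟨?_, hm2⟩
  have hv1 : padicValNat 2 (q - 1) = 1 := val_two_mod_four _ (by omega)
  have hdvd : 2 ∣ q ^ 1 - 1 := by
    rw [pow_one]
    omega
  have h1 := Cfsg.Agent.Lib.Helper10.SpSylowR.val_pow_mul' 2 q hq2 1 m (by norm_num) hdvd hm2
  rw [one_mul, pow_one] at h1
  have h3 := w_even q hodd hq2 (m - 1)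
  have h4 : m - 1 + 1 = m := by omega
  rw [h4, padicValNat.eq_zero_of_not_dvd hm2, add_zero] at h3
  have hqm : 2 ≤ q ^ m := by
    calc 2 ≤ q := hq2
      _ = q ^ 1 := (pow_one q).symm
      _ ≤ q ^ m := Nat.pow_le_pow_right (by omega) hm
  have h5 : q ^ (2 * m) - 1 = (q ^ m + 1) * (q ^ m - 1) := by
    have : q ^ (2 * m) = (q ^ m) ^ 2 := by rw [← pow_mul, mul_comm]
    rw [this]
    have := Nat.sq_sub_sq (q ^ m) 1
    rw [one_pow] at this
    exact this
  rw [h5, padicValNat.mul (by omega) (by omega), h1, hv1] at h3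
  rw [padicValNat.eq_zero_of_not_dvd hm2]
  omega

variable {F : Type u} [Field F]

theorem val_prod_sp [Fintype F] (hodd : Odd (Fintype.card F)) (n : ℕ) :
    (∏ i ∈ Finset.range n, ((Fintype.card F) ^ (2 * (i + 1)) - 1)).factorization 2 =
      n * (padicValNat 2 (Fintype.card F + 1) + padicValNat 2 (Fintype.card F - 1)) + ff n := by
  have h := val_card_sp (F := F) hodd n
  set q := Fintype.card F with hqdef
  have hq2 : 2 ≤ q := Fintype.one_lt_card
  rw [Cfsg.Agent.Lib.Helper27.SympTransv.card_symplecticGroup (F := F) (q := q) rfl n] at h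
  have hne1 : q ^ (n ^ 2) ≠ 0 := by positivity
  have hterm_ne : ∀ i ∈ Finset.range n, q ^ (2 * (i + 1)) - 1 ≠ 0 := by
    intro i _
    have : 2 ≤ q ^ (2 * (i + 1)) := by
      calc 2 ≤ q := hq2
        _ = q ^ 1 := (pow_one q).symm
        _ ≤ q ^ (2 * (i + 1)) := Nat.pow_le_pow_right (by omega) (by omega)
    omega
  have hne2 : ∏ i ∈ Finset.range n, (q ^ (2 * (i + 1)) - 1) ≠ 0 :=
    Finset.prod_ne_zero_iff.2 hterm_ne
  rw [Nat.factorization_mul hne1 hne2, Finsupp.add_apply] at h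
  have hq2' : ¬ 2 ∣ q := by
    rw [← even_iff_two_dvd, Nat.not_even_iff_odd]
    exact hodd
  have h0 : (q ^ (n ^ 2)).factorization 2 = 0 := by
    rw [Nat.factorization_def _ Nat.prime_two]
    apply padicValNat.eq_zero_of_not_dvd
    intro h'
    exact hq2' (Nat.prime_two.dvd_of_dvd_pow h')
  rw [h0, zero_add] at h
  exact h

theorem val_card_even_aux [Fintype F] (hodd : Odd (Fintype.card F)) (m : ℕ) (B : ℕ) (hB : B ≠ 0) :
    (2 * (Fintype.card F) ^ (m * (m - 1)) * B *
      ∏ i ∈ Finset.range (m - 1), ((Fintype.card F) ^ (2 * (i + 1)) - 1)).factorization 2 =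
      1 + padicValNat 2 B + ((m - 1) * (padicValNat 2 (Fintype.card F + 1) +
        padicValNat 2 (Fintype.card F - 1)) + ff (m - 1)) := by
  have hp := val_prod_sp (F := F) hodd (m - 1)
  set q := Fintype.card F with hqdef
  have hq2 : 2 ≤ q := Fintype.one_lt_card
  have hne1 : q ^ (m * (m - 1)) ≠ 0 := by positivity
  have hterm_ne : ∀ i ∈ Finset.range (m - 1), q ^ (2 * (i + 1)) - 1 ≠ 0 := by
    intro i _
    have : 2 ≤ q ^ (2 * (i + 1)) := by
      calc 2 ≤ q := hq2
        _ = q ^ 1 := (pow_one q).symm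
        _ ≤ q ^ (2 * (i + 1)) := Nat.pow_le_pow_right (by omega) (by omega)
    omega
  have hne2 : ∏ i ∈ Finset.range (m - 1), (q ^ (2 * (i + 1)) - 1) ≠ 0 :=
    Finset.prod_ne_zero_iff.2 hterm_ne
  have hq2' : ¬ 2 ∣ q := by
    rw [← even_iff_two_dvd, Nat.not_even_iff_odd]
    exact hodd
  have h0 : (q ^ (m * (m - 1))).factorization 2 = 0 := by
    rw [Nat.factorization_def _ Nat.prime_two]
    apply padicValNat.eq_zero_of_not_dvd
    intro h'
    exact hq2' (Nat.prime_two.dvd_of_dvd_pow h')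
  rw [Nat.factorization_mul (by positivity) hne2, Nat.factorization_mul (by positivity) hB,
    Nat.factorization_mul (by norm_num) hne1, Finsupp.add_apply, Finsupp.add_apply,
    Finsupp.add_apply, hp, h0, Nat.prime_two.factorization_self,
    Nat.factorization_def B Nat.prime_two]

end Cfsg.Agent.Lib.Helper10.OmegaSylow
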