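import Mathlib
import Cfsg.Agent.Lib.Helper10.GLSylowP3
import Cfsg.Agent.Lib.Helper10.OmegaSylowQ

set_option autoImplicit false
open scoped MatrixGroups

namespace Cfsg.Agent.Lib.Helper10.GLSylowP

open Module Cfsg.Agent.Lib.Helper10.SpSylow Cfsg.Agent.Lib.Helper10.WreathLinear
  Cfsg.Agent.Lib.Helper10.SpSylowE Cfsg.Agent.Lib.Helper10.SpSylowP
  Cfsg.Agent.Lib.Helper10.GLSylowE Cfsg.Agent.Lib.Helper10.OmegaSylow

universe u

variable {F : Type u} [Field F]

theorem hasGP_base_three [Fintype F] (h3 : Fintype.card F % 4 = 3) :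
    HasGP (fun d (G : Type u) [Group G] => NR d G) F
      ((padicValNat 2 (Fintype.card F + 1) + padicValNat 2 (Fintype.card F - 1)) + 1) 2 1 := by
  classical
  have : Fact (Nat.Prime 2) := ⟨Nat.prime_two⟩
  have hodd : Odd (Fintype.card F) := by
    rw [Nat.odd_iff]
    omega
  have h4 : 4 ∣ Fintype.card F + 1 := by omega
  have h2 := two_ne_zero_of_odd (F := F) _ rfl hodd
  have hfinU : Finite (Module.End F (Fin 2 → F))ˣ :=
    Finite.of_equiv _ (Matrix.GeneralLinearGroup.toLin (n := Fin 2) (R := F)).toEquiv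
  obtain ⟨P, hzP⟩ := exists_sylow_neg_one (F := F) (n := 2) (by norm_num) h2
  have hcardP : Nat.card (P : Subgroup (Module.End F (Fin 2 → F))ˣ) =
      2 ^ ((padicValNat 2 (Fintype.card F + 1) + padicValNat 2 (Fintype.card F - 1)) + 1) := by
    rw [P.card_eq_multiplicity, val_card_GL2 hodd h4]
  refine ⟨Fin 2 → F, inferInstance, inferInstance, inferInstance, Module.finrank_fin_fun F,
    (P : Subgroup (Module.End F (Fin 2 → F))ˣ), hcardP, ?_⟩
  let χ : ↥(P : Subgroup (Module.End F (Fin 2 → F))ˣ) →* Fˣ :=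
    detChar (P : Subgroup (Module.End F (Fin 2 → F))ˣ)
  let z : ↥(P : Subgroup (Module.End F (Fin 2 → F))ˣ) := ⟨-1, hzP⟩
  have hdetneg : LinearMap.det (-1 : Module.End F (Fin 2 → F)) = 1 := by
    rw [← LinearMap.det_toMatrix', map_neg, LinearMap.toMatrix'_one, Matrix.det_neg,
      Matrix.det_one]
    simp
  have hval : ∀ a b : ↥(P : Subgroup (Module.End F (Fin 2 → F))ˣ),
      (((a * b : ↥(P : Subgroup (Module.End F (Fin 2 → F))ˣ)) :
        (Module.End F (Fin 2 → F))ˣ) : Module.End F (Fin 2 → F)) =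
      ((a : (Module.End F (Fin 2 → F))ˣ) : Module.End F (Fin 2 → F)) *
        ((b : (Module.End F (Fin 2 → F))ˣ) : Module.End F (Fin 2 → F)) := fun a b => rfl
  have hzval : ((z : (Module.End F (Fin 2 → F))ˣ) : Module.End F (Fin 2 → F)) = -1 := rfl
  have h1val : (((1 : ↥(P : Subgroup (Module.End F (Fin 2 → F))ˣ)) :
      (Module.End F (Fin 2 → F))ˣ) : Module.End F (Fin 2 → F)) = 1 := rfl
  have hext : ∀ a b : ↥(P : Subgroup (Module.End F (Fin 2 → F))ˣ),
      ((a : (Module.End F (Fin 2 → F))ˣ) : Module.End F (Fin 2 → F)) =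
      ((b : (Module.End F (Fin 2 → F))ˣ) : Module.End F (Fin 2 → F)) → a = b := by
    intro a b h
    exact Subtype.ext (Units.ext h)
  have hχ : ∀ a : ↥(P : Subgroup (Module.End F (Fin 2 → F))ˣ), χ a = 1 ↔
      LinearMap.det ((a : (Module.End F (Fin 2 → F))ˣ) : Module.End F (Fin 2 → F)) = 1 := by
    intro a
    constructor
    · intro h
      have := congrArg Units.val h
      rw [detChar_val] at this
      exact this
    · intro h
      apply Units.ext
      rw [detChar_val]
      exact h
  -- the order of the kernel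
  have h8 : 8 ≤ Nat.card χ.ker := by
    have hmul : Nat.card χ.ker * Nat.card χ.range =
        Nat.card (P : Subgroup (Module.End F (Fin 2 → F))ˣ) := by
      rw [← Subgroup.index_ker]
      exact Subgroup.card_mul_index χ.ker
    have hdvdP : Nat.card χ.range ∣
        2 ^ ((padicValNat 2 (Fintype.card F + 1) + padicValNat 2 (Fintype.card F - 1)) + 1) := by
      rw [← hcardP, ← hmul]
      exact dvd_mul_left _ _
    obtain ⟨i, -, hi⟩ := (Nat.dvd_prime_pow Nat.prime_two).mp hdvdP
    have hdvdF : Nat.card χ.range ∣ Fintype.card F - 1 := by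
      have := Subgroup.card_subgroup_dvd_card χ.range
      rw [Nat.card_eq_fintype_card (α := Fˣ), Fintype.card_units] at this
      exact this
    have hi1 : i ≤ 1 := by
      by_contra hlt
      push Not at hlt
      have h4' : 4 ∣ Fintype.card F - 1 := by
        apply dvd_trans _ hdvdF
        rw [hi]
        calc 4 = 2 ^ 2 := by norm_num
          _ ∣ 2 ^ i := pow_dvd_pow 2 hlt
      omega
    have hr2 : Nat.card χ.range ≤ 2 := by
      rw [hi]
      calc 2 ^ i ≤ 2 ^ 1 := Nat.pow_le_pow_right (by norm_num) hi1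
        _ = 2 := by norm_num
    have hv1 : padicValNat 2 (Fintype.card F - 1) = 1 := val_sub_one _ h4
    have hv2 : 2 ≤ padicValNat 2 (Fintype.card F + 1) := by
      apply (padicValNat_dvd_iff_le (p := 2) (by omega)).mp
      exact h4
    have h16 : 16 ≤ Nat.card (P : Subgroup (Module.End F (Fin 2 → F))ˣ) := by
      rw [hcardP]
      calc 16 = 2 ^ 4 := by norm_num
        _ ≤ _ := Nat.pow_le_pow_right (by norm_num) (by omega)
    have : Nat.card χ.ker * Nat.card χ.range ≤ Nat.card χ.ker * 2 :=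
      Nat.mul_le_mul_left _ hr2
    omega
  apply nr_one_of_kernel P.isPGroup' χ z
  · rw [hχ, hzval]
    exact hdetneg
  · intro h
    apply neg_one_ne_one_units (F := F) (n := 2) (by norm_num) h2
    exact congrArg Subtype.val h
  · apply hext
    rw [pow_two, hval, hzval, h1val]
    apply LinearMap.ext
    intro v
    simp
  · intro a ha ha2
    have hf : ((a : (Module.End F (Fin 2 → F))ˣ) : Module.End F (Fin 2 → F)) *
        ((a : (Module.End F (Fin 2 → F))ˣ) : Module.End F (Fin 2 → F)) = 1 := by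
      rw [← hval, ← pow_two, ha2]
      rfl
    rcases end_inv_det_one h2 _ hf ((hχ a).mp ha) with h | h
    · left
      exact hext _ _ h
    · right
      exact hext _ _ h
  · omega
  · intro _
    exact h8
  · intro h e hh hh2 he2 hχe hhe
    apply end_no_commuting h3 h2
      ((h : (Module.End F (Fin 2 → F))ˣ) : Module.End F (Fin 2 → F))
      ((e : (Module.End F (Fin 2 → F))ˣ) : Module.End F (Fin 2 → F)) ((hχ h).mp hh)
    · rw [← hval, ← pow_two, hh2]
      rfl
    · rw [← hval, ← pow_two, he2]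
      rfl
    · intro hd
      exact hχe ((hχ e).mpr hd)
    · rw [← hval, ← hval, hhe]

theorem hasGP_base_one [Fintype F] (h1 : Fintype.card F % 4 = 1) :
    HasGP (fun d (G : Type u) [Group G] => NR d G) F (padicValNat 2 (Fintype.card F - 1)) 1 1 := by
  classical
  have : Fact (Nat.Prime 2) := ⟨Nat.prime_two⟩
  have hodd : Odd (Fintype.card F) := by
    rw [Nat.odd_iff]
    omega
  have h2 := two_ne_zero_of_odd (F := F) _ rfl hodd
  have hfinU : Finite (Module.End F (Fin 1 → F))ˣ :=
    Finite.of_equiv _ (Matrix.GeneralLinearGroup.toLin (n := Fin 1) (R := F)).toEquiv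
  obtain ⟨P, hzP⟩ := exists_sylow_neg_one (F := F) (n := 1) (by norm_num) h2
  have hcardU : Nat.card (Module.End F (Fin 1 → F))ˣ = Nat.card (GL (Fin 1) F) :=
    (Nat.card_congr (Matrix.GeneralLinearGroup.toLin (n := Fin 1) (R := F)).toEquiv).symm
  have hcardP : Nat.card (P : Subgroup (Module.End F (Fin 1 → F))ˣ) =
      2 ^ (padicValNat 2 (Fintype.card F - 1)) := by
    rw [P.card_eq_multiplicity, hcardU, val_card_GL_two hodd 1]
    simp
  refine ⟨Fin 1 → F, inferInstance, inferInstance, inferInstance, Module.finrank_fin_fun F,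
    (P : Subgroup (Module.End F (Fin 1 → F))ˣ), hcardP, ?_⟩
  let z : ↥(P : Subgroup (Module.End F (Fin 1 → F))ˣ) := ⟨-1, hzP⟩
  have hval : ∀ a b : ↥(P : Subgroup (Module.End F (Fin 1 → F))ˣ),
      (((a * b : ↥(P : Subgroup (Module.End F (Fin 1 → F))ˣ)) :
        (Module.End F (Fin 1 → F))ˣ) : Module.End F (Fin 1 → F)) =
      ((a : (Module.End F (Fin 1 → F))ˣ) : Module.End F (Fin 1 → F)) *
        ((b : (Module.End F (Fin 1 → F))ˣ) : Module.End F (Fin 1 → F)) := fun a b => rfl
  have hzval : ((z : (Module.End F (Fin 1 → F))ˣ) : Module.End F (Fin 1 → F)) = -1 := rfl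
  have h1val : (((1 : ↥(P : Subgroup (Module.End F (Fin 1 → F))ˣ)) :
      (Module.End F (Fin 1 → F))ˣ) : Module.End F (Fin 1 → F)) = 1 := rfl
  have hext : ∀ a b : ↥(P : Subgroup (Module.End F (Fin 1 → F))ˣ),
      ((a : (Module.End F (Fin 1 → F))ˣ) : Module.End F (Fin 1 → F)) =
      ((b : (Module.End F (Fin 1 → F))ˣ) : Module.End F (Fin 1 → F)) → a = b := by
    intro a b h
    exact Subtype.ext (Units.ext h)
  have hv2 : 2 ≤ padicValNat 2 (Fintype.card F - 1) := by
    have hq : 2 ≤ Fintype.card F := Fintype.one_lt_card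
    apply (padicValNat_dvd_iff_le (p := 2) (by omega)).mp
    show 4 ∣ Fintype.card F - 1
    omega
  apply nr_one_of_kernel P.isPGroup' (1 : ↥(P : Subgroup (Module.End F (Fin 1 → F))ˣ) →* Fˣ) z
  · rfl
  · intro h
    apply neg_one_ne_one_units (F := F) (n := 1) (by norm_num) h2
    exact congrArg Subtype.val h
  · apply hext
    rw [pow_two, hval, hzval, h1val]
    apply LinearMap.ext
    intro v
    simp
  · intro a _ ha2
    have hf : ((a : (Module.End F (Fin 1 → F))ˣ) : Module.End F (Fin 1 → F)) *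
        ((a : (Module.End F (Fin 1 → F))ˣ) : Module.End F (Fin 1 → F)) = 1 := by
      rw [← hval, ← pow_two, ha2]
      rfl
    rcases end_one_inv _ hf with h | h
    · left
      exact hext _ _ h
    · right
      exact hext _ _ h
  · rw [MonoidHom.ker_one, Subgroup.card_top, hcardP]
    calc 4 = 2 ^ 2 := by norm_num
      _ ≤ _ := Nat.pow_le_pow_right (by norm_num) hv2
  · rintro ⟨e, he⟩
    exact absurd rfl he
  · intro h e _ _ _ he _
    exact he rfl

end Cfsg.Agent.Lib.Helper10.GLSylowP
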