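import Mathlib
import Cfsg.Agent.Lib.Helper10.GLSylowP4

set_option autoImplicit false
open scoped MatrixGroups

namespace Cfsg.Agent.Lib.Helper10.GLSylowP

open Module Cfsg.Agent.Lib.Helper10.SpSylow Cfsg.Agent.Lib.Helper10.WreathLinear
  Cfsg.Agent.Lib.Helper10.SpSylowE Cfsg.Agent.Lib.Helper10.SpSylowP
  Cfsg.Agent.Lib.Helper10.GLSylowE Cfsg.Agent.Lib.Helper10.OmegaSylow

universe u

variable {F : Type u} [Field F]

theorem sum_w_one (q : ℕ) (hq2 : 2 ≤ q) (h1 : q % 4 = 1) (n : ℕ) :
    ∑ e ∈ Finset.range n, padicValNat 2 (q ^ (e + 1) - 1) = n * padicValNat 2 (q - 1) + ff n := by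
  have hodd : Odd q := by
    rw [Nat.odd_iff]
    omega
  induction n with
  | zero => simp [ff_zero]
  | succ n ih =>
    rw [Finset.sum_range_succ, ih, ff_succ]
    have h := val_pow_sub_one_A q (n + 1) hodd hq2 (by omega) (pow_mod_four_one q (n + 1) h1)
    have hv1 : padicValNat 2 (q + 1) = 1 := val_two_mod_four _ (by omega)
    rw [hv1] at h
    have : (n + 1) * padicValNat 2 (q - 1) = n * padicValNat 2 (q - 1) + padicValNat 2 (q - 1) := by
      ring
    omega

theorem val_card_GL_one [Fintype F] (h1 : Fintype.card F % 4 = 1) (n : ℕ) :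
    (Nat.card (GL (Fin n) F)).factorization 2 =
      n * padicValNat 2 (Fintype.card F - 1) + ff n := by
  have hodd : Odd (Fintype.card F) := by
    rw [Nat.odd_iff]
    omega
  rw [val_card_GL_two hodd, sum_w_one _ Fintype.one_lt_card h1]

theorem val_card_GL_odd [Fintype F] (hodd : Odd (Fintype.card F)) (h4 : 4 ∣ Fintype.card F + 1)
    (m : ℕ) :
    (Nat.card (GL (Fin (2 * m + 1)) F)).factorization 2 =
      m * ((padicValNat 2 (Fintype.card F + 1) + padicValNat 2 (Fintype.card F - 1)) + 1) + ff m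
        + 1 := by
  rw [val_card_GL_two hodd (2 * m + 1), Finset.sum_range_succ,
    sum_w _ hodd Fintype.one_lt_card h4, w_odd _ hodd Fintype.one_lt_card h4 m]

theorem normal_rank_GL_one [Fintype F] (h1 : Fintype.card F % 4 = 1) (n : ℕ)
    (P : Sylow 2 (GL (Fin n) F)) : NR n ↥(P : Subgroup (GL (Fin n) F)) := by
  have h := hasGP_all (F := F) nr_closed (by norm_num : 0 < 1) (hasGP_base_one h1) n
  obtain ⟨W, _, _, _, hW, Q, hQcard, hQ⟩ := h
  exact pr_sylow_GL (Pr' := fun (G : Type u) [Group G] => NR n G)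
    (fun e h => NR.of_equiv e h) (hW.trans (mul_one n)) Q hQcard
    (val_card_GL_one h1 n) hQ P

theorem normal_rank_GL_three_even [Fintype F] (h3 : Fintype.card F % 4 = 3) (m : ℕ)
    (P : Sylow 2 (GL (Fin (2 * m)) F)) : NR m ↥(P : Subgroup (GL (Fin (2 * m)) F)) := by
  have hodd : Odd (Fintype.card F) := by
    rw [Nat.odd_iff]
    omega
  have h4 : 4 ∣ Fintype.card F + 1 := by omega
  have h := hasGP_all (F := F) nr_closed (by norm_num : 0 < 2) (hasGP_base_three h3) m
  obtain ⟨W, _, _, _, hW, Q, hQcard, hQ⟩ := h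
  exact pr_sylow_GL (Pr' := fun (G : Type u) [Group G] => NR m G)
    (fun e h => NR.of_equiv e h) (hW.trans (mul_comm m 2)) Q hQcard
    (val_card_GL_even hodd h4 m) hQ P

theorem normal_rank_GL_three_odd [Fintype F] (h3 : Fintype.card F % 4 = 3) (m : ℕ)
    (P : Sylow 2 (GL (Fin (2 * m + 1)) F)) :
    NR0 (m + 1) ↥(P : Subgroup (GL (Fin (2 * m + 1)) F)) := by
  classical
  have : Fact (Nat.Prime 2) := ⟨Nat.prime_two⟩
  have hodd : Odd (Fintype.card F) := by
    rw [Nat.odd_iff]
    omega
  have h4 : 4 ∣ Fintype.card F + 1 := by omega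
  have h2 := two_ne_zero_of_odd (F := F) _ rfl hodd
  have h := hasGP_all (F := F) nr_closed (by norm_num : 0 < 2) (hasGP_base_three h3) m
  obtain ⟨W, _, _, _, hW, Q, hQcard, hQ⟩ := h
  -- the group of order two on the line
  have hne : (-1 : (Module.End F F)ˣ) ≠ 1 := by
    intro h
    have h1 : ((-1 : (Module.End F F)ˣ) : Module.End F F) 1 =
        ((1 : (Module.End F F)ˣ) : Module.End F F) 1 := by
      rw [h]
    simp only [Units.val_neg, Units.val_one, LinearMap.neg_apply, Module.End.one_apply] at h1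
    apply h2
    linear_combination -h1
  have hz2 : (-1 : (Module.End F F)ˣ) ^ 2 = 1 := by
    apply Units.ext
    simp
  have hord : orderOf (-1 : (Module.End F F)ˣ) = 2 := orderOf_eq_prime hz2 hne
  let Z : Subgroup (Module.End F F)ˣ := Subgroup.zpowers (-1)
  have hZcard : Nat.card Z = 2 := by
    rw [Nat.card_zpowers, hord]
  have hZfin : Finite Z := Nat.finite_of_card_ne_zero (by rw [hZcard]; norm_num)
  have hQfin : Finite Q := Nat.finite_of_card_ne_zero (by rw [hQcard]; positivity)
  let e : Q × Z ≃* (prodRep Q Z).range := MonoidHom.ofInjective (prodRep_injective Q Z)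
  have hW' : finrank F (W × F) = 2 * m + 1 := by
    rw [Module.finrank_prod, hW, Module.finrank_self, mul_comm]
  have hcard' : Nat.card (prodRep Q Z).range =
      2 ^ (m * ((padicValNat 2 (Fintype.card F + 1) + padicValNat 2 (Fintype.card F - 1)) + 1)
        + ff m + 1) := by
    rw [← Nat.card_congr e.toEquiv, Nat.card_prod, hQcard, hZcard, pow_succ]
  have hNR : NR0 (m + 1) ↥(prodRep Q Z).range :=
    (NR0.prod (NR.toNR0 hQ) (nr0_of_card_two hZcard)).of_equiv e
  exact pr_sylow_GL (Pr' := fun (G : Type u) [Group G] => NR0 (m + 1) G)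
    (fun e h => NR0.of_equiv e h) hW' (prodRep Q Z).range hcard'
    (val_card_GL_odd hodd h4 m) hNR P

end Cfsg.Agent.Lib.Helper10.GLSylowP
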