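import Mathlib
import Cfsg.Agent.Lib.Helper10.GUOrdPA

set_option autoImplicit false

namespace Cfsg.Agent.Lib.Helper10.GUOrdP

open Polynomial Module Cfsg.Agent.Lib.Helper5.Nil

variable {F : Type*} [Field F] [Finite F] {n : ℕ}

/-- a unipotent matrix is conjugate to the inverse transpose of its twist by a field automorphism -/
theorem isConj_twist (φ : F →+* F) (hφ : Function.Bijective φ) (g : GL (Fin n) F)
    (hg : ∃ m, (nilPart g) ^ m = 0) :
    IsConj (g : Matrix (Fin n) (Fin n) F)
      (((g : Matrix (Fin n) (Fin n) F).map φ).transpose)⁻¹ := by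
  classical
  -- the twisted unit
  let gφ : GL (Fin n) F := Units.map (φ.mapMatrix : Matrix (Fin n) (Fin n) F →+* _).toMonoidHom g
  have hgφ : (gφ : Matrix (Fin n) (Fin n) F) = (g : Matrix (Fin n) (Fin n) F).map φ := rfl
  have hgφi : ((gφ⁻¹ : GL (Fin n) F) : Matrix (Fin n) (Fin n) F) =
      ((g⁻¹ : GL (Fin n) F) : Matrix (Fin n) (Fin n) F).map φ := rfl
  let A : GL (Fin n) F := ⟨(gφ : Matrix (Fin n) (Fin n) F).transpose,
    ((gφ⁻¹ : GL (Fin n) F) : Matrix (Fin n) (Fin n) F).transpose,
    by rw [← Matrix.transpose_mul, ← Units.val_mul, inv_mul_cancel, Units.val_one,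
      Matrix.transpose_one],
    by rw [← Matrix.transpose_mul, ← Units.val_mul, mul_inv_cancel, Units.val_one,
      Matrix.transpose_one]⟩
  have hA : (A : Matrix (Fin n) (Fin n) F) = ((g : Matrix (Fin n) (Fin n) F).map φ).transpose := rfl
  let g' : GL (Fin n) F := A⁻¹
  have hg' : (g' : Matrix (Fin n) (Fin n) F) =
      (((g : Matrix (Fin n) (Fin n) F).map φ).transpose)⁻¹ := by
    show ((A⁻¹ : GL (Fin n) F) : Matrix (Fin n) (Fin n) F) = _
    rw [Matrix.coe_units_inv, hA]
  rw [← hg']
  have hconj : IsConj g g' := by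
    set N := nilPart g with hN
    -- nilPart g' = - g' * (N.map φ)ᵀ
    have hNA : (A : Matrix (Fin n) (Fin n) F) - 1 = (N.map φ).transpose := by
      rw [hA, hN]
      unfold nilPart
      rw [Matrix.map_sub (f := φ) (fun a b => map_sub φ a b), Matrix.transpose_sub,
        Matrix.map_one φ (map_zero φ) (map_one φ), Matrix.transpose_one]
    have hg'A : (g' : Matrix (Fin n) (Fin n) F) * (A : Matrix (Fin n) (Fin n) F) = 1 := by
      rw [← Units.val_mul, inv_mul_cancel, Units.val_one]
    have hAg' : (A : Matrix (Fin n) (Fin n) F) * (g' : Matrix (Fin n) (Fin n) F) = 1 := by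
      rw [← Units.val_mul, mul_inv_cancel, Units.val_one]
    have hnp : nilPart g' = (-(g' : Matrix (Fin n) (Fin n) F)) * ((A : Matrix (Fin n) (Fin n) F) - 1) := by
      unfold nilPart
      rw [neg_mul, mul_sub, hg'A, mul_one]
      abel
    have hcomm : Commute (-(g' : Matrix (Fin n) (Fin n) F)) ((A : Matrix (Fin n) (Fin n) F) - 1) := by
      unfold Commute SemiconjBy
      rw [neg_mul, mul_sub, hg'A, mul_neg, sub_mul, hAg']
      simp
    have hpow : ∀ j : ℕ, (nilPart g') ^ j =
        (-(g' : Matrix (Fin n) (Fin n) F)) ^ j * ((N ^ j).map φ).transpose := by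
      intro j
      rw [hnp, hcomm.mul_pow, hNA, ← Matrix.transpose_pow]
      congr 2
      exact (map_pow (φ.mapMatrix : Matrix (Fin n) (Fin n) F →+* _) N j).symm
    have hunit : ∀ j : ℕ, IsUnit ((-(g' : Matrix (Fin n) (Fin n) F)) ^ j) := by
      intro j
      apply IsUnit.pow
      exact (g'.isUnit).neg
    have hkc : ∀ j, kc (N ^ j) = kc ((nilPart g') ^ j) := by
      intro j
      rw [hpow, kc_unit_mul _ (hunit j), kc_transpose, kc_map φ hφ]
    have hnil' : ∃ m, (nilPart g') ^ m = 0 := by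
      obtain ⟨m, hm⟩ := hg
      refine ⟨m, ?_⟩
      rw [hpow, hm]
      simp
    rw [isConj_iff_nilPart]
    exact conj_of_kc N (nilPart g') hg hnil' hkc
  exact (Units.coeHom (Matrix (Fin n) (Fin n) F)).map_isConj hconj

end Cfsg.Agent.Lib.Helper10.GUOrdP
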