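import Mathlib
import Cfsg.Agent.S0752
import Cfsg.Agent.Lib.Helper10.GUOrdPA

/-!
# Generic linear algebra for Jordan types in classical groups
-/

set_option autoImplicit false

namespace Cfsg.Agent.Lib.Helper10.JT

open Matrix Module

variable {F : Type*} [Field F]

/-- a matrix whose quadratic form vanishes has even rank. -/
theorem even_rank_of_alt {ι : Type*} [Fintype ι] [DecidableEq ι] (M : Matrix ι ι F)
    (hM : ∀ x : ι → F, x ⬝ᵥ M *ᵥ x = 0) : Even M.rank := by
  classical
  let B : LinearMap.BilinForm F (ι → F) := Matrix.toBilin' M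
  have hB : ∀ x y, B x y = x ⬝ᵥ M *ᵥ y := fun x y => Matrix.toBilin'_apply' M x y
  have hA : B.IsAlt := fun x => by rw [hB]; exact hM x
  obtain ⟨m', k, b, h1, h2, h3, h4⟩ := Cfsg.Agent.S0752.result B hA
  have hneg : ∀ x y, B x y = -B y x := fun x y => by
    rw [← LinearMap.BilinForm.IsAlt.neg_eq hA]
  have hV : finrank F (ι → F) = 2 * m' + k := by
    rw [Module.finrank_eq_card_basis b, Fintype.card_sum, Fintype.card_sum, Fintype.card_fin,
      Fintype.card_fin]
    ring
  -- expansion
  have hexp : ∀ x y, B x y = ∑ l, b.equivFun y l * B x (b l) := by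
    intro x y
    have h5 : B x y = B x (∑ l, b.equivFun y l • b l) := by rw [b.sum_equivFun]
    rw [h5, map_sum]
    apply Finset.sum_congr rfl
    intro l _
    rw [map_smul, smul_eq_mul]
  have hc1 : ∀ (y : ι → F) (i : Fin m'), B (b (Sum.inl (Sum.inl i))) y =
      b.equivFun y (Sum.inl (Sum.inr i)) := by
    intro y i
    rw [hexp, Fintype.sum_sum_type, Fintype.sum_sum_type]
    have e1 : ∑ j : Fin m', b.equivFun y (Sum.inl (Sum.inl j)) *
        B (b (Sum.inl (Sum.inl i))) (b (Sum.inl (Sum.inl j))) = 0 := by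
      apply Finset.sum_eq_zero
      intro j _
      rw [h2, mul_zero]
    have e2 : ∑ j : Fin m', b.equivFun y (Sum.inl (Sum.inr j)) *
        B (b (Sum.inl (Sum.inl i))) (b (Sum.inl (Sum.inr j))) =
        b.equivFun y (Sum.inl (Sum.inr i)) := by
      rw [Finset.sum_eq_single i]
      · rw [h1, if_pos rfl, mul_one]
      · intro j _ hj
        rw [h1, if_neg (Ne.symm hj), mul_zero]
      · intro h
        exact absurd (Finset.mem_univ _) h
    have e3 : ∑ j : Fin k, b.equivFun y (Sum.inr j) *
        B (b (Sum.inl (Sum.inl i))) (b (Sum.inr j)) = 0 := by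
      apply Finset.sum_eq_zero
      intro j _
      rw [hneg, h4, neg_zero, mul_zero]
    rw [e1, e2, e3, zero_add, add_zero]
  have hc2 : ∀ (y : ι → F) (i : Fin m'), B (b (Sum.inl (Sum.inr i))) y =
      -b.equivFun y (Sum.inl (Sum.inl i)) := by
    intro y i
    rw [hexp, Fintype.sum_sum_type, Fintype.sum_sum_type]
    have e1 : ∑ j : Fin m', b.equivFun y (Sum.inl (Sum.inl j)) *
        B (b (Sum.inl (Sum.inr i))) (b (Sum.inl (Sum.inl j))) =
        -b.equivFun y (Sum.inl (Sum.inl i)) := by
      rw [Finset.sum_eq_single i]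
      · rw [hneg, h1, if_pos rfl, mul_neg, mul_one]
      · intro j _ hj
        rw [hneg, h1, if_neg hj, neg_zero, mul_zero]
      · intro h
        exact absurd (Finset.mem_univ _) h
    have e2 : ∑ j : Fin m', b.equivFun y (Sum.inl (Sum.inr j)) *
        B (b (Sum.inl (Sum.inr i))) (b (Sum.inl (Sum.inr j))) = 0 := by
      apply Finset.sum_eq_zero
      intro j _
      rw [h3, mul_zero]
    have e3 : ∑ j : Fin k, b.equivFun y (Sum.inr j) *
        B (b (Sum.inl (Sum.inr i))) (b (Sum.inr j)) = 0 := by
      apply Finset.sum_eq_zero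
      intro j _
      rw [hneg, h4, neg_zero, mul_zero]
    rw [e1, e2, e3, add_zero, add_zero]
  -- the coordinate map on the hyperbolic part
  let φ : (ι → F) →ₗ[F] (Fin m' ⊕ Fin m' → F) :=
    (LinearMap.funLeft F F (Sum.inl : Fin m' ⊕ Fin m' → (Fin m' ⊕ Fin m') ⊕ Fin k)).comp
      b.equivFun.toLinearMap
  have hφ : ∀ y s, φ y s = b.equivFun y (Sum.inl s) := fun y s => rfl
  have hsurj : Function.Surjective φ := by
    intro c
    refine ⟨b.equivFun.symm (Sum.elim c 0), ?_⟩
    funext s
    rw [hφ, LinearEquiv.apply_symm_apply]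
    rfl
  have hker : LinearMap.ker φ = LinearMap.ker M.mulVecLin := by
    ext y
    rw [LinearMap.mem_ker, LinearMap.mem_ker, Matrix.mulVecLin_apply]
    constructor
    · intro hy
      have hy' : ∀ s, b.equivFun y (Sum.inl s) = 0 := fun s => by rw [← hφ, hy]; rfl
      have h6 : ∀ x, B x y = 0 := by
        intro x
        rw [hexp, Fintype.sum_sum_type]
        have e1 : ∑ s : Fin m' ⊕ Fin m', b.equivFun y (Sum.inl s) * B x (b (Sum.inl s)) = 0 := by
          apply Finset.sum_eq_zero
          intro s _
          rw [hy', zero_mul]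
        have e2 : ∑ j : Fin k, b.equivFun y (Sum.inr j) * B x (b (Sum.inr j)) = 0 := by
          apply Finset.sum_eq_zero
          intro j _
          rw [hneg, h4, neg_zero, mul_zero]
        rw [e1, e2, add_zero]
      funext i
      have h7 := h6 (Pi.single i 1)
      rw [hB, single_one_dotProduct] at h7
      exact h7
    · intro hy
      have h6 : ∀ x, B x y = 0 := by
        intro x
        rw [hB, hy, dotProduct_zero]
      funext s
      rw [hφ]
      rcases s with i | i
      · have := hc2 y i
        rw [h6] at this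
        rw [Pi.zero_apply]
        exact neg_eq_zero.1 this.symm
      · have := hc1 y i
        rw [h6] at this
        rw [Pi.zero_apply]
        exact this.symm
  have h8 := LinearMap.finrank_range_add_finrank_ker φ
  rw [LinearMap.range_eq_top.2 hsurj, finrank_top, hker, hV] at h8
  have h9 := LinearMap.finrank_range_add_finrank_ker M.mulVecLin
  rw [hV] at h9
  have h10 : M.rank = finrank F (LinearMap.range M.mulVecLin) := rfl
  have h11 : finrank F (Fin m' ⊕ Fin m' → F) = 2 * m' := by
    rw [Module.finrank_fintype_fun_eq_card, Fintype.card_sum, Fintype.card_fin]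
    ring
  rw [h11] at h8
  refine ⟨m', ?_⟩
  omega

end Cfsg.Agent.Lib.Helper10.JT
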