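import Mathlib
import Cfsg.Prelude.Def_JordanBlocks
import Cfsg.Agent.Lib.Helper24.RegUnip
import Cfsg.Agent.Lib.Helper10.JTB

/-!
# Rank sequence of the Jordan type matrix, and combinatorics of multiplicities
-/

set_option autoImplicit false

namespace Cfsg.Agent.Lib.Helper10.JT

open Matrix Module Cfsg.Agent.Lib.Helper24

variable {F : Type*} [Field F]

theorem jordanBlock_eq (n : ℕ) : Cfsg.jordanBlock n F = 1 + RegUnip.N0 n := by
  ext i j
  unfold Cfsg.jordanBlock
  rw [Matrix.of_apply, Matrix.add_apply, Matrix.one_apply, RegUnip.N0_apply]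
  by_cases hij : i = j
  · subst hij
    rw [if_pos rfl, if_pos rfl, if_neg (by omega), add_zero]
  · have : (i : ℕ) ≠ j := fun h => hij (Fin.ext h)
    rw [if_neg this, if_neg hij, zero_add]

theorem jordanType_sub_one {t : ℕ} (d : Fin t → ℕ) :
    Cfsg.jordanTypeMatrix d F - 1 =
      Matrix.blockDiagonal' (fun k => (RegUnip.N0 (d k) : Matrix (Fin (d k)) (Fin (d k)) F)) := by
  unfold Cfsg.jordanTypeMatrix
  rw [← Matrix.blockDiagonal'_one, ← Matrix.blockDiagonal'_sub]
  congr 1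
  funext k
  rw [Pi.sub_apply, jordanBlock_eq, Pi.one_apply, add_sub_cancel_left]

theorem jordanType_sub_one_pow {t : ℕ} (d : Fin t → ℕ) (p : ℕ) :
    (Cfsg.jordanTypeMatrix d F - 1) ^ p =
      Matrix.blockDiagonal' (fun k => (RegUnip.N0 (d k) : Matrix (Fin (d k)) (Fin (d k)) F) ^ p) := by
  rw [jordanType_sub_one, ← Matrix.blockDiagonal'_pow]
  rfl

theorem rank_jordanType_pow {t : ℕ} (d : Fin t → ℕ) (hd : ∀ k, 1 ≤ d k) (p : ℕ) :
    ((Cfsg.jordanTypeMatrix d F - 1) ^ p).rank = ∑ k, (d k - p) := by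
  rw [jordanType_sub_one_pow, rank_blockDiagonal']
  apply Finset.sum_congr rfl
  intro k _
  exact rank_pow_of_regular _ (Fintype.card_fin _) (RegUnip.N0_pow_self _)
    (RegUnip.rank_N0 _ (hd k)) (hd k) p

theorem jordanType_nilpotent {t : ℕ} (d : Fin t → ℕ) :
    ∃ e, (Cfsg.jordanTypeMatrix d F - 1) ^ e = 0 := by
  refine ⟨∑ k, d k, ?_⟩
  rw [jordanType_sub_one_pow]
  have : (fun k => (RegUnip.N0 (d k) : Matrix (Fin (d k)) (Fin (d k)) F) ^ (∑ k, d k)) = 0 := by
    funext k
    have hle : d k ≤ ∑ k, d k := Finset.single_le_sum (f := d) (fun i _ => Nat.zero_le _)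
      (Finset.mem_univ k)
    obtain ⟨c, hc⟩ := Nat.exists_eq_add_of_le hle
    rw [hc, pow_add, RegUnip.N0_pow_self, zero_mul]
    rfl
  rw [this]
  exact Matrix.blockDiagonal'_zero

/-- the multiplicity of `j` from the rank sequence. -/
theorem mult_formula {t : ℕ} (d : Fin t → ℕ) (j : ℕ) (hj : 1 ≤ j) :
    (∑ k, (d k - (j - 1))) + (∑ k, (d k - (j + 1))) =
      2 * (∑ k, (d k - j)) + (Finset.univ.filter (fun k : Fin t => d k = j)).card := by
  rw [Finset.card_filter, Finset.mul_sum, ← Finset.sum_add_distrib, ← Finset.sum_add_distrib]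
  apply Finset.sum_congr rfl
  intro k _
  split_ifs with h <;> omega

theorem even_mult_of_even_rank {t : ℕ} (d : Fin t → ℕ) (j : ℕ) (hj : 1 ≤ j)
    (h1 : Even (∑ k, (d k - (j - 1)))) (h2 : Even (∑ k, (d k - (j + 1)))) :
    Even (Finset.univ.filter (fun k : Fin t => d k = j)).card := by
  have h := mult_formula d j hj
  obtain ⟨a, ha⟩ := h1
  obtain ⟨b, hb⟩ := h2
  rw [ha, hb] at h
  exact ⟨a + b - ∑ k, (d k - j), by omega⟩

/-- the rank sequence as a sum over block sizes. -/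
theorem rank_seq_fiberwise {t : ℕ} (d : Fin t → ℕ) (B : ℕ) (hB : ∀ k, d k < B) (p : ℕ) :
    ∑ k, (d k - p) =
      ∑ j ∈ Finset.range B, (Finset.univ.filter (fun k : Fin t => d k = j)).card * (j - p) := by
  rw [← Finset.sum_fiberwise_of_maps_to (s := Finset.univ) (t := Finset.range B) (g := d)
    (fun k _ => Finset.mem_range.2 (hB k))]
  apply Finset.sum_congr rfl
  intro j _
  rw [Finset.sum_congr rfl (g := fun _ => j - p), Finset.sum_const, smul_eq_mul]
  intro k hk
  rw [(Finset.mem_filter.1 hk).2]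

end Cfsg.Agent.Lib.Helper10.JT
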