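import Mathlib
import Cfsg.Agent.Lib.Helper10.JTB

/-!
# Realisable rank sequences of unipotent isometries of alternating forms
-/

set_option autoImplicit false

namespace Cfsg.Agent.Lib.Helper10.JT

open Matrix Module

variable {F : Type*} [Field F]

theorem fromBlocks_diag_pow {ι₁ ι₂ : Type*} [Fintype ι₁] [Fintype ι₂] [DecidableEq ι₁]
    [DecidableEq ι₂] (A : Matrix ι₁ ι₁ F) (D : Matrix ι₂ ι₂ F) (p : ℕ) :
    (Matrix.fromBlocks A 0 0 D) ^ p = Matrix.fromBlocks (A ^ p) 0 0 (D ^ p) := by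
  induction p with
  | zero => rw [pow_zero, pow_zero, pow_zero, Matrix.fromBlocks_one]
  | succ p ih =>
    rw [pow_succ, ih, Matrix.fromBlocks_multiply, pow_succ, pow_succ]
    simp only [Matrix.zero_mul, Matrix.mul_zero, add_zero, zero_add]

theorem fromBlocks_diag_sub_one {ι₁ ι₂ : Type*} [Fintype ι₁] [Fintype ι₂] [DecidableEq ι₁]
    [DecidableEq ι₂] (A : Matrix ι₁ ι₁ F) (D : Matrix ι₂ ι₂ F) :
    Matrix.fromBlocks A 0 0 D - 1 = Matrix.fromBlocks (A - 1) 0 0 (D - 1) := by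
  ext (i | i) (j | j) <;> simp [Matrix.sub_apply, Matrix.one_apply]

/-- realisable rank sequences for alternating forms. -/
def RealSp (F : Type*) [Field F] (ρ : ℕ → ℕ) : Prop :=
  ∃ (ι : Type) (_ : Fintype ι) (_ : DecidableEq ι) (A S : Matrix ι ι F),
    (∀ x : ι → F, x ⬝ᵥ S *ᵥ x = 0) ∧ IsUnit S.det ∧ Aᵀ * S * A = S ∧
      (∃ e, (A - 1) ^ e = 0) ∧ ∀ p, ((A - 1) ^ p).rank = ρ p

theorem RealSp.zero : RealSp F (fun _ => 0) := by
  refine ⟨Empty, inferInstance, inferInstance, 0, 0, ?_, ?_, ?_, ⟨0, ?_⟩, ?_⟩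
  · intro x
    rw [Matrix.zero_mulVec, dotProduct_zero]
  · rw [Matrix.det_isEmpty]
    exact isUnit_one
  · exact Subsingleton.elim _ _
  · exact Subsingleton.elim _ _
  · intro p
    have h := Matrix.rank_le_card_width (((0 : Matrix Empty Empty F) - 1) ^ p)
    rw [Fintype.card_eq_zero] at h
    show (((0 : Matrix Empty Empty F) - 1) ^ p).rank = 0
    omega

theorem RealSp.add {ρ₁ ρ₂ : ℕ → ℕ} (h₁ : RealSp F ρ₁) (h₂ : RealSp F ρ₂) :
    RealSp F (fun p => ρ₁ p + ρ₂ p) := by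
  obtain ⟨ι₁, _, _, A₁, S₁, ha₁, hu₁, hi₁, ⟨e₁, hn₁⟩, hr₁⟩ := h₁
  obtain ⟨ι₂, _, _, A₂, S₂, ha₂, hu₂, hi₂, ⟨e₂, hn₂⟩, hr₂⟩ := h₂
  refine ⟨ι₁ ⊕ ι₂, inferInstance, inferInstance, Matrix.fromBlocks A₁ 0 0 A₂,
    Matrix.fromBlocks S₁ 0 0 S₂, ?_, ?_, ?_, ⟨e₁ + e₂, ?_⟩, ?_⟩
  · intro x
    rw [Matrix.fromBlocks_mulVec, Matrix.zero_mulVec, Matrix.zero_mulVec, add_zero, zero_add,
      dotProduct, Fintype.sum_sum_type]
    have e1 := ha₁ (x ∘ Sum.inl)
    have e2 := ha₂ (x ∘ Sum.inr)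
    rw [dotProduct] at e1 e2
    simp only [Sum.elim_inl, Sum.elim_inr, Function.comp] at e1 e2 ⊢
    rw [e1, e2, add_zero]
  · rw [Matrix.det_fromBlocks_zero₁₂]
    exact hu₁.mul hu₂
  · rw [Matrix.fromBlocks_transpose, Matrix.fromBlocks_multiply, Matrix.fromBlocks_multiply]
    simp only [Matrix.zero_mul, Matrix.mul_zero, add_zero, zero_add, Matrix.transpose_zero, hi₁, hi₂]
  · rw [fromBlocks_diag_sub_one, fromBlocks_diag_pow, pow_add, hn₁, zero_mul, pow_add, hn₂, mul_zero]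
    exact Matrix.fromBlocks_zero
  · intro p
    rw [fromBlocks_diag_sub_one, fromBlocks_diag_pow, rank_fromBlocks_diag, hr₁, hr₂]

theorem RealSp.congr {ρ₁ ρ₂ : ℕ → ℕ} (h₁ : RealSp F ρ₁) (h : ∀ p, ρ₁ p = ρ₂ p) : RealSp F ρ₂ := by
  have : ρ₁ = ρ₂ := funext h
  rw [← this]
  exact h₁

theorem RealSp.nsmul {ρ : ℕ → ℕ} (h : RealSp F ρ) (c : ℕ) : RealSp F (fun p => c * ρ p) := by
  induction c with
  | zero => exact RealSp.zero.congr (fun p => by rw [zero_mul])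
  | succ c ih => exact (ih.add h).congr (fun p => by ring)

theorem RealSp.sum_range (ρ : ℕ → ℕ → ℕ) (B : ℕ) (h : ∀ j, j < B → RealSp F (ρ j)) :
    RealSp F (fun p => ∑ j ∈ Finset.range B, ρ j p) := by
  induction B with
  | zero => exact RealSp.zero.congr (fun p => by rw [Finset.range_zero, Finset.sum_empty])
  | succ B ih =>
    have h1 := ih (fun j hj => h j (by omega))
    exact (h1.add (h B (by omega))).congr (fun p => by rw [Finset.sum_range_succ])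

end Cfsg.Agent.Lib.Helper10.JT
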