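import Mathlib
import Cfsg.Agent.Lib.Helper24.RegUnip
import Cfsg.Agent.Lib.Helper5.RegNilA

/-!
# Regular nilpotent matrices over an arbitrary finite index type
-/

set_option autoImplicit false

namespace Cfsg.Agent.Lib.Helper10.SpReg

open Matrix Module Cfsg.Agent.Lib.Helper24 Cfsg.Agent.Lib.Helper5.RegNil

variable {F : Type*} [Field F] {ι : Type*} [Fintype ι] [DecidableEq ι]

/-- a nilpotent matrix of maximal nilpotency index has corank one. -/
theorem rank_of_pow_ne_zero (Y : Matrix ι ι F) {n : ℕ} (hn : 0 < n) (hcard : Fintype.card ι = n)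
    (hY : Y ^ n = 0) (hne : Y ^ (n - 1) ≠ 0) : Y.rank = n - 1 := by
  let φ := Matrix.toLinAlgEquiv' (R := F) (n := ι)
  set y : Module.End F (ι → F) := φ Y with hy
  have hyn : y ^ n = 0 := by rw [hy, ← map_pow, hY, map_zero]
  have hyne : y ^ (n - 1) ≠ 0 := by
    rw [hy, ← map_pow]
    intro h
    exact hne (φ.injective (h.trans (map_zero φ).symm))
  have hV : finrank F (ι → F) = n := by rw [Module.finrank_fintype_fun_eq_card, hcard]
  obtain ⟨v, hv⟩ : ∃ v, (y ^ (n - 1)) v ≠ 0 := by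
    by_contra hcon
    push Not at hcon
    exact hyne (LinearMap.ext hcon)
  have hli := linearIndependent_pow_apply y hn hyn v hv
  have hrk : Y.rank = finrank F (LinearMap.range y) := rfl
  rw [hrk]
  -- lower bound
  let f : Fin (n - 1) → LinearMap.range y := fun i =>
    ⟨(y ^ ((i : ℕ) + 1)) v, ⟨(y ^ (i : ℕ)) v, by rw [pow_succ', Module.End.mul_apply]⟩⟩
  have hf : LinearIndependent F f := by
    apply LinearIndependent.of_comp (LinearMap.range y).subtype
    have h1 : (⇑(LinearMap.range y).subtype ∘ f) =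
        (fun j : Fin n => (y ^ (j : ℕ)) v) ∘
          (fun i : Fin (n - 1) => (⟨(i : ℕ) + 1, by have := i.isLt; omega⟩ : Fin n)) := by
      funext i
      rfl
    rw [h1]
    apply hli.comp
    intro a b hab
    apply Fin.ext
    have := congrArg Fin.val hab
    simp only at this
    omega
  have h2 := hf.fintype_card_le_finrank
  rw [Fintype.card_fin] at h2
  -- upper bound
  have h3 := LinearMap.finrank_range_add_finrank_ker y
  rw [hV] at h3
  have h4 : 0 < finrank F (LinearMap.ker y) := by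
    rw [Module.finrank_pos_iff_exists_ne_zero]
    refine ⟨⟨(y ^ (n - 1)) v, ?_⟩, ?_⟩
    · rw [LinearMap.mem_ker, ← Module.End.mul_apply, ← pow_succ', show n - 1 + 1 = n by omega, hyn]
      rfl
    · intro h
      exact hv (congrArg Subtype.val h)
  omega

/-- two regular nilpotent matrices are similar. -/
theorem exists_intertwine (N₁ N₂ : Matrix ι ι F) {n : ℕ} (hn : 1 ≤ n) (hcard : Fintype.card ι = n)
    (h1 : N₁ ^ n = 0) (r1 : N₁.rank = n - 1) (h2 : N₂ ^ n = 0) (r2 : N₂.rank = n - 1) :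
    ∃ g gi : Matrix ι ι F, g * gi = 1 ∧ gi * g = 1 ∧ g * N₁ = N₂ * g := by
  let e : ι ≃ Fin n := Fintype.equivFinOfCardEq hcard
  let ψ := Matrix.reindexAlgEquiv F F e
  have hψr : ∀ M : Matrix ι ι F, (ψ M).rank = M.rank := by
    intro M
    show ((Matrix.reindex e e) M).rank = M.rank
    exact Matrix.rank_reindex e e M
  have hp1 : (ψ N₁) ^ n = 0 := by rw [← map_pow, h1, map_zero]
  have hp2 : (ψ N₂) ^ n = 0 := by rw [← map_pow, h2, map_zero]
  obtain ⟨c₁, hc₁⟩ := RegUnip.exists_conj (ψ N₁) hp1 ((hψr N₁).trans r1) hn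
  obtain ⟨c₂, hc₂⟩ := RegUnip.exists_conj (ψ N₂) hp2 ((hψr N₂).trans r2) hn
  have hc₁' : ((c₁⁻¹ : GL (Fin n) F) : Matrix (Fin n) (Fin n) F) * ψ N₁ =
      RegUnip.N0 n * ((c₁⁻¹ : GL (Fin n) F) : Matrix (Fin n) (Fin n) F) := by
    calc ((c₁⁻¹ : GL (Fin n) F) : Matrix (Fin n) (Fin n) F) * ψ N₁
        = ((c₁⁻¹ : GL (Fin n) F) : Matrix (Fin n) (Fin n) F) * (ψ N₁ * (c₁ : Matrix (Fin n) (Fin n) F)) *
            ((c₁⁻¹ : GL (Fin n) F) : Matrix (Fin n) (Fin n) F) := by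
          rw [mul_assoc, mul_assoc, Units.mul_inv, mul_one]
      _ = RegUnip.N0 n * ((c₁⁻¹ : GL (Fin n) F) : Matrix (Fin n) (Fin n) F) := by
          rw [hc₁, ← mul_assoc, Units.inv_mul, one_mul]
  refine ⟨ψ.symm ((c₂ * c₁⁻¹ : GL (Fin n) F) : Matrix (Fin n) (Fin n) F),
    ψ.symm ((c₁ * c₂⁻¹ : GL (Fin n) F) : Matrix (Fin n) (Fin n) F), ?_, ?_, ?_⟩
  · rw [← map_mul, ← Units.val_mul]
    have : c₂ * c₁⁻¹ * (c₁ * c₂⁻¹) = 1 := by group
    rw [this, Units.val_one, map_one]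
  · rw [← map_mul, ← Units.val_mul]
    have : c₁ * c₂⁻¹ * (c₂ * c₁⁻¹) = 1 := by group
    rw [this, Units.val_one, map_one]
  · apply ψ.injective
    rw [map_mul, map_mul, AlgEquiv.apply_symm_apply, Units.val_mul]
    calc (c₂ : Matrix (Fin n) (Fin n) F) * ((c₁⁻¹ : GL (Fin n) F) : Matrix (Fin n) (Fin n) F) * ψ N₁
        = (c₂ : Matrix (Fin n) (Fin n) F) * (((c₁⁻¹ : GL (Fin n) F) : Matrix (Fin n) (Fin n) F) * ψ N₁) := by
          rw [mul_assoc]
      _ = ((c₂ : Matrix (Fin n) (Fin n) F) * RegUnip.N0 n) *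
            ((c₁⁻¹ : GL (Fin n) F) : Matrix (Fin n) (Fin n) F) := by rw [hc₁', mul_assoc]
      _ = ψ N₂ * ((c₂ : Matrix (Fin n) (Fin n) F) *
            ((c₁⁻¹ : GL (Fin n) F) : Matrix (Fin n) (Fin n) F)) := by rw [← hc₂, mul_assoc]

end Cfsg.Agent.Lib.Helper10.SpReg
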