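import Mathlib
import Cfsg.Agent.Lib.Helper10.SpRegA
import Cfsg.Agent.Lib.Helper5.RegNilF

/-!
# An explicit regular unipotent element of `Sp_2m(F)`, `char F ≠ 2`
-/

set_option autoImplicit false

namespace Cfsg.Agent.Lib.Helper10.SpReg

open Matrix Module Cfsg.Agent.Lib.Helper24 Cfsg.Agent.Lib.Helper5.RegNil

variable {F : Type*} [Field F] {m : ℕ}

/-- the corner matrix unit. -/
def CS (m : ℕ) (F : Type*) [Field F] : Matrix (Fin m) (Fin m) F :=
  Matrix.of fun i j => if i.val + 1 = m ∧ j.val + 1 = m then 1 else 0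

theorem CS_apply (i j : Fin m) :
    (CS m F) i j = if i.val + 1 = m ∧ j.val + 1 = m then 1 else 0 := rfl

theorem CS_transpose : (CS m F)ᵀ = CS m F := by
  ext i j
  rw [Matrix.transpose_apply, CS_apply, CS_apply]
  congr 1
  exact propext and_comm

/-- the model skew-adjoint regular nilpotent matrix. -/
def NS (m : ℕ) (F : Type*) [Field F] : Matrix (Fin m ⊕ Fin m) (Fin m ⊕ Fin m) F :=
  Matrix.fromBlocks (RegUnip.N0 m) 0 (CS m F) (-(RegUnip.N0 m)ᵀ)

theorem sAdj_NS : sAdj (NS m F) = -(NS m F) := by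
  rw [sAdj_apply]
  unfold NS Matrix.J
  simp only [Matrix.fromBlocks_transpose, Matrix.fromBlocks_neg, Matrix.fromBlocks_multiply,
    CS_transpose, Matrix.transpose_zero, Matrix.transpose_neg, Matrix.transpose_transpose,
    Matrix.zero_mul, Matrix.mul_zero, Matrix.neg_mul, Matrix.mul_neg, Matrix.one_mul,
    Matrix.mul_one, neg_neg, neg_zero, add_zero, zero_add]

theorem NS_pow (k : ℕ) : ∃ Ck : Matrix (Fin m) (Fin m) F,
    (NS m F) ^ k = Matrix.fromBlocks ((RegUnip.N0 m) ^ k) 0 Ck ((-(RegUnip.N0 m)ᵀ) ^ k) := by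
  induction k with
  | zero =>
    refine ⟨0, ?_⟩
    rw [pow_zero, pow_zero, pow_zero, Matrix.fromBlocks_one]
  | succ k ih =>
    obtain ⟨Ck, hCk⟩ := ih
    refine ⟨Ck * RegUnip.N0 m + (-(RegUnip.N0 m)ᵀ) ^ k * CS m F, ?_⟩
    rw [pow_succ, hCk]
    unfold NS
    rw [Matrix.fromBlocks_multiply]
    simp only [Matrix.zero_mul, Matrix.mul_zero, add_zero, zero_add, ← pow_succ]

theorem negN0T_pow_self : ((-(RegUnip.N0 m)ᵀ : Matrix (Fin m) (Fin m) F)) ^ m = 0 := by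
  rw [neg_pow, ← Matrix.transpose_pow, RegUnip.N0_pow_self, Matrix.transpose_zero, mul_zero]

theorem negN0T_pow (k : ℕ) : ((-(RegUnip.N0 m)ᵀ : Matrix (Fin m) (Fin m) F)) ^ k =
    ((-1 : F) ^ k) • ((RegUnip.N0 m : Matrix (Fin m) (Fin m) F) ^ k)ᵀ := by
  rw [← neg_one_smul F ((RegUnip.N0 m : Matrix (Fin m) (Fin m) F)ᵀ), smul_pow, Matrix.transpose_pow]

theorem NS_pow_m : ∃ C : Matrix (Fin m) (Fin m) F,
    (NS m F) ^ m = Matrix.fromBlocks 0 0 C 0 := by
  obtain ⟨C, hC⟩ := NS_pow (F := F) (m := m) m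
  refine ⟨C, ?_⟩
  rw [hC, RegUnip.N0_pow_self, negN0T_pow_self]

theorem NS_pow_two_mul : (NS m F) ^ (2 * m) = 0 := by
  obtain ⟨C, hC⟩ := NS_pow_m (F := F) (m := m)
  rw [two_mul, pow_add, hC, Matrix.fromBlocks_multiply]
  simp only [Matrix.zero_mul, Matrix.mul_zero, add_zero]
  exact Matrix.fromBlocks_zero

theorem NS_pow_pred_ne (hm : 1 ≤ m) : (NS m F) ^ (2 * m - 1) ≠ 0 := by
  obtain ⟨Ca, hCa⟩ := NS_pow (F := F) (m := m) (m - 1)
  have hsplit : (NS m F) ^ (2 * m - 1) = (NS m F) ^ (m - 1) * NS m F * (NS m F) ^ (m - 1) := by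
    rw [← pow_succ, ← pow_add]
    congr 1
    omega
  have hA : (RegUnip.N0 m : Matrix (Fin m) (Fin m) F) ^ (m - 1) * RegUnip.N0 m = 0 := by
    rw [← pow_succ, show m - 1 + 1 = m by omega, RegUnip.N0_pow_self]
  have hD : ((-(RegUnip.N0 m)ᵀ : Matrix (Fin m) (Fin m) F)) ^ (m - 1) * (-(RegUnip.N0 m)ᵀ) = 0 := by
    rw [← pow_succ, show m - 1 + 1 = m by omega, negN0T_pow_self]
  have hA' : (RegUnip.N0 m : Matrix (Fin m) (Fin m) F) * RegUnip.N0 m ^ (m - 1) = 0 := by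
    rw [← pow_succ', show m - 1 + 1 = m by omega, RegUnip.N0_pow_self]
  intro h0
  rw [hsplit, hCa] at h0
  have h1 : Matrix.fromBlocks ((RegUnip.N0 m : Matrix (Fin m) (Fin m) F) ^ (m - 1)) 0 Ca
      ((-(RegUnip.N0 m)ᵀ) ^ (m - 1)) * NS m F =
      Matrix.fromBlocks 0 0 (Ca * RegUnip.N0 m + (-(RegUnip.N0 m)ᵀ) ^ (m - 1) * CS m F) 0 := by
    unfold NS
    rw [Matrix.fromBlocks_multiply]
    simp only [Matrix.zero_mul, Matrix.mul_zero, add_zero, hA, hD]
  rw [h1, Matrix.fromBlocks_multiply] at h0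
  have h2 := congrArg Matrix.toBlocks₂₁ h0
  rw [Matrix.toBlocks_fromBlocks₂₁] at h2
  simp only [Matrix.zero_mul, add_zero, Matrix.add_mul, Matrix.mul_assoc, hA', Matrix.mul_zero,
    zero_add] at h2
  have h3 : (((-(RegUnip.N0 m)ᵀ : Matrix (Fin m) (Fin m) F)) ^ (m - 1) *
      (CS m F * RegUnip.N0 m ^ (m - 1)) : Matrix (Fin m) (Fin m) F) ⟨0, hm⟩ ⟨0, hm⟩ =
      (-1) ^ (m - 1) := by
    rw [Matrix.mul_apply, Finset.sum_eq_single (⟨m - 1, by omega⟩ : Fin m)]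
    · rw [negN0T_pow, Matrix.smul_apply, Matrix.transpose_apply, RegUnip.N0_pow_apply,
        if_pos (by simp), Matrix.mul_apply, Finset.sum_eq_single (⟨m - 1, by omega⟩ : Fin m)]
      · rw [CS_apply, if_pos ⟨by simp; omega, by simp; omega⟩, RegUnip.N0_pow_apply, if_pos (by simp)]
        simp
      · intro k _ hk
        rw [CS_apply, if_neg, zero_mul]
        rintro ⟨-, h⟩
        apply hk
        apply Fin.ext
        simp
        omega
      · intro h'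
        exact absurd (Finset.mem_univ _) h'
    · intro k _ hk
      have : (CS m F * RegUnip.N0 m ^ (m - 1) : Matrix (Fin m) (Fin m) F) k ⟨0, hm⟩ = 0 := by
        rw [Matrix.mul_apply]
        apply Finset.sum_eq_zero
        intro l _
        rw [CS_apply, if_neg, zero_mul]
        rintro ⟨h, -⟩
        apply hk
        apply Fin.ext
        simp
        omega
      rw [this, mul_zero]
    · intro h'
      exact absurd (Finset.mem_univ _) h'
  have h4 := congrFun (congrFun h2 ⟨0, hm⟩) ⟨0, hm⟩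
  rw [h3] at h4
  have h40 : (Matrix.toBlocks₂₁ (0 : Matrix (Fin m ⊕ Fin m) (Fin m ⊕ Fin m) F)) ⟨0, hm⟩ ⟨0, hm⟩ = 0 :=
    rfl
  rw [h40] at h4
  have h5 : ((-1 : F)) ^ (m - 1) ≠ 0 := pow_ne_zero _ (neg_ne_zero.2 one_ne_zero)
  exact h5 h4

theorem card_sum_fin : Fintype.card (Fin m ⊕ Fin m) = 2 * m := by
  rw [Fintype.card_sum, Fintype.card_fin]
  ring

theorem rank_NS (hm : 1 ≤ m) : (NS m F).rank = 2 * m - 1 :=
  rank_of_pow_ne_zero (NS m F) (by omega) card_sum_fin NS_pow_two_mul (NS_pow_pred_ne hm)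

/-- Cayley transform: a regular unipotent element of the symplectic group. -/
theorem exists_reg_symplectic (h2 : (2 : F) ≠ 0) (hm : 1 ≤ m) :
    ∃ u : symplecticGroup (Fin m) F,
      ((u : Matrix (Fin m ⊕ Fin m) (Fin m ⊕ Fin m) F) - 1) ^ (2 * m) = 0 ∧
      ((u : Matrix (Fin m ⊕ Fin m) (Fin m ⊕ Fin m) F) - 1).rank = 2 * m - 1 := by
  obtain ⟨N, hN⟩ : ∃ N : Matrix (Fin m ⊕ Fin m) (Fin m ⊕ Fin m) F, N = NS m F := ⟨_, rfl⟩
  have hNpow : N ^ (2 * m) = 0 := by rw [hN]; exact NS_pow_two_mul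
  have hNrank : N.rank = 2 * m - 1 := by rw [hN]; exact rank_NS hm
  have hNadj : sAdj N = -N := by rw [hN]; exact sAdj_NS
  obtain ⟨h, hh⟩ : ∃ h : F, h = 2⁻¹ := ⟨_, rfl⟩
  have hh2 : h + h = 1 := by
    rw [hh, ← two_mul, mul_inv_cancel₀ h2]
  obtain ⟨P, hP⟩ : ∃ P : Matrix (Fin m ⊕ Fin m) (Fin m ⊕ Fin m) F, P = 1 + h • N := ⟨_, rfl⟩
  obtain ⟨Q, hQ⟩ : ∃ Q : Matrix (Fin m ⊕ Fin m) (Fin m ⊕ Fin m) F, Q = 1 - h • N := ⟨_, rfl⟩
  have hsP : sAdj P = Q := by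
    rw [hP, hQ, map_add, map_smul, sAdj_one, hNadj, smul_neg, sub_eq_add_neg]
  have hsQ : sAdj Q = P := by rw [← hsP, sAdj_sAdj]
  have hnil : IsNilpotent (h • N) := ⟨2 * m, by rw [smul_pow, hNpow, smul_zero]⟩
  have hQu : IsUnit Q := by rw [hQ]; exact hnil.isUnit_one_sub
  obtain ⟨Qu, hQu'⟩ := hQu
  obtain ⟨Qi, hQi⟩ : ∃ Qi : Matrix (Fin m ⊕ Fin m) (Fin m ⊕ Fin m) F, Qi = ((Qu⁻¹ : _ˣ) : Matrix _ _ F) :=
    ⟨_, rfl⟩
  have hQQi : Q * Qi = 1 := by rw [← hQu', hQi]; exact Units.mul_inv Qu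
  have hQiQ : Qi * Q = 1 := by rw [← hQu', hQi]; exact Units.inv_mul Qu
  have hPQ : P * Q = Q * P := by
    rw [hP, hQ]
    have c1 : Commute (1 + h • N) (1 - h • N) := by
      apply Commute.add_left
      · exact Commute.one_left _
      · exact (Commute.one_right (h • N)).sub_right (Commute.refl (h • N))
    exact c1
  have hNQ : N * Q = Q * N := by
    rw [hQ]
    have c1 : Commute N (1 - h • N) :=
      (Commute.one_right N).sub_right (Commute.smul_right (Commute.refl N) h)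
    exact c1
  have hQiP : Qi * P = P * Qi := by
    calc Qi * P = Qi * (P * Q) * Qi := by rw [mul_assoc, mul_assoc, hQQi, mul_one]
      _ = Qi * (Q * P) * Qi := by rw [hPQ]
      _ = P * Qi := by rw [← mul_assoc, hQiQ, one_mul]
  have hQiN : Qi * N = N * Qi := by
    calc Qi * N = Qi * (N * Q) * Qi := by rw [mul_assoc, mul_assoc, hQQi, mul_one]
      _ = Qi * (Q * N) * Qi := by rw [hNQ]
      _ = N * Qi := by rw [← mul_assoc, hQiQ, one_mul]
  have hPPi : P * sAdj Qi = 1 := by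
    rw [← hsQ, ← sAdj_mul, hQiQ, sAdj_one]
  obtain ⟨U, hU⟩ : ∃ U : Matrix (Fin m ⊕ Fin m) (Fin m ⊕ Fin m) F, U = P * Qi := ⟨_, rfl⟩
  have hUmem : U ∈ symplecticGroup (Fin m) F := by
    rw [mem_symplectic_iff_sAdj, hU, sAdj_mul, hsP]
    calc P * Qi * (sAdj Qi * Q) = Qi * (P * sAdj Qi) * Q := by
          rw [← hQiP]
          simp only [mul_assoc]
      _ = 1 := by rw [hPPi, mul_one, hQiQ]
  have hU1 : U - 1 = N * Qi := by
    have : P - Q = N := by
      rw [hP, hQ]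
      have : (1 + h • N) - (1 - h • N) = (h + h) • N := by
        rw [add_smul]
        abel
      rw [this, hh2, one_smul]
    calc U - 1 = P * Qi - Q * Qi := by rw [hU, hQQi]
      _ = (P - Q) * Qi := by rw [sub_mul]
      _ = N * Qi := by rw [this]
  refine ⟨⟨U, hUmem⟩, ?_, ?_⟩
  · show (U - 1) ^ (2 * m) = 0
    rw [hU1, (show Commute N Qi from hQiN.symm).mul_pow, hNpow, zero_mul]
  · show (U - 1).rank = 2 * m - 1
    rw [hU1, Matrix.rank_mul_eq_left_of_isUnit_det _ _ (by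
      exact Matrix.isUnit_det_of_left_inverse hQQi), hNrank]

end Cfsg.Agent.Lib.Helper10.SpReg
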