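import Mathlib
import Cfsg.Agent.Lib.Helper10.JTD
import Cfsg.Agent.Lib.Helper10.SpRegB

/-!
# The basic blocks: regular unipotent elements of symplectic groups in any characteristic,
and hyperbolic pairs of Jordan blocks
-/

set_option autoImplicit false

namespace Cfsg.Agent.Lib.Helper10.JT

open Matrix Module Cfsg.Agent.Lib.Helper24 Cfsg.Agent.Lib.Helper10.SpReg

variable {F : Type*} [Field F]

section lt

variable {ι : Type*} [Fintype ι] [DecidableEq ι]

theorem lt_pow (a c dd : Matrix ι ι F) (p : ℕ) : ∃ cp : Matrix ι ι F,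
    (Matrix.fromBlocks a 0 c dd) ^ p = Matrix.fromBlocks (a ^ p) 0 cp (dd ^ p) := by
  induction p with
  | zero =>
    refine ⟨0, ?_⟩
    rw [pow_zero, pow_zero, pow_zero, Matrix.fromBlocks_one]
  | succ p ih =>
    obtain ⟨cp, hcp⟩ := ih
    refine ⟨cp * a + dd ^ p * c, ?_⟩
    rw [pow_succ, hcp, Matrix.fromBlocks_multiply]
    simp only [Matrix.zero_mul, Matrix.mul_zero, add_zero, zero_add, ← pow_succ]

theorem lt_pow_two_mul (a c dd : Matrix ι ι F) (k : ℕ) (ha : a ^ k = 0) (hd : dd ^ k = 0) :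
    (Matrix.fromBlocks a 0 c dd) ^ (2 * k) = 0 := by
  obtain ⟨cp, hcp⟩ := lt_pow a c dd k
  rw [two_mul, pow_add, hcp, ha, hd, Matrix.fromBlocks_multiply]
  simp only [Matrix.zero_mul, Matrix.mul_zero, add_zero]
  exact Matrix.fromBlocks_zero

theorem lt_pow_pred (a c dd : Matrix ι ι F) (k : ℕ) (hk : 1 ≤ k) (ha : a ^ k = 0)
    (hd : dd ^ k = 0) :
    (Matrix.fromBlocks a 0 c dd) ^ (2 * k - 1) =
      Matrix.fromBlocks 0 0 (dd ^ (k - 1) * c * a ^ (k - 1)) 0 := by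
  obtain ⟨cp, hcp⟩ := lt_pow a c dd (k - 1)
  have hsplit : (Matrix.fromBlocks a 0 c dd) ^ (2 * k - 1) =
      (Matrix.fromBlocks a 0 c dd) ^ (k - 1) * Matrix.fromBlocks a 0 c dd *
        (Matrix.fromBlocks a 0 c dd) ^ (k - 1) := by
    rw [← pow_succ, ← pow_add]
    congr 1
    omega
  have hA : a ^ (k - 1) * a = 0 := by
    rw [← pow_succ, show k - 1 + 1 = k by omega, ha]
  have hD : dd ^ (k - 1) * dd = 0 := by
    rw [← pow_succ, show k - 1 + 1 = k by omega, hd]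
  have hA' : a * a ^ (k - 1) = 0 := by
    rw [← pow_succ', show k - 1 + 1 = k by omega, ha]
  rw [hsplit, hcp, Matrix.fromBlocks_multiply, Matrix.fromBlocks_multiply]
  simp only [Matrix.zero_mul, Matrix.mul_zero, add_zero, zero_add, hA, hD, Matrix.add_mul,
    Matrix.mul_assoc, hA']

end lt

theorem corner_entry {m : ℕ} (hm : 1 ≤ m) :
    (((-(RegUnip.N0 m)ᵀ : Matrix (Fin m) (Fin m) F)) ^ (m - 1) *
      (CS m F * RegUnip.N0 m ^ (m - 1)) : Matrix (Fin m) (Fin m) F) ⟨0, hm⟩ ⟨0, hm⟩ =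
      (-1) ^ (m - 1) := by
  rw [Matrix.mul_apply, Finset.sum_eq_single (⟨m - 1, by omega⟩ : Fin m)]
  · rw [negN0T_pow, Matrix.smul_apply, Matrix.transpose_apply, RegUnip.N0_pow_apply,
      if_pos (by simp), Matrix.mul_apply, Finset.sum_eq_single (⟨m - 1, by omega⟩ : Fin m)]
    · rw [CS_apply, if_pos ⟨by simp; omega, by simp; omega⟩, RegUnip.N0_pow_apply, if_pos (by simp)]
      simp
    · intro k _ hk
      rw [CS_apply, if_neg, zero_mul]
      rintro ⟨-, h⟩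
      apply hk
      apply Fin.ext
      simp
      omega
    · intro h'
      exact absurd (Finset.mem_univ _) h'
  · intro k _ hk
    have : (CS m F * RegUnip.N0 m ^ (m - 1) : Matrix (Fin m) (Fin m) F) k ⟨0, hm⟩ = 0 := by
      rw [Matrix.mul_apply]
      apply Finset.sum_eq_zero
      intro l _
      rw [CS_apply, if_neg, zero_mul]
      rintro ⟨h, -⟩
      apply hk
      apply Fin.ext
      simp
      omega
    rw [this, mul_zero]
  · intro h'
    exact absurd (Finset.mem_univ _) h'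

theorem alt_J {l : Type*} [Fintype l] [DecidableEq l] (x : l ⊕ l → F) :
    x ⬝ᵥ (Matrix.J l F) *ᵥ x = 0 := by
  unfold Matrix.J
  rw [Matrix.fromBlocks_mulVec, dotProduct, Fintype.sum_sum_type]
  simp only [Sum.elim_inl, Sum.elim_inr, Matrix.zero_mulVec, zero_add, add_zero, Matrix.neg_mulVec,
    Matrix.one_mulVec, Pi.neg_apply, Function.comp, mul_neg]
  rw [Finset.sum_neg_distrib, neg_add_eq_zero]
  apply Finset.sum_congr rfl
  intro i _
  ring

/-- data of the inverse transpose of the standard Jordan block. -/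
theorem exists_Q (k : ℕ) : ∃ Q : Matrix (Fin k) (Fin k) F,
    (RegUnip.Jm k)ᵀ * Q = 1 ∧ Q * (RegUnip.Jm k)ᵀ = 1 := by
  have hdet : IsUnit ((RegUnip.Jm k : Matrix (Fin k) (Fin k) F)ᵀ).det := by
    rw [Matrix.det_transpose, RegUnip.det_Jm]
    exact isUnit_one
  exact ⟨((RegUnip.Jm k : Matrix (Fin k) (Fin k) F)ᵀ)⁻¹, Matrix.mul_nonsing_inv _ hdet,
    Matrix.nonsing_inv_mul _ hdet⟩

theorem Jm_transpose_mul (k : ℕ) (Q : Matrix (Fin k) (Fin k) F)
    (h1 : (RegUnip.Jm k)ᵀ * Q = 1) :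
    (RegUnip.Jm k : Matrix (Fin k) (Fin k) F)ᵀ * (Q - 1) = -(RegUnip.N0 k)ᵀ := by
  rw [mul_sub, h1, mul_one]
  unfold RegUnip.Jm
  rw [Matrix.transpose_add, Matrix.transpose_one]
  abel

theorem Q_sub_one_pow (k : ℕ) (Q : Matrix (Fin k) (Fin k) F)
    (h1 : (RegUnip.Jm k)ᵀ * Q = 1) (h2 : Q * (RegUnip.Jm k)ᵀ = 1) (j : ℕ) :
    ((RegUnip.Jm k : Matrix (Fin k) (Fin k) F)ᵀ) ^ j * (Q - 1) ^ j = (-(RegUnip.N0 k)ᵀ) ^ j := by
  have hc : Commute ((RegUnip.Jm k : Matrix (Fin k) (Fin k) F)ᵀ) (Q - 1) := by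
    show _ * _ = _ * _
    rw [mul_sub, sub_mul, h1, h2, mul_one, one_mul]
  rw [← hc.mul_pow, Jm_transpose_mul k Q h1]

theorem Q_sub_one_pow_self (k : ℕ) (Q : Matrix (Fin k) (Fin k) F)
    (h1 : (RegUnip.Jm k)ᵀ * Q = 1) (h2 : Q * (RegUnip.Jm k)ᵀ = 1) : (Q - 1) ^ k = 0 := by
  have h3 := Q_sub_one_pow k Q h1 h2 k
  rw [negN0T_pow_self] at h3
  have h4 : Q ^ k * ((RegUnip.Jm k : Matrix (Fin k) (Fin k) F)ᵀ) ^ k = 1 := by
    have hc : Commute Q ((RegUnip.Jm k : Matrix (Fin k) (Fin k) F)ᵀ) := by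
      show _ * _ = _ * _
      rw [h1, h2]
    rw [← hc.mul_pow, h2, one_pow]
  calc (Q - 1) ^ k = (Q ^ k * ((RegUnip.Jm k : Matrix (Fin k) (Fin k) F)ᵀ) ^ k) * (Q - 1) ^ k := by
        rw [h4, one_mul]
    _ = 0 := by rw [mul_assoc, h3, mul_zero]

theorem rank_neg' {ι : Type*} [Fintype ι] [DecidableEq ι] (M : Matrix ι ι F) :
    (-M).rank = M.rank := by
  have h : -M = M * (-1) := by rw [mul_neg, mul_one]
  rw [h]
  apply Matrix.rank_mul_eq_left_of_isUnit_det
  rw [Matrix.det_neg, Matrix.det_one, mul_one]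
  exact (isUnit_one.neg).pow _

theorem lt_sub_one {ι : Type*} [Fintype ι] [DecidableEq ι] (a c dd : Matrix ι ι F) :
    Matrix.fromBlocks a 0 c dd - 1 = Matrix.fromBlocks (a - 1) 0 c (dd - 1) := by
  ext (i | i) (j | j) <;> simp [Matrix.sub_apply, Matrix.one_apply]

theorem Jm_sub_one (k : ℕ) : (RegUnip.Jm k : Matrix (Fin k) (Fin k) F) - 1 = RegUnip.N0 k := by
  unfold RegUnip.Jm
  rw [add_sub_cancel_left]

theorem Jm_mul_pow (k : ℕ) (hk : 1 ≤ k) :
    (RegUnip.Jm k : Matrix (Fin k) (Fin k) F) * RegUnip.N0 k ^ (k - 1) = RegUnip.N0 k ^ (k - 1) := by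
  unfold RegUnip.Jm
  rw [add_mul, one_mul, ← pow_succ', show k - 1 + 1 = k by omega, RegUnip.N0_pow_self, add_zero]

/-- a regular unipotent isometry of the standard alternating form, in any characteristic. -/
theorem RealSp.even_block (k : ℕ) (hk : 1 ≤ k) : RealSp F (fun p => 2 * k - p) := by
  obtain ⟨Q, h1, h2⟩ := exists_Q (F := F) k
  obtain ⟨P, hP⟩ : ∃ P : Matrix (Fin k) (Fin k) F, P = RegUnip.Jm k := ⟨_, rfl⟩
  rw [← hP] at h1 h2
  have hQP : Qᵀ * P = 1 := by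
    have := congrArg Matrix.transpose h1
    rw [Matrix.transpose_mul, Matrix.transpose_transpose, Matrix.transpose_one] at this
    exact this
  have hN : (Matrix.fromBlocks P 0 (CS k F * P) Q - 1) =
      Matrix.fromBlocks (RegUnip.N0 k) 0 (CS k F * P) (Q - 1) := by
    rw [lt_sub_one, hP, Jm_sub_one]
  have hdd : (Q - 1) ^ k = 0 := by
    rw [hP] at h1 h2
    exact Q_sub_one_pow_self k Q h1 h2
  have hpow : (Matrix.fromBlocks P 0 (CS k F * P) Q - 1) ^ (2 * k) = 0 := by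
    rw [hN]
    exact lt_pow_two_mul _ _ _ k (RegUnip.N0_pow_self k) hdd
  have hne : (Matrix.fromBlocks P 0 (CS k F * P) Q - 1) ^ (2 * k - 1) ≠ 0 := by
    rw [hN, lt_pow_pred _ _ _ k hk (RegUnip.N0_pow_self k) hdd]
    intro h0
    have h3 := congrArg Matrix.toBlocks₂₁ h0
    rw [Matrix.toBlocks_fromBlocks₂₁] at h3
    have h4 : (Pᵀ) ^ (k - 1) * ((Q - 1) ^ (k - 1) * (CS k F * P) * RegUnip.N0 k ^ (k - 1)) =
        (-(RegUnip.N0 k)ᵀ) ^ (k - 1) * (CS k F * RegUnip.N0 k ^ (k - 1)) := by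
      rw [hP] at h1 h2
      have h5 := Q_sub_one_pow k Q h1 h2 (k - 1)
      rw [← h5, hP]
      simp only [Matrix.mul_assoc]
      rw [Jm_mul_pow k hk]
    rw [h3] at h4
    have h6 := congrFun (congrFun h4 ⟨0, hk⟩) ⟨0, hk⟩
    rw [corner_entry hk] at h6
    have h7 : ((Pᵀ) ^ (k - 1) * Matrix.toBlocks₂₁ (0 : Matrix (Fin k ⊕ Fin k) (Fin k ⊕ Fin k) F))
        ⟨0, hk⟩ ⟨0, hk⟩ = 0 := by
      have : Matrix.toBlocks₂₁ (0 : Matrix (Fin k ⊕ Fin k) (Fin k ⊕ Fin k) F) = 0 := rfl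
      rw [this, Matrix.mul_zero]
      rfl
    rw [h7] at h6
    exact pow_ne_zero _ (neg_ne_zero.2 one_ne_zero) h6.symm
  have hrank : (Matrix.fromBlocks P 0 (CS k F * P) Q - 1).rank = 2 * k - 1 :=
    rank_of_pow_ne_zero _ (by omega) card_sum_fin hpow hne
  refine ⟨Fin k ⊕ Fin k, inferInstance, inferInstance, Matrix.fromBlocks P 0 (CS k F * P) Q,
    Matrix.J (Fin k) F, alt_J, isUnit_det_J (Fin k) F, ?_, ⟨2 * k, hpow⟩, ?_⟩
  · unfold Matrix.J
    rw [Matrix.fromBlocks_transpose, Matrix.fromBlocks_multiply, Matrix.fromBlocks_multiply,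
      Matrix.fromBlocks_inj]
    refine ⟨?_, ?_, ?_, ?_⟩
    · simp only [Matrix.mul_zero, Matrix.mul_one, zero_add, Matrix.transpose_mul, CS_transpose,
        Matrix.mul_neg, add_zero, Matrix.neg_mul, Matrix.mul_assoc]
      exact add_neg_cancel _
    · simp only [Matrix.mul_zero, Matrix.mul_one, zero_add, Matrix.mul_neg, add_zero,
        Matrix.neg_mul, h1]
    · simp only [Matrix.mul_zero, Matrix.mul_one, zero_add, Matrix.transpose_zero, Matrix.zero_mul,
        add_zero, hQP]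
    · simp only [Matrix.mul_zero, Matrix.transpose_zero, Matrix.zero_mul, add_zero]
  · intro p
    exact rank_pow_of_regular _ card_sum_fin hpow hrank (by omega) p

/-- a pair of Jordan blocks of the same size. -/
theorem RealSp.pair_block (d : ℕ) (hd : 1 ≤ d) : RealSp F (fun p => 2 * (d - p)) := by
  obtain ⟨Q, h1, h2⟩ := exists_Q (F := F) d
  obtain ⟨P, hP⟩ : ∃ P : Matrix (Fin d) (Fin d) F, P = RegUnip.Jm d := ⟨_, rfl⟩
  have hdd : (Q - 1) ^ d = 0 := Q_sub_one_pow_self d Q h1 h2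
  have hQr : (Q - 1).rank = d - 1 := by
    have h3 := Jm_transpose_mul d Q h1
    have hdet : IsUnit ((RegUnip.Jm d : Matrix (Fin d) (Fin d) F)ᵀ).det := by
      rw [Matrix.det_transpose, RegUnip.det_Jm]
      exact isUnit_one
    rw [← Matrix.rank_mul_eq_right_of_isUnit_det _ _ hdet, h3, rank_neg',
      Matrix.rank_transpose, RegUnip.rank_N0 d hd]
  rw [← hP] at h1 h2
  have hQP : Qᵀ * P = 1 := by
    have := congrArg Matrix.transpose h1
    rw [Matrix.transpose_mul, Matrix.transpose_transpose, Matrix.transpose_one] at this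
    exact this
  refine ⟨Fin d ⊕ Fin d, inferInstance, inferInstance, Matrix.fromBlocks P 0 0 Q,
    Matrix.J (Fin d) F, alt_J, isUnit_det_J (Fin d) F, ?_, ⟨d, ?_⟩, ?_⟩
  · unfold Matrix.J
    rw [Matrix.fromBlocks_transpose, Matrix.fromBlocks_multiply, Matrix.fromBlocks_multiply,
      Matrix.fromBlocks_inj]
    refine ⟨?_, ?_, ?_, ?_⟩
    · simp only [Matrix.mul_zero, Matrix.mul_one, Matrix.transpose_zero, Matrix.zero_mul,
        add_zero]
    · simp only [Matrix.mul_zero, Matrix.mul_one, zero_add, Matrix.mul_neg, add_zero,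
        Matrix.neg_mul, h1, Matrix.transpose_zero]
    · simp only [Matrix.mul_zero, Matrix.mul_one, zero_add, Matrix.transpose_zero, Matrix.zero_mul,
        add_zero, hQP]
    · simp only [Matrix.mul_zero, Matrix.transpose_zero, Matrix.zero_mul, add_zero]
  · rw [fromBlocks_diag_sub_one, fromBlocks_diag_pow, hP, Jm_sub_one, RegUnip.N0_pow_self, hdd]
    exact Matrix.fromBlocks_zero
  · intro p
    rw [fromBlocks_diag_sub_one, fromBlocks_diag_pow, rank_fromBlocks_diag, hP, Jm_sub_one,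
      rank_pow_of_regular _ (Fintype.card_fin d) (RegUnip.N0_pow_self d) (RegUnip.rank_N0 d hd) hd p,
      rank_pow_of_regular _ (Fintype.card_fin d) hdd hQr hd p]
    ring

end Cfsg.Agent.Lib.Helper10.JT
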