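import Mathlib
import Cfsg.Agent.Lib.Helper10.JTA
import Cfsg.Agent.Lib.Helper10.JTD

/-!
# Rank parity for isometries of alternating forms; passage to the standard symplectic group
-/

set_option autoImplicit false

namespace Cfsg.Agent.Lib.Helper10.JT

open Matrix Module

variable {F : Type*} [Field F]

/-- ranks of powers are conjugation invariant. -/
theorem rank_pow_of_isConj {ι : Type*} [Fintype ι] [DecidableEq ι] (U₁ U₂ : Matrix ι ι F)
    (h : IsConj U₁ U₂) (p : ℕ) : ((U₁ - 1) ^ p).rank = ((U₂ - 1) ^ p).rank := by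
  obtain ⟨c, hc⟩ := h
  have hc' : (c : Matrix ι ι F) * U₁ = U₂ * (c : Matrix ι ι F) := hc
  have h1 : (c : Matrix ι ι F) * (U₁ - 1) = (U₂ - 1) * (c : Matrix ι ι F) := by
    rw [mul_sub, sub_mul, hc', mul_one, one_mul]
  have h2 : ∀ p : ℕ, (c : Matrix ι ι F) * (U₁ - 1) ^ p = (U₂ - 1) ^ p * (c : Matrix ι ι F) := by
    intro p
    induction p with
    | zero => rw [pow_zero, pow_zero, mul_one, one_mul]
    | succ p ih => rw [pow_succ, ← mul_assoc, ih, mul_assoc, h1, ← mul_assoc, ← pow_succ]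
  have hdet : IsUnit (c : Matrix ι ι F).det := by
    rw [← Matrix.isUnit_iff_isUnit_det]
    exact c.isUnit
  rw [← Matrix.rank_mul_eq_right_of_isUnit_det _ _ hdet, h2,
    Matrix.rank_mul_eq_left_of_isUnit_det _ _ hdet]

/-- even powers of the nilpotent part of an isometry of an alternating form have even rank. -/
theorem even_rank_pow_of_alt {ι : Type*} [Fintype ι] [DecidableEq ι] (A S : Matrix ι ι F)
    (halt : ∀ x : ι → F, x ⬝ᵥ S *ᵥ x = 0) (hu : IsUnit S.det) (hinv : Aᵀ * S * A = S) (i : ℕ) :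
    Even (((A - 1) ^ (2 * i)).rank) := by
  have hSS : S * S⁻¹ = 1 := Matrix.mul_nonsing_inv S hu
  have hSS' : S⁻¹ * S = 1 := Matrix.nonsing_inv_mul S hu
  obtain ⟨Ai, hAi⟩ : ∃ Ai : Matrix ι ι F, Ai = S⁻¹ * Aᵀ * S := ⟨_, rfl⟩
  have hAiA : Ai * A = 1 := by
    rw [hAi, mul_assoc, mul_assoc, ← mul_assoc Aᵀ, hinv, hSS']
  have hAAi : A * Ai = 1 := mul_eq_one_comm.mp hAiA
  obtain ⟨N, hN⟩ : ∃ N : Matrix ι ι F, N = A - 1 := ⟨_, rfl⟩
  rw [← hN]
  have hSAi : S * Ai = Aᵀ * S := by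
    rw [hAi, ← mul_assoc, ← mul_assoc, hSS, one_mul]
  have h1 : Nᵀ * S = S * (Ai - 1) := by
    rw [hN, Matrix.transpose_sub, Matrix.transpose_one, sub_mul, one_mul, mul_sub, mul_one, hSAi]
  have h2 : Ai - 1 = (-Ai) * N := by
    rw [hN, mul_sub, mul_one, neg_mul, hAiA]
    abel
  have hcomm : Commute (-Ai) N := by
    rw [hN]
    show -Ai * (A - 1) = (A - 1) * -Ai
    rw [mul_sub, sub_mul, neg_mul, mul_neg, hAiA, hAAi, mul_one, one_mul]
  have h3 : ∀ j : ℕ, (Nᵀ) ^ j * S = S * (Ai - 1) ^ j := by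
    intro j
    induction j with
    | zero => rw [pow_zero, pow_zero, one_mul, mul_one]
    | succ j ih => rw [pow_succ, mul_assoc, h1, ← mul_assoc, ih, mul_assoc, ← pow_succ]
  obtain ⟨M, hM⟩ : ∃ M : Matrix ι ι F, M = (N ^ i)ᵀ * S * N ^ i := ⟨_, rfl⟩
  have hMeq : M = (S * (-Ai) ^ i) * N ^ (2 * i) := by
    rw [hM, Matrix.transpose_pow, h3, h2, hcomm.mul_pow, two_mul, pow_add]
    simp only [mul_assoc]
  have hMalt : ∀ x : ι → F, x ⬝ᵥ M *ᵥ x = 0 := by
    intro x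
    rw [hM, ← Matrix.mulVec_mulVec, ← Matrix.mulVec_mulVec, Matrix.dotProduct_mulVec,
      Matrix.vecMul_transpose]
    exact halt _
  have hev := even_rank_of_alt M hMalt
  have hdet : IsUnit (S * (-Ai) ^ i).det := by
    rw [Matrix.det_mul, Matrix.det_pow]
    apply hu.mul
    apply IsUnit.pow
    apply Matrix.isUnit_det_of_left_inverse (B := -A)
    rw [neg_mul_neg, hAAi]
  rw [hMeq, Matrix.rank_mul_eq_right_of_isUnit_det _ _ hdet] at hev
  exact hev

end Cfsg.Agent.Lib.Helper10.JT
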