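import Mathlib
import Cfsg.Agent.S0752
import Cfsg.Agent.Lib.Helper10.JTD

/-!
# From an arbitrary alternating form to the standard symplectic group
-/

set_option autoImplicit false

namespace Cfsg.Agent.Lib.Helper10.JT

open Matrix Module

variable {F : Type*} [Field F]

theorem RealSp.to_symplectic {ρ : ℕ → ℕ} (h : RealSp F ρ) :
    ∃ (m' : ℕ) (A' : Matrix (Fin m' ⊕ Fin m') (Fin m' ⊕ Fin m') F),
      A' ∈ symplecticGroup (Fin m') F ∧ (∃ e, (A' - 1) ^ e = 0) ∧
        ∀ p, ((A' - 1) ^ p).rank = ρ p := by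
  classical
  obtain ⟨ι, _, _, A, S, halt, hu, hinv, ⟨e, hnil⟩, hrank⟩ := h
  let B : LinearMap.BilinForm F (ι → F) := Matrix.toBilin' S
  have hB : ∀ x y, B x y = x ⬝ᵥ S *ᵥ y := fun x y => Matrix.toBilin'_apply' S x y
  have hA : B.IsAlt := fun x => by rw [hB]; exact halt x
  obtain ⟨m', k, b, h1, h2, h3, h4⟩ := Cfsg.Agent.S0752.result B hA
  have hneg : ∀ x y, B x y = -B y x := fun x y => by
    rw [← LinearMap.BilinForm.IsAlt.neg_eq hA]
  have hSS : S * S⁻¹ = 1 := Matrix.mul_nonsing_inv S hu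
  have hk : k = 0 := by
    by_contra hk0
    have hpos : 0 < k := Nat.pos_of_ne_zero hk0
    have hv0 := b.ne_zero (Sum.inr ⟨0, hpos⟩)
    apply hv0
    have h5 : (b (Sum.inr ⟨0, hpos⟩)) ᵥ* S = 0 := by
      funext i
      have h6 := h4 ⟨0, hpos⟩ (Pi.single i 1)
      rw [hB, Matrix.dotProduct_mulVec, dotProduct_single_one] at h6
      exact h6
    calc b (Sum.inr ⟨0, hpos⟩) = (b (Sum.inr ⟨0, hpos⟩)) ᵥ* (S * S⁻¹) := by
          rw [hSS, Matrix.vecMul_one]
      _ = 0 := by rw [← Matrix.vecMul_vecMul, h5, Matrix.zero_vecMul]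
  subst hk
  let b' : Basis (Fin m' ⊕ Fin m') F (ι → F) :=
    b.reindex (Equiv.sumEmpty (Fin m' ⊕ Fin m') (Fin 0))
  have hb' : ∀ s, b' s = b (Sum.inl s) := by
    intro s
    rw [Basis.reindex_apply]
    rfl
  let P : Matrix ι (Fin m' ⊕ Fin m') F := (Pi.basisFun F ι).toMatrix b'
  let Pinv : Matrix (Fin m' ⊕ Fin m') ι F := b'.toMatrix (Pi.basisFun F ι)
  have hPPi : P * Pinv = 1 := Basis.toMatrix_mul_toMatrix_flip _ _
  have hPiP : Pinv * P = 1 := Basis.toMatrix_mul_toMatrix_flip _ _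
  have hPentry : ∀ i s, P i s = b' s i := by
    intro i s
    show (Pi.basisFun F ι).toMatrix b' i s = b' s i
    rw [Basis.toMatrix_apply, Pi.basisFun_repr]
  have hGram : ∀ s s', (Pᵀ * S * P) s s' = B (b' s) (b' s') := by
    intro s s'
    rw [hB]
    simp only [Matrix.mul_apply, Matrix.transpose_apply, hPentry, dotProduct, Matrix.mulVec,
      Finset.sum_mul, Finset.mul_sum]
    rw [Finset.sum_comm]
    apply Finset.sum_congr rfl
    intro i _
    apply Finset.sum_congr rfl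
    intro j _
    ring
  have hG : Pᵀ * S * P = -Matrix.J (Fin m') F := by
    ext s s'
    rw [hGram, hb', hb']
    unfold Matrix.J
    rcases s with i | i <;> rcases s' with j | j
    · rw [h2, Matrix.neg_apply, Matrix.fromBlocks_apply₁₁, Matrix.zero_apply, neg_zero]
    · rw [h1, Matrix.neg_apply, Matrix.fromBlocks_apply₁₂, Matrix.neg_apply, neg_neg,
        Matrix.one_apply]
    · rw [hneg, h1, Matrix.neg_apply, Matrix.fromBlocks_apply₂₁, Matrix.one_apply]
      by_cases hij : i = j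
      · rw [if_pos hij, if_pos hij.symm]
      · rw [if_neg hij, if_neg (Ne.symm hij)]
    · rw [h3, Matrix.neg_apply, Matrix.fromBlocks_apply₂₂, Matrix.zero_apply, neg_zero]
  obtain ⟨A', hA'⟩ : ∃ A' : Matrix (Fin m' ⊕ Fin m') (Fin m' ⊕ Fin m') F, A' = Pinv * A * P :=
    ⟨_, rfl⟩
  have hPiT : Pinvᵀ * Pᵀ = 1 := by
    rw [← Matrix.transpose_mul, hPPi, Matrix.transpose_one]
  have hA'inv : A'ᵀ * (Pᵀ * S * P) * A' = Pᵀ * S * P := by
    rw [hA', Matrix.transpose_mul, Matrix.transpose_mul]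
    calc Pᵀ * (Aᵀ * Pinvᵀ) * (Pᵀ * S * P) * (Pinv * A * P)
        = Pᵀ * Aᵀ * (Pinvᵀ * Pᵀ) * S * (P * Pinv) * A * P := by simp only [Matrix.mul_assoc]
      _ = Pᵀ * (Aᵀ * S * A) * P := by
          rw [hPiT, hPPi, Matrix.mul_one, Matrix.mul_one]
          simp only [Matrix.mul_assoc]
      _ = Pᵀ * S * P := by rw [hinv, Matrix.mul_assoc]
  have hmem : A' ∈ symplecticGroup (Fin m') F := by
    rw [SymplecticGroup.mem_iff']
    rw [hG] at hA'inv
    have := congrArg Neg.neg hA'inv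
    simp only [Matrix.mul_neg, Matrix.neg_mul, neg_neg] at this
    exact this
  have hsub : A' - 1 = Pinv * (A - 1) * P := by
    rw [Matrix.mul_sub, Matrix.sub_mul, Matrix.mul_one, hPiP, hA']
  have hpow : ∀ p : ℕ, (A' - 1) ^ p = Pinv * (A - 1) ^ p * P := by
    intro p
    induction p with
    | zero => rw [pow_zero, pow_zero, Matrix.mul_one, hPiP]
    | succ p ih =>
      rw [pow_succ, ih, hsub, pow_succ]
      calc Pinv * (A - 1) ^ p * P * (Pinv * (A - 1) * P)
          = Pinv * (A - 1) ^ p * (P * Pinv) * (A - 1) * P := by simp only [Matrix.mul_assoc]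
        _ = Pinv * ((A - 1) ^ p * (A - 1)) * P := by
            rw [hPPi, Matrix.mul_one]
            simp only [Matrix.mul_assoc]
  refine ⟨m', A', hmem, ⟨e, by rw [hpow, hnil, Matrix.mul_zero, Matrix.zero_mul]⟩, ?_⟩
  intro p
  rw [← hrank p, hpow]
  apply le_antisymm
  · exact (Matrix.rank_mul_le_left _ _).trans (Matrix.rank_mul_le_right _ _)
  · have h7 : (A - 1) ^ p = P * (Pinv * (A - 1) ^ p * P) * Pinv := by
      calc (A - 1) ^ p = (P * Pinv) * (A - 1) ^ p * (P * Pinv) := by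
            rw [hPPi, Matrix.one_mul, Matrix.mul_one]
        _ = P * (Pinv * (A - 1) ^ p * P) * Pinv := by simp only [Matrix.mul_assoc]
    conv_lhs => rw [h7]
    exact (Matrix.rank_mul_le_left _ _).trans (Matrix.rank_mul_le_right _ _)

end Cfsg.Agent.Lib.Helper10.JT
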