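import Mathlib
import Cfsg.Agent.Lib.Helper10.JTC
import Cfsg.Agent.Lib.Helper10.JTE
import Cfsg.Agent.Lib.Helper10.JTF
import Cfsg.Agent.Lib.Helper10.JTG

/-!
# Unipotent Jordan types in the symplectic group
-/

set_option autoImplicit false

namespace Cfsg.Agent.Lib.Helper10.JT

open Matrix Module

variable {F : Type*} [Field F]

/-- the rank sequence of a Jordan type with even multiplicities of odd parts is realisable. -/
theorem realSp_of_type {t : ℕ} (d : Fin t → ℕ)
    (hpar : ∀ j : ℕ, Odd j → Even (Finset.univ.filter (fun k : Fin t => d k = j)).card) :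
    RealSp F (fun p => ∑ k, (d k - p)) := by
  obtain ⟨B, hB⟩ : ∃ B, ∀ k, d k < B := by
    refine ⟨(∑ k, d k) + 1, fun k => ?_⟩
    have hle : d k ≤ ∑ k, d k := Finset.single_le_sum (f := d) (fun i _ => Nat.zero_le _)
      (Finset.mem_univ k)
    omega
  have h1 : RealSp F (fun p => ∑ j ∈ Finset.range B,
      (Finset.univ.filter (fun k : Fin t => d k = j)).card * (j - p)) := by
    apply RealSp.sum_range
    intro j _
    rcases Nat.even_or_odd j with hj | hj
    · rcases Nat.eq_zero_or_pos j with rfl | hpos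
      · exact RealSp.zero.congr (fun p => by simp)
      · obtain ⟨k, hk⟩ := hj
        have hk1 : 1 ≤ k := by omega
        have h2 := (RealSp.even_block (F := F) k hk1).nsmul
          (Finset.univ.filter (fun k : Fin t => d k = j)).card
        exact h2.congr (fun p => by rw [hk, two_mul])
    · obtain ⟨c, hc⟩ := hpar j hj
      have hj1 : 1 ≤ j := by
        obtain ⟨i, hi⟩ := hj
        omega
      have h2 := (RealSp.pair_block (F := F) j hj1).nsmul c
      exact h2.congr (fun p => by rw [hc]; ring)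
  exact h1.congr (fun p => (rank_seq_fiberwise d B hB p).symm)

theorem sp_jordan_iff [Fintype F] {m t : ℕ} (d : Fin t → ℕ) (hd : ∀ k, 1 ≤ d k)
    (hsum : ∑ k, d k = 2 * m) :
    (∃ e : ((k : Fin t) × Fin (d k)) ≃ (Fin m ⊕ Fin m), ∃ A : Matrix.symplecticGroup (Fin m) F,
      IsConj (Matrix.reindex e e (Cfsg.jordanTypeMatrix d F))
        (A : Matrix (Fin m ⊕ Fin m) (Fin m ⊕ Fin m) F)) ↔
      ∀ j : ℕ, Odd j → Even (Finset.univ.filter (fun k : Fin t => d k = j)).card := by
  classical
  have hreidx : ∀ (e : ((k : Fin t) × Fin (d k)) ≃ (Fin m ⊕ Fin m)) (p : ℕ),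
      ((Matrix.reindex e e (Cfsg.jordanTypeMatrix d F) - 1) ^ p).rank = ∑ k, (d k - p) := by
    intro e p
    have h1 : (Matrix.reindex e e (Cfsg.jordanTypeMatrix d F) - 1) ^ p =
        Matrix.reindex e e ((Cfsg.jordanTypeMatrix d F - 1) ^ p) := by
      have h2 : ∀ M, Matrix.reindex e e M = Matrix.reindexAlgEquiv F F e M := fun M => rfl
      rw [h2, h2, map_pow, map_sub, map_one]
    rw [h1, Matrix.rank_reindex, rank_jordanType_pow d hd p]
  constructor
  · rintro ⟨e, A, hconj⟩ j hj
    have hj1 : 1 ≤ j := by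
      obtain ⟨i, hi⟩ := hj
      omega
    have hAmem := (SymplecticGroup.mem_iff'.1 A.2)
    have hrk : ∀ p, ((A.1 - 1) ^ p).rank = ∑ k, (d k - p) := by
      intro p
      rw [← rank_pow_of_isConj _ _ hconj p, hreidx]
    have hev : ∀ i, Even (∑ k, (d k - 2 * i)) := by
      intro i
      rw [← hrk]
      exact even_rank_pow_of_alt A.1 (Matrix.J (Fin m) F) alt_J (isUnit_det_J (Fin m) F) hAmem i
    obtain ⟨i, hi⟩ := hj
    apply even_mult_of_even_rank d j hj1
    · have : j - 1 = 2 * i := by omega
      rw [this]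
      exact hev i
    · have : j + 1 = 2 * (i + 1) := by omega
      rw [this]
      exact hev (i + 1)
  · intro hpar
    obtain ⟨m', A', hmem, hnil, hrank⟩ := (realSp_of_type (F := F) d hpar).to_symplectic
    have hm : m' = m := by
      have h0 := hrank 0
      rw [pow_zero, Matrix.rank_one, Fintype.card_sum, Fintype.card_fin] at h0
      simp only [Nat.sub_zero] at h0
      omega
    subst hm
    have hcard : Fintype.card ((k : Fin t) × Fin (d k)) = Fintype.card (Fin m' ⊕ Fin m') := by
      rw [Fintype.card_sigma, Fintype.card_sum, Fintype.card_fin]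
      simp only [Fintype.card_fin]
      omega
    let e : ((k : Fin t) × Fin (d k)) ≃ (Fin m' ⊕ Fin m') := Fintype.equivOfCardEq hcard
    refine ⟨e, ⟨A', hmem⟩, ?_⟩
    apply isConj_of_rank_eq
    · obtain ⟨c, hc⟩ := jordanType_nilpotent (F := F) d
      refine ⟨c, ?_⟩
      have h2 : ∀ M, Matrix.reindex e e M = Matrix.reindexAlgEquiv F F e M := fun M => rfl
      rw [h2, ← map_one (Matrix.reindexAlgEquiv F F e), ← map_sub, ← map_pow, hc, map_zero]
    · exact hnil
    · intro p
      rw [hreidx, hrank]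

end Cfsg.Agent.Lib.Helper10.JT
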