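import Mathlib
import Cfsg.Prelude
import Cfsg.Agent.Lib.Helper10.JTH
import Cfsg.Agent.S2585

/-!
# Unipotent Jordan types in orthogonal groups of characteristic two
-/

set_option autoImplicit false

namespace Cfsg.Agent.Lib.Helper10.JT

open Matrix Module

variable {F : Type*} [Field F]

theorem o2_jordan_iff [Fintype F] [CharP F 2] {m t : ℕ} (d : Fin t → ℕ) (hd : ∀ k, 1 ≤ d k)
    (hsum : ∑ k, d k = 2 * m) :
    (∃ Q : QuadraticForm F (Fin (2 * m) → F), (QuadraticMap.polarBilin Q).Nondegenerate ∧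
      ∃ e : ((k : Fin t) × Fin (d k)) ≃ Fin (2 * m), ∃ A : ↥(Cfsg.isometryGroup F ⇑Q),
        IsConj (Matrix.reindex e e (Cfsg.jordanTypeMatrix d F))
          ((A : Matrix.GeneralLinearGroup (Fin (2 * m)) F) : Matrix (Fin (2 * m)) (Fin (2 * m)) F)) ↔
      ∀ j : ℕ, Odd j → Even (Finset.univ.filter (fun k : Fin t => d k = j)).card := by
  classical
  constructor
  · rintro ⟨Q, hnd, e, A, hconj⟩ j hj
    have hj1 : 1 ≤ j := by
      obtain ⟨i, hi⟩ := hj
      omega
    obtain ⟨Am, hAm⟩ : ∃ Am : Matrix (Fin (2 * m)) (Fin (2 * m)) F,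
        Am = ((A : Matrix.GeneralLinearGroup (Fin (2 * m)) F) : Matrix (Fin (2 * m)) (Fin (2 * m)) F) :=
      ⟨_, rfl⟩
    rw [← hAm] at hconj
    have hQA : ∀ v, Q (Am *ᵥ v) = Q v := by
      intro v
      rw [hAm]
      exact A.2 v v
    let B : LinearMap.BilinForm F (Fin (2 * m) → F) := QuadraticMap.polarBilin Q
    obtain ⟨S, hS⟩ : ∃ S : Matrix (Fin (2 * m)) (Fin (2 * m)) F,
        S = LinearMap.BilinForm.toMatrix' B := ⟨_, rfl⟩
    have hSB : ∀ x y, x ⬝ᵥ S *ᵥ y = QuadraticMap.polar (⇑Q) x y := by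
      intro x y
      rw [← Matrix.toBilin'_apply', hS, Matrix.toBilin'_toMatrix']
      rfl
    have halt : ∀ x : Fin (2 * m) → F, x ⬝ᵥ S *ᵥ x = 0 := by
      intro x
      have hxx : x + x = 0 := by
        funext i
        exact CharTwo.add_self_eq_zero (x i)
      rw [hSB, QuadraticMap.polar, hxx, map_zero, zero_sub, sub_eq_add_neg,
        ← neg_add, CharTwo.add_self_eq_zero, neg_zero]
    have hu : IsUnit S.det := by
      have h1 : S.Nondegenerate := by
        rw [hS]
        exact LinearMap.BilinForm.nondegenerate_toMatrix'_iff.2 hnd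
      exact (Matrix.nondegenerate_iff_det_ne_zero.1 h1).isUnit
    have hinv : Amᵀ * S * Am = S := by
      apply Matrix.toBilin'.injective
      apply LinearMap.ext₂
      intro x y
      rw [Matrix.toBilin'_apply', Matrix.toBilin'_apply', ← Matrix.mulVec_mulVec,
        ← Matrix.mulVec_mulVec, Matrix.dotProduct_mulVec, Matrix.vecMul_transpose, hSB, hSB,
        QuadraticMap.polar, QuadraticMap.polar, ← Matrix.mulVec_add, hQA, hQA, hQA]
    have hrk : ∀ p, ((Am - 1) ^ p).rank = ∑ k, (d k - p) := by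
      intro p
      rw [← rank_pow_of_isConj _ _ hconj p]
      have h1 : (Matrix.reindex e e (Cfsg.jordanTypeMatrix d F) - 1) ^ p =
          Matrix.reindex e e ((Cfsg.jordanTypeMatrix d F - 1) ^ p) := by
        have h2 : ∀ M, Matrix.reindex e e M = Matrix.reindexAlgEquiv F F e M := fun M => rfl
        rw [h2, h2, map_pow, map_sub, map_one]
      rw [h1, Matrix.rank_reindex, rank_jordanType_pow d hd p]
    have hev : ∀ i, Even (∑ k, (d k - 2 * i)) := by
      intro i
      rw [← hrk]
      exact even_rank_pow_of_alt Am S halt hu hinv i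
    obtain ⟨i, hi⟩ := hj
    apply even_mult_of_even_rank d j hj1
    · have : j - 1 = 2 * i := by omega
      rw [this]
      exact hev i
    · have : j + 1 = 2 * (i + 1) := by omega
      rw [this]
      exact hev (i + 1)
  · intro hpar
    obtain ⟨e₀, A₀, hconj₀⟩ := (sp_jordan_iff (F := F) d hd hsum).2 hpar
    obtain ⟨Q₀, hpol, hQA₀⟩ := Cfsg.Agent.S2585.result A₀
    let f : Fin m ⊕ Fin m ≃ Fin (2 * m) := finSumFinEquiv.trans (finCongr (two_mul m).symm)
    let L : (Fin (2 * m) → F) ≃ₗ[F] (Fin m ⊕ Fin m → F) := LinearEquiv.funCongrLeft F F f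
    have hL : ∀ v, L v = v ∘ f := fun v => rfl
    let Q : QuadraticForm F (Fin (2 * m) → F) := Q₀.comp L.toLinearMap
    have hQ : ∀ v, Q v = Q₀ (L v) := fun v => rfl
    let ψ := Matrix.reindexAlgEquiv F F f
    have hψ : ∀ M, ψ M = Matrix.reindex f f M := fun M => rfl
    have hLψ : ∀ (M : Matrix (Fin m ⊕ Fin m) (Fin m ⊕ Fin m) F) (v : Fin (2 * m) → F),
        L ((ψ M) *ᵥ v) = M *ᵥ (L v) := by
      intro M v
      rw [hL, hL, hψ]
      show ((M.submatrix f.symm f.symm) *ᵥ v) ∘ f = _
      rw [Matrix.submatrix_mulVec_equiv]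
      funext i
      simp
    refine ⟨Q, ?_, e₀.trans f, ?_⟩
    · -- nondegeneracy
      have hpolQ : ∀ x y, QuadraticMap.polarBilin Q x y = Cfsg.sympForm m F (L x) (L y) := by
        intro x y
        rw [QuadraticMap.polarBilin_apply_apply, ← hpol]
        unfold QuadraticMap.polar
        rw [hQ, hQ, hQ, map_add]
      have hJ : ∀ z : Fin m ⊕ Fin m → F, (∀ w, Cfsg.sympForm m F z w = 0) → z = 0 := by
        intro z hz
        have h1 : z ᵥ* Matrix.J (Fin m) F = 0 := by
          funext i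
          have h2 := hz (Pi.single i 1)
          unfold Cfsg.sympForm at h2
          rw [Matrix.dotProduct_mulVec, dotProduct_single_one] at h2
          exact h2
        have h3 : z ᵥ* (Matrix.J (Fin m) F * Matrix.J (Fin m) F) = 0 := by
          rw [← Matrix.vecMul_vecMul, h1, Matrix.zero_vecMul]
        rw [Matrix.J_squared, Matrix.vecMul_neg, Matrix.vecMul_one, neg_eq_zero] at h3
        exact h3
      have hJ' : ∀ z : Fin m ⊕ Fin m → F, (∀ w, Cfsg.sympForm m F w z = 0) → z = 0 := by
        intro z hz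
        have h1 : Matrix.J (Fin m) F *ᵥ z = 0 := by
          funext i
          have h2 := hz (Pi.single i 1)
          unfold Cfsg.sympForm at h2
          rw [single_one_dotProduct] at h2
          exact h2
        have h3 : (Matrix.J (Fin m) F * Matrix.J (Fin m) F) *ᵥ z = 0 := by
          rw [← Matrix.mulVec_mulVec, h1, Matrix.mulVec_zero]
        rw [Matrix.J_squared, Matrix.neg_mulVec, Matrix.one_mulVec, neg_eq_zero] at h3
        exact h3
      constructor
      · intro x hx
        have h1 : L x = 0 := hJ (L x) (fun w => by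
          have := hx (L.symm w)
          rw [hpolQ, LinearEquiv.apply_symm_apply] at this
          exact this)
        exact L.map_eq_zero_iff.1 h1
      · intro y hy
        have h1 : L y = 0 := hJ' (L y) (fun w => by
          have := hy (L.symm w)
          rw [hpolQ, LinearEquiv.apply_symm_apply] at this
          exact this)
        exact L.map_eq_zero_iff.1 h1
    · -- the isometry
      have e1 : A₀.1 * (A₀⁻¹).1 = 1 := congrArg Subtype.val (mul_inv_cancel A₀)
      have e2 : (A₀⁻¹).1 * A₀.1 = 1 := congrArg Subtype.val (inv_mul_cancel A₀)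
      have hu1 : ψ A₀.1 * ψ (A₀⁻¹).1 = 1 := by
        rw [← map_mul, e1, map_one]
      have hu2 : ψ (A₀⁻¹).1 * ψ A₀.1 = 1 := by
        rw [← map_mul, e2, map_one]
      let g : Matrix.GeneralLinearGroup (Fin (2 * m)) F := ⟨ψ A₀.1, ψ (A₀⁻¹).1, hu1, hu2⟩
      have hg : g ∈ Cfsg.isometryGroup F ⇑Q := by
        intro u v
        show Q ((ψ A₀.1) *ᵥ u) = Q u
        rw [hQ, hQ, hLψ, hQA₀]
      refine ⟨⟨g, hg⟩, ?_⟩
      show IsConj (Matrix.reindex (e₀.trans f) (e₀.trans f) (Cfsg.jordanTypeMatrix d F)) (ψ A₀.1)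
      have h5 : Matrix.reindex (e₀.trans f) (e₀.trans f) (Cfsg.jordanTypeMatrix d F) =
          ψ (Matrix.reindex e₀ e₀ (Cfsg.jordanTypeMatrix d F)) := by
        rw [hψ]
        ext i j
        rfl
      rw [h5]
      exact MonoidHom.map_isConj (ψ.toRingEquiv.toRingHom : Matrix (Fin m ⊕ Fin m) (Fin m ⊕ Fin m) F →*
        Matrix (Fin (2 * m)) (Fin (2 * m)) F) hconj₀

end Cfsg.Agent.Lib.Helper10.JT
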