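import Mathlib
import Cfsg.Agent.Lib.Helper10.JTA
import Cfsg.Agent.Lib.Helper10.JTB

/-!
# Rank parity for unipotent isometries of symmetric forms (odd characteristic);
realisable rank sequences for symmetric forms
-/

set_option autoImplicit false

namespace Cfsg.Agent.Lib.Helper10.JT

open Matrix Module

variable {F : Type*} [Field F]

/-- odd powers of the nilpotent part of a unipotent isometry of a symmetric form have even rank. -/
theorem even_rank_pow_of_symm {ι : Type*} [Fintype ι] [DecidableEq ι] (h2 : (2 : F) ≠ 0)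
    (A S : Matrix ι ι F) (hsym : Sᵀ = S) (hu : IsUnit S.det) (hinv : Aᵀ * S * A = S)
    (hnil : ∃ e, (A - 1) ^ e = 0) (k : ℕ) (hk : Odd k) :
    Even (((A - 1) ^ k).rank) := by
  have hSS : S * S⁻¹ = 1 := Matrix.mul_nonsing_inv S hu
  have hSS' : S⁻¹ * S = 1 := Matrix.nonsing_inv_mul S hu
  obtain ⟨Ai, hAi⟩ : ∃ Ai : Matrix ι ι F, Ai = S⁻¹ * Aᵀ * S := ⟨_, rfl⟩
  have hAiA : Ai * A = 1 := by
    rw [hAi, mul_assoc, mul_assoc, ← mul_assoc Aᵀ, hinv, hSS']
  have hAAi : A * Ai = 1 := mul_eq_one_comm.mp hAiA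
  obtain ⟨N, hN⟩ : ∃ N : Matrix ι ι F, N = A - 1 := ⟨_, rfl⟩
  rw [← hN] at hnil ⊢
  have hSAi : S * Ai = Aᵀ * S := by
    rw [hAi, ← mul_assoc, ← mul_assoc, hSS, one_mul]
  have hAiT : Aiᵀ * Aᵀ = 1 := by
    rw [← Matrix.transpose_mul, hAAi, Matrix.transpose_one]
  have hSA : S * A = Aiᵀ * S := by
    calc S * A = (Aiᵀ * Aᵀ) * S * A := by rw [hAiT, one_mul]
      _ = Aiᵀ * (Aᵀ * S * A) := by simp only [mul_assoc]
      _ = Aiᵀ * S := by rw [hinv]
  obtain ⟨Y, hY⟩ : ∃ Y : Matrix ι ι F, Y = A - Ai := ⟨_, rfl⟩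
  have hYS : Yᵀ * S = -(S * Y) := by
    rw [hY, Matrix.transpose_sub, sub_mul, mul_sub, ← hSAi, ← hSA]
    abel
  have hYk : ∀ j : ℕ, (Yᵀ) ^ j * S = (-1 : F) ^ j • (S * Y ^ j) := by
    intro j
    induction j with
    | zero => rw [pow_zero, pow_zero, pow_zero, one_mul, mul_one, one_smul]
    | succ j ih =>
      rw [pow_succ, mul_assoc, hYS, mul_neg, ← mul_assoc, ih, pow_succ, pow_succ, ← mul_assoc,
        Matrix.smul_mul, mul_neg_one, neg_smul, mul_assoc]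
  obtain ⟨M, hM⟩ : ∃ M : Matrix ι ι F, M = S * Y ^ k := ⟨_, rfl⟩
  have hMT : Mᵀ = -M := by
    rw [hM, Matrix.transpose_mul, Matrix.transpose_pow, hsym, hYk, hk.neg_one_pow, neg_one_smul]
  have hMalt : ∀ x : ι → F, x ⬝ᵥ M *ᵥ x = 0 := by
    intro x
    have h3 : x ⬝ᵥ M *ᵥ x = -(x ⬝ᵥ M *ᵥ x) := by
      calc x ⬝ᵥ M *ᵥ x = (M *ᵥ x) ⬝ᵥ x := dotProduct_comm _ _
        _ = (x ᵥ* Mᵀ) ⬝ᵥ x := by rw [Matrix.vecMul_transpose]
        _ = x ⬝ᵥ Mᵀ *ᵥ x := by rw [Matrix.dotProduct_mulVec]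
        _ = -(x ⬝ᵥ M *ᵥ x) := by rw [hMT, Matrix.neg_mulVec, dotProduct_neg]
    have h4 : (2 : F) * (x ⬝ᵥ M *ᵥ x) = 0 := by
      rw [two_mul]
      nth_rewrite 1 [h3]
      exact neg_add_cancel _
    exact (mul_eq_zero.1 h4).resolve_left h2
  have hev := even_rank_of_alt M hMalt
  -- Y = N * W with W invertible
  obtain ⟨W, hW⟩ : ∃ W : Matrix ι ι F, W = Ai * (A + 1) := ⟨_, rfl⟩
  have hYNW : Y = N * W := by
    have e1 : (A - 1) * Ai = 1 - Ai := by rw [sub_mul, one_mul, hAAi]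
    rw [hY, hN, hW, ← mul_assoc, e1, sub_mul, one_mul, mul_add, mul_one, hAiA]
    abel
  have hcNA : Commute N A := by
    rw [hN]
    exact (Commute.refl A).sub_left (Commute.one_left A)
  have hcNAi : Commute N Ai := by
    show N * Ai = Ai * N
    rw [hN, sub_mul, mul_sub, hAAi, hAiA, one_mul, mul_one]
  have hcNW : Commute N W := by
    rw [hW]
    exact hcNAi.mul_right (hcNA.add_right (Commute.one_right N))
  have hdetW : IsUnit W.det := by
    rw [hW, Matrix.det_mul]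
    apply (Matrix.isUnit_det_of_right_inverse hAiA).mul
    rw [← Matrix.isUnit_iff_isUnit_det]
    obtain ⟨e, he⟩ := hnil
    have hnilN : IsNilpotent N := ⟨e, he⟩
    have hu2 : IsUnit (algebraMap F (Matrix ι ι F) 2) := (IsUnit.mk0 (2 : F) h2).map _
    have h3 := hnilN.isUnit_add_left_of_commute hu2 (Algebra.commute_algebraMap_right 2 N)
    have h4 : algebraMap F (Matrix ι ι F) 2 + N = A + 1 := by
      rw [map_ofNat, hN, ← one_add_one_eq_two]
      abel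
    rw [h4] at h3
    exact h3
  have hdet : IsUnit (W ^ k).det := by
    rw [Matrix.det_pow]
    exact hdetW.pow k
  rw [hM, Matrix.rank_mul_eq_right_of_isUnit_det _ _ hu, hYNW, hcNW.mul_pow,
    Matrix.rank_mul_eq_left_of_isUnit_det _ _ hdet] at hev
  exact hev

end Cfsg.Agent.Lib.Helper10.JT
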