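import Mathlib
import Cfsg.Agent.Lib.Helper10.JTE

/-!
# Realisable rank sequences of unipotent isometries of symmetric forms
-/

set_option autoImplicit false

namespace Cfsg.Agent.Lib.Helper10.JT

open Matrix Module Cfsg.Agent.Lib.Helper24 Cfsg.Agent.Lib.Helper10.SpReg

variable {F : Type*} [Field F]

/-- realisable rank sequences for symmetric forms. -/
def RealO (F : Type*) [Field F] (ρ : ℕ → ℕ) : Prop :=
  ∃ (ι : Type) (_ : Fintype ι) (_ : DecidableEq ι) (A S : Matrix ι ι F),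
    Sᵀ = S ∧ IsUnit S.det ∧ Aᵀ * S * A = S ∧
      (∃ e, (A - 1) ^ e = 0) ∧ ∀ p, ((A - 1) ^ p).rank = ρ p

theorem RealO.zero : RealO F (fun _ => 0) := by
  refine ⟨Empty, inferInstance, inferInstance, 0, 0, ?_, ?_, ?_, ⟨0, ?_⟩, ?_⟩
  · exact Subsingleton.elim _ _
  · rw [Matrix.det_isEmpty]
    exact isUnit_one
  · exact Subsingleton.elim _ _
  · exact Subsingleton.elim _ _
  · intro p
    have h := Matrix.rank_le_card_width (((0 : Matrix Empty Empty F) - 1) ^ p)
    rw [Fintype.card_eq_zero] at h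
    show (((0 : Matrix Empty Empty F) - 1) ^ p).rank = 0
    omega

theorem RealO.add {ρ₁ ρ₂ : ℕ → ℕ} (h₁ : RealO F ρ₁) (h₂ : RealO F ρ₂) :
    RealO F (fun p => ρ₁ p + ρ₂ p) := by
  obtain ⟨ι₁, _, _, A₁, S₁, ha₁, hu₁, hi₁, ⟨e₁, hn₁⟩, hr₁⟩ := h₁
  obtain ⟨ι₂, _, _, A₂, S₂, ha₂, hu₂, hi₂, ⟨e₂, hn₂⟩, hr₂⟩ := h₂
  refine ⟨ι₁ ⊕ ι₂, inferInstance, inferInstance, Matrix.fromBlocks A₁ 0 0 A₂,
    Matrix.fromBlocks S₁ 0 0 S₂, ?_, ?_, ?_, ⟨e₁ + e₂, ?_⟩, ?_⟩
  · rw [Matrix.fromBlocks_transpose, ha₁, ha₂, Matrix.transpose_zero, Matrix.transpose_zero]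
  · rw [Matrix.det_fromBlocks_zero₁₂]
    exact hu₁.mul hu₂
  · rw [Matrix.fromBlocks_transpose, Matrix.fromBlocks_multiply, Matrix.fromBlocks_multiply]
    simp only [Matrix.zero_mul, Matrix.mul_zero, add_zero, zero_add, Matrix.transpose_zero, hi₁, hi₂]
  · rw [fromBlocks_diag_sub_one, fromBlocks_diag_pow, pow_add, hn₁, zero_mul, pow_add, hn₂, mul_zero]
    exact Matrix.fromBlocks_zero
  · intro p
    rw [fromBlocks_diag_sub_one, fromBlocks_diag_pow, rank_fromBlocks_diag, hr₁, hr₂]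

theorem RealO.congr {ρ₁ ρ₂ : ℕ → ℕ} (h₁ : RealO F ρ₁) (h : ∀ p, ρ₁ p = ρ₂ p) : RealO F ρ₂ := by
  have : ρ₁ = ρ₂ := funext h
  rw [← this]
  exact h₁

theorem RealO.nsmul {ρ : ℕ → ℕ} (h : RealO F ρ) (c : ℕ) : RealO F (fun p => c * ρ p) := by
  induction c with
  | zero => exact RealO.zero.congr (fun p => by rw [zero_mul])
  | succ c ih => exact (ih.add h).congr (fun p => by ring)

theorem RealO.sum_range (ρ : ℕ → ℕ → ℕ) (B : ℕ) (h : ∀ j, j < B → RealO F (ρ j)) :
    RealO F (fun p => ∑ j ∈ Finset.range B, ρ j p) := by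
  induction B with
  | zero => exact RealO.zero.congr (fun p => by rw [Finset.range_zero, Finset.sum_empty])
  | succ B ih =>
    have h1 := ih (fun j hj => h j (by omega))
    exact (h1.add (h B (by omega))).congr (fun p => by rw [Finset.sum_range_succ])

/-- a pair of Jordan blocks of the same size, for the hyperbolic symmetric form. -/
theorem RealO.pair_block (d : ℕ) (hd : 1 ≤ d) : RealO F (fun p => 2 * (d - p)) := by
  obtain ⟨Q, h1, h2⟩ := exists_Q (F := F) d
  obtain ⟨P, hP⟩ : ∃ P : Matrix (Fin d) (Fin d) F, P = RegUnip.Jm d := ⟨_, rfl⟩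
  have hdd : (Q - 1) ^ d = 0 := Q_sub_one_pow_self d Q h1 h2
  have hQr : (Q - 1).rank = d - 1 := by
    have h3 := Jm_transpose_mul d Q h1
    have hdet : IsUnit ((RegUnip.Jm d : Matrix (Fin d) (Fin d) F)ᵀ).det := by
      rw [Matrix.det_transpose, RegUnip.det_Jm]
      exact isUnit_one
    rw [← Matrix.rank_mul_eq_right_of_isUnit_det _ _ hdet, h3, rank_neg',
      Matrix.rank_transpose, RegUnip.rank_N0 d hd]
  rw [← hP] at h1 h2
  have hQP : Qᵀ * P = 1 := by
    have := congrArg Matrix.transpose h1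
    rw [Matrix.transpose_mul, Matrix.transpose_transpose, Matrix.transpose_one] at this
    exact this
  have hSS : (Matrix.fromBlocks (0 : Matrix (Fin d) (Fin d) F) (1 : Matrix (Fin d) (Fin d) F)
      (1 : Matrix (Fin d) (Fin d) F) (0 : Matrix (Fin d) (Fin d) F)) *
      (Matrix.fromBlocks (0 : Matrix (Fin d) (Fin d) F) (1 : Matrix (Fin d) (Fin d) F)
      (1 : Matrix (Fin d) (Fin d) F) (0 : Matrix (Fin d) (Fin d) F)) = 1 := by
    rw [Matrix.fromBlocks_multiply]
    simp only [Matrix.zero_mul, Matrix.mul_zero, Matrix.mul_one, add_zero, zero_add]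
    exact Matrix.fromBlocks_one
  refine ⟨Fin d ⊕ Fin d, inferInstance, inferInstance, Matrix.fromBlocks P 0 0 Q,
    Matrix.fromBlocks 0 1 1 0, ?_, Matrix.isUnit_det_of_left_inverse hSS, ?_, ⟨d, ?_⟩, ?_⟩
  · rw [Matrix.fromBlocks_transpose, Matrix.transpose_zero, Matrix.transpose_one]
  · rw [Matrix.fromBlocks_transpose, Matrix.fromBlocks_multiply, Matrix.fromBlocks_multiply,
      Matrix.fromBlocks_inj]
    refine ⟨?_, ?_, ?_, ?_⟩
    · simp only [Matrix.mul_zero, Matrix.mul_one, Matrix.transpose_zero, Matrix.zero_mul,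
        add_zero]
    · simp only [Matrix.mul_zero, Matrix.mul_one, zero_add, add_zero, h1, Matrix.transpose_zero,
        Matrix.zero_mul]
    · simp only [Matrix.mul_zero, Matrix.mul_one, zero_add, Matrix.transpose_zero, Matrix.zero_mul,
        add_zero, hQP]
    · simp only [Matrix.mul_zero, Matrix.transpose_zero, Matrix.zero_mul, add_zero]
  · rw [fromBlocks_diag_sub_one, fromBlocks_diag_pow, hP, Jm_sub_one, RegUnip.N0_pow_self, hdd]
    exact Matrix.fromBlocks_zero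
  · intro p
    rw [fromBlocks_diag_sub_one, fromBlocks_diag_pow, rank_fromBlocks_diag, hP, Jm_sub_one,
      rank_pow_of_regular _ (Fintype.card_fin d) (RegUnip.N0_pow_self d) (RegUnip.rank_N0 d hd) hd p,
      rank_pow_of_regular _ (Fintype.card_fin d) hdd hQr hd p]
    ring

end Cfsg.Agent.Lib.Helper10.JT
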