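import Mathlib
import Cfsg.Agent.Lib.Helper10.JTK

/-!
# An odd Jordan block in an orthogonal group (odd characteristic): Cayley transform
-/

set_option autoImplicit false

namespace Cfsg.Agent.Lib.Helper10.JT

open Matrix Module Cfsg.Agent.Lib.Helper24 Cfsg.Agent.Lib.Helper10.SpReg

variable {F : Type*} [Field F]

/-- the signed antidiagonal matrix. -/
def XA (d : ℕ) (F : Type*) [Field F] : Matrix (Fin d) (Fin d) F :=
  Matrix.of fun i j => if i.val + j.val + 1 = d then (-1) ^ i.val else 0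

theorem XA_apply (d : ℕ) (i j : Fin d) :
    XA d F i j = if i.val + j.val + 1 = d then (-1) ^ i.val else 0 := rfl

theorem neg_one_pow_eq_of_even {a b : ℕ} (h : Even (a + b)) : ((-1 : F)) ^ a = (-1) ^ b := by
  have h1 : ((-1 : F)) ^ a * (-1) ^ b = 1 := by rw [← pow_add, h.neg_one_pow]
  have h2 : ((-1 : F)) ^ b * (-1) ^ b = 1 := by rw [← pow_add, (Even.add_self b).neg_one_pow]
  calc ((-1 : F)) ^ a = (-1) ^ a * ((-1) ^ b * (-1) ^ b) := by rw [h2, mul_one]
    _ = (-1) ^ b := by rw [← mul_assoc, h1, one_mul]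

theorem neg_one_pow_eq_neg_of_odd {a b : ℕ} (h : Odd (a + b)) : ((-1 : F)) ^ a = -(-1) ^ b := by
  have h1 : ((-1 : F)) ^ a * (-1) ^ b = -1 := by rw [← pow_add, h.neg_one_pow]
  have h2 : ((-1 : F)) ^ b * (-1) ^ b = 1 := by rw [← pow_add, (Even.add_self b).neg_one_pow]
  calc ((-1 : F)) ^ a = (-1) ^ a * ((-1) ^ b * (-1) ^ b) := by rw [h2, mul_one]
    _ = -(-1) ^ b := by rw [← mul_assoc, h1, neg_one_mul]

theorem XA_transpose (d : ℕ) (hd : Odd d) : (XA d F)ᵀ = XA d F := by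
  ext i j
  rw [Matrix.transpose_apply, XA_apply, XA_apply]
  by_cases h : i.val + j.val + 1 = d
  · rw [if_pos h, if_pos (by omega)]
    apply neg_one_pow_eq_of_even
    obtain ⟨c, hc⟩ := hd
    exact ⟨c, by omega⟩
  · rw [if_neg h, if_neg (by omega)]

theorem XA_mul_self (d : ℕ) (hd : Odd d) : XA d F * XA d F = 1 := by
  ext i j
  have hi := i.isLt
  rw [Matrix.mul_apply, Finset.sum_eq_single (⟨d - 1 - i.val, by omega⟩ : Fin d)]
  · rw [XA_apply, XA_apply, if_pos (by simp; omega), Matrix.one_apply]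
    by_cases hij : i = j
    · subst hij
      rw [if_pos (by simp; omega), if_pos rfl, ← pow_add]
      apply Even.neg_one_pow
      obtain ⟨c, hc⟩ := hd
      exact ⟨c, by simp; omega⟩
    · rw [if_neg, if_neg hij, mul_zero]
      intro h
      apply hij
      apply Fin.ext
      simp at h
      omega
  · intro l _ hl
    rw [XA_apply, if_neg, zero_mul]
    intro h
    apply hl
    apply Fin.ext
    simp
    omega
  · intro h
    exact absurd (Finset.mem_univ _) h

theorem XA_N0_antisymm (d : ℕ) (hd : Odd d) :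
    (XA d F * RegUnip.N0 d)ᵀ = -(XA d F * RegUnip.N0 d) := by
  ext i j
  rw [Matrix.transpose_apply, Matrix.neg_apply, RegUnip.mul_N0_apply, RegUnip.mul_N0_apply]
  have hi := i.isLt
  have hj := j.isLt
  by_cases h : i.val + j.val + 2 = d
  · rw [dif_pos (by omega), dif_pos (by omega), XA_apply, XA_apply, if_pos (by simp; omega),
      if_pos (by simp; omega)]
    apply neg_one_pow_eq_neg_of_odd
    obtain ⟨c, hc⟩ := hd
    exact ⟨c - 1, by omega⟩
  · have e1 : (if h' : i.val + 1 < d then XA d F j ⟨i.val + 1, h'⟩ else 0) = 0 := by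
      split_ifs with h'
      · rw [XA_apply, if_neg (by simp; omega)]
      · rfl
    have e2 : (if h' : j.val + 1 < d then XA d F i ⟨j.val + 1, h'⟩ else 0) = 0 := by
      split_ifs with h'
      · rw [XA_apply, if_neg (by simp; omega)]
      · rfl
    rw [e1, e2, neg_zero]

theorem N0T_XA (d : ℕ) (hd : Odd d) :
    (RegUnip.N0 d : Matrix (Fin d) (Fin d) F)ᵀ * XA d F = -(XA d F * RegUnip.N0 d) := by
  rw [← XA_N0_antisymm d hd, Matrix.transpose_mul, XA_transpose d hd]

/-- an odd Jordan block in an orthogonal group. -/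
theorem RealO.odd_block (h2 : (2 : F) ≠ 0) (d : ℕ) (hd : Odd d) : RealO F (fun p => d - p) := by
  have hd1 : 1 ≤ d := by
    obtain ⟨c, hc⟩ := hd
    omega
  obtain ⟨N, hN⟩ : ∃ N : Matrix (Fin d) (Fin d) F, N = RegUnip.N0 d := ⟨_, rfl⟩
  obtain ⟨X, hX⟩ : ∃ X : Matrix (Fin d) (Fin d) F, X = XA d F := ⟨_, rfl⟩
  have hNpow : N ^ d = 0 := by rw [hN]; exact RegUnip.N0_pow_self d
  have hNrank : N.rank = d - 1 := by rw [hN]; exact RegUnip.rank_N0 d hd1
  have hNX : Nᵀ * X = -(X * N) := by rw [hN, hX]; exact N0T_XA d hd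
  have hXT : Xᵀ = X := by rw [hX]; exact XA_transpose d hd
  have hXX : X * X = 1 := by rw [hX]; exact XA_mul_self d hd
  obtain ⟨h, hh⟩ : ∃ h : F, h = 2⁻¹ := ⟨_, rfl⟩
  have hh2 : h + h = 1 := by
    rw [hh, ← two_mul, mul_inv_cancel₀ h2]
  obtain ⟨P, hP⟩ : ∃ P : Matrix (Fin d) (Fin d) F, P = 1 + h • N := ⟨_, rfl⟩
  obtain ⟨Q, hQ⟩ : ∃ Q : Matrix (Fin d) (Fin d) F, Q = 1 - h • N := ⟨_, rfl⟩
  have hPX : Pᵀ * X = X * Q := by
    rw [hP, hQ, Matrix.transpose_add, Matrix.transpose_one, Matrix.transpose_smul, add_mul, one_mul,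
      Matrix.smul_mul, hNX, mul_sub, mul_one, Matrix.mul_smul, smul_neg, sub_eq_add_neg]
  have hQX : Qᵀ * X = X * P := by
    rw [hP, hQ, Matrix.transpose_sub, Matrix.transpose_one, Matrix.transpose_smul, sub_mul, one_mul,
      Matrix.smul_mul, hNX, mul_add, mul_one, Matrix.mul_smul, smul_neg, sub_neg_eq_add]
  have hnil : IsNilpotent (h • N) := ⟨d, by rw [smul_pow, hNpow, smul_zero]⟩
  have hQu : IsUnit Q := by rw [hQ]; exact hnil.isUnit_one_sub
  obtain ⟨Qu, hQu'⟩ := hQu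
  obtain ⟨Qi, hQi⟩ : ∃ Qi : Matrix (Fin d) (Fin d) F, Qi = ((Qu⁻¹ : _ˣ) : Matrix _ _ F) :=
    ⟨_, rfl⟩
  have hQQi : Q * Qi = 1 := by rw [← hQu', hQi]; exact Units.mul_inv Qu
  have hQiQ : Qi * Q = 1 := by rw [← hQu', hQi]; exact Units.inv_mul Qu
  have hPQ : P * Q = Q * P := by
    rw [hP, hQ]
    have c1 : Commute (1 + h • N) (1 - h • N) := by
      apply Commute.add_left
      · exact Commute.one_left _
      · exact (Commute.one_right (h • N)).sub_right (Commute.refl (h • N))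
    exact c1
  have hNQ : N * Q = Q * N := by
    rw [hQ]
    have c1 : Commute N (1 - h • N) :=
      (Commute.one_right N).sub_right (Commute.smul_right (Commute.refl N) h)
    exact c1
  have hQiN : Qi * N = N * Qi := by
    calc Qi * N = Qi * (N * Q) * Qi := by rw [mul_assoc, mul_assoc, hQQi, mul_one]
      _ = Qi * (Q * N) * Qi := by rw [hNQ]
      _ = N * Qi := by rw [← mul_assoc, hQiQ, one_mul]
  obtain ⟨U, hU⟩ : ∃ U : Matrix (Fin d) (Fin d) F, U = P * Qi := ⟨_, rfl⟩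
  have hQiT : Qiᵀ * Qᵀ = 1 := by rw [← Matrix.transpose_mul, hQQi, Matrix.transpose_one]
  have hXeq : X = Qiᵀ * X * P := by
    calc X = (Qiᵀ * Qᵀ) * X := by rw [hQiT, one_mul]
      _ = Qiᵀ * (Qᵀ * X) := by rw [mul_assoc]
      _ = Qiᵀ * X * P := by rw [hQX, mul_assoc]
  have hUinv : Uᵀ * X * U = X := by
    rw [hU, Matrix.transpose_mul]
    calc Qiᵀ * Pᵀ * X * (P * Qi) = Qiᵀ * (Pᵀ * X) * P * Qi := by simp only [mul_assoc]
      _ = Qiᵀ * X * (Q * P) * Qi := by rw [hPX]; simp only [mul_assoc]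
      _ = Qiᵀ * X * P * (Q * Qi) := by rw [← hPQ]; simp only [mul_assoc]
      _ = X := by rw [hQQi, mul_one, ← hXeq]
  have hU1 : U - 1 = N * Qi := by
    have : P - Q = N := by
      rw [hP, hQ]
      have : (1 + h • N) - (1 - h • N) = (h + h) • N := by
        rw [add_smul]
        abel
      rw [this, hh2, one_smul]
    calc U - 1 = P * Qi - Q * Qi := by rw [hU, hQQi]
      _ = (P - Q) * Qi := by rw [sub_mul]
      _ = N * Qi := by rw [this]
  have hUpow : (U - 1) ^ d = 0 := by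
    rw [hU1, (show Commute N Qi from hQiN.symm).mul_pow, hNpow, zero_mul]
  have hUrank : (U - 1).rank = d - 1 := by
    rw [hU1, Matrix.rank_mul_eq_left_of_isUnit_det _ _ (by
      exact Matrix.isUnit_det_of_left_inverse hQQi), hNrank]
  refine ⟨Fin d, inferInstance, inferInstance, U, X, hXT, Matrix.isUnit_det_of_left_inverse hXX,
    hUinv, ⟨d, hUpow⟩, ?_⟩
  intro p
  exact rank_pow_of_regular _ (Fintype.card_fin d) hUpow hUrank hd1 p

end Cfsg.Agent.Lib.Helper10.JT
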