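import Mathlib
import Cfsg.Prelude
import Cfsg.Agent.Lib.Helper10.JTC
import Cfsg.Agent.Lib.Helper10.JTF
import Cfsg.Agent.Lib.Helper10.JTJ
import Cfsg.Agent.Lib.Helper10.JTL

/-!
# Unipotent Jordan types in orthogonal groups of odd characteristic
-/

set_option autoImplicit false

namespace Cfsg.Agent.Lib.Helper10.JT

open Matrix Module

variable {F : Type*} [Field F]

theorem nilpotent_of_isConj {ι : Type*} [Fintype ι] [DecidableEq ι] (U₁ U₂ : Matrix ι ι F)
    (h : IsConj U₁ U₂) (h₁ : ∃ e, (U₁ - 1) ^ e = 0) : ∃ e, (U₂ - 1) ^ e = 0 := by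
  obtain ⟨e, he⟩ := h₁
  refine ⟨e, ?_⟩
  have h1 := rank_pow_of_isConj U₁ U₂ h e
  rw [he, Matrix.rank_zero] at h1
  by_contra hne
  have hpos : 0 < ((U₂ - 1) ^ e).rank := by
    rw [Nat.pos_iff_ne_zero]
    intro h0
    apply hne
    have h2 : LinearMap.range ((U₂ - 1) ^ e).mulVecLin = ⊥ := by
      apply Submodule.finrank_eq_zero.1
      exact h0
    ext i j
    have h3 : ((U₂ - 1) ^ e).mulVecLin (Pi.single j 1) ∈ LinearMap.range ((U₂ - 1) ^ e).mulVecLin :=
      ⟨_, rfl⟩
    rw [h2, Submodule.mem_bot, Matrix.mulVecLin_apply, Matrix.mulVec_single_one] at h3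
    exact congrFun h3 i
  omega

/-- the rank sequence of a Jordan type with even multiplicities of even parts is realisable. -/
theorem realO_of_type (h2 : (2 : F) ≠ 0) {t : ℕ} (d : Fin t → ℕ)
    (hpar : ∀ j : ℕ, Even j → 0 < j → Even (Finset.univ.filter (fun k : Fin t => d k = j)).card) :
    RealO F (fun p => ∑ k, (d k - p)) := by
  obtain ⟨B, hB⟩ : ∃ B, ∀ k, d k < B := by
    refine ⟨(∑ k, d k) + 1, fun k => ?_⟩
    have hle : d k ≤ ∑ k, d k := Finset.single_le_sum (f := d) (fun i _ => Nat.zero_le _)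
      (Finset.mem_univ k)
    omega
  have h1 : RealO F (fun p => ∑ j ∈ Finset.range B,
      (Finset.univ.filter (fun k : Fin t => d k = j)).card * (j - p)) := by
    apply RealO.sum_range
    intro j _
    rcases Nat.even_or_odd j with hj | hj
    · rcases Nat.eq_zero_or_pos j with rfl | hpos
      · exact RealO.zero.congr (fun p => by simp)
      · obtain ⟨c, hc⟩ := hpar j hj hpos
        have h3 := (RealO.pair_block (F := F) j hpos).nsmul c
        exact h3.congr (fun p => by rw [hc]; ring)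
    · have h3 := (RealO.odd_block h2 j hj).nsmul
        (Finset.univ.filter (fun k : Fin t => d k = j)).card
      exact h3
  exact h1.congr (fun p => (rank_seq_fiberwise d B hB p).symm)

theorem o_jordan_iff [Fintype F] (h2 : (2 : F) ≠ 0) {n t : ℕ} (d : Fin t → ℕ) (hd : ∀ k, 1 ≤ d k)
    (hsum : ∑ k, d k = n) :
    (∃ Q : QuadraticForm F (Fin n → F), (QuadraticMap.polarBilin Q).Nondegenerate ∧
      ∃ e : ((k : Fin t) × Fin (d k)) ≃ Fin n, ∃ A : ↥(Cfsg.isometryGroup F ⇑Q),
        IsConj (Matrix.reindex e e (Cfsg.jordanTypeMatrix d F))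
          ((A : Matrix.GeneralLinearGroup (Fin n) F) : Matrix (Fin n) (Fin n) F)) ↔
      ∀ j : ℕ, Even j → 0 < j → Even (Finset.univ.filter (fun k : Fin t => d k = j)).card := by
  classical
  have hreidx : ∀ (e : ((k : Fin t) × Fin (d k)) ≃ Fin n) (p : ℕ),
      ((Matrix.reindex e e (Cfsg.jordanTypeMatrix d F) - 1) ^ p).rank = ∑ k, (d k - p) := by
    intro e p
    have h1 : (Matrix.reindex e e (Cfsg.jordanTypeMatrix d F) - 1) ^ p =
        Matrix.reindex e e ((Cfsg.jordanTypeMatrix d F - 1) ^ p) := by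
      have h2 : ∀ M, Matrix.reindex e e M = Matrix.reindexAlgEquiv F F e M := fun M => rfl
      rw [h2, h2, map_pow, map_sub, map_one]
    rw [h1, Matrix.rank_reindex, rank_jordanType_pow d hd p]
  have hreidxnil : ∀ (e : ((k : Fin t) × Fin (d k)) ≃ Fin n),
      ∃ c, (Matrix.reindex e e (Cfsg.jordanTypeMatrix d F) - 1) ^ c = 0 := by
    intro e
    obtain ⟨c, hc⟩ := jordanType_nilpotent (F := F) d
    refine ⟨c, ?_⟩
    have h2 : ∀ M, Matrix.reindex e e M = Matrix.reindexAlgEquiv F F e M := fun M => rfl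
    rw [h2, ← map_one (Matrix.reindexAlgEquiv F F e), ← map_sub, ← map_pow, hc, map_zero]
  constructor
  · rintro ⟨Q, hnd, e, A, hconj⟩ j hj hjpos
    obtain ⟨Am, hAm⟩ : ∃ Am : Matrix (Fin n) (Fin n) F,
        Am = ((A : Matrix.GeneralLinearGroup (Fin n) F) : Matrix (Fin n) (Fin n) F) := ⟨_, rfl⟩
    rw [← hAm] at hconj
    have hQA : ∀ v, Q (Am *ᵥ v) = Q v := by
      intro v
      rw [hAm]
      exact A.2 v v
    let B : LinearMap.BilinForm F (Fin n → F) := QuadraticMap.polarBilin Q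
    obtain ⟨S, hS⟩ : ∃ S : Matrix (Fin n) (Fin n) F, S = LinearMap.BilinForm.toMatrix' B :=
      ⟨_, rfl⟩
    have hSB : ∀ x y, x ⬝ᵥ S *ᵥ y = QuadraticMap.polar (⇑Q) x y := by
      intro x y
      rw [← Matrix.toBilin'_apply', hS, Matrix.toBilin'_toMatrix']
      rfl
    have hsym : Sᵀ = S := by
      apply Matrix.toBilin'.injective
      apply LinearMap.ext₂
      intro x y
      rw [Matrix.toBilin'_apply', Matrix.toBilin'_apply', Matrix.mulVec_transpose, dotProduct_comm,
        ← Matrix.dotProduct_mulVec, hSB, hSB, QuadraticMap.polar_comm]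
    have hu : IsUnit S.det := by
      have h1 : S.Nondegenerate := by
        rw [hS]
        exact LinearMap.BilinForm.nondegenerate_toMatrix'_iff.2 hnd
      exact (Matrix.nondegenerate_iff_det_ne_zero.1 h1).isUnit
    have hinv : Amᵀ * S * Am = S := by
      apply Matrix.toBilin'.injective
      apply LinearMap.ext₂
      intro x y
      rw [Matrix.toBilin'_apply', Matrix.toBilin'_apply', ← Matrix.mulVec_mulVec,
        ← Matrix.mulVec_mulVec, Matrix.dotProduct_mulVec, Matrix.vecMul_transpose, hSB, hSB,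
        QuadraticMap.polar, QuadraticMap.polar, ← Matrix.mulVec_add, hQA, hQA, hQA]
    have hnil : ∃ c, (Am - 1) ^ c = 0 := nilpotent_of_isConj _ _ hconj (hreidxnil e)
    have hrk : ∀ p, ((Am - 1) ^ p).rank = ∑ k, (d k - p) := by
      intro p
      rw [← rank_pow_of_isConj _ _ hconj p, hreidx]
    have hev : ∀ k, Odd k → Even (∑ i, (d i - k)) := by
      intro k hk
      rw [← hrk]
      exact even_rank_pow_of_symm h2 Am S hsym hu hinv hnil k hk
    obtain ⟨i, hi⟩ := hj
    apply even_mult_of_even_rank d j (by omega)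
    · exact hev (j - 1) ⟨i - 1, by omega⟩
    · exact hev (j + 1) ⟨i, by omega⟩
  · intro hpar
    obtain ⟨ι, _, _, A, S, hsym, hu, hinv, hnil, hrank⟩ := realO_of_type h2 d hpar
    have hcard : Fintype.card ι = n := by
      have h0 := hrank 0
      rw [pow_zero, Matrix.rank_one] at h0
      simp only [Nat.sub_zero] at h0
      omega
    let g : ι ≃ Fin n := Fintype.equivFinOfCardEq hcard
    let ψ := Matrix.reindexAlgEquiv F F g
    have hψ : ∀ M, ψ M = Matrix.reindex g g M := fun M => rfl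
    have hψT : ∀ M, (ψ M)ᵀ = ψ Mᵀ := by
      intro M
      rw [hψ, hψ, Matrix.transpose_reindex]
    obtain ⟨A', hA'⟩ : ∃ A' : Matrix (Fin n) (Fin n) F, A' = ψ A := ⟨_, rfl⟩
    obtain ⟨S', hS'⟩ : ∃ S' : Matrix (Fin n) (Fin n) F, S' = ψ S := ⟨_, rfl⟩
    have hsym' : S'ᵀ = S' := by rw [hS', hψT, hsym]
    have hu' : IsUnit S'.det := by
      rw [hS', hψ, Matrix.det_reindex_self]
      exact hu
    have hinv' : A'ᵀ * S' * A' = S' := by
      rw [hA', hS', hψT, ← map_mul, ← map_mul, hinv]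
    have hSS' : S'⁻¹ * S' = 1 := Matrix.nonsing_inv_mul S' hu'
    have hAiA : (S'⁻¹ * A'ᵀ * S') * A' = 1 := by
      rw [mul_assoc, mul_assoc, ← mul_assoc A'ᵀ, hinv', hSS']
    have hAAi : A' * (S'⁻¹ * A'ᵀ * S') = 1 := mul_eq_one_comm.mp hAiA
    let Q : QuadraticForm F (Fin n → F) := (Matrix.toBilin' S').toQuadraticMap
    have hQ : ∀ v, Q v = v ⬝ᵥ S' *ᵥ v := by
      intro v
      show (Matrix.toBilin' S').toQuadraticMap v = _
      rw [LinearMap.BilinMap.toQuadraticMap_apply, Matrix.toBilin'_apply']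
    have hflip : ∀ x y : Fin n → F, y ⬝ᵥ S' *ᵥ x = x ⬝ᵥ S' *ᵥ y := by
      intro x y
      rw [dotProduct_comm, ← Matrix.vecMul_transpose, hsym', ← Matrix.dotProduct_mulVec]
    have hpb : QuadraticMap.polarBilin Q = Matrix.toBilin' ((2 : F) • S') := by
      apply LinearMap.ext₂
      intro x y
      rw [QuadraticMap.polarBilin_apply_apply]
      show QuadraticMap.polar (⇑(Matrix.toBilin' S').toQuadraticMap) x y = _
      rw [LinearMap.BilinMap.polar_toQuadraticMap, Matrix.toBilin'_apply', Matrix.toBilin'_apply',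
        Matrix.toBilin'_apply', hflip x y, Matrix.smul_mulVec, dotProduct_smul, smul_eq_mul, two_mul]
    let gA : Matrix.GeneralLinearGroup (Fin n) F := ⟨A', S'⁻¹ * A'ᵀ * S', hAAi, hAiA⟩
    have hgA : gA ∈ Cfsg.isometryGroup F ⇑Q := by
      intro u v
      show Q (A' *ᵥ u) = Q u
      rw [hQ, hQ]
      have h5 : u ⬝ᵥ (A'ᵀ * S' * A') *ᵥ u = (A' *ᵥ u) ⬝ᵥ S' *ᵥ (A' *ᵥ u) := by
        rw [← Matrix.mulVec_mulVec, ← Matrix.mulVec_mulVec, Matrix.dotProduct_mulVec,
          Matrix.vecMul_transpose]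
      rw [← h5, hinv']
    have hcardσ : Fintype.card ((k : Fin t) × Fin (d k)) = Fintype.card (Fin n) := by
      rw [Fintype.card_sigma, Fintype.card_fin]
      simp only [Fintype.card_fin]
      exact hsum
    refine ⟨Q, ?_, Fintype.equivOfCardEq hcardσ, ⟨gA, hgA⟩, ?_⟩
    · rw [hpb]
      show (Matrix.toBilin' ((2 : F) • S')).Nondegenerate
      rw [Matrix.nondegenerate_toBilin'_iff, Matrix.nondegenerate_iff_det_ne_zero, Matrix.det_smul]
      exact mul_ne_zero (pow_ne_zero _ h2) hu'.ne_zero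
    · show IsConj (Matrix.reindex _ _ (Cfsg.jordanTypeMatrix d F)) A'
      apply isConj_of_rank_eq
      · exact hreidxnil _
      · obtain ⟨c, hc⟩ := hnil
        refine ⟨c, ?_⟩
        rw [hA', ← map_one ψ, ← map_sub, ← map_pow, hc, map_zero]
      · intro p
        rw [hreidx, hA', ← map_one ψ, ← map_sub, ← map_pow, hψ, Matrix.rank_reindex, hrank]

end Cfsg.Agent.Lib.Helper10.JT
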