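import Mathlib

/-!
Normal subgroups of multiply transitive permutation groups (Jordan's theorem), in an "ambient"
formulation: all groups are subgroups of `Equiv.Perm α`, and multiple transitivity is expressed
relative to a finite set `F` of points fixed pointwise (helper10).
-/

set_option autoImplicit false

namespace Cfsg.Agent.Lib.Helper10

open Equiv

variable {α : Type*} [Fintype α] [DecidableEq α]

/-- `K` is `i`-transitive on the complement of `F` (tuple form). -/
def FT (K : Subgroup (Perm α)) (F : Finset α) (i : ℕ) : Prop :=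
  ∀ x y : Fin i → α, Function.Injective x → Function.Injective y →
    (∀ r, x r ∉ F) → (∀ r, y r ∉ F) → ∃ g ∈ K, ∀ r, g (x r) = y r

/-- `K` fixes `F` pointwise. -/
def Fixes (K : Subgroup (Perm α)) (F : Finset α) : Prop := ∀ g ∈ K, ∀ f ∈ F, g f = f

theorem Fixes.notMem {K : Subgroup (Perm α)} {F : Finset α} (h : Fixes K F) {g : Perm α}
    (hg : g ∈ K) {z : α} (hz : z ∉ F) : g z ∉ F := by
  intro hmem
  have h1 := h g hg _ hmem
  exact hz (by rw [← g.injective h1]; exact hmem)

theorem Fixes.mono {K K' : Subgroup (Perm α)} {F : Finset α} (h : Fixes K F) (hle : K' ≤ K) :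
    Fixes K' F := fun g hg f hf => h g (hle hg) f hf

/-- there is a point outside a small finite set -/
theorem exists_notMem_of_card_lt (S : Finset α) (h : S.card < Fintype.card α) : ∃ z, z ∉ S := by
  by_contra hcon
  push Not at hcon
  have : S = Finset.univ := Finset.eq_univ_iff_forall.mpr hcon
  rw [this, Finset.card_univ] at h
  exact lt_irrefl _ h

theorem FT.mono_one {K : Subgroup (Perm α)} {F : Finset α} {i : ℕ} (h : FT K F (i + 1))
    (hcard : i + 1 + F.card ≤ Fintype.card α) : FT K F i := by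
  intro x y hx hy hxF hyF
  -- extra points
  have hx' : ∃ z, z ∉ F ∪ Finset.univ.image x := by
    apply exists_notMem_of_card_lt
    calc (F ∪ Finset.univ.image x).card ≤ F.card + (Finset.univ.image x).card :=
          Finset.card_union_le _ _
      _ ≤ F.card + i := by
          have : (Finset.univ.image x).card ≤ (Finset.univ : Finset (Fin i)).card :=
            Finset.card_image_le
          simp at this; omega
      _ < Fintype.card α := by omega
  have hy' : ∃ z, z ∉ F ∪ Finset.univ.image y := by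
    apply exists_notMem_of_card_lt
    calc (F ∪ Finset.univ.image y).card ≤ F.card + (Finset.univ.image y).card :=
          Finset.card_union_le _ _
      _ ≤ F.card + i := by
          have : (Finset.univ.image y).card ≤ (Finset.univ : Finset (Fin i)).card :=
            Finset.card_image_le
          simp at this; omega
      _ < Fintype.card α := by omega
  obtain ⟨x0, hx0⟩ := hx'
  obtain ⟨y0, hy0⟩ := hy'
  simp only [Finset.mem_union, Finset.mem_image, Finset.mem_univ, true_and, not_or, not_exists]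
    at hx0 hy0
  obtain ⟨g, hg, hgxy⟩ := h (Fin.cons x0 x) (Fin.cons y0 y)
    (by
      rw [Fin.cons_injective_iff]
      refine ⟨?_, hx⟩
      rintro ⟨r, hr⟩
      exact hx0.2 r hr)
    (by
      rw [Fin.cons_injective_iff]
      refine ⟨?_, hy⟩
      rintro ⟨r, hr⟩
      exact hy0.2 r hr)
    (by
      intro r
      refine Fin.cases ?_ (fun s => ?_) r
      · simpa using hx0.1
      · simpa using hxF s)
    (by
      intro r
      refine Fin.cases ?_ (fun s => ?_) r
      · simpa using hy0.1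
      · simpa using hyF s)
  refine ⟨g, hg, fun r => ?_⟩
  have := hgxy r.succ
  simpa using this

theorem FT.of_le {K : Subgroup (Perm α)} {F : Finset α} {i j : ℕ} (h : FT K F j) (hij : i ≤ j)
    (hcard : j + F.card ≤ Fintype.card α) : FT K F i := by
  induction j with
  | zero =>
    have : i = 0 := by omega
    subst this; exact h
  | succ j ih =>
    rcases Nat.eq_or_lt_of_le hij with rfl | hlt
    · exact h
    · exact ih (h.mono_one hcard) (by omega) (by omega)

theorem FT.one_apply {K : Subgroup (Perm α)} {F : Finset α} (h : FT K F 1) {b c : α}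
    (hb : b ∉ F) (hc : c ∉ F) : ∃ g ∈ K, g b = c := by
  obtain ⟨g, hg, hgxy⟩ := h ![b] ![c] (fun _ _ _ => Subsingleton.elim _ _)
    (fun _ _ _ => Subsingleton.elim _ _) (by intro r; fin_cases r; simpa using hb)
    (by intro r; fin_cases r; simpa using hc)
  exact ⟨g, hg, hgxy 0⟩

theorem FT.two_apply {K : Subgroup (Perm α)} {F : Finset α} (h : FT K F 2) {b c b' c' : α}
    (hb : b ∉ F) (hc : c ∉ F) (hb' : b' ∉ F) (hc' : c' ∉ F) (hbc : b ≠ c) (hbc' : b' ≠ c') :
    ∃ g ∈ K, g b = b' ∧ g c = c' := by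
  obtain ⟨g, hg, hgxy⟩ := h ![b, c] ![b', c']
    (by intro r s hrs; fin_cases r <;> fin_cases s <;> simp_all)
    (by intro r s hrs; fin_cases r <;> fin_cases s <;> simp_all)
    (by intro r; fin_cases r <;> simp_all)
    (by intro r; fin_cases r <;> simp_all)
  exact ⟨g, hg, hgxy 0, hgxy 1⟩

theorem FT.three_apply {K : Subgroup (Perm α)} {F : Finset α} (h : FT K F 3)
    {b c d b' c' d' : α}
    (hb : b ∉ F) (hc : c ∉ F) (hd : d ∉ F) (hb' : b' ∉ F) (hc' : c' ∉ F) (hd' : d' ∉ F)
    (hbc : b ≠ c) (hbd : b ≠ d) (hcd : c ≠ d) (hbc' : b' ≠ c') (hbd' : b' ≠ d') (hcd' : c' ≠ d') :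
    ∃ g ∈ K, g b = b' ∧ g c = c' ∧ g d = d' := by
  obtain ⟨g, hg, hgxy⟩ := h ![b, c, d] ![b', c', d']
    (by intro r s hrs; fin_cases r <;> fin_cases s <;> simp_all)
    (by intro r s hrs; fin_cases r <;> fin_cases s <;> simp_all)
    (by intro r; fin_cases r <;> simp_all)
    (by intro r; fin_cases r <;> simp_all)
  exact ⟨g, hg, hgxy 0, hgxy 1, hgxy 2⟩

/-- the stabilizer of a point, as a subgroup of `Perm α` -/
abbrev ptStab (a : α) : Subgroup (Perm α) := MulAction.stabilizer (Perm α) a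

theorem mem_ptStab {a : α} {g : Perm α} : g ∈ ptStab a ↔ g a = a := Iff.rfl

theorem Fixes.insert {K : Subgroup (Perm α)} {F : Finset α} (h : Fixes K F) (a : α) :
    Fixes (K ⊓ ptStab a) (insert a F) := by
  intro g hg f hf
  rcases Finset.mem_insert.mp hf with rfl | hf
  · exact hg.2
  · exact h g hg.1 f hf

/-- Passing to a point stabilizer lowers the transitivity degree by one. -/
theorem FT.stab {G : Subgroup (Perm α)} {F : Finset α} {i : ℕ} (h : FT G F (i + 1)) {a : α}
    (ha : a ∉ F) : FT (G ⊓ ptStab a) (insert a F) i := by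
  intro x y hx hy hxF hyF
  have hxa : ∀ r, x r ≠ a := fun r e => hxF r (e ▸ Finset.mem_insert_self _ _)
  have hya : ∀ r, y r ≠ a := fun r e => hyF r (e ▸ Finset.mem_insert_self _ _)
  obtain ⟨g, hg, hgxy⟩ := h (Fin.cons a x) (Fin.cons a y)
    (by
      rw [Fin.cons_injective_iff]
      refine ⟨?_, hx⟩
      rintro ⟨r, hr⟩
      exact hxa r hr)
    (by
      rw [Fin.cons_injective_iff]
      refine ⟨?_, hy⟩
      rintro ⟨r, hr⟩
      exact hya r hr)
    (by
      intro r
      refine Fin.cases ?_ (fun s => ?_) r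
      · simpa using ha
      · simpa using fun hmem => hxF s (Finset.mem_insert_of_mem hmem))
    (by
      intro r
      refine Fin.cases ?_ (fun s => ?_) r
      · simpa using ha
      · simpa using fun hmem => hyF s (Finset.mem_insert_of_mem hmem))
  refine ⟨g, ⟨hg, ?_⟩, fun r => ?_⟩
  · have := hgxy 0
    simpa using this
  · have := hgxy r.succ
    simpa using this

/-- Going up: transitivity plus `i`-transitivity of a point stabilizer gives `(i+1)`-transitivity. -/
theorem FT.of_stab {N : Subgroup (Perm α)} {F : Finset α} {i : ℕ} (hfix : Fixes N F)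
    (htr : FT N F 1) {a : α} (ha : a ∉ F) (h : FT (N ⊓ ptStab a) (insert a F) i) :
    FT N F (i + 1) := by
  intro x y hx hy hxF hyF
  obtain ⟨g₁, hg₁, h1⟩ := htr.one_apply (hxF 0) ha
  obtain ⟨g₂, hg₂, h2⟩ := htr.one_apply (hyF 0) ha
  have key : ∀ (z : Fin (i + 1) → α) (g : Perm α), g ∈ N → Function.Injective z →
      (∀ r, z r ∉ F) → g (z 0) = a →
      (Function.Injective (fun r : Fin i => g (z r.succ)) ∧
        ∀ r : Fin i, g (z r.succ) ∉ insert a F) := by
    intro z g hg hz hzF hg0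
    refine ⟨fun r s hrs => Fin.succ_injective _ (hz (g.injective hrs)), fun r hmem => ?_⟩
    rcases Finset.mem_insert.mp hmem with h3 | h3
    · rw [← hg0] at h3
      exact Fin.succ_ne_zero r (hz (g.injective h3))
    · exact hfix.notMem hg (hzF r.succ) h3
  obtain ⟨hx1, hx2⟩ := key x g₁ hg₁ hx hxF h1
  obtain ⟨hy1, hy2⟩ := key y g₂ hg₂ hy hyF h2
  obtain ⟨g, hg, hgxy⟩ := h _ _ hx1 hy1 hx2 hy2
  refine ⟨g₂⁻¹ * g * g₁, N.mul_mem (N.mul_mem (N.inv_mem hg₂) hg.1) hg₁, fun r => ?_⟩
  refine Fin.cases ?_ (fun s => ?_) r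
  · simp only [Perm.mul_apply, h1]
    rw [show g a = a from hg.2, Perm.inv_eq_iff_eq]
    exact h2.symm
  · have := hgxy s
    simp only [Perm.mul_apply]
    rw [this]
    simp

/-- A nontrivial subgroup normalized by a group which is doubly transitive off `F` is transitive
off `F`. -/
theorem normal_trans {G N : Subgroup (Perm α)} {F : Finset α} (hG : FT G F 2)
    (hnorm : ∀ g ∈ G, ∀ n ∈ N, g * n * g⁻¹ ∈ N) (hN : N ≠ ⊥) (hfix : Fixes N F) : FT N F 1 := by
  obtain ⟨n, hn, hn1⟩ : ∃ n ∈ N, n ≠ 1 := by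
    by_contra hcon
    push Not at hcon
    exact hN ((Subgroup.eq_bot_iff_forall N).mpr hcon)
  obtain ⟨b, hb⟩ : ∃ b, n b ≠ b := by
    by_contra hcon
    push Not at hcon
    exact hn1 (Perm.ext hcon)
  have hbF : b ∉ F := fun hmem => hb (hfix n hn b hmem)
  have hcF : n b ∉ F := hfix.notMem hn hbF
  intro x y _ _ hxF hyF
  by_cases hxy : x 0 = y 0
  · refine ⟨1, N.one_mem, fun r => ?_⟩
    have : r = 0 := Subsingleton.elim _ _
    subst this; simpa using hxy
  · obtain ⟨g, hg, hg1, hg2⟩ := hG.two_apply hbF hcF (hxF 0) (hyF 0) (Ne.symm hb) hxy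
    refine ⟨g * n * g⁻¹, hnorm g hg n hn, fun r => ?_⟩
    have : r = 0 := Subsingleton.elim _ _
    subst this
    simp only [Perm.mul_apply]
    rw [← hg1]
    simp [hg2]

section regular

variable {G N : Subgroup (Perm α)} {F : Finset α} {a : α}

/-- regularity at `a` -/
theorem reg_inj (hreg : N ⊓ ptStab a = ⊥) {n₁ n₂ : Perm α} (h₁ : n₁ ∈ N) (h₂ : n₂ ∈ N)
    (h : n₁ a = n₂ a) : n₁ = n₂ := by
  have hmem : n₂⁻¹ * n₁ ∈ N ⊓ ptStab a := by
    refine Subgroup.mem_inf.mpr ⟨N.mul_mem (N.inv_mem h₂) h₁, ?_⟩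
    rw [mem_ptStab, Perm.mul_apply, h]
    simp
  rw [hreg, Subgroup.mem_bot] at hmem
  exact (inv_mul_eq_one.mp hmem).symm

/-- an element of `G_a` fixing `n a` centralizes `n` -/
theorem conj_eq_of_fix (hreg : N ⊓ ptStab a = ⊥) (hnorm : ∀ g ∈ G, ∀ n ∈ N, g * n * g⁻¹ ∈ N)
    {g n : Perm α} (hg : g ∈ G ⊓ ptStab a) (hn : n ∈ N) (h : g (n a) = n a) :
    g * n * g⁻¹ = n := by
  apply reg_inj hreg (hnorm g hg.1 n hn) hn
  have hga : g⁻¹ a = a := by
    rw [Perm.inv_eq_iff_eq]; exact (mem_ptStab.mp hg.2).symm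
  simp only [Perm.mul_apply, hga, h]

/-- Case B1: a regular normal subgroup of a group whose point stabilizer is doubly transitive on the
remaining (at least three) points has exponent 2. -/
theorem regular_sq_eq_one (hfixN : Fixes N F) (ha : a ∉ F)
    (hnorm : ∀ g ∈ G, ∀ n ∈ N, g * n * g⁻¹ ∈ N) (hreg : N ⊓ ptStab a = ⊥)
    (hG2 : FT (G ⊓ ptStab a) (insert a F) 2) (hcard : 3 + (F.card + 1) ≤ Fintype.card α) :
    ∀ n ∈ N, n ^ 2 = 1 := by
  intro n₁ hn₁
  by_contra hsq
  have hn₁i : n₁⁻¹ ∈ N := N.inv_mem hn₁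
  have hne1 : n₁ ≠ 1 := fun h => hsq (by rw [h]; simp)
  have hpa : n₁ a ≠ a := fun h => hne1 (reg_inj hreg hn₁ N.one_mem (by simpa using h))
  have hqa : n₁⁻¹ a ≠ a := fun h => by
    apply hne1
    have := reg_inj hreg hn₁i N.one_mem (by simpa using h)
    exact inv_eq_one.mp this
  have hpq : n₁ a ≠ n₁⁻¹ a := fun h => by
    apply hsq
    have : n₁ = n₁⁻¹ := reg_inj hreg hn₁ hn₁i h
    rw [pow_two]
    exact mul_eq_one_iff_eq_inv.mpr this
  have hpF : n₁ a ∉ insert a F := by
    rw [Finset.mem_insert, not_or]; exact ⟨hpa, hfixN.notMem hn₁ ha⟩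
  have hqF : n₁⁻¹ a ∉ insert a F := by
    rw [Finset.mem_insert, not_or]; exact ⟨hqa, hfixN.notMem hn₁i ha⟩
  obtain ⟨y, hy⟩ := exists_notMem_of_card_lt (insert (n₁ a) (insert (n₁⁻¹ a) (insert a F))) (by
    calc (insert (n₁ a) (insert (n₁⁻¹ a) (insert a F))).card
        ≤ (insert (n₁⁻¹ a) (insert a F)).card + 1 := Finset.card_insert_le _ _
      _ ≤ (insert a F).card + 1 + 1 := by
          have := Finset.card_insert_le (n₁⁻¹ a) (insert a F); omega
      _ ≤ F.card + 1 + 1 + 1 := by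
          have := Finset.card_insert_le a F; omega
      _ < Fintype.card α := by omega)
  simp only [Finset.mem_insert, not_or] at hy
  have hyF : y ∉ insert a F := by
    rw [Finset.mem_insert, not_or]; exact ⟨hy.2.2.1, hy.2.2.2⟩
  obtain ⟨g, hg, hg1, hg2⟩ := hG2.two_apply hpF hqF hpF hyF hpq (Ne.symm hy.1)
  have hc := conj_eq_of_fix hreg hnorm hg hn₁ hg1
  have hc' : g * n₁⁻¹ * g⁻¹ = n₁⁻¹ := by
    have : g * n₁⁻¹ * g⁻¹ = (g * n₁ * g⁻¹)⁻¹ := by group
    rw [this, hc]
  have hga : g⁻¹ a = a := by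
    rw [Perm.inv_eq_iff_eq]; exact (mem_ptStab.mp hg.2).symm
  have : g (n₁⁻¹ a) = n₁⁻¹ a := by
    have h1 := congrArg (fun σ : Perm α => σ a) hc'
    simp only [Perm.mul_apply, hga] at h1
    exact h1
  rw [this] at hg2
  exact hy.2.1 hg2.symm

/-- Case B2: no regular normal subgroup when the point stabilizer is triply transitive on the
remaining (at least four) points. -/
theorem regular_three_false (hfixN : Fixes N F) (ha : a ∉ F)
    (hnorm : ∀ g ∈ G, ∀ n ∈ N, g * n * g⁻¹ ∈ N) (hreg : N ⊓ ptStab a = ⊥)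
    (hG3 : FT (G ⊓ ptStab a) (insert a F) 3) (hcard : 4 + (F.card + 1) ≤ Fintype.card α)
    (htr : FT N F 1) (hN : N ≠ ⊥) (hexp : ∀ n ∈ N, n ^ 2 = 1) : False := by
  obtain ⟨n₁, hn₁, hne1⟩ : ∃ n ∈ N, n ≠ 1 := by
    by_contra hcon
    push Not at hcon
    exact hN ((Subgroup.eq_bot_iff_forall N).mpr hcon)
  have hinv : n₁⁻¹ = n₁ := by
    have := hexp n₁ hn₁
    rw [pow_two] at this
    exact inv_eq_of_mul_eq_one_right this
  have hp1a : n₁ a ≠ a := fun h => hne1 (reg_inj hreg hn₁ N.one_mem (by simpa using h))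
  have hp1F : n₁ a ∉ insert a F := by
    rw [Finset.mem_insert, not_or]; exact ⟨hp1a, hfixN.notMem hn₁ ha⟩
  obtain ⟨p₂, hp₂⟩ := exists_notMem_of_card_lt (insert (n₁ a) (insert a F)) (by
    calc (insert (n₁ a) (insert a F)).card ≤ (insert a F).card + 1 := Finset.card_insert_le _ _
      _ ≤ F.card + 1 + 1 := by
          have := Finset.card_insert_le a F; omega
      _ < Fintype.card α := by omega)
  simp only [Finset.mem_insert, not_or] at hp₂
  have hp2F' : p₂ ∉ F := hp₂.2.2
  obtain ⟨n₂, hn₂, hn2a⟩ := htr.one_apply ha hp2F'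
  have hp2F : p₂ ∉ insert a F := by
    rw [Finset.mem_insert, not_or]; exact ⟨hp₂.2.1, hp₂.2.2⟩
  have hn12 : n₁ * n₂ ∈ N := N.mul_mem hn₁ hn₂
  have hp3 : (n₁ * n₂) a = n₁ p₂ := by rw [Perm.mul_apply, hn2a]
  have hp3a : n₁ p₂ ≠ a := fun h => by
    have h1 : n₁ * n₂ = 1 := reg_inj hreg hn12 N.one_mem (by rw [hp3, h]; simp)
    have h2 : n₂ = n₁ := by
      have : n₂ = n₁⁻¹ := eq_inv_of_mul_eq_one_right h1
      rw [this, hinv]
    apply hp₂.1
    rw [← hn2a, h2]
  have hp31 : n₁ p₂ ≠ n₁ a := fun h => hp₂.2.1 (n₁.injective h)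
  have hp32 : n₁ p₂ ≠ p₂ := fun h => by
    have h1 : n₁ * n₂ = n₂ := reg_inj hreg hn12 hn₂ (by rw [hp3, h, hn2a])
    exact hne1 (by simpa using h1)
  have hp3F : n₁ p₂ ∉ insert a F := by
    rw [Finset.mem_insert, not_or]; exact ⟨hp3a, hfixN.notMem hn₁ hp2F'⟩
  obtain ⟨y, hy⟩ := exists_notMem_of_card_lt
    (insert (n₁ p₂) (insert p₂ (insert (n₁ a) (insert a F)))) (by
    calc (insert (n₁ p₂) (insert p₂ (insert (n₁ a) (insert a F)))).card
        ≤ (insert p₂ (insert (n₁ a) (insert a F))).card + 1 := Finset.card_insert_le _ _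
      _ ≤ (insert (n₁ a) (insert a F)).card + 1 + 1 := by
          have := Finset.card_insert_le p₂ (insert (n₁ a) (insert a F)); omega
      _ ≤ (insert a F).card + 1 + 1 + 1 := by
          have := Finset.card_insert_le (n₁ a) (insert a F); omega
      _ ≤ F.card + 1 + 1 + 1 + 1 := by
          have := Finset.card_insert_le a F; omega
      _ < Fintype.card α := by omega)
  simp only [Finset.mem_insert, not_or] at hy
  have hyF : y ∉ insert a F := by
    rw [Finset.mem_insert, not_or]; exact ⟨hy.2.2.2.1, hy.2.2.2.2⟩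
  obtain ⟨g, hg, hg1, hg2, hg3⟩ := hG3.three_apply hp1F hp2F hp3F hp1F hp2F hyF
    (Ne.symm hp₂.1) (Ne.symm hp31) (Ne.symm hp32) (Ne.symm hp₂.1) (Ne.symm hy.2.2.1)
    (Ne.symm hy.2.1)
  have hc1 := conj_eq_of_fix hreg hnorm hg hn₁ hg1
  have hc2 := conj_eq_of_fix hreg hnorm hg hn₂ (by rw [hn2a]; exact hg2)
  have hc3 : g * (n₁ * n₂) * g⁻¹ = n₁ * n₂ := by
    have : g * (n₁ * n₂) * g⁻¹ = (g * n₁ * g⁻¹) * (g * n₂ * g⁻¹) := by group
    rw [this, hc1, hc2]
  have hga : g⁻¹ a = a := by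
    rw [Perm.inv_eq_iff_eq]; exact (mem_ptStab.mp hg.2).symm
  have h1 := congrArg (fun σ : Perm α => σ a) hc3
  simp only [Perm.mul_apply, hga, hn2a] at h1
  rw [h1] at hg3
  exact hy.1 hg3.symm

end regular

/-- Lemma P: a group `N`, transitive off `F`, whose point stabilizer `N_a` has exponent 2, is
transitive on the remaining points and has at least two non-identity elements, cannot exist. -/
theorem sharp_exp_two_false {N : Subgroup (Perm α)} {F : Finset α} {a : α}
    (hfixN : Fixes N F) (ha : a ∉ F) (htr : FT N F 1)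
    (hexp : ∀ h ∈ N ⊓ ptStab a, h ^ 2 = 1)
    (htr' : FT (N ⊓ ptStab a) (insert a F) 1)
    (s t : Perm α) (hs : s ∈ N ⊓ ptStab a) (ht : t ∈ N ⊓ ptStab a) (hs1 : s ≠ 1) (ht1 : t ≠ 1)
    (hst : s ≠ t) : False := by
  classical
  -- (1) commutativity in `N_a`
  have hcomm : ∀ x ∈ N ⊓ ptStab a, ∀ y ∈ N ⊓ ptStab a, x * y = y * x := by
    intro x hx y hy
    have h1 := hexp x hx
    have h2 := hexp y hy
    have h3 := hexp (x * y) (mul_mem hx hy)
    rw [pow_two] at h1 h2 h3
    have e1 : (x * y)⁻¹ = x * y := inv_eq_of_mul_eq_one_right h3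
    have e2 : x⁻¹ = x := inv_eq_of_mul_eq_one_right h1
    have e3 : y⁻¹ = y := inv_eq_of_mul_eq_one_right h2
    rw [← e1, mul_inv_rev, e2, e3]
  have hfixNa : Fixes (N ⊓ ptStab a) (insert a F) := hfixN.insert a
  -- (2) regularity of `N_a`
  have hreg : ∀ h ∈ N ⊓ ptStab a, ∀ z, z ∉ insert a F → h z = z → h = 1 := by
    intro h hh z hz hhz
    ext w
    by_cases hw : w ∈ insert a F
    · exact hfixNa h hh w hw
    · obtain ⟨g, hg, hgz⟩ := htr'.one_apply hz hw
      rw [← hgz, ← Perm.mul_apply, hcomm h hh g hg, Perm.mul_apply, hhz]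
      rfl
  -- (3) sharpness of `N`
  have hsharp : ∀ h ∈ N, ∀ b c, b ∉ F → c ∉ F → b ≠ c → h b = b → h c = c → h = 1 := by
    intro h hh b c hb hc hbc hhb hhc
    obtain ⟨g, hg, hgb⟩ := htr.one_apply hb ha
    have hginv : g⁻¹ a = b := by rw [Perm.inv_eq_iff_eq]; exact hgb.symm
    have h' : g * h * g⁻¹ ∈ N ⊓ ptStab a := Subgroup.mem_inf.mpr
      ⟨N.mul_mem (N.mul_mem hg hh) (N.inv_mem hg), by
        rw [mem_ptStab]
        simp only [Perm.mul_apply, hginv, hhb, hgb]⟩
    have hgc : g c ∉ insert a F := by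
      rw [Finset.mem_insert, not_or]
      exact ⟨fun e => hbc (g.injective (hgb.trans e.symm)), hfixN.notMem hg hc⟩
    have h1 := hreg _ h' (g c) hgc (by simp [Perm.mul_apply, hhc])
    have h2 : h = g⁻¹ * (g * h * g⁻¹) * g := by group
    rw [h2, h1]; group
  -- a point `b` moved by `s`
  obtain ⟨hsN, hsa⟩ := Subgroup.mem_inf.mp hs
  obtain ⟨b, hb⟩ : ∃ b, s b ≠ b := by
    by_contra hcon
    push Not at hcon
    exact hs1 (Perm.ext hcon)
  have hbF' : b ∉ insert a F := fun hmem => hb (hfixNa s hs b hmem)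
  have hba : b ≠ a := fun e => hbF' (e ▸ Finset.mem_insert_self _ _)
  have hbF : b ∉ F := fun hmem => hbF' (Finset.mem_insert_of_mem hmem)
  -- the support of `s` is the complement of `insert a F`
  have hsupp : ∀ z, z ∈ s.support ↔ z ∉ insert a F := by
    intro z
    rw [Perm.mem_support]
    constructor
    · intro hz hmem
      exact hz (hfixNa s hs z hmem)
    · intro hz hsz
      exact hs1 (hreg s hs z hz hsz)
  have hs2 : s ^ 2 = 1 := hexp s hs
  have heven : 2 ∣ s.support.card := Perm.two_dvd_card_support hs2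
  -- the involution `j` swapping `a` and `b`
  obtain ⟨j₀, hj₀, hj₀a⟩ := htr.one_apply ha hbF
  -- use two-transitivity: `N_a` transitive gives an element of `N` swapping
  obtain ⟨u, hu, hub⟩ := htr'.one_apply (show j₀ a ∉ insert a F by rw [hj₀a]; exact hbF')
    (show j₀ a ∉ insert a F by rw [hj₀a]; exact hbF')
  clear u hu hub
  -- element mapping `a ↦ b`, `b ↦ a`
  have hj₀b : j₀ b ∉ F := hfixN.notMem hj₀ hbF
  have hj₀bb : j₀ b ≠ b := fun e => hba (j₀.injective (e.trans hj₀a.symm))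
  obtain ⟨j, hj, hja, hjb⟩ : ∃ j ∈ N, j a = b ∧ j b = a := by
    -- conjugate: find `v ∈ N_b` moving `j₀ b` to `a`, then `j = v * j₀`
    obtain ⟨w, hw, hwb⟩ := htr.one_apply hbF ha
    -- `N_b = w⁻¹ N_a w` is transitive off `b`
    have hwj : w (j₀ b) ∉ insert a F := by
      rw [Finset.mem_insert, not_or]
      refine ⟨fun e => hj₀bb (w.injective (e.trans hwb.symm)), hfixN.notMem hw hj₀b⟩
    have hwa : w a ∉ insert a F := by
      rw [Finset.mem_insert, not_or]
      refine ⟨fun e => hba (w.injective (hwb.trans e.symm)), hfixN.notMem hw ha⟩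
    obtain ⟨v, hv, hvw⟩ := htr'.one_apply hwj hwa
    refine ⟨w⁻¹ * v * w * j₀, N.mul_mem (N.mul_mem (N.mul_mem (N.inv_mem hw)
      (Subgroup.mem_inf.mp hv).1) hw) hj₀, ?_, ?_⟩
    · simp only [Perm.mul_apply, hj₀a, hwb]
      rw [show v a = a from (Subgroup.mem_inf.mp hv).2, Perm.inv_eq_iff_eq]
      exact hwb.symm
    · simp only [Perm.mul_apply, hvw]
      simp
  have hj2 : j ^ 2 = 1 := by
    apply hsharp (j ^ 2) (N.pow_mem hj 2) a b ha hbF (Ne.symm hba)
    · simp [pow_two, Perm.mul_apply, hja, hjb]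
    · simp [pow_two, Perm.mul_apply, hja, hjb]
  -- a fixed point `e` of `j` outside `F`
  obtain ⟨e, heF, hje⟩ : ∃ e, e ∉ F ∧ j e = e := by
    by_contra hcon
    push Not at hcon
    have hjsupp : j.support = insert a s.support := by
      ext z
      rw [Perm.mem_support, Finset.mem_insert, hsupp, Finset.mem_insert, not_or]
      constructor
      · intro hz
        by_cases hza : z = a
        · exact Or.inl hza
        · exact Or.inr ⟨hza, fun hzF => hz (hfixN j hj z hzF)⟩
      · rintro (rfl | ⟨hza, hzF⟩)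
        · rw [hja]; exact hba
        · exact hcon z hzF
    have h1 : 2 ∣ j.support.card := Perm.two_dvd_card_support hj2
    rw [hjsupp, Finset.card_insert_of_notMem (by
      rw [hsupp]; simp)] at h1
    omega
  have hea : e ≠ a := fun h => hba (by rw [← hja, ← h, hje])
  have heb : e ≠ b := fun h => hba (by rw [← hjb, ← h, hje, h])
  -- transport `s, t` to `N_e`
  obtain ⟨g, hg, hga⟩ := htr.one_apply ha heF
  have hginv : g⁻¹ e = a := by rw [Perm.inv_eq_iff_eq]; exact hga.symm
  have hNe : ∀ h ∈ N, h e = e → g⁻¹ * h * g ∈ N ⊓ ptStab a := by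
    intro h hh hhe
    refine Subgroup.mem_inf.mpr ⟨N.mul_mem (N.mul_mem (N.inv_mem hg) hh) hg, ?_⟩
    rw [mem_ptStab]
    simp only [Perm.mul_apply, hga, hhe, hginv]
  have hNe2 : ∀ h ∈ N, h e = e → h ^ 2 = 1 := by
    intro h hh hhe
    have h1 := hexp _ (hNe h hh hhe)
    have h2 : h ^ 2 = g * (g⁻¹ * h * g) ^ 2 * g⁻¹ := by
      rw [pow_two, pow_two]; group
    rw [h2, h1]; group
  -- a non-identity element `j'` of `N_e` different from `j`
  obtain ⟨j', hj', hj'e, hj'1, hj'j⟩ : ∃ j' ∈ N, j' e = e ∧ j' ≠ 1 ∧ j' ≠ j := by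
    have hcs : ∀ x ∈ N ⊓ ptStab a, g * x * g⁻¹ ∈ N ∧ (g * x * g⁻¹) e = e := by
      intro x hx
      obtain ⟨hxN, hxa⟩ := Subgroup.mem_inf.mp hx
      refine ⟨N.mul_mem (N.mul_mem hg hxN) (N.inv_mem hg), ?_⟩
      simp only [Perm.mul_apply, hginv]
      rw [show x a = a from hxa, hga]
    by_cases hjs : g * s * g⁻¹ = j
    · refine ⟨g * t * g⁻¹, (hcs t ht).1, (hcs t ht).2, ?_, ?_⟩
      · intro h
        apply ht1
        have : t = g⁻¹ * (g * t * g⁻¹) * g := by group
        rw [this, h]; group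
      · intro h
        apply hst
        have h2 : g * s * g⁻¹ = g * t * g⁻¹ := hjs.trans h.symm
        have : s = g⁻¹ * (g * s * g⁻¹) * g := by group
        rw [this, h2]; group
    · refine ⟨g * s * g⁻¹, (hcs s hs).1, (hcs s hs).2, ?_, hjs⟩
      intro h
      apply hs1
      have : s = g⁻¹ * (g * s * g⁻¹) * g := by group
      rw [this, h]; group
  have hj'2 : j' ^ 2 = 1 := hNe2 j' hj' hj'e
  -- `x = j' b`
  have hxb : j' b ≠ b := fun h => hj'1 (hsharp j' hj' b e hbF heF (Ne.symm heb) h hj'e)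
  have hxa : j' b ≠ a := fun h => by
    apply hj'j
    have h1 : j⁻¹ * j' = 1 := by
      apply hsharp _ (N.mul_mem (N.inv_mem hj) hj') b e hbF heF (Ne.symm heb)
      · rw [Perm.mul_apply, h, Perm.inv_eq_iff_eq]; exact hjb.symm
      · rw [Perm.mul_apply, hj'e, Perm.inv_eq_iff_eq]; exact hje.symm
    exact (inv_mul_eq_one.mp h1).symm
  have hxF : j' b ∉ F := hfixN.notMem hj' hbF
  have hxF' : j' b ∉ insert a F := by
    rw [Finset.mem_insert, not_or]; exact ⟨hxa, hxF⟩
  obtain ⟨sx, hsx, hsxb⟩ := htr'.one_apply hbF' hxF'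
  have hsx2 : sx ^ 2 = 1 := hexp sx hsx
  have hsxx : sx (j' b) = b := by
    have := congrArg (fun σ : Perm α => σ b) hsx2
    simp only [pow_two, Perm.mul_apply, hsxb, Perm.one_apply] at this
    exact this
  have hj'x : j' (j' b) = b := by
    have := congrArg (fun σ : Perm α => σ b) hj'2
    simp only [pow_two, Perm.mul_apply, Perm.one_apply] at this
    exact this
  have h1 : sx⁻¹ * j' = 1 := by
    apply hsharp _ (N.mul_mem (N.inv_mem (Subgroup.mem_inf.mp hsx).1) hj') b (j' b) hbF hxF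
      (Ne.symm hxb)
    · rw [Perm.mul_apply, Perm.inv_eq_iff_eq]; exact hsxb.symm
    · rw [Perm.mul_apply, hj'x, Perm.inv_eq_iff_eq]; exact hsxx.symm
  have h2 : j' = sx := (inv_mul_eq_one.mp h1).symm
  have h3 : j' a = a := by rw [h2]; exact (Subgroup.mem_inf.mp hsx).2
  exact hj'1 (hsharp j' hj' a e ha heF (Ne.symm hea) h3 hj'e)

/-- three distinct points outside a small set -/
theorem exists_three_notMem (S : Finset α) (h : S.card + 3 ≤ Fintype.card α) :
    ∃ b c d, b ∉ S ∧ c ∉ S ∧ d ∉ S ∧ b ≠ c ∧ b ≠ d ∧ c ≠ d := by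
  obtain ⟨b, hb⟩ := exists_notMem_of_card_lt S (by omega)
  obtain ⟨c, hc⟩ := exists_notMem_of_card_lt (insert b S) (by
    have := Finset.card_insert_le b S; omega)
  obtain ⟨d, hd⟩ := exists_notMem_of_card_lt (insert c (insert b S)) (by
    have := Finset.card_insert_le b S
    have := Finset.card_insert_le c (insert b S); omega)
  simp only [Finset.mem_insert, not_or] at hc hd
  exact ⟨b, c, d, hb, hc.2, hd.2.2, Ne.symm hc.1, Ne.symm hd.2.1, Ne.symm hd.1⟩

/-- Jordan's theorem on normal subgroups of multiply transitive groups, ambient form. -/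
theorem jordan_aux : ∀ (k : ℕ), 2 ≤ k → ∀ (G N : Subgroup (Perm α)) (F : Finset α),
    Fixes G F → k + F.card < Fintype.card α → FT G F k → N ≤ G →
    (∀ g ∈ G, ∀ n ∈ N, g * n * g⁻¹ ∈ N) → N ≠ ⊥ →
    FT N F (k - 1) ∨ (k = 3 ∧ ∀ n ∈ N, n ^ 2 = 1) := by
  intro k hk
  induction k, hk using Nat.le_induction with
  | base =>
    intro G N F hfixG _ hG hle hnorm hN
    exact Or.inl (normal_trans hG hnorm hN (hfixG.mono hle))
  | succ k hk ih =>
    intro G N F hfixG hcard hG hle hnorm hN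
    have hfixN : Fixes N F := hfixG.mono hle
    obtain ⟨a, ha⟩ := exists_notMem_of_card_lt F (by omega)
    have hF' : (insert a F).card = F.card + 1 := Finset.card_insert_of_notMem ha
    have hfixG' : Fixes (G ⊓ ptStab a) (insert a F) := hfixG.insert a
    have hG' : FT (G ⊓ ptStab a) (insert a F) k := hG.stab ha
    have hle' : N ⊓ ptStab a ≤ G ⊓ ptStab a := inf_le_inf_right _ hle
    have hnorm' : ∀ g ∈ G ⊓ ptStab a, ∀ n ∈ N ⊓ ptStab a, g * n * g⁻¹ ∈ N ⊓ ptStab a := by
      intro g hg n hn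
      refine Subgroup.mem_inf.mpr ⟨hnorm g (Subgroup.mem_inf.mp hg).1 n (Subgroup.mem_inf.mp hn).1,
        ?_⟩
      exact (ptStab a).mul_mem ((ptStab a).mul_mem (Subgroup.mem_inf.mp hg).2
        (Subgroup.mem_inf.mp hn).2) ((ptStab a).inv_mem (Subgroup.mem_inf.mp hg).2)
    have htrN : FT N F 1 :=
      normal_trans (hG.of_le (by omega) (by omega)) hnorm hN hfixN
    by_cases hN' : N ⊓ ptStab a = ⊥
    · -- regular case
      have hG2 : FT (G ⊓ ptStab a) (insert a F) 2 := hG'.of_le hk (by omega)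
      have hexp := regular_sq_eq_one hfixN ha hnorm hN' hG2 (by omega)
      by_cases hk3 : k + 1 = 3
      · exact Or.inr ⟨hk3, hexp⟩
      · exfalso
        have hG3 : FT (G ⊓ ptStab a) (insert a F) 3 := hG'.of_le (by omega) (by omega)
        exact regular_three_false hfixN ha hnorm hN' hG3 (by omega) htrN hN hexp
    · rcases ih (G ⊓ ptStab a) (N ⊓ ptStab a) (insert a F) hfixG' (by omega) hG' hle' hnorm' hN'
        with h | ⟨hk3, hexp'⟩
      · left
        have := FT.of_stab hfixN htrN ha h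
        have e : k - 1 + 1 = k + 1 - 1 := by omega
        rw [e] at this
        exact this
      · exfalso
        subst hk3
        have htr' : FT (N ⊓ ptStab a) (insert a F) 1 :=
          normal_trans (hG'.of_le (by omega) (by omega)) hnorm' hN' (hfixN.insert a)
        obtain ⟨b, c, d, hb, hc, hd, hbc, hbd, hcd⟩ :=
          exists_three_notMem (insert a F) (by omega)
        obtain ⟨s, hs, hsb⟩ := htr'.one_apply hb hc
        obtain ⟨t, ht, htb⟩ := htr'.one_apply hb hd
        refine sharp_exp_two_false hfixN ha htrN hexp' htr' s t hs ht ?_ ?_ ?_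
        · intro h; rw [h] at hsb; exact hbc (by simpa using hsb)
        · intro h; rw [h] at htb; exact hbd (by simpa using htb)
        · intro h; rw [h] at hsb; exact hcd (hsb.symm.trans htb)

end Cfsg.Agent.Lib.Helper10
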