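import Mathlib
import Cfsg.Agent.Lib.Helper10.JordanNormal

/-!
Ambient `k`-primitivity (relative to a pointwise fixed finset `F`) for subgroups of `Equiv.Perm α`,
and the theorem that a non-regular normal subgroup of a `k`-primitive group which is not the full
symmetric group is `k`-transitive (helper10).
-/

set_option autoImplicit false

namespace Cfsg.Agent.Lib.Helper10

open Equiv

variable {α : Type*} [Fintype α] [DecidableEq α]

/-- pointwise stabilizer of a finset in `Perm α` -/
def fixing (S : Finset α) : Subgroup (Perm α) where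
  carrier := {g | ∀ s ∈ S, g s = s}
  mul_mem' := by
    intro g h hg hh s hs
    rw [Perm.mul_apply, hh s hs, hg s hs]
  one_mem' := fun _ _ => rfl
  inv_mem' := by
    intro g hg s hs
    rw [Perm.inv_eq_iff_eq]
    exact (hg s hs).symm

theorem mem_fixing {S : Finset α} {g : Perm α} : g ∈ fixing S ↔ ∀ s ∈ S, g s = s := Iff.rfl

/-- ambient primitivity off `F` -/
def PrimOff (K : Subgroup (Perm α)) (F : Finset α) : Prop :=
  FT K F 1 ∧ ∀ B : Finset α, (∀ b ∈ B, b ∉ F) →
    (∀ g ∈ K, ∀ b ∈ B, g b ∈ B → ∀ c ∈ B, g c ∈ B) →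
    (∀ b ∈ B, ∀ c ∈ B, b = c) ∨ ∀ z, z ∉ F → z ∈ B

/-- ambient `k`-primitivity off `F` -/
def FP (K : Subgroup (Perm α)) (F : Finset α) (k : ℕ) : Prop :=
  FT K F k ∧ ∀ S : Finset α, Disjoint S F → S.card + 1 = k → PrimOff (K ⊓ fixing S) (S ∪ F)

/-- `K` contains every permutation fixing `F` pointwise -/
def Full (K : Subgroup (Perm α)) (F : Finset α) : Prop :=
  ∀ σ : Perm α, (∀ f ∈ F, σ f = f) → σ ∈ K

theorem primOff_of_two {K : Subgroup (Perm α)} {F : Finset α} (h2 : FT K F 2)
    (hcard : 2 + F.card ≤ Fintype.card α) : PrimOff K F := by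
  refine ⟨h2.of_le (by omega) hcard, fun B hBF hB => ?_⟩
  by_cases hsub : ∀ b ∈ B, ∀ c ∈ B, b = c
  · exact Or.inl hsub
  · right
    push Not at hsub
    obtain ⟨b, hb, c, hc, hbc⟩ := hsub
    intro z hz
    by_cases hzb : z = b
    · rw [hzb]; exact hb
    · obtain ⟨g, hg, hg1, hg2⟩ := h2.two_apply (hBF b hb) (hBF c hc) (hBF b hb) hz hbc
        (Ne.symm hzb)
      have := hB g hg b hb (by rw [hg1]; exact hb) c hc
      rwa [hg2] at this

theorem FP.stab {G : Subgroup (Perm α)} {F : Finset α} {k : ℕ} (h : FP G F (k + 1)) {a : α}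
    (ha : a ∉ F) : FP (G ⊓ ptStab a) (insert a F) k := by
  refine ⟨h.1.stab ha, fun S hS hcard => ?_⟩
  have haS : a ∉ S := fun hmem =>
    Finset.disjoint_left.mp hS hmem (Finset.mem_insert_self a F)
  have hS' : Disjoint (insert a S) F := by
    rw [Finset.disjoint_left]
    intro z hz hzF
    rcases Finset.mem_insert.mp hz with rfl | hz
    · exact ha hzF
    · exact Finset.disjoint_left.mp hS hz (Finset.mem_insert_of_mem hzF)
  have := h.2 (insert a S) hS' (by rw [Finset.card_insert_of_notMem haS]; omega)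
  have e1 : G ⊓ fixing (insert a S) = G ⊓ ptStab a ⊓ fixing S := by
    ext g
    simp only [Subgroup.mem_inf, mem_fixing, mem_ptStab, Finset.mem_insert, forall_eq_or_imp]
    tauto
  have e2 : insert a S ∪ F = S ∪ insert a F := by
    ext z
    simp only [Finset.mem_union, Finset.mem_insert]
    tauto
  rw [e1, e2] at this
  exact this

theorem FP.prim {K : Subgroup (Perm α)} {F : Finset α} {j : ℕ} (h : FP K F j) (hj : 1 ≤ j)
    (hcard : j + F.card ≤ Fintype.card α) : PrimOff K F := by
  by_cases hj1 : j = 1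
  · subst hj1
    have := h.2 ∅ (Finset.disjoint_empty_left F) (by simp)
    have e1 : K ⊓ fixing (∅ : Finset α) = K := by
      ext g
      simp [mem_fixing]
    have e2 : (∅ : Finset α) ∪ F = F := Finset.empty_union F
    rw [e1, e2] at this
    exact this
  · exact primOff_of_two (h.1.of_le (by omega) hcard) (by omega)

/-- a nontrivial subgroup normalized by a primitive group is transitive -/
theorem normal_trans_of_prim {G N : Subgroup (Perm α)} {F : Finset α} (hG : PrimOff G F)
    (hnorm : ∀ g ∈ G, ∀ n ∈ N, g * n * g⁻¹ ∈ N) (hN : N ≠ ⊥) (hfix : Fixes N F) : FT N F 1 := by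
  classical
  obtain ⟨n, hn, hn1⟩ : ∃ n ∈ N, n ≠ 1 := by
    by_contra hcon
    push Not at hcon
    exact hN ((Subgroup.eq_bot_iff_forall N).mpr hcon)
  obtain ⟨b, hb⟩ : ∃ b, n b ≠ b := by
    by_contra hcon
    push Not at hcon
    exact hn1 (Perm.ext hcon)
  have hbF : b ∉ F := fun hmem => hb (hfix n hn b hmem)
  let B : Finset α := Finset.univ.filter (fun z => ∃ m ∈ N, m b = z)
  have hmemB : ∀ z, z ∈ B ↔ ∃ m ∈ N, m b = z := by
    intro z; simp [B]
  have hBF : ∀ z ∈ B, z ∉ F := by
    intro z hz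
    obtain ⟨m, hm, rfl⟩ := (hmemB z).mp hz
    exact hfix.notMem hm hbF
  have hblock : ∀ g ∈ G, ∀ c ∈ B, g c ∈ B → ∀ d ∈ B, g d ∈ B := by
    intro g hg c hc hgc d hd
    obtain ⟨m, hm, rfl⟩ := (hmemB c).mp hc
    obtain ⟨m', hm', hm'e⟩ := (hmemB _).mp hgc
    obtain ⟨m'', hm'', rfl⟩ := (hmemB d).mp hd
    rw [hmemB]
    refine ⟨(g * (m'' * m⁻¹) * g⁻¹) * m', N.mul_mem (hnorm g hg _
      (N.mul_mem hm'' (N.inv_mem hm))) hm', ?_⟩
    simp only [Perm.mul_apply]
    rw [hm'e]
    simp
  rcases hG.2 B hBF hblock with hsub | hall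
  · exfalso
    have h1 : b ∈ B := (hmemB b).mpr ⟨1, N.one_mem, rfl⟩
    have h2 : n b ∈ B := (hmemB _).mpr ⟨n, hn, rfl⟩
    exact hb (hsub _ h2 _ h1)
  · intro x y _ _ hxF hyF
    obtain ⟨m, hm, hmx⟩ := (hmemB _).mp (hall (x 0) (hxF 0))
    obtain ⟨m', hm', hmy⟩ := (hmemB _).mp (hall (y 0) (hyF 0))
    refine ⟨m' * m⁻¹, N.mul_mem hm' (N.inv_mem hm), fun r => ?_⟩
    have : r = 0 := Subsingleton.elim _ _
    subst this
    rw [Perm.mul_apply, ← hmx]
    simp [hmy]

/-- the key block lemma (ambient form): `M` regular at `b`, normalized by `K`, and `K_b` primitive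
on the remaining points; then every `m ∈ M` is an involution, or there are only two further points. -/
theorem sq_eq_one_or_of_prim {K M : Subgroup (Perm α)} {F : Finset α} {b : α} (hb : b ∉ F)
    (hfixM : Fixes M F) (hnorm : ∀ g ∈ K, ∀ m ∈ M, g * m * g⁻¹ ∈ M) (hreg : M ⊓ ptStab b = ⊥)
    (hprim : PrimOff (K ⊓ ptStab b) (insert b F)) (m : Perm α) (hm : m ∈ M) (hm1 : m ≠ 1) :
    m ^ 2 = 1 ∨ ∀ z, z ∉ insert b F → z = m b ∨ z = m⁻¹ b := by
  classical
  have hmi : m⁻¹ ∈ M := M.inv_mem hm
  have hmb : m b ≠ b := fun h => hm1 (reg_inj hreg hm M.one_mem (by simpa using h))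
  have hmib : m⁻¹ b ≠ b := fun h => by
    apply hm1
    have := reg_inj hreg hmi M.one_mem (by simpa using h)
    exact inv_eq_one.mp this
  let B : Finset α := {m b, m⁻¹ b}
  have hmemB : ∀ z, z ∈ B ↔ z = m b ∨ z = m⁻¹ b := by
    intro z; simp [B]
  have hBF : ∀ z ∈ B, z ∉ insert b F := by
    intro z hz
    rw [Finset.mem_insert, not_or]
    rcases (hmemB z).mp hz with rfl | rfl
    · exact ⟨hmb, hfixM.notMem hm hb⟩
    · exact ⟨hmib, hfixM.notMem hmi hb⟩
  have hblock : ∀ g ∈ K ⊓ ptStab b, ∀ c ∈ B, g c ∈ B → ∀ d ∈ B, g d ∈ B := by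
    intro g hg c hc hgc d hd
    have hgK := (Subgroup.mem_inf.mp hg).1
    have hgb : g b = b := (Subgroup.mem_inf.mp hg).2
    have hgib : g⁻¹ b = b := by
      rw [Perm.inv_eq_iff_eq]; exact hgb.symm
    set m' : Perm α := g * m * g⁻¹ with hm'
    have hm'M : m' ∈ M := hnorm g hgK m hm
    have hm'i : m'⁻¹ ∈ M := M.inv_mem hm'M
    have e1 : g (m b) = m' b := by
      simp only [hm', Perm.mul_apply, hgib]
    have e2 : g (m⁻¹ b) = m'⁻¹ b := by
      have : m'⁻¹ = g * m⁻¹ * g⁻¹ := by rw [hm']; group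
      rw [this]
      simp only [Perm.mul_apply, hgib]
    have hset : m' = m ∨ m' = m⁻¹ := by
      rcases (hmemB c).mp hc with rfl | rfl
      · rw [e1] at hgc
        rcases (hmemB _).mp hgc with h | h
        · exact Or.inl (reg_inj hreg hm'M hm h)
        · exact Or.inr (reg_inj hreg hm'M hmi h)
      · rw [e2] at hgc
        rcases (hmemB _).mp hgc with h | h
        · right
          have := reg_inj hreg hm'i hm h
          rw [← this, inv_inv]
        · left
          have := reg_inj hreg hm'i hmi h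
          exact inv_injective this
    rw [hmemB]
    rcases (hmemB d).mp hd with rfl | rfl
    · rw [e1]
      rcases hset with h | h
      · left; rw [h]
      · right; rw [h]
    · rw [e2]
      rcases hset with h | h
      · right; rw [h]
      · left; rw [h, inv_inv]
  rcases hprim.2 B hBF hblock with hsub | hall
  · left
    have h1 : m b ∈ B := (hmemB _).mpr (Or.inl rfl)
    have h2 : m⁻¹ b ∈ B := (hmemB _).mpr (Or.inr rfl)
    have h3 : m = m⁻¹ := reg_inj hreg hm hmi (hsub _ h1 _ h2)
    rw [pow_two]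
    exact mul_eq_one_iff_eq_inv.mpr h3
  · right
    intro z hz
    exact (hmemB z).mp (hall z hz)

theorem Full.of_stab {G : Subgroup (Perm α)} {F : Finset α} {a : α} (ha : a ∉ F)
    (hfix : Fixes G F) (htr : FT G F 1) (h : Full (G ⊓ ptStab a) (insert a F)) : Full G F := by
  intro σ hσ
  have hσa : σ a ∉ F := fun hmem => by
    have := hσ _ hmem
    have := σ.injective this
    exact ha (this ▸ hmem)
  obtain ⟨g, hg, hga⟩ := htr.one_apply hσa ha
  have hmem : g * σ ∈ G ⊓ ptStab a := by
    apply h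
    intro f hf
    rcases Finset.mem_insert.mp hf with rfl | hf
    · rw [Perm.mul_apply, hga]
    · rw [Perm.mul_apply, hσ f hf, hfix g hg f hf]
  have : σ = g⁻¹ * (g * σ) := by group
  rw [this]
  exact G.mul_mem (G.inv_mem hg) (Subgroup.mem_inf.mp hmem).1

theorem full_of_two_trans {K : Subgroup (Perm α)} {F : Finset α} (hfix : Fixes K F)
    (h2 : FT K F 2) (hcard : Fintype.card α ≤ F.card + 3) : Full K F := by
  classical
  intro σ hσ
  by_cases hσ1 : σ = 1
  · rw [hσ1]; exact K.one_mem
  obtain ⟨b, hb⟩ : ∃ b, σ b ≠ b := by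
    by_contra hcon
    push Not at hcon
    exact hσ1 (Perm.ext hcon)
  have hbF : b ∉ F := fun hmem => hb (hσ b hmem)
  have hσF : ∀ z, z ∉ F → σ z ∉ F := by
    intro z hz hmem
    have := σ.injective (hσ _ hmem)
    exact hz (this ▸ hmem)
  have hcF : σ b ∉ F := hσF b hbF
  obtain ⟨g, hg, hg1, hg2⟩ := h2.two_apply hbF hcF hcF (hσF _ hcF) (Ne.symm hb)
    (fun h => hb (σ.injective h.symm))
  -- `g⁻¹ σ` has support of size at most one
  have hsupp : (g⁻¹ * σ).support ⊆ (insert b (insert (σ b) F))ᶜ := by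
    intro z hz
    rw [Finset.mem_compl]
    intro hmem
    rw [Perm.mem_support] at hz
    apply hz
    rw [Perm.mul_apply, Perm.inv_eq_iff_eq]
    rcases Finset.mem_insert.mp hmem with rfl | hmem
    · exact hg1.symm
    · rcases Finset.mem_insert.mp hmem with rfl | hmem
      · exact hg2.symm
      · rw [hσ z hmem, hfix g hg z hmem]
  have hc1 : (insert b (insert (σ b) F)).card = F.card + 2 := by
    rw [Finset.card_insert_of_notMem, Finset.card_insert_of_notMem hcF]
    rw [Finset.mem_insert, not_or]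
    exact ⟨Ne.symm hb, hbF⟩
  have hc2 : ((insert b (insert (σ b) F))ᶜ).card ≤ 1 := by
    rw [Finset.card_compl, hc1]; omega
  have hc3 : (g⁻¹ * σ).support.card ≤ 1 := (Finset.card_le_card hsupp).trans hc2
  have hc4 : (g⁻¹ * σ).support.card ≠ 1 := Perm.card_support_ne_one _
  have hc5 : (g⁻¹ * σ).support.card = 0 := by omega
  have h1 : g⁻¹ * σ = 1 := by
    rw [← Perm.support_eq_empty_iff]
    exact Finset.card_eq_zero.mp hc5
  have : σ = g := by
    have := inv_mul_eq_one.mp h1
    exact this.symm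
  rw [this]; exact hg

/-- A non-regular nontrivial normal subgroup of a `k`-primitive group which is not the full
symmetric group is `k`-transitive (ambient form). -/
theorem kprim_aux : ∀ (k : ℕ), 1 ≤ k → ∀ (G H : Subgroup (Perm α)) (F : Finset α),
    Fixes G F → k + F.card ≤ Fintype.card α → FP G F k → ¬ Full G F →
    H ≤ G → (∀ g ∈ G, ∀ n ∈ H, g * n * g⁻¹ ∈ H) → H ≠ ⊥ →
    (k = 1 ∨ ∃ a, a ∉ F ∧ H ⊓ ptStab a ≠ ⊥) → FT H F k := by
  intro k hk
  induction k, hk using Nat.le_induction with
  | base =>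
    intro G H F hfixG hcard hG _ hle hnorm hH _
    exact normal_trans_of_prim (hG.prim le_rfl hcard) hnorm hH (hfixG.mono hle)
  | succ k hk ih =>
    intro G H F hfixG hcard hG hnf hle hnorm hH hnr
    have hfixH : Fixes H F := hfixG.mono hle
    obtain ⟨a, ha, hHa⟩ : ∃ a, a ∉ F ∧ H ⊓ ptStab a ≠ ⊥ := by
      rcases hnr with h | h
      · omega
      · exact h
    have hF' : (insert a F).card = F.card + 1 := Finset.card_insert_of_notMem ha
    have hfixG' : Fixes (G ⊓ ptStab a) (insert a F) := hfixG.insert a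
    have hG' : FP (G ⊓ ptStab a) (insert a F) k := hG.stab ha
    have hle' : H ⊓ ptStab a ≤ G ⊓ ptStab a := inf_le_inf_right _ hle
    have hnorm' : ∀ g ∈ G ⊓ ptStab a, ∀ n ∈ H ⊓ ptStab a, g * n * g⁻¹ ∈ H ⊓ ptStab a := by
      intro g hg n hn
      refine Subgroup.mem_inf.mpr ⟨hnorm g (Subgroup.mem_inf.mp hg).1 n (Subgroup.mem_inf.mp hn).1,
        ?_⟩
      exact (ptStab a).mul_mem ((ptStab a).mul_mem (Subgroup.mem_inf.mp hg).2
        (Subgroup.mem_inf.mp hn).2) ((ptStab a).inv_mem (Subgroup.mem_inf.mp hg).2)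
    have hG2 : FT G F 2 := hG.1.of_le (by omega) hcard
    have htrG : FT G F 1 := hG.1.of_le (by omega) hcard
    have htrH : FT H F 1 := normal_trans hG2 hnorm hH hfixH
    have hnf' : ¬ Full (G ⊓ ptStab a) (insert a F) := fun h =>
      hnf (Full.of_stab ha hfixG htrG h)
    by_cases hcase : k = 1 ∨ ∃ b, b ∉ insert a F ∧ H ⊓ ptStab a ⊓ ptStab b ≠ ⊥
    · exact FT.of_stab hfixH htrH ha
        (ih (G ⊓ ptStab a) (H ⊓ ptStab a) (insert a F) hfixG' (by omega) hG' hnf' hle' hnorm' hHa
          hcase)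
    · exfalso
      push Not at hcase
      obtain ⟨hk1, hreg⟩ := hcase
      have hk2 : 2 ≤ k := by omega
      have hG'2 : FT (G ⊓ ptStab a) (insert a F) 2 := hG'.1.of_le hk2 (by omega)
      by_cases hsmall : Fintype.card α ≤ (insert a F).card + 3
      · exact hnf' (full_of_two_trans hfixG' hG'2 hsmall)
      · have htr' : FT (H ⊓ ptStab a) (insert a F) 1 :=
          normal_trans hG'2 hnorm' hHa (hfixH.insert a)
        obtain ⟨b, c, d, hb, hc, hd, hbc, hbd, hcd⟩ :=
          exists_three_notMem (insert a F) (by omega)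
        have hG'' : FP (G ⊓ ptStab a ⊓ ptStab b) (insert b (insert a F)) (k - 1) := by
          have : k = (k - 1) + 1 := by omega
          rw [this] at hG'
          exact hG'.stab hb
        have hF'' : (insert b (insert a F)).card = F.card + 2 := by
          rw [Finset.card_insert_of_notMem hb, hF']
        have hprim : PrimOff (G ⊓ ptStab a ⊓ ptStab b) (insert b (insert a F)) :=
          hG''.prim (by omega) (by omega)
        have hexp : ∀ h ∈ H ⊓ ptStab a, h ^ 2 = 1 := by
          intro m hm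
          by_cases hm1 : m = 1
          · rw [hm1]; simp
          rcases sq_eq_one_or_of_prim hb (hfixH.insert a) hnorm' (hreg b hb) hprim m hm hm1
            with h | h
          · exact h
          · exfalso
            apply hsmall
            have huniv : (Finset.univ : Finset α) ⊆
                insert (m b) (insert (m⁻¹ b) (insert b (insert a F))) := by
              intro z _
              by_cases hz : z ∈ insert b (insert a F)
              · exact Finset.mem_insert_of_mem (Finset.mem_insert_of_mem hz)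
              · rcases h z hz with rfl | rfl
                · exact Finset.mem_insert_self _ _
                · exact Finset.mem_insert_of_mem (Finset.mem_insert_self _ _)
            have h1 := Finset.card_le_card huniv
            rw [Finset.card_univ] at h1
            have h2 := Finset.card_insert_le (m b) (insert (m⁻¹ b) (insert b (insert a F)))
            have h3 := Finset.card_insert_le (m⁻¹ b) (insert b (insert a F))
            omega
        obtain ⟨s, hs, hsb⟩ := htr'.one_apply hb hc
        obtain ⟨t, ht, htb⟩ := htr'.one_apply hb hd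
        refine sharp_exp_two_false hfixH ha htrH hexp htr' s t hs ht ?_ ?_ ?_
        · intro h; rw [h] at hsb; exact hbc (by simpa using hsb)
        · intro h; rw [h] at htb; exact hbd (by simpa using htb)
        · intro h; rw [h] at hsb; exact hcd (hsb.symm.trans htb)

end Cfsg.Agent.Lib.Helper10
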