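import Mathlib

set_option autoImplicit false

namespace Cfsg.Agent.Lib.Helper10

variable {H : Type*} [Group H]

/-- `X` is invariant under conjugation by elements of `N`. -/
def ConjInv (N X : Subgroup H) : Prop := ∀ n ∈ N, ∀ g ∈ X, n * g * n⁻¹ ∈ X

/-- The conjugate `h X h⁻¹` of a subgroup. -/
def conjSub (h : H) (X : Subgroup H) : Subgroup H := X.map (MulAut.conj h).toMonoidHom

theorem mem_conjSub {h : H} {X : Subgroup H} {g : H} : g ∈ conjSub h X ↔ ∃ x ∈ X, h * x * h⁻¹ = g := by
  unfold conjSub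
  rw [Subgroup.mem_map]
  rfl

theorem conj_mem_conjSub {h : H} {X : Subgroup H} {x : H} (hx : x ∈ X) : h * x * h⁻¹ ∈ conjSub h X :=
  mem_conjSub.2 ⟨x, hx, rfl⟩

theorem card_conjSub [Finite H] (h : H) (X : Subgroup H) : Nat.card (conjSub h X) = Nat.card X := by
  unfold conjSub
  exact Nat.card_congr (Subgroup.equivMapOfInjective X _ (MulAut.conj h).injective).symm.toEquiv

theorem conjSub_ne_bot {h : H} {X : Subgroup H} (hX : X ≠ ⊥) : conjSub h X ≠ ⊥ := by
  intro hb
  apply hX
  unfold conjSub at hb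
  exact (Subgroup.map_eq_bot_iff_of_injective X (MulAut.conj h).injective).1 hb

theorem conjSub_le {h : H} {X N : Subgroup H} [N.Normal] (hX : X ≤ N) : conjSub h X ≤ N := by
  intro g hg
  obtain ⟨x, hx, rfl⟩ := mem_conjSub.1 hg
  exact ‹N.Normal›.conj_mem x (hX hx) h

theorem conjInv_conjSub {h : H} {X N : Subgroup H} [N.Normal] (hX : ConjInv N X) : ConjInv N (conjSub h X) := by
  intro n hn g hg
  obtain ⟨x, hx, rfl⟩ := mem_conjSub.1 hg
  have h1 : h⁻¹ * n * h ∈ N := by
    have := ‹N.Normal›.conj_mem n hn h⁻¹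
    simpa using this
  have h2 := hX _ h1 x hx
  have h3 : n * (h * x * h⁻¹) * n⁻¹ = h * ((h⁻¹ * n * h) * x * (h⁻¹ * n * h)⁻¹) * h⁻¹ := by group
  rw [h3]
  exact conj_mem_conjSub h2

/-- Two `N`-invariant subgroups of `N` with trivial intersection commute elementwise. -/
theorem commute_of_conjInv {N X Y : Subgroup H} (hXN : X ≤ N) (hYN : Y ≤ N) (hX : ConjInv N X) (hY : ConjInv N Y)
    (hXY : X ⊓ Y = ⊥) {x y : H} (hx : x ∈ X) (hy : y ∈ Y) : x * y = y * x := by
  have hcomm : x * y * x⁻¹ * y⁻¹ ∈ X ⊓ Y := by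
    refine ⟨?_, ?_⟩
    · have := hX y (hYN hy) x⁻¹ (X.inv_mem hx)
      have h3 : x * y * x⁻¹ * y⁻¹ = x * (y * x⁻¹ * y⁻¹) := by group
      rw [h3]
      exact X.mul_mem hx this
    · have := hY x (hXN hx) y hy
      exact Y.mul_mem this (Y.inv_mem hy)
  rw [hXY, Subgroup.mem_bot] at hcomm
  have h5 : x * y * x⁻¹ = y := mul_inv_eq_one.1 hcomm
  calc x * y = x * y * x⁻¹ * x := by group
    _ = y * x := by rw [h5]

/-- A witness that `T ^ k` embeds in `N` with `N`-invariant image and coordinates mapped onto conjugates of `T`. -/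
def IsDecomp (N T : Subgroup H) (k : ℕ) (f : (Fin k → T) →* H) : Prop :=
  Function.Injective f ∧ (∀ x, f x ∈ N) ∧ ConjInv N f.range ∧
    ∀ i, ∃ h : H, ∀ t : T, f (Pi.mulSingle i t) = h * (t : H) * h⁻¹

theorem exists_decomp_succ [Finite H] {N T : Subgroup H} [N.Normal]
    (hmin : ∀ M : Subgroup H, M.Normal → M ≤ N → M = ⊥ ∨ M = N)
    (hT1 : T ≠ ⊥) (hTN : T ≤ N) (hTinv : ConjInv N T)
    (hTmin : ∀ X : Subgroup H, X ≠ ⊥ → X ≤ N → ConjInv N X → Nat.card T ≤ Nat.card X)
    {k : ℕ} {f : (Fin k → T) →* H} (hf : IsDecomp N T k f) (hne : f.range ≠ N) :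
    ∃ f' : (Fin (k + 1) → T) →* H, IsDecomp N T (k + 1) f' := by
  classical
  obtain ⟨hinj, hfN, hfinv, hcoord⟩ := hf
  have hPN : f.range ≤ N := by
    rintro _ ⟨x, rfl⟩
    exact hfN x
  -- some conjugate of `T` is not contained in the range of `f`
  have hex : ∃ h : H, ¬ conjSub h T ≤ f.range := by
    by_contra hall
    push_neg at hall
    apply hne
    apply le_antisymm hPN
    have hcl : Subgroup.normalClosure (T : Set H) ≤ f.range := by
      unfold Subgroup.normalClosure
      rw [Subgroup.closure_le]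
      intro g hg
      rw [Group.mem_conjugatesOfSet_iff] at hg
      obtain ⟨t, ht, htg⟩ := hg
      rw [isConj_iff] at htg
      obtain ⟨c, rfl⟩ := htg
      exact hall c (conj_mem_conjSub ht)
    have hle : Subgroup.normalClosure (T : Set H) ≤ N := hcl.trans hPN
    rcases hmin _ Subgroup.normalClosure_normal hle with h0 | h0
    · exfalso
      apply hT1
      have : T ≤ Subgroup.normalClosure (T : Set H) := Subgroup.le_normalClosure
      rw [h0] at this
      exact le_bot_iff.1 this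
    · rw [← h0]; exact hcl
  obtain ⟨h, hh⟩ := hex
  set U := conjSub h T with hU
  have hUN : U ≤ N := conjSub_le hTN
  have hUinv : ConjInv N U := conjInv_conjSub hTinv
  have hUcard : Nat.card U = Nat.card T := card_conjSub h T
  -- the intersection is trivial
  have hint : U ⊓ f.range = ⊥ := by
    by_contra hX
    have hXinv : ConjInv N (U ⊓ f.range) := by
      intro n hn g hg
      exact ⟨hUinv n hn g hg.1, hfinv n hn g hg.2⟩
    have h1 := hTmin (U ⊓ f.range) hX (inf_le_left.trans hUN) hXinv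
    have h2 : U ⊓ f.range = U := Subgroup.eq_of_le_of_card_ge inf_le_left (by rw [hUcard]; exact h1)
    apply hh
    rw [← h2]
    exact inf_le_right
  have hcomm : ∀ u ∈ U, ∀ v ∈ f.range, u * v = v * u :=
    fun u hu v hv => commute_of_conjInv hUN hPN hUinv hfinv hint hu hv
  -- the extended homomorphism
  let f' : (Fin (k + 1) → T) →* H :=
    { toFun := fun x => f (Fin.init x) * (h * (x (Fin.last k) : H) * h⁻¹)
      map_one' := by
        have : Fin.init (1 : Fin (k + 1) → T) = 1 := rfl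
        simp [this]
      map_mul' := by
        intro x y
        have h1 : Fin.init (x * y) = Fin.init x * Fin.init y := rfl
        have h2 : ((x * y) (Fin.last k) : H) = (x (Fin.last k) : H) * (y (Fin.last k) : H) := rfl
        rw [h1, h2, map_mul]
        have h3 : h * ((x (Fin.last k) : H) * (y (Fin.last k) : H)) * h⁻¹ =
            (h * (x (Fin.last k) : H) * h⁻¹) * (h * (y (Fin.last k) : H) * h⁻¹) := by group
        rw [h3]
        have h4 := hcomm (h * (x (Fin.last k) : H) * h⁻¹) (conj_mem_conjSub (x (Fin.last k)).2)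
          (f (Fin.init y)) ⟨_, rfl⟩
        calc f (Fin.init x) * f (Fin.init y) *
              ((h * (x (Fin.last k) : H) * h⁻¹) * (h * (y (Fin.last k) : H) * h⁻¹))
            = f (Fin.init x) * (f (Fin.init y) * (h * (x (Fin.last k) : H) * h⁻¹)) *
              (h * (y (Fin.last k) : H) * h⁻¹) := by group
          _ = f (Fin.init x) * ((h * (x (Fin.last k) : H) * h⁻¹) * f (Fin.init y)) *
              (h * (y (Fin.last k) : H) * h⁻¹) := by rw [h4]
          _ = _ := by group }
  have hf'apply : ∀ x, f' x = f (Fin.init x) * (h * (x (Fin.last k) : H) * h⁻¹) := fun x => rfl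
  refine ⟨f', ?_, ?_, ?_, ?_⟩
  · -- injectivity
    rw [injective_iff_map_eq_one]
    intro x hx
    rw [hf'apply] at hx
    have h1 : f (Fin.init x) = (h * (x (Fin.last k) : H) * h⁻¹)⁻¹ := eq_inv_of_mul_eq_one_left hx
    have h2 : f (Fin.init x) ∈ U ⊓ f.range :=
      ⟨by rw [h1]; exact U.inv_mem (conj_mem_conjSub (x (Fin.last k)).2), ⟨_, rfl⟩⟩
    rw [hint, Subgroup.mem_bot] at h2
    have h3 : Fin.init x = 1 := (injective_iff_map_eq_one f).1 hinj _ h2
    rw [h2, one_mul] at hx
    have h4 : (x (Fin.last k) : H) = 1 := by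
      have : (x (Fin.last k) : H) = h⁻¹ * (h * (x (Fin.last k) : H) * h⁻¹) * h := by group
      rw [this, hx]; group
    have h5 : x (Fin.last k) = 1 := Subtype.ext h4
    funext i
    refine Fin.lastCases ?_ (fun j => ?_) i
    · exact h5
    · exact congrFun h3 j
  · intro x
    rw [hf'apply]
    exact N.mul_mem (hfN _) (hUN (conj_mem_conjSub (x (Fin.last k)).2))
  · -- invariance of the range
    rintro n hn _ ⟨x, rfl⟩
    rw [hf'apply]
    have h1 : n * f (Fin.init x) * n⁻¹ ∈ f.range := hfinv n hn _ ⟨_, rfl⟩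
    have h2 : n * (h * (x (Fin.last k) : H) * h⁻¹) * n⁻¹ ∈ U :=
      hUinv n hn _ (conj_mem_conjSub (x (Fin.last k)).2)
    obtain ⟨y, hy⟩ := h1
    obtain ⟨t, ht, htu⟩ := mem_conjSub.1 h2
    refine ⟨Fin.snoc y ⟨t, ht⟩, ?_⟩
    rw [hf'apply, Fin.init_snoc, Fin.snoc_last, hy]
    show n * f (Fin.init x) * n⁻¹ * (h * t * h⁻¹) = _
    rw [htu]
    group
  · -- coordinates
    intro i
    refine Fin.lastCases ?_ (fun j => ?_) i
    · refine ⟨h, fun t => ?_⟩
      rw [hf'apply]
      have h1 : Fin.init (Pi.mulSingle (M := fun _ : Fin (k + 1) => ↥T) (Fin.last k) t) = (1 : Fin k → ↥T) := by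
        funext j
        show Pi.mulSingle (M := fun _ : Fin (k + 1) => ↥T) (Fin.last k) t j.castSucc = 1
        rw [Pi.mulSingle_apply, if_neg (Fin.castSucc_lt_last j).ne]
      rw [h1, map_one, one_mul, Pi.mulSingle_eq_same]
    · obtain ⟨hj, hhj⟩ := hcoord j
      refine ⟨hj, fun t => ?_⟩
      rw [hf'apply]
      have h1 : Fin.init (Pi.mulSingle (M := fun _ : Fin (k + 1) => ↥T) j.castSucc t) =
          (Pi.mulSingle (M := fun _ : Fin k => ↥T) j t) := by
        funext l
        show Pi.mulSingle (M := fun _ : Fin (k + 1) => ↥T) j.castSucc t l.castSucc =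
          Pi.mulSingle (M := fun _ : Fin k => ↥T) j t l
        rw [Pi.mulSingle_apply, Pi.mulSingle_apply]
        simp only [Fin.castSucc_inj]
      have h2 : (Pi.mulSingle (M := fun _ : Fin (k + 1) => ↥T) j.castSucc t) (Fin.last k) = 1 := by
        rw [Pi.mulSingle_apply, if_neg (Fin.castSucc_lt_last j).ne']
      rw [h1, h2, hhj t]
      simp

theorem conj_mulSingle {ι : Type*} [DecidableEq ι] {T : Type*} [Group T] (x : ι → T) (i : ι) (a : T) :
    x * Pi.mulSingle i a * x⁻¹ = Pi.mulSingle i (x i * a * (x i)⁻¹) := by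
  funext j
  by_cases hj : j = i
  · subst hj
    simp
  · simp [Pi.mulSingle_apply, hj]

/-- A minimal normal subgroup of a finite group is an internal direct product of conjugates of a subgroup `T`
that is minimal among the nontrivial subgroups invariant under `N`. -/
theorem minimal_normal_decomp [Finite H] (N : Subgroup H) [N.Normal] (hN : N ≠ ⊥)
    (hmin : ∀ M : Subgroup H, M.Normal → M ≤ N → M = ⊥ ∨ M = N) :
    ∃ (T : Subgroup H) (k : ℕ) (f : (Fin k → T) →* H), T ≠ ⊥ ∧ T ≤ N ∧ ConjInv N T ∧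
      (∀ X : Subgroup H, X ≠ ⊥ → X ≤ N → ConjInv N X → Nat.card T ≤ Nat.card X) ∧
      IsDecomp N T k f ∧ f.range = N := by
  classical
  let 𝒯 : Set (Subgroup H) := {X | X ≠ ⊥ ∧ X ≤ N ∧ ConjInv N X}
  have h𝒯ne : 𝒯.Nonempty :=
    ⟨N, hN, le_refl _, fun n hn g hg => N.mul_mem (N.mul_mem hn hg) (N.inv_mem hn)⟩
  obtain ⟨T, ⟨hT1, hTN, hTinv⟩, hTmin'⟩ := Set.exists_min_image 𝒯 (fun X => Nat.card X) (Set.toFinite _) h𝒯ne
  have hTmin : ∀ X : Subgroup H, X ≠ ⊥ → X ≤ N → ConjInv N X → Nat.card T ≤ Nat.card X :=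
    fun X h1 h2 h3 => hTmin' X ⟨h1, h2, h3⟩
  by_contra hcon
  have hall : ∀ (k : ℕ) (f : (Fin k → T) →* H), IsDecomp N T k f → f.range ≠ N := by
    intro k f hf hr
    exact hcon ⟨T, k, f, hT1, hTN, hTinv, hTmin, hf, hr⟩
  have hP : ∀ k : ℕ, ∃ f : (Fin k → T) →* H, IsDecomp N T k f := by
    intro k
    induction k with
    | zero =>
      refine ⟨1, ?_, ?_, ?_, ?_⟩
      · intro x y _
        exact Subsingleton.elim x y
      · intro x
        exact N.one_mem
      · rintro n hn _ ⟨x, rfl⟩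
        exact ⟨1, by simp⟩
      · intro i
        exact i.elim0
    | succ k ih =>
      obtain ⟨f, hf⟩ := ih
      exact exists_decomp_succ hmin hT1 hTN hTinv hTmin hf (hall k f hf)
  obtain ⟨f, hinj, hfN, -, -⟩ := hP (Nat.card N)
  have h1 : Nat.card (Fin (Nat.card N) → T) ≤ Nat.card N := by
    apply Nat.card_le_card_of_injective (fun x => (⟨f x, hfN x⟩ : N))
    intro x y hxy
    exact hinj (congrArg Subtype.val hxy)
  have h2 : Nat.card (Fin (Nat.card N) → T) = Nat.card T ^ Nat.card N := by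
    rw [Nat.card_pi]
    simp
  have h3 : 2 ≤ Nat.card T := by
    haveI : Nontrivial T := (Subgroup.nontrivial_iff_ne_bot T).2 hT1
    have := Finite.one_lt_card (α := T)
    omega
  have h4 : Nat.card N < 2 ^ Nat.card N := Nat.lt_two_pow_self
  have h5 : 2 ^ Nat.card N ≤ Nat.card T ^ Nat.card N := Nat.pow_le_pow_left h3 _
  omega

/-- A minimal normal subgroup of a finite group is isomorphic to a direct power of a simple group. -/
theorem minimal_normal_iso_pow [Finite H] (N : Subgroup H) [N.Normal] (hN : N ≠ ⊥)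
    (hmin : ∀ M : Subgroup H, M.Normal → M ≤ N → M = ⊥ ∨ M = N) :
    ∃ (T : Type) (_ : Group T) (m : ℕ), IsSimpleGroup T ∧ 0 < m ∧ Nonempty (N ≃* (Fin m → T)) := by
  classical
  obtain ⟨T, k, f, hT1, hTN, hTinv, hTmin, ⟨hinj, hfN, hfinv, hcoord⟩, hrange⟩ := minimal_normal_decomp N hN hmin
  have hk : 0 < k := by
    rcases Nat.eq_zero_or_pos k with h0 | h0
    · exfalso
      subst h0
      apply hN
      rw [← hrange, Subgroup.eq_bot_iff_forall]
      rintro _ ⟨x, rfl⟩
      have : x = 1 := Subsingleton.elim x 1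
      rw [this, map_one]
    · exact h0
  haveI : Nontrivial T := (Subgroup.nontrivial_iff_ne_bot T).2 hT1
  have hsimple : IsSimpleGroup T := by
    refine ⟨fun A hA => ?_⟩
    by_cases hA0 : A = ⊥
    · exact Or.inl hA0
    · right
      obtain ⟨h₀, hh₀⟩ := hcoord ⟨0, hk⟩
      set A' : Subgroup H := conjSub h₀ (A.map T.subtype) with hA'
      have hA'le : A' ≤ conjSub h₀ T := by
        intro g hg
        obtain ⟨x, ⟨a, ha, rfl⟩, rfl⟩ := mem_conjSub.1 hg
        exact conj_mem_conjSub a.2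
      have hA'N : A' ≤ N := hA'le.trans (conjSub_le hTN)
      have hA'ne : A' ≠ ⊥ := by
        apply conjSub_ne_bot
        intro hb
        exact hA0 ((Subgroup.map_eq_bot_iff_of_injective A T.subtype_injective).1 hb)
      have hA'inv : ConjInv N A' := by
        intro n hn g hg
        obtain ⟨_, ⟨a, ha, rfl⟩, rfl⟩ := mem_conjSub.1 hg
        rw [← hrange] at hn
        obtain ⟨x, rfl⟩ := hn
        have h1 : h₀ * (T.subtype a) * h₀⁻¹ = f (Pi.mulSingle ⟨0, hk⟩ a) := (hh₀ a).symm
        rw [h1, ← map_inv, ← map_mul, ← map_mul, conj_mulSingle, hh₀]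
        apply conj_mem_conjSub
        exact ⟨_, hA.conj_mem a ha (x ⟨0, hk⟩), rfl⟩
      have h1 := hTmin A' hA'ne hA'N hA'inv
      have h2 : Nat.card A' = Nat.card A := by
        rw [hA', card_conjSub]
        exact Nat.card_congr (Subgroup.equivMapOfInjective A _ T.subtype_injective).symm.toEquiv
      rw [h2] at h1
      exact Subgroup.eq_top_of_le_card A h1
  -- transfer to `Type`
  have e1 : (Fin k → T) ≃* N := (MonoidHom.ofInjective hinj).trans (MulEquiv.subgroupCongr hrange)
  have e2 : Shrink.{0} T ≃* T := Shrink.mulEquiv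
  haveI : IsSimpleGroup (Shrink.{0} T) := e2.isSimpleGroup
  have e3 : (Fin k → T) ≃* (Fin k → Shrink.{0} T) := MulEquiv.piCongrRight (fun _ => e2.symm)
  exact ⟨Shrink.{0} T, inferInstance, k, inferInstance, hk, ⟨e1.symm.trans e3⟩⟩

end Cfsg.Agent.Lib.Helper10
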