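import Mathlib

set_option autoImplicit false

namespace Cfsg.Agent.Lib.Helper10

open MulAction SubMulAction

/-- If `G` is `m`-pretransitive and the fixing subgroup of some `m`-set is `k`-pretransitive on the complement,
then `G` is `(m + k)`-pretransitive. -/
theorem isMultiplyPretransitive_of_ofFixingSubgroup (m k : ℕ) :
    ∀ {G α : Type*} [Group G] [MulAction G α] (s : Set α), s.Finite → s.ncard = m →
      IsMultiplyPretransitive G α m →
      IsMultiplyPretransitive (fixingSubgroup G s) (ofFixingSubgroup G s) k →
      IsMultiplyPretransitive G α (m + k) := by
  induction m with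
  | zero =>
    intro G α _ _ s hfin hs _ hk
    have hs' : s = ∅ := (Set.ncard_eq_zero hfin).1 hs
    subst hs'
    rw [zero_add]
    exact IsPretransitive.of_embedding (f := ofFixingSubgroup_equivariantMap G (∅ : Set α))
      ofFixingSubgroupEmpty_equivariantMap_bijective.surjective
  | succ m ih =>
    intro G α _ _ s hfin hs hG hk
    obtain ⟨a, ha⟩ : s.Nonempty := by
      rw [← Set.ncard_pos hfin, hs]; omega
    let t : Set (ofStabilizer G a) := Subtype.val ⁻¹' s
    have hst : s = insert a (Subtype.val '' t) := by
      ext x
      by_cases hx : x = a <;> simp [hx, t, mem_ofStabilizer_iff, ha]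
    have hcard : ((m + 1 : ℕ) : ENat) ≤ ENat.card α := by
      have h1 : s.encard ≤ ENat.card α := Set.encard_le_card
      have h2 : s.encard = ((m + 1 : ℕ) : ENat) := by
        rw [← hs]; exact (hfin.cast_ncard_eq).symm
      rwa [h2] at h1
    have hpre : IsPretransitive G α := by
      rw [← is_one_pretransitive_iff]
      exact isMultiplyPretransitive_of_le' (n := m + 1) (by omega) hcard
    have h1 : IsMultiplyPretransitive (stabilizer G a) (ofStabilizer G a) m :=
      ofStabilizer.isMultiplyPretransitive.1 hG
    have h2 : IsMultiplyPretransitive (fixingSubgroup (stabilizer G a) t)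
        (ofFixingSubgroup (stabilizer G a) t) k := by
      have hk' : IsMultiplyPretransitive (fixingSubgroup G (insert a (Subtype.val '' t)))
          (ofFixingSubgroup G (insert a (Subtype.val '' t))) k := by
        rw [← hst]; exact hk
      exact IsPretransitive.of_embedding (f := ofFixingSubgroup_insert_map a t)
        ofFixingSubgroup_insert_map_bijective.surjective
    have ha' : a ∉ Subtype.val '' t := by
      rintro ⟨x, _, hx⟩
      exact x.prop (by rw [hx]; exact Set.mem_singleton a)
    have htfin : t.Finite := hfin.preimage Subtype.val_injective.injOn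
    have htcard : t.ncard = m := by
      have h3 : (Subtype.val '' t).ncard = t.ncard := Set.ncard_image_of_injective t Subtype.val_injective
      have h4 : (insert a (Subtype.val '' t)).ncard = (Subtype.val '' t).ncard + 1 :=
        Set.ncard_insert_of_notMem ha' (htfin.image _)
      rw [← hst, hs, h3] at h4
      omega
    have h3 := ih t htfin htcard h1 h2
    have h4 : IsMultiplyPretransitive G α (m + k).succ := ofStabilizer.isMultiplyPretransitive.2 h3
    have : m + 1 + k = (m + k).succ := by omega
    rw [this]
    exact h4

end Cfsg.Agent.Lib.Helper10
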