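import Mathlib
import Cfsg.Agent.Lib.Helper10.SpSylowE1

set_option autoImplicit false

namespace Cfsg.Agent.Lib.Helper10.OmegaSylow

open Cfsg.Agent.Lib.Helper10.SpSylowE

/-- coordinate permutation action on functions -/
def permAut (ι D : Type*) [Group D] : Equiv.Perm ι →* MulAut (ι → D) where
  toFun τ :=
    { toFun := fun θ => fun i => θ (τ.symm i)
      invFun := fun θ => fun i => θ (τ i)
      left_inv := by
        intro θ
        funext i
        simp
      right_inv := by
        intro θ
        funext i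
        simp
      map_mul' := by
        intro a b
        rfl }
  map_one' := by
    apply MulEquiv.ext
    intro θ
    rfl
  map_mul' := by
    intro a b
    apply MulEquiv.ext
    intro θ
    rfl

theorem permAut_apply (ι D : Type*) [Group D] (τ : Equiv.Perm ι) (θ : ι → D) (i : ι) :
    permAut ι D τ θ i = θ (τ.symm i) := rfl

open scoped commutatorElement in
theorem sqComm_ker {ι : Type*} [Fintype ι] [DecidableEq ι] {D : Type*} [Group D] (R : Subgroup D)
    (h1 : ∀ d : D, d ∉ R → d ^ 2 = 1) (h2 : ∀ d : D, d ∉ R → ∀ ρ ∈ R, d * ρ * d⁻¹ = ρ⁻¹)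
    (t₀ : D) (ht₀ : t₀ ∉ R)
    (h3 : ∀ i : ι, ∃ j l : ι, i ≠ j ∧ i ≠ l ∧ j ≠ l)
    (T : Subgroup (Equiv.Perm ι)) (hT : SqComm T)
    {C : Type*} [Group C] (hC : ∀ c : C, c ^ 2 = 1)
    {A : Type*} [CommGroup A]
    (χ : ((ι → D) ⋊[(permAut ι D).comp T.subtype] T) × C →* A)
    (c1 : ∀ τ : T, χ (SemidirectProduct.inr τ, 1) = 1)
    (c2 : ∀ (i j : ι) (d : D), χ (SemidirectProduct.inl (Pi.mulSingle i d), 1) =
      χ (SemidirectProduct.inl (Pi.mulSingle j d), 1)) :
    SqComm χ.ker := by
  classical
  let jN0 : (ι → D) →* ((ι → D) ⋊[(permAut ι D).comp T.subtype] T) × C :=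
    (MonoidHom.inl _ C).comp SemidirectProduct.inl
  let jT0 : T →* ((ι → D) ⋊[(permAut ι D).comp T.subtype] T) × C :=
    (MonoidHom.inl _ C).comp SemidirectProduct.inr
  have hjT : ∀ τ, jT0 τ ∈ χ.ker := fun τ => by
    rw [MonoidHom.mem_ker]
    exact c1 τ
  let jT : T →* χ.ker := jT0.codRestrict χ.ker hjT
  have hχN : ∀ (i j : ι) (d : D), χ (jN0 (Pi.mulSingle i d)) = χ (jN0 (Pi.mulSingle j d)) :=
    fun i j d => c2 i j d
  -- the subgroup of base elements landing in the commutator of the kernel
  let M : Subgroup (ι → D) := ((commutator χ.ker).map χ.ker.subtype).comap jN0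
  have hM : ∀ (i : ι) (d : D), Pi.mulSingle i (d ^ 2) ∈ M := by
    intro i d
    by_cases hd : d ∈ R
    · obtain ⟨j, l, hij, hil, hjl⟩ := h3 i
      set x : ι → D := Pi.mulSingle i t₀ * Pi.mulSingle l t₀ with hx
      set y : ι → D := Pi.mulSingle i d * Pi.mulSingle j d⁻¹ with hy
      have hxK : jN0 x ∈ χ.ker := by
        rw [MonoidHom.mem_ker, hx, map_mul, map_mul, hχN l i t₀, ← map_mul, ← map_mul, ← pow_two,
          ← Pi.mulSingle_pow, h1 t₀ ht₀, Pi.mulSingle_one, map_one, map_one]
      have hyK : jN0 y ∈ χ.ker := by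
        rw [MonoidHom.mem_ker, hy, map_mul, map_mul, hχN j i d⁻¹, ← map_mul, ← map_mul,
          ← Pi.mulSingle_mul, mul_inv_cancel, Pi.mulSingle_one, map_one, map_one]
      have hcomm : ⁅(⟨jN0 x, hxK⟩ : χ.ker), ⟨jN0 y, hyK⟩⁆ ∈ commutator χ.ker := by
        rw [commutator_def]
        exact Subgroup.commutator_mem_commutator (Subgroup.mem_top _) (Subgroup.mem_top _)
      have hxy : ⁅x, y⁆ = Pi.mulSingle i (d⁻¹ * d⁻¹) := by
        funext k
        rw [commutatorElement_def, hx, hy]
        simp only [Pi.mul_apply, Pi.inv_apply, Pi.mulSingle_apply]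
        by_cases hki : k = i
        · subst hki
          simp only [if_true, if_neg hij, if_neg hil, mul_one]
          rw [h2 t₀ ht₀ d hd]
        · simp only [if_neg hki, one_mul]
          by_cases hkj : k = j
          · subst hkj
            have hkl : k ≠ l := hjl
            simp [hkl]
          · simp only [if_neg hkj, mul_one]
            by_cases hkl : k = l
            · subst hkl
              simp
            · simp [hkl]
      have h4 : Pi.mulSingle i (d⁻¹ * d⁻¹) ∈ M := by
        rw [Subgroup.mem_comap, ← hxy, map_commutatorElement]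
        exact ⟨_, hcomm, rfl⟩
      have h5 := M.inv_mem h4
      rw [← Pi.mulSingle_inv] at h5
      have : (d⁻¹ * d⁻¹)⁻¹ = d ^ 2 := by
        rw [mul_inv_rev, inv_inv, pow_two]
      rw [this] at h5
      exact h5
    · rw [h1 d hd, Pi.mulSingle_one]
      exact M.one_mem
  apply sqComm_of_sqKer
  rintro ⟨⟨g, c⟩, hk⟩
  have hk1 : jT g.right ∈ sqKer χ.ker := by
    rw [mem_sqKer, ← map_pow]
    exact map_mem_commutator jT (hT g.right)
  have hdecomp : ((g, c) : ((ι → D) ⋊[(permAut ι D).comp T.subtype] T) × C) =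
      (SemidirectProduct.inl g.left, c) * jT0 g.right := by
    apply Prod.ext
    · show g = SemidirectProduct.inl g.left * SemidirectProduct.inr g.right
      rw [SemidirectProduct.inl_left_mul_inr_right]
    · show c = c * 1
      rw [mul_one]
  have hk2mem : ((SemidirectProduct.inl g.left, c) :
      ((ι → D) ⋊[(permAut ι D).comp T.subtype] T) × C) ∈ χ.ker := by
    have h6 : ((SemidirectProduct.inl g.left, c) :
        ((ι → D) ⋊[(permAut ι D).comp T.subtype] T) × C) = (g, c) * (jT0 g.right)⁻¹ := by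
      rw [hdecomp, mul_assoc, mul_inv_cancel, mul_one]
    rw [h6]
    exact χ.ker.mul_mem hk (χ.ker.inv_mem (hjT g.right))
  have hk2 : (⟨(SemidirectProduct.inl g.left, c), hk2mem⟩ : χ.ker) ∈ sqKer χ.ker := by
    rw [mem_sqKer]
    have hsq : g.left ^ 2 ∈ M := by
      have h7 := Finset.noncommProd_mulSingle (g.left ^ 2)
      rw [← h7]
      apply Subgroup.noncommProd_mem
      intro i _
      rw [Pi.pow_apply]
      exact hM i (g.left i)
    rw [Subgroup.mem_comap] at hsq
    obtain ⟨z, hz, hzv⟩ := hsq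
    have : (⟨(SemidirectProduct.inl g.left, c), hk2mem⟩ : χ.ker) ^ 2 = z := by
      apply Subtype.ext
      rw [Subgroup.coe_pow]
      show ((SemidirectProduct.inl g.left, c) :
        ((ι → D) ⋊[(permAut ι D).comp T.subtype] T) × C) ^ 2 = z.1
      have hzv' : z.1 = jN0 (g.left ^ 2) := hzv
      rw [hzv']
      apply Prod.ext
      · show (SemidirectProduct.inl g.left) ^ 2 = SemidirectProduct.inl (g.left ^ 2)
        rw [map_pow]
      · show c ^ 2 = 1
        exact hC c
    rw [this]
    exact hz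
  have hfinal : (⟨(g, c), hk⟩ : χ.ker) =
      ⟨(SemidirectProduct.inl g.left, c), hk2mem⟩ * jT g.right := by
    apply Subtype.ext
    exact hdecomp
  rw [hfinal]
  exact (sqKer χ.ker).mul_mem hk2 hk1

end Cfsg.Agent.Lib.Helper10.OmegaSylow
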