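import Mathlib
import Cfsg.Prelude.Def_Classical
import Cfsg.Agent.Lib.Helper10.SpSylow
import Cfsg.Agent.Lib.Helper10.SpSylowE1

set_option autoImplicit false

namespace Cfsg.Agent.Lib.Helper10.OmegaSylow

open Module Cfsg.Agent.Lib.Helper10.SpSylow Cfsg.Agent.Lib.Helper10.SpSylowE

universe u

variable {F : Type u} [Field F]

/-- isometries of a function on a module, as units of the endomorphism ring -/
def isoSubgroup {V : Type*} [AddCommGroup V] [Module F V] (Q : V → F) :
    Subgroup (Module.End F V)ˣ where
  carrier := {g | ∀ x, Q (((g : (Module.End F V)ˣ) : Module.End F V) x) = Q x}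
  mul_mem' := by
    intro a b ha hb x
    rw [Units.val_mul, Module.End.mul_apply, ha, hb]
  one_mem' := by
    intro x
    rfl
  inv_mem' := by
    intro a ha x
    have h1 : ((a : (Module.End F V)ˣ) : Module.End F V)
        (((a⁻¹ : (Module.End F V)ˣ) : Module.End F V) x) = x := by
      rw [← Module.End.mul_apply, Units.mul_inv, Module.End.one_apply]
    have h2 := ha (((a⁻¹ : (Module.End F V)ˣ) : Module.End F V) x)
    rw [h1] at h2
    exact h2.symm

theorem mem_isoSubgroup {V : Type*} [AddCommGroup V] [Module F V] (Q : V → F)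
    (g : (Module.End F V)ˣ) :
    g ∈ isoSubgroup Q ↔ ∀ x, Q (((g : (Module.End F V)ˣ) : Module.End F V) x) = Q x := Iff.rfl

/-- the matrix isometry group and the isometry group of linear maps -/
noncomputable def isoEquivMatrix {ι : Type} [Fintype ι] [DecidableEq ι] (Q : (ι → F) → F) :
    ↥(Cfsg.isometryGroup F Q) ≃* ↥(isoSubgroup Q) := by
  let T := Matrix.GeneralLinearGroup.toLin (n := ι) (R := F)
  have hmap : (Cfsg.isometryGroup F Q).map T.toMonoidHom = isoSubgroup Q := by
    ext u
    constructor
    · rintro ⟨g, hg, rfl⟩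
      intro x
      have := hg x x
      show Q (((T g : (Module.End F (ι → F))ˣ) : Module.End F (ι → F)) x) = Q x
      rw [Matrix.GeneralLinearGroup.coe_toLin]
      exact this
    · intro hu
      refine ⟨T.symm u, ?_, ?_⟩
      · intro x _
        have h1 := hu x
        have h2 : ((u : (Module.End F (ι → F))ˣ) : Module.End F (ι → F)) =
            ((T (T.symm u) : (Module.End F (ι → F))ˣ) : Module.End F (ι → F)) := by
          rw [MulEquiv.apply_symm_apply]
        rw [h2, Matrix.GeneralLinearGroup.coe_toLin] at h1
        exact h1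
      · exact MulEquiv.apply_symm_apply T u
  exact (T.subgroupMap (Cfsg.isometryGroup F Q)).trans (MulEquiv.subgroupCongr hmap)

/-- transfer of isometry groups along an isometric linear equivalence -/
noncomputable def isoTransfer {V V' : Type*} [AddCommGroup V] [Module F V] [AddCommGroup V']
    [Module F V'] (ε : V ≃ₗ[F] V') (Q : V → F) (Q' : V' → F) (hQ : ∀ x, Q' (ε x) = Q x) :
    ↥(isoSubgroup Q) ≃* ↥(isoSubgroup Q') where
  toFun g := ⟨Units.map (conjHom ε) g.1, by
    intro x
    show Q' (conjHom ε ((g.1 : (Module.End F V)ˣ) : Module.End F V) x) = Q' x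
    rw [conjHom_apply, hQ, g.2, ← hQ, LinearEquiv.apply_symm_apply]⟩
  invFun g := ⟨Units.map (conjHom ε.symm) g.1, by
    intro x
    show Q (conjHom ε.symm ((g.1 : (Module.End F V')ˣ) : Module.End F V') x) = Q x
    rw [conjHom_apply, ← hQ, LinearEquiv.symm_symm, LinearEquiv.apply_symm_apply, g.2, hQ]⟩
  left_inv := by
    intro g
    apply Subtype.ext
    apply Units.ext
    apply LinearMap.ext
    intro x
    show conjHom ε.symm (conjHom ε ((g.1 : (Module.End F V)ˣ) : Module.End F V)) x = _
    rw [conjHom_apply, conjHom_apply, LinearEquiv.symm_symm, LinearEquiv.symm_apply_apply,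
      LinearEquiv.symm_apply_apply]
  right_inv := by
    intro g
    apply Subtype.ext
    apply Units.ext
    apply LinearMap.ext
    intro x
    show conjHom ε (conjHom ε.symm ((g.1 : (Module.End F V')ˣ) : Module.End F V')) x = _
    rw [conjHom_apply, conjHom_apply, LinearEquiv.symm_symm, LinearEquiv.apply_symm_apply,
      LinearEquiv.apply_symm_apply]
  map_mul' := by
    intro a b
    apply Subtype.ext
    show Units.map (conjHom ε) (a.1 * b.1) = Units.map (conjHom ε) a.1 * Units.map (conjHom ε) b.1
    rw [map_mul]

/-- isomorphic groups have isomorphic commutator subgroups -/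
noncomputable def commEquiv {G H : Type*} [Group G] [Group H] (e : G ≃* H) :
    ↥(commutator G) ≃* ↥(commutator H) := by
  have h : (commutator G).map e.toMonoidHom = commutator H := by
    rw [commutator_def, Subgroup.map_commutator,
      Subgroup.map_top_of_surjective e.toMonoidHom e.surjective, commutator_def]
  exact (e.subgroupMap (commutator G)).trans (MulEquiv.subgroupCongr h)

theorem sqComm_sylow_of_embedding {G H : Type*} [Group G] [Finite G] [Group H] (f : H →* G)
    (hf : Function.Injective f) (hH : SqComm H)
    (hcard : Nat.card H = 2 ^ (Nat.card G).factorization 2) (P : Sylow 2 G) :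
    SqComm ↥(P : Subgroup G) := by
  let e : H ≃* f.range := MonoidHom.ofInjective hf
  have hc : Nat.card f.range = 2 ^ (Nat.card G).factorization 2 := by
    rw [← Nat.card_congr e.toEquiv, hcard]
  let P' : Sylow 2 G := Sylow.ofCard f.range hc
  have hP'E : SqComm ↥(P' : Subgroup G) := hH.of_equiv e
  obtain ⟨g, hg⟩ := MulAction.exists_smul_eq G P' P
  subst hg
  exact hP'E.of_equiv (Sylow.equivSMul P' g)

end Cfsg.Agent.Lib.Helper10.OmegaSylow
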