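import Mathlib
import Cfsg.Prelude.Def_Classical

set_option autoImplicit false
open scoped MatrixGroups

namespace Cfsg.Agent.Lib.Helper10.OmegaSylow

universe u

variable {F : Type u} [Field F]

/-- the sum of two squares -/
def Q₂ (x : Fin 2 → F) : F := x 0 ^ 2 + x 1 ^ 2

def rotM (a b : F) : Matrix (Fin 2) (Fin 2) F := !![a, -b; b, a]
def refM (a b : F) : Matrix (Fin 2) (Fin 2) F := !![a, b; b, -a]

theorem det_rotM (a b : F) : (rotM a b).det = a ^ 2 + b ^ 2 := by
  rw [rotM, Matrix.det_fin_two_of]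
  ring

theorem det_refM (a b : F) : (refM a b).det = -(a ^ 2 + b ^ 2) := by
  rw [refM, Matrix.det_fin_two_of]
  ring

noncomputable def rotG (a b : F) (h : a ^ 2 + b ^ 2 = 1) : GL (Fin 2) F :=
  Matrix.GeneralLinearGroup.mkOfDetNeZero (rotM a b) (by rw [det_rotM, h]; exact one_ne_zero)

noncomputable def refG (a b : F) (h : a ^ 2 + b ^ 2 = 1) : GL (Fin 2) F :=
  Matrix.GeneralLinearGroup.mkOfDetNeZero (refM a b) (by rw [det_refM, h]; simp)

theorem rotG_coe (a b : F) (h : a ^ 2 + b ^ 2 = 1) :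
    ((rotG a b h : GL (Fin 2) F) : Matrix (Fin 2) (Fin 2) F) = rotM a b := rfl

theorem refG_coe (a b : F) (h : a ^ 2 + b ^ 2 = 1) :
    ((refG a b h : GL (Fin 2) F) : Matrix (Fin 2) (Fin 2) F) = refM a b := rfl

theorem rotM_mul (a b c d : F) : rotM a b * rotM c d = rotM (a * c - b * d) (a * d + b * c) := by
  ext i j
  fin_cases i <;> fin_cases j <;> simp [rotM, Matrix.mul_apply, Fin.sum_univ_two] <;> ring

theorem refM_mul_refM (a b : F) (h : a ^ 2 + b ^ 2 = 1) : refM a b * refM a b = 1 := by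
  ext i j
  fin_cases i <;> fin_cases j <;> simp [refM, Matrix.mul_apply, Fin.sum_univ_two] <;>
    first | linear_combination h | ring

theorem refM_rotM_refM (a b c d : F) (h : a ^ 2 + b ^ 2 = 1) :
    refM a b * rotM c d * refM a b = rotM c (-d) := by
  ext i j
  fin_cases i <;> fin_cases j <;> simp [refM, rotM, Matrix.mul_apply, Fin.sum_univ_two] <;>
    first | linear_combination (c) * h | linear_combination (-d) * h | linear_combination (d) * h

theorem rotM_one : rotM (1 : F) 0 = 1 := by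
  ext i j
  fin_cases i <;> fin_cases j <;> simp [rotM]

theorem sq_mul_aux (a b c d : F) (h : a ^ 2 + b ^ 2 = 1) (h' : c ^ 2 + d ^ 2 = 1) :
    (a * c - b * d) ^ 2 + (a * d + b * c) ^ 2 = 1 := by
  linear_combination (c ^ 2 + d ^ 2) * h + h'

theorem rotG_mul (a b c d : F) (h : a ^ 2 + b ^ 2 = 1) (h' : c ^ 2 + d ^ 2 = 1) :
    rotG a b h * rotG c d h' = rotG (a * c - b * d) (a * d + b * c) (sq_mul_aux a b c d h h') := by
  apply Units.ext
  exact rotM_mul a b c d

theorem neg_sq_aux (a b : F) (h : a ^ 2 + b ^ 2 = 1) : a ^ 2 + (-b) ^ 2 = 1 := by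
  linear_combination h

theorem rotG_inv (a b : F) (h : a ^ 2 + b ^ 2 = 1) :
    (rotG a b h)⁻¹ = rotG a (-b) (neg_sq_aux a b h) := by
  rw [inv_eq_iff_mul_eq_one]
  apply Units.ext
  show rotM a b * rotM a (-b) = 1
  rw [rotM_mul, ← rotM_one]
  congr 1
  · linear_combination h
  · ring

theorem one_eq_rotG : (1 : GL (Fin 2) F) = rotG 1 0 (by ring) := by
  apply Units.ext
  exact rotM_one.symm

theorem refG_sq (a b : F) (h : a ^ 2 + b ^ 2 = 1) : refG a b h ^ 2 = 1 := by
  apply Units.ext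
  show refM a b ^ 2 = 1
  rw [pow_two]
  exact refM_mul_refM a b h

theorem refG_inv (a b : F) (h : a ^ 2 + b ^ 2 = 1) : (refG a b h)⁻¹ = refG a b h := by
  rw [inv_eq_iff_mul_eq_one, ← pow_two]
  exact refG_sq a b h

theorem refG_conj (a b c d : F) (h : a ^ 2 + b ^ 2 = 1) (h' : c ^ 2 + d ^ 2 = 1) :
    refG a b h * rotG c d h' * (refG a b h)⁻¹ = (rotG c d h')⁻¹ := by
  rw [refG_inv, rotG_inv]
  apply Units.ext
  exact refM_rotM_refM a b c d h

/-- the subgroup of rotations -/
def RotS (F : Type u) [Field F] : Subgroup (GL (Fin 2) F) where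
  carrier := {g | ∃ (a b : F) (h : a ^ 2 + b ^ 2 = 1), g = rotG a b h}
  mul_mem' := by
    rintro _ _ ⟨a, b, h, rfl⟩ ⟨c, d, h', rfl⟩
    exact ⟨_, _, _, rotG_mul a b c d h h'⟩
  one_mem' := ⟨1, 0, by ring, one_eq_rotG⟩
  inv_mem' := by
    rintro _ ⟨a, b, h, rfl⟩
    exact ⟨_, _, _, rotG_inv a b h⟩

theorem mulVec_two (M : Matrix (Fin 2) (Fin 2) F) (u : Fin 2 → F) :
    Q₂ (M.mulVec u) = (M 0 0 * u 0 + M 0 1 * u 1) ^ 2 + (M 1 0 * u 0 + M 1 1 * u 1) ^ 2 := by
  simp [Q₂, Matrix.mulVec, dotProduct, Fin.sum_univ_two]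

theorem rotG_mem (a b : F) (h : a ^ 2 + b ^ 2 = 1) : rotG a b h ∈ Cfsg.isometryGroup F (Q₂ (F := F)) := by
  intro u _
  show Q₂ ((rotM a b).mulVec u) = Q₂ u
  rw [mulVec_two]
  simp only [rotM, Q₂, Matrix.of_apply, Matrix.cons_val', Matrix.cons_val_zero, Matrix.cons_val_one,
    Matrix.cons_val_fin_one]
  linear_combination (u 0 ^ 2 + u 1 ^ 2) * h

theorem refG_mem (a b : F) (h : a ^ 2 + b ^ 2 = 1) : refG a b h ∈ Cfsg.isometryGroup F (Q₂ (F := F)) := by
  intro u _
  show Q₂ ((refM a b).mulVec u) = Q₂ u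
  rw [mulVec_two]
  simp only [refM, Q₂, Matrix.of_apply, Matrix.cons_val', Matrix.cons_val_zero, Matrix.cons_val_one,
    Matrix.cons_val_fin_one]
  linear_combination (u 0 ^ 2 + u 1 ^ 2) * h

theorem classify (h2 : (2 : F) ≠ 0) (g : GL (Fin 2) F) (hg : g ∈ Cfsg.isometryGroup F (Q₂ (F := F))) :
    ∃ (a b : F) (h : a ^ 2 + b ^ 2 = 1), g = rotG a b h ∨ g = refG a b h := by
  set M : Matrix (Fin 2) (Fin 2) F := (g : Matrix (Fin 2) (Fin 2) F) with hM
  have key : ∀ u : Fin 2 → F, Q₂ (M.mulVec u) = Q₂ u := fun u => hg u u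
  set a := M 0 0 with ha
  set b := M 1 0 with hb
  set c := M 0 1 with hc
  set d := M 1 1 with hd
  have e1 : a ^ 2 + b ^ 2 = 1 := by
    have := key ![1, 0]
    rw [mulVec_two] at this
    simp [Q₂] at this
    linear_combination this
  have e2 : c ^ 2 + d ^ 2 = 1 := by
    have := key ![0, 1]
    rw [mulVec_two] at this
    simp [Q₂] at this
    linear_combination this
  have e3 : a * c + b * d = 0 := by
    have := key ![1, 1]
    rw [mulVec_two] at this
    simp [Q₂] at this
    have h3 : (2 : F) * (a * c + b * d) = 0 := by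
      linear_combination this - e1 - e2
    rcases mul_eq_zero.1 h3 with h | h
    · exact absurd h h2
    · exact h
  set l := a * d - b * c with hl
  have hl2 : l ^ 2 = 1 := by
    rw [hl]
    linear_combination (c ^ 2 + d ^ 2) * e1 + e2 - (a * c + b * d) * e3
  have hc' : c = -l * b := by
    rw [hl]
    linear_combination (-c) * e1 + (a) * e3
  have hd' : d = l * a := by
    rw [hl]
    linear_combination (-d) * e1 + (b) * e3
  have hl1 : l = 1 ∨ l = -1 := by
    have : (l - 1) * (l + 1) = 0 := by linear_combination hl2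
    rcases mul_eq_zero.1 this with h | h
    · left; linear_combination h
    · right; linear_combination h
  refine ⟨a, b, e1, ?_⟩
  rcases hl1 with h | h
  · left
    apply Units.ext
    rw [rotG_coe]
    ext i j
    fin_cases i <;> fin_cases j
    · simp [rotM, ha, hM]
    · show M 0 1 = -b
      rw [← hc, hc', h]
      ring
    · simp [rotM, hb, hM]
    · show M 1 1 = a
      rw [← hd, hd', h]
      ring
  · right
    apply Units.ext
    rw [refG_coe]
    ext i j
    fin_cases i <;> fin_cases j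
    · simp [refM, ha, hM]
    · show M 0 1 = b
      rw [← hc, hc', h]
      ring
    · simp [refM, hb, hM]
    · show M 1 1 = -a
      rw [← hd, hd', h]
      ring

theorem refG_not_rot (h2 : (2 : F) ≠ 0) (a b : F) (h : a ^ 2 + b ^ 2 = 1) : refG a b h ∉ RotS F := by
  rintro ⟨c, d, h', heq⟩
  have h1 := congrArg (fun g : GL (Fin 2) F => (g : Matrix (Fin 2) (Fin 2) F)) heq
  simp only [refG_coe, rotG_coe] at h1
  have e00 := congrFun (congrFun h1 0) 0
  have e10 := congrFun (congrFun h1 1) 0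
  have e01 := congrFun (congrFun h1 0) 1
  have e11 := congrFun (congrFun h1 1) 1
  simp [refM, rotM] at e00 e10 e01 e11
  -- a = c, b = d, b = -d, -a = c
  have ha0 : a = 0 := by
    have : (2 : F) * a = 0 := by linear_combination e00 - e11
    rcases mul_eq_zero.1 this with h | h
    · exact absurd h h2
    · exact h
  have hb0 : b = 0 := by
    have : (2 : F) * b = 0 := by linear_combination e10 + e01
    rcases mul_eq_zero.1 this with h | h
    · exact absurd h h2
    · exact h
  rw [ha0, hb0] at h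
  norm_num at h

end Cfsg.Agent.Lib.Helper10.OmegaSylow
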