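import Mathlib
import Cfsg.Agent.Lib.Helper10.OmegaSylowC

set_option autoImplicit false
open scoped MatrixGroups

namespace Cfsg.Agent.Lib.Helper10.OmegaSylow

universe u

variable {F : Type u} [Field F]

/-- the circle -/
def Circ (F : Type u) [Field F] : Type u := {p : F × F // p.1 ^ 2 + p.2 ^ 2 = 1}

/-- parameters of the stereographic projection -/
def Ster (F : Type u) [Field F] : Type u := {t : F // t ^ 2 + 1 ≠ 0}

theorem ster_aux (t : F) (ht : t ^ 2 + 1 ≠ 0) :
    ((1 - t ^ 2) / (t ^ 2 + 1)) ^ 2 + (2 * t / (t ^ 2 + 1)) ^ 2 = 1 := by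
  field_simp
  ring

/-- the stereographic parametrisation -/
noncomputable def sterMap (F : Type u) [Field F] : Option (Ster F) → Circ F
  | none => ⟨(-1, 0), by simp⟩
  | some t => ⟨((1 - t.1 ^ 2) / (t.1 ^ 2 + 1), 2 * t.1 / (t.1 ^ 2 + 1)), ster_aux t.1 t.2⟩

theorem sterMap_bijective (h2 : (2 : F) ≠ 0) : Function.Bijective (sterMap F) := by
  have hkey : ∀ t : Ster F, (1 : F) + (1 - t.1 ^ 2) / (t.1 ^ 2 + 1) = 2 / (t.1 ^ 2 + 1) := by
    intro t
    have := t.2
    field_simp
    ring
  constructor
  · intro x y hxy
    rcases x with _ | t <;> rcases y with _ | s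
    · rfl
    · exfalso
      have h1 := congrArg (fun p : Circ F => (1 : F) + p.1.1) hxy
      simp only [sterMap] at h1
      rw [hkey s] at h1
      have hs := s.2
      have : (2 : F) / (s.1 ^ 2 + 1) ≠ 0 := div_ne_zero h2 hs
      apply this
      rw [← h1]
      ring
    · exfalso
      have h1 := congrArg (fun p : Circ F => (1 : F) + p.1.1) hxy
      simp only [sterMap] at h1
      rw [hkey t] at h1
      have ht := t.2
      have : (2 : F) / (t.1 ^ 2 + 1) ≠ 0 := div_ne_zero h2 ht
      apply this
      rw [h1]
      ring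
    · have h1 := congrArg (fun p : Circ F => (1 : F) + p.1.1) hxy
      have h3 := congrArg (fun p : Circ F => p.1.2) hxy
      simp only [sterMap] at h1 h3
      rw [hkey t, hkey s] at h1
      have ht := t.2
      have hs := s.2
      have h4 : t.1 ^ 2 + 1 = s.1 ^ 2 + 1 := by
        rw [div_eq_div_iff ht hs] at h1
        exact (mul_left_cancel₀ h2 h1).symm
      rw [h4] at h3
      have h7 : (2 : F) * t.1 = 2 * s.1 := by
        rw [div_eq_div_iff hs hs] at h3
        exact mul_right_cancel₀ hs h3
      have h8 : t.1 = s.1 := mul_left_cancel₀ h2 h7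
      congr 1
      exact Subtype.ext h8
  · rintro ⟨⟨a, b⟩, hab⟩
    simp only at hab
    by_cases ha : 1 + a = 0
    · refine ⟨none, ?_⟩
      have ha' : a = -1 := by linear_combination ha
      have hb : b = 0 := by
        rw [ha'] at hab
        have : b ^ 2 = 0 := by linear_combination hab
        exact pow_eq_zero_iff (by norm_num) |>.1 this
      apply Subtype.ext
      simp [sterMap, ha', hb]
    · have hne : (b / (1 + a)) ^ 2 + 1 ≠ 0 := by
        have : (b / (1 + a)) ^ 2 + 1 = 2 / (1 + a) := by
          field_simp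
          linear_combination hab
        rw [this]
        exact div_ne_zero h2 ha
      refine ⟨some ⟨b / (1 + a), hne⟩, ?_⟩
      apply Subtype.ext
      simp only [sterMap]
      have h1 : (b / (1 + a)) ^ 2 + 1 = 2 / (1 + a) := by
        field_simp
        linear_combination hab
      apply Prod.ext
      · simp only
        rw [h1]
        field_simp
        linear_combination (-1 : F) * hab
      · simp only
        rw [h1]
        field_simp

theorem card_roots_neg_one [Fintype F] [DecidableEq F] (h2 : (2 : F) ≠ 0) :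
    (Finset.univ.filter (fun t : F => t ^ 2 + 1 = 0)).card =
      if Fintype.card F % 4 = 3 then 0 else 2 := by
  split_ifs with h
  · rw [Finset.card_eq_zero, Finset.filter_eq_empty_iff]
    intro t _ ht
    have hsq : IsSquare (-1 : F) := ⟨t, by linear_combination (-1 : F) * ht⟩
    rw [FiniteField.isSquare_neg_one_iff] at hsq
    exact hsq h
  · have hsq : IsSquare (-1 : F) := FiniteField.isSquare_neg_one_iff.2 h
    obtain ⟨i₀, hi₀⟩ := hsq
    have hne : i₀ ≠ -i₀ := by
      intro heq
      have h3 : (2 : F) * i₀ = 0 := by linear_combination heq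
      rcases mul_eq_zero.1 h3 with h' | h'
      · exact h2 h'
      · rw [h'] at hi₀
        norm_num at hi₀
    have : Finset.univ.filter (fun t : F => t ^ 2 + 1 = 0) = {i₀, -i₀} := by
      ext t
      simp only [Finset.mem_filter, Finset.mem_univ, true_and, Finset.mem_insert,
        Finset.mem_singleton]
      constructor
      · intro ht
        have : (t - i₀) * (t + i₀) = 0 := by linear_combination ht + hi₀
        rcases mul_eq_zero.1 this with h' | h'
        · left; linear_combination h'
        · right; linear_combination h'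
      · rintro (rfl | rfl)
        · linear_combination (-1 : F) * hi₀
        · linear_combination (-1 : F) * hi₀
    rw [this, Finset.card_pair hne]

theorem card_circ [Fintype F] (h2 : (2 : F) ≠ 0) :
    Nat.card (Circ F) = if Fintype.card F % 4 = 3 then Fintype.card F + 1 else Fintype.card F - 1 := by
  classical
  rw [← Nat.card_congr (Equiv.ofBijective _ (sterMap_bijective h2))]
  have hq2 : 2 ≤ Fintype.card F := Fintype.one_lt_card
  have h1 : Nat.card (Option (Ster F)) = Nat.card (Ster F) + 1 := by
    have : Fintype (Ster F) := by unfold Ster; infer_instance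
    rw [Nat.card_eq_fintype_card, Nat.card_eq_fintype_card, Fintype.card_option]
  have h3 : Nat.card (Ster F) = Fintype.card F -
      (Finset.univ.filter (fun t : F => t ^ 2 + 1 = 0)).card := by
    unfold Ster
    rw [Nat.card_eq_fintype_card, Fintype.card_subtype_compl, Fintype.card_subtype]
  rw [h1, h3, card_roots_neg_one h2]
  split_ifs <;> omega

/-- the parametrisation of the isometry group of the sum of two squares -/
noncomputable def circMap (F : Type u) [Field F] :
    Circ F × Bool → ↥(Cfsg.isometryGroup F (Q₂ (F := F)))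
  | (p, false) => ⟨rotG p.1.1 p.1.2 p.2, rotG_mem _ _ _⟩
  | (p, true) => ⟨refG p.1.1 p.1.2 p.2, refG_mem _ _ _⟩

theorem circMap_bijective (h2 : (2 : F) ≠ 0) : Function.Bijective (circMap F) := by
  constructor
  · rintro ⟨⟨⟨a, b⟩, h⟩, e⟩ ⟨⟨⟨c, d⟩, h'⟩, e'⟩ heq
    rcases e with _ | _ <;> rcases e' with _ | _
    · have h1 := congrArg (fun g : ↥(Cfsg.isometryGroup F (Q₂ (F := F))) =>
        ((g : GL (Fin 2) F) : Matrix (Fin 2) (Fin 2) F)) heq
      simp only [circMap, rotG_coe] at h1
      have e00 := congrFun (congrFun h1 0) 0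
      have e10 := congrFun (congrFun h1 1) 0
      simp [rotM] at e00 e10
      subst e00
      subst e10
      rfl
    · exfalso
      have h1 := congrArg (fun g : ↥(Cfsg.isometryGroup F (Q₂ (F := F))) => (g : GL (Fin 2) F)) heq
      simp only [circMap] at h1
      apply refG_not_rot h2 c d h'
      rw [← h1]
      exact ⟨a, b, h, rfl⟩
    · exfalso
      have h1 := congrArg (fun g : ↥(Cfsg.isometryGroup F (Q₂ (F := F))) => (g : GL (Fin 2) F)) heq
      simp only [circMap] at h1
      apply refG_not_rot h2 a b h
      rw [h1]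
      exact ⟨c, d, h', rfl⟩
    · have h1 := congrArg (fun g : ↥(Cfsg.isometryGroup F (Q₂ (F := F))) =>
        ((g : GL (Fin 2) F) : Matrix (Fin 2) (Fin 2) F)) heq
      simp only [circMap, refG_coe] at h1
      have e00 := congrFun (congrFun h1 0) 0
      have e10 := congrFun (congrFun h1 1) 0
      simp [refM] at e00 e10
      subst e00
      subst e10
      rfl
  · rintro ⟨g, hg⟩
    obtain ⟨a, b, h, hor⟩ := classify h2 g hg
    rcases hor with h' | h'
    · exact ⟨(⟨(a, b), h⟩, false), Subtype.ext h'.symm⟩
    · exact ⟨(⟨(a, b), h⟩, true), Subtype.ext h'.symm⟩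

theorem card_O₂ [Fintype F] (h2 : (2 : F) ≠ 0) :
    Nat.card ↥(Cfsg.isometryGroup F (Q₂ (F := F))) =
      2 * (if Fintype.card F % 4 = 3 then Fintype.card F + 1 else Fintype.card F - 1) := by
  rw [← Nat.card_congr (Equiv.ofBijective _ (circMap_bijective h2)), Nat.card_prod, card_circ h2,
    Nat.card_eq_fintype_card (α := Bool), Fintype.card_bool, mul_comm]

theorem val_card_O₂ [Fintype F] (hodd : Odd (Fintype.card F)) (h2 : (2 : F) ≠ 0) :
    (Nat.card ↥(Cfsg.isometryGroup F (Q₂ (F := F)))).factorization 2 =
      padicValNat 2 (Fintype.card F + 1) + padicValNat 2 (Fintype.card F - 1) := by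
  rw [card_O₂ h2, Nat.factorization_def _ Nat.prime_two]
  set q := Fintype.card F with hq
  have hq2 : 2 ≤ q := Fintype.one_lt_card
  obtain ⟨k, hk⟩ := hodd
  have hval2 : ∀ n : ℕ, n % 4 = 2 → padicValNat 2 n = 1 := by
    intro n hn
    obtain ⟨j, hj⟩ : ∃ j, n = 2 * (2 * j + 1) := ⟨n / 4, by omega⟩
    rw [hj, padicValNat.mul (by norm_num) (by omega), padicValNat_self,
      padicValNat.eq_zero_of_not_dvd (by omega)]
  split_ifs with h
  · rw [padicValNat.mul (by norm_num) (by omega), padicValNat_self, hval2 (q - 1) (by omega)]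
    ring
  · rw [padicValNat.mul (by norm_num) (by omega), padicValNat_self, hval2 (q + 1) (by omega)]

end Cfsg.Agent.Lib.Helper10.OmegaSylow
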