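import Mathlib
import Cfsg.Agent.Lib.Helper10.OmegaSylowA
import Cfsg.Agent.Lib.Helper10.OmegaSylowB
import Cfsg.Agent.Lib.Helper10.OmegaSylowD

set_option autoImplicit false
open scoped MatrixGroups

namespace Cfsg.Agent.Lib.Helper10.OmegaSylow

open Module Cfsg.Agent.Lib.Helper10.SpSylowE

universe u

variable {F : Type u} [Field F]

/-- the index type of the model space -/
abbrev Kap (ι : Type) : Type := (ι × Fin 2) ⊕ Unit

/-- the model form: a sum of squares plus a multiple of a square -/
def Qκ (ι : Type) [Fintype ι] (d : F) (x : Kap ι → F) : F :=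
  ∑ p : ι × Fin 2, x (Sum.inl p) ^ 2 + d * x (Sum.inr ()) ^ 2

theorem Q₂_eq_sum (y : Fin 2 → F) : Q₂ y = ∑ j : Fin 2, y j ^ 2 := by
  rw [Fin.sum_univ_two]
  rfl

/-- block-diagonal action -/
def embFun (ι : Type) (θ : ι → Module.End F (Fin 2 → F)) : Module.End F (Kap ι → F) where
  toFun x := Sum.elim (fun p => θ p.1 (fun j => x (Sum.inl (p.1, j))) p.2) (fun u => x (Sum.inr u))
  map_add' := by
    intro x y
    funext k
    rcases k with p | u
    · show θ p.1 (fun j => (x + y) (Sum.inl (p.1, j))) p.2 = _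
      have : (fun j => (x + y) (Sum.inl (p.1, j))) =
          (fun j => x (Sum.inl (p.1, j))) + (fun j => y (Sum.inl (p.1, j))) := rfl
      rw [this, map_add]
      rfl
    · rfl
  map_smul' := by
    intro c x
    funext k
    rcases k with p | u
    · show θ p.1 (fun j => (c • x) (Sum.inl (p.1, j))) p.2 = _
      have : (fun j => (c • x) (Sum.inl (p.1, j))) = c • (fun j => x (Sum.inl (p.1, j))) := rfl
      rw [this, map_smul]
      rfl
    · rfl

theorem embFun_inl (ι : Type) (θ : ι → Module.End F (Fin 2 → F)) (x : Kap ι → F) (p : ι × Fin 2) :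
    embFun ι θ x (Sum.inl p) = θ p.1 (fun j => x (Sum.inl (p.1, j))) p.2 := rfl

theorem embFun_inr (ι : Type) (θ : ι → Module.End F (Fin 2 → F)) (x : Kap ι → F) (u : Unit) :
    embFun ι θ x (Sum.inr u) = x (Sum.inr u) := rfl

/-- the block-diagonal homomorphism -/
def emb0 (ι : Type) {D : Type*} [Group D] (ρ : D →* (Module.End F (Fin 2 → F))ˣ) :
    (ι → D) →* Module.End F (Kap ι → F) where
  toFun θ := embFun ι (fun i => ((ρ (θ i) : (Module.End F (Fin 2 → F))ˣ) : Module.End F (Fin 2 → F)))
  map_one' := by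
    apply LinearMap.ext
    intro x
    funext k
    rcases k with p | u
    · rw [embFun_inl]
      simp
    · rfl
  map_mul' := by
    intro θ θ'
    apply LinearMap.ext
    intro x
    funext k
    rcases k with p | u
    · rw [Module.End.mul_apply, embFun_inl, embFun_inl]
      simp only [Pi.mul_apply, map_mul, Units.val_mul, Module.End.mul_apply]
      congr 2
    · rfl

/-- coordinate permutations -/
def perm0 (ι : Type) : Equiv.Perm (ι × Fin 2) →* Module.End F (Kap ι → F) where
  toFun π := LinearMap.funLeft F F (Sum.map π.symm id)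
  map_one' := by
    apply LinearMap.ext
    intro x
    funext k
    rcases k with p | u <;> rfl
  map_mul' := by
    intro π π'
    apply LinearMap.ext
    intro x
    funext k
    rcases k with p | u <;> rfl

theorem perm0_inl (ι : Type) (π : Equiv.Perm (ι × Fin 2)) (x : Kap ι → F) (p : ι × Fin 2) :
    perm0 (F := F) ι π x (Sum.inl p) = x (Sum.inl (π.symm p)) := rfl

theorem perm0_inr (ι : Type) (π : Equiv.Perm (ι × Fin 2)) (x : Kap ι → F) (u : Unit) :
    perm0 (F := F) ι π x (Sum.inr u) = x (Sum.inr u) := rfl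

/-- plane permutations inside coordinate permutations -/
def prodHom (ι : Type) : Equiv.Perm ι →* Equiv.Perm (ι × Fin 2) where
  toFun τ := Equiv.prodCongr τ (Equiv.refl (Fin 2))
  map_one' := by
    ext p <;> rfl
  map_mul' := by
    intro a b
    ext p <;> rfl

theorem prodHom_symm_apply (ι : Type) (τ : Equiv.Perm ι) (p : ι × Fin 2) :
    (prodHom ι τ).symm p = (τ.symm p.1, p.2) := rfl

theorem sign_prodHom (ι : Type) [Fintype ι] [DecidableEq ι] (τ : Equiv.Perm ι) :
    Equiv.Perm.sign (prodHom ι τ) = 1 := by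
  show Equiv.Perm.sign (Equiv.prodCongr τ (Equiv.refl (Fin 2))) = 1
  rw [Equiv.prodCongr_refl_right, Equiv.Perm.sign_prodCongrLeft]
  simp only [Finset.prod_const, Finset.card_univ, Fintype.card_fin]
  exact Int.units_sq _

section Mem

variable (ι : Type) [Fintype ι]

theorem Qκ_embFun (d : F) (θ : ι → Module.End F (Fin 2 → F))
    (hθ : ∀ i y, Q₂ (θ i y) = Q₂ y) (x : Kap ι → F) :
    Qκ ι d (embFun ι θ x) = Qκ ι d x := by
  unfold Qκ
  rw [embFun_inr]
  congr 1
  rw [Fintype.sum_prod_type, Fintype.sum_prod_type]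
  apply Finset.sum_congr rfl
  intro i _
  have h1 := hθ i (fun j => x (Sum.inl (i, j)))
  rw [Q₂_eq_sum, Q₂_eq_sum] at h1
  exact h1

theorem Qκ_perm0 (d : F) (π : Equiv.Perm (ι × Fin 2)) (x : Kap ι → F) :
    Qκ ι d (perm0 ι π x) = Qκ ι d x := by
  unfold Qκ
  rw [perm0_inr]
  congr 1
  exact Equiv.sum_comp π.symm (fun p => x (Sum.inl p) ^ 2)

theorem Qκ_neg (d : F) (x : Kap ι → F) : Qκ ι d (-x) = Qκ ι d x := by
  unfold Qκ
  simp

end Mem

end Cfsg.Agent.Lib.Helper10.OmegaSylow
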