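import Mathlib
import Cfsg.Agent.Lib.Helper10.OmegaSylowE

set_option autoImplicit false
open scoped MatrixGroups

namespace Cfsg.Agent.Lib.Helper10.OmegaSylow

open Module Cfsg.Agent.Lib.Helper10.SpSylowE

universe u

variable {F : Type u} [Field F]

section Homs

variable (ι : Type) [Fintype ι] (d : F)

/-- block-diagonal maps as isometries of the model form -/
noncomputable def embO {D : Type*} [Group D] (ρ : D →* (Module.End F (Fin 2 → F))ˣ)
    (hρ : ∀ x, ρ x ∈ isoSubgroup (Q₂ (F := F))) : (ι → D) →* ↥(isoSubgroup (Qκ ι d)) :=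
  (MonoidHom.toHomUnits (emb0 ι ρ)).codRestrict (isoSubgroup (Qκ ι d)) (by
    intro θ x
    show Qκ ι d (emb0 ι ρ θ x) = Qκ ι d x
    exact Qκ_embFun ι d _ (fun i y => hρ (θ i) y) x)

theorem embO_apply {D : Type*} [Group D] (ρ : D →* (Module.End F (Fin 2 → F))ˣ)
    (hρ : ∀ x, ρ x ∈ isoSubgroup (Q₂ (F := F))) (θ : ι → D) (x : Kap ι → F) :
    (((embO ι d ρ hρ θ : ↥(isoSubgroup (Qκ ι d))) : (Module.End F (Kap ι → F))ˣ) :
      Module.End F (Kap ι → F)) x = emb0 ι ρ θ x := rfl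

/-- coordinate permutations as isometries of the model form -/
noncomputable def permO : Equiv.Perm (ι × Fin 2) →* ↥(isoSubgroup (Qκ ι d)) :=
  (MonoidHom.toHomUnits (perm0 (F := F) ι)).codRestrict (isoSubgroup (Qκ ι d)) (by
    intro π x
    show Qκ ι d (perm0 ι π x) = Qκ ι d x
    exact Qκ_perm0 ι d π x)

theorem permO_apply (π : Equiv.Perm (ι × Fin 2)) (x : Kap ι → F) :
    (((permO ι d π : ↥(isoSubgroup (Qκ ι d))) : (Module.End F (Kap ι → F))ˣ) :
      Module.End F (Kap ι → F)) x = perm0 ι π x := rfl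

/-- minus the identity as an isometry -/
def zO : ↥(isoSubgroup (Qκ ι d)) := ⟨-1, by
  intro x
  show Qκ ι d ((-1 : Module.End F (Kap ι → F)) x) = Qκ ι d x
  rw [LinearMap.neg_apply, Module.End.one_apply, Qκ_neg]⟩

theorem zO_apply (x : Kap ι → F) :
    (((zO ι d : ↥(isoSubgroup (Qκ ι d))) : (Module.End F (Kap ι → F))ˣ) :
      Module.End F (Kap ι → F)) x = -x := by
  show (-1 : Module.End F (Kap ι → F)) x = -x
  rw [LinearMap.neg_apply, Module.End.one_apply]

theorem zO_sq : zO (F := F) ι d ^ 2 = 1 := by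
  apply Subtype.ext
  show (-1 : (Module.End F (Kap ι → F))ˣ) ^ 2 = 1
  apply Units.ext
  simp

theorem zO_comm (g : ↥(isoSubgroup (Qκ ι d))) : g * zO ι d = zO ι d * g := by
  apply Subtype.ext
  show g.1 * (-1 : (Module.End F (Kap ι → F))ˣ) = -1 * g.1
  apply Units.ext
  simp

theorem zpowers_zO_cases (c : ↥(Subgroup.zpowers (zO (F := F) ι d))) :
    c.1 = 1 ∨ c.1 = zO ι d := by
  obtain ⟨k, hk⟩ := Subgroup.mem_zpowers_iff.1 c.2
  rcases Int.even_or_odd' k with ⟨j, hj | hj⟩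
  · left
    rw [← hk, hj, zpow_mul, zpow_ofNat, zO_sq, one_zpow]
  · right
    rw [← hk, hj, zpow_add, zpow_mul, zpow_ofNat, zO_sq, one_zpow, one_mul, zpow_one]

end Homs

end Cfsg.Agent.Lib.Helper10.OmegaSylow
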