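import Mathlib
import Cfsg.Agent.Lib.Helper10.OmegaSylowF

set_option autoImplicit false
open scoped MatrixGroups

namespace Cfsg.Agent.Lib.Helper10.OmegaSylow

open Module Cfsg.Agent.Lib.Helper10.SpSylowE

universe u

variable {F : Type u} [Field F]

theorem finite_units_end [Finite F] (κ : Type) [Finite κ] : Finite (Module.End F (κ → F))ˣ := by
  have : Finite (κ → F) := inferInstance
  exact Finite.of_injective (fun u : (Module.End F (κ → F))ˣ =>
      (((u : Module.End F (κ → F)) : (κ → F) → (κ → F))))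
      (by
        intro u v huv
        apply Units.ext
        apply LinearMap.ext
        intro w
        exact congrFun huv w)

set_option maxHeartbeats 800000 in
theorem model_main [Fintype F] (ι : Type) [Fintype ι] [DecidableEq ι] (d : F) (h2 : (2 : F) ≠ 0)
    (h3 : ∀ i : ι, ∃ j l : ι, i ≠ j ∧ i ≠ l ∧ j ≠ l)
    {D : Type u} [Group D] [Finite D] (ρ : D →* (Module.End F (Fin 2 → F))ˣ)
    (hρinj : Function.Injective ρ) (hρ : ∀ x, ρ x ∈ isoSubgroup (Q₂ (F := F)))
    (R : Subgroup D) (h1 : ∀ x : D, x ∉ R → x ^ 2 = 1)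
    (h2' : ∀ x : D, x ∉ R → ∀ r ∈ R, x * r * x⁻¹ = r⁻¹)
    (t₀ : D) (ht₀ : t₀ ∉ R)
    (T : Subgroup (Equiv.Perm ι)) (hT : SqComm T)
    (hι5 : 5 ≤ Nat.card (ι × Fin 2))
    (a : ℕ) (hcard : Nat.card D ^ Fintype.card ι * Nat.card T * 2 = 2 ^ (a + 2))
    (hc4 : Nat.card ↥(commutator ↥(isoSubgroup (Qκ ι d))) * 4 = Nat.card ↥(isoSubgroup (Qκ ι d)))
    (hv : (Nat.card ↥(isoSubgroup (Qκ ι d))).factorization 2 = a + 2) :
    ∃ (H : Type u) (_ : Group H) (f : H →* ↥(commutator ↥(isoSubgroup (Qκ ι d)))),
      Function.Injective f ∧ SqComm H ∧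
        Nat.card H = 2 ^ (Nat.card ↥(commutator ↥(isoSubgroup (Qκ ι d)))).factorization 2 := by
  classical
  have hfinU : Finite (Module.End F (Kap ι → F))ˣ := finite_units_end (Kap ι)
  have hfinO : Finite ↥(isoSubgroup (Qκ ι d)) := inferInstance
  let eN : (ι → D) →* ↥(isoSubgroup (Qκ ι d)) := embO ι d ρ hρ
  let pP : Equiv.Perm ι →* ↥(isoSubgroup (Qκ ι d)) := (permO ι d).comp (prodHom ι)
  let fg : T →* ↥(isoSubgroup (Qκ ι d)) := pP.comp T.subtype
  have hcompat0 : ∀ (τ : Equiv.Perm ι) (θ : ι → D), eN (permAut ι D τ θ) * pP τ = pP τ * eN θ := by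
    intro τ θ
    apply Subtype.ext
    apply Units.ext
    apply LinearMap.ext
    intro x
    funext k
    rcases k with p | u
    · rfl
    · rfl
  have hcompat : ∀ τ : T, eN.comp (((permAut ι D).comp T.subtype) τ).toMonoidHom =
      (MulAut.conj (fg τ)).toMonoidHom.comp eN := by
    intro τ
    apply MonoidHom.ext
    intro θ
    show eN (permAut ι D τ.1 θ) = pP τ.1 * eN θ * (pP τ.1)⁻¹
    rw [eq_mul_inv_iff_mul_eq]
    exact hcompat0 τ.1 θ
  let Ψ : ((ι → D) ⋊[(permAut ι D).comp T.subtype] T) →* ↥(isoSubgroup (Qκ ι d)) :=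
    SemidirectProduct.lift eN fg hcompat
  have hΨ : ∀ g, Ψ g = eN g.left * fg g.right := fun g => rfl
  let Z : Subgroup ↥(isoSubgroup (Qκ ι d)) := Subgroup.zpowers (zO ι d)
  have hZcomm : ∀ (g : (ι → D) ⋊[(permAut ι D).comp T.subtype] T) (c : Z),
      Commute (Ψ g) (Z.subtype c) := by
    intro g c
    show Ψ g * c.1 = c.1 * Ψ g
    rcases zpowers_zO_cases ι d c with h | h
    · rw [h, mul_one, one_mul]
    · rw [h]
      exact zO_comm ι d _
  let Ψ₂ : ((ι → D) ⋊[(permAut ι D).comp T.subtype] T) × Z →* ↥(isoSubgroup (Qκ ι d)) :=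
    MonoidHom.noncommCoprod Ψ Z.subtype hZcomm
  have hΨ₂ : ∀ g c, Ψ₂ (g, c) = eN g.left * fg g.right * c.1 := fun g c => rfl
  have hzne : zO (F := F) ι d ≠ 1 := by
    intro h
    have h4 := congrArg (fun g : ↥(isoSubgroup (Qκ ι d)) =>
      (((g : (Module.End F (Kap ι → F))ˣ) : Module.End F (Kap ι → F))
        (Pi.single (Sum.inr ()) 1)) (Sum.inr ())) h
    simp only [zO_apply] at h4
    have h5 : (-(1 : F)) = 1 := by
      simpa using h4
    apply h2
    linear_combination (-1 : F) * h5
  have hΨ₂inj : Function.Injective Ψ₂ := by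
    rw [injective_iff_map_eq_one]
    rintro ⟨g, c⟩ hgc
    rw [hΨ₂] at hgc
    have hact : ∀ x : Kap ι → F,
        emb0 ι ρ g.left (perm0 ι (prodHom ι g.right.1)
          ((((c.1 : ↥(isoSubgroup (Qκ ι d))) : (Module.End F (Kap ι → F))ˣ) :
            Module.End F (Kap ι → F)) x)) = x := by
      intro x
      have h4 := congrArg (fun g : ↥(isoSubgroup (Qκ ι d)) =>
        (((g : (Module.End F (Kap ι → F))ˣ) : Module.End F (Kap ι → F)) x)) hgc
      exact h4
    have hc1 : c.1 = 1 := by
      rcases zpowers_zO_cases ι d c with h | h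
      · exact h
      · exfalso
        have h4 := congrFun (hact (Pi.single (Sum.inr ()) 1)) (Sum.inr ())
        rw [h, zO_apply] at h4
        have h5 : (-(1 : F)) = 1 := by
          have h6 : emb0 ι ρ g.left (perm0 ι (prodHom ι g.right.1)
              (-(Pi.single (Sum.inr ()) (1 : F)))) (Sum.inr ()) = -1 := by
            show (-(Pi.single (Sum.inr ()) (1 : F)) : Kap ι → F) (Sum.inr ()) = -1
            simp
          rw [h6] at h4
          simpa using h4
        apply h2
        linear_combination (-1 : F) * h5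
    have hact' : ∀ x : Kap ι → F, emb0 ι ρ g.left (perm0 ι (prodHom ι g.right.1) x) = x := by
      intro x
      have := hact x
      rw [hc1] at this
      exact this
    have hτ : ∀ i : ι, g.right.1.symm i = i := by
      intro i
      by_contra hne
      have h4 := congrFun (hact' (Pi.single (Sum.inl (i, 0)) 1)) (Sum.inl (i, 0))
      have h5 : emb0 ι ρ g.left (perm0 ι (prodHom ι g.right.1)
          (Pi.single (Sum.inl (i, 0)) (1 : F))) (Sum.inl (i, 0)) = 0 := by
        show ((ρ (g.left i) : (Module.End F (Fin 2 → F))ˣ) : Module.End F (Fin 2 → F))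
          (fun j => (perm0 ι (prodHom ι g.right.1)
            (Pi.single (Sum.inl (i, 0)) (1 : F))) (Sum.inl (i, j))) 0 = 0
        have h6 : (fun j => (perm0 ι (prodHom ι g.right.1)
            (Pi.single (Sum.inl (i, 0)) (1 : F))) (Sum.inl (i, j))) = (0 : Fin 2 → F) := by
          funext j
          rw [perm0_inl, prodHom_symm_apply]
          rw [Pi.single_apply, if_neg]
          · rfl
          · intro h7
            apply hne
            have h8 := Sum.inl_injective h7
            exact congrArg Prod.fst h8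
        rw [h6, map_zero]
        rfl
      rw [h5] at h4
      simp at h4
    have hτ1 : g.right = 1 := by
      apply Subtype.ext
      apply Equiv.ext
      intro i
      have := hτ (g.right.1 i)
      rw [Equiv.symm_apply_apply] at this
      exact this.symm
    have hθ : ∀ i, g.left i = 1 := by
      intro i
      apply hρinj
      rw [map_one]
      apply Units.ext
      apply LinearMap.ext
      intro y
      funext j
      let x : Kap ι → F := Sum.elim (fun p => if p.1 = i then y p.2 else 0) (fun _ => 0)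
      have h4 := congrFun (hact' x) (Sum.inl (i, j))
      have h5 : emb0 ι ρ g.left (perm0 ι (prodHom ι g.right.1) x) (Sum.inl (i, j)) =
          ((ρ (g.left i) : (Module.End F (Fin 2 → F))ˣ) : Module.End F (Fin 2 → F)) y j := by
        show ((ρ (g.left i) : (Module.End F (Fin 2 → F))ˣ) : Module.End F (Fin 2 → F))
          (fun j' => (perm0 ι (prodHom ι g.right.1) x) (Sum.inl (i, j'))) j = _
        have h6 : (fun j' => (perm0 ι (prodHom ι g.right.1) x) (Sum.inl (i, j'))) = y := by
          funext j'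
          rw [perm0_inl, prodHom_symm_apply, hτ i]
          show (if i = i then y j' else 0) = y j'
          rw [if_pos rfl]
        rw [h6]
      rw [h5] at h4
      rw [h4]
      show (if i = i then y j else 0) = _
      rw [if_pos rfl]
      rfl
    apply Prod.ext
    · apply SemidirectProduct.ext
      · funext i
        exact hθ i
      · exact hτ1
    · exact Subtype.ext hc1
  -- the abelianisation character
  let χ : ((ι → D) ⋊[(permAut ι D).comp T.subtype] T) × Z →*
      Abelianization ↥(isoSubgroup (Qκ ι d)) := (Abelianization.of).comp Ψ₂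
  have hC : ∀ c : Z, c ^ 2 = 1 := by
    intro c
    apply Subtype.ext
    rw [Subgroup.coe_pow]
    rcases zpowers_zO_cases ι d c with h | h
    · rw [h, one_pow]
      rfl
    · rw [h, zO_sq]
      rfl
  have hcomm_perm : commutator (Equiv.Perm (ι × Fin 2)) = alternatingGroup (ι × Fin 2) :=
    alternatingGroup.commutator_perm_eq hι5
  have c1 : ∀ τ : T, χ (SemidirectProduct.inr τ, 1) = 1 := by
    intro τ
    show Abelianization.of (Ψ₂ (SemidirectProduct.inr τ, 1)) = 1
    rw [← MonoidHom.mem_ker, Abelianization.ker_of]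
    have h4 : Ψ₂ (SemidirectProduct.inr τ, 1) = permO ι d (prodHom ι τ.1) := by
      rw [hΨ₂]
      show eN 1 * pP τ.1 * 1 = _
      rw [map_one, one_mul, mul_one]
      rfl
    rw [h4]
    apply map_mem_commutator
    rw [hcomm_perm, Equiv.Perm.mem_alternatingGroup]
    exact sign_prodHom ι τ.1
  have c2 : ∀ (i j : ι) (x : D), χ (SemidirectProduct.inl (Pi.mulSingle i x), 1) =
      χ (SemidirectProduct.inl (Pi.mulSingle j x), 1) := by
    intro i j x
    have h4 : ∀ k : ι, Ψ₂ (SemidirectProduct.inl (Pi.mulSingle k x), 1) = eN (Pi.mulSingle k x) := by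
      intro k
      rw [hΨ₂]
      show eN (Pi.mulSingle k x) * pP 1 * 1 = _
      rw [map_one, mul_one, mul_one]
    show Abelianization.of (Ψ₂ _) = Abelianization.of (Ψ₂ _)
    rw [h4 i, h4 j]
    have h5 : permAut ι D (Equiv.swap i j) (Pi.mulSingle i x) = Pi.mulSingle j x := by
      funext k
      rw [permAut_apply, Equiv.symm_swap]
      by_cases hkj : k = j
      · subst hkj
        rw [Equiv.swap_apply_right, Pi.mulSingle_eq_same, Pi.mulSingle_eq_same]
      · rw [Pi.mulSingle_eq_of_ne hkj]
        by_cases hki : k = i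
        · subst hki
          rw [Equiv.swap_apply_left, Pi.mulSingle_eq_of_ne (Ne.symm hkj)]
        · rw [Equiv.swap_apply_of_ne_of_ne hki hkj, Pi.mulSingle_eq_of_ne hki]
    have h6 := hcompat0 (Equiv.swap i j) (Pi.mulSingle i x)
    rw [h5] at h6
    have h7 : eN (Pi.mulSingle j x) = pP (Equiv.swap i j) * eN (Pi.mulSingle i x) *
        (pP (Equiv.swap i j))⁻¹ := by
      rw [eq_mul_inv_iff_mul_eq]
      exact h6
    rw [h7, map_mul, map_mul, map_inv, mul_comm, ← mul_assoc, inv_mul_cancel, one_mul]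
  have hK := sqComm_ker R h1 h2' t₀ ht₀ h3 T hT hC χ c1 c2
  -- the embedding of the kernel
  have hmemK : ∀ k : χ.ker, Ψ₂ k.1 ∈ commutator ↥(isoSubgroup (Qκ ι d)) := by
    intro k
    have := k.2
    rw [MonoidHom.mem_ker] at this
    rw [← Abelianization.ker_of, MonoidHom.mem_ker]
    exact this
  let f : χ.ker →* ↥(commutator ↥(isoSubgroup (Qκ ι d))) :=
    (Ψ₂.comp χ.ker.subtype).codRestrict (commutator ↥(isoSubgroup (Qκ ι d))) hmemK
  have hf : Function.Injective f := by
    intro k k' hkk
    apply Subtype.ext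
    apply hΨ₂inj
    exact congrArg Subtype.val hkk
  refine ⟨χ.ker, inferInstance, f, hf, hK, ?_⟩
  -- cardinalities
  have hZcard : Nat.card Z = 2 := by
    show Nat.card (Subgroup.zpowers (zO (F := F) ι d)) = 2
    rw [Nat.card_zpowers]
    exact orderOf_eq_prime (zO_sq ι d) hzne
  have hfinT : Finite T := inferInstance
  have hG : Nat.card (((ι → D) ⋊[(permAut ι D).comp T.subtype] T) × Z) = 2 ^ (a + 2) := by
    rw [Nat.card_prod, SemidirectProduct.card, Nat.card_fun, hZcard, Nat.card_eq_fintype_card (α := ι)]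
    exact hcard
  have hfinG : Finite (((ι → D) ⋊[(permAut ι D).comp T.subtype] T) × Z) :=
    Nat.finite_of_card_ne_zero (by rw [hG]; positivity)
  have hidx : (commutator ↥(isoSubgroup (Qκ ι d))).index = 4 := by
    have h4 := Subgroup.card_mul_index (commutator ↥(isoSubgroup (Qκ ι d)))
    rw [← hc4] at h4
    have hpos : 0 < Nat.card ↥(commutator ↥(isoSubgroup (Qκ ι d))) := Nat.card_pos
    exact Nat.eq_of_mul_eq_mul_left hpos h4
  have hAb : Nat.card (Abelianization ↥(isoSubgroup (Qκ ι d))) = 4 := by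
    rw [← hidx]
    rfl
  have hfinAb : Finite (Abelianization ↥(isoSubgroup (Qκ ι d))) :=
    Nat.finite_of_card_ne_zero (by rw [hAb]; norm_num)
  have hrange : Nat.card χ.range ≤ 4 := by
    rw [← hAb]
    exact Nat.card_le_card_of_injective _ (Subgroup.subtype_injective _)
  have hker : Nat.card χ.ker * Nat.card χ.range = 2 ^ (a + 2) := by
    rw [← hG, ← Subgroup.index_ker]
    exact Subgroup.card_mul_index χ.ker
  have hdvd : Nat.card χ.ker ∣ 2 ^ (a + 2) := Dvd.intro _ hker
  obtain ⟨j, hj, hjeq⟩ := (Nat.dvd_prime_pow Nat.prime_two).1 hdvd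
  have hja : a ≤ j := by
    by_contra hlt
    push Not at hlt
    have h4 : 2 ^ j * 4 < 2 ^ (a + 2) := by
      have : 2 ^ j * 4 = 2 ^ (j + 2) := by rw [pow_add]; norm_num
      rw [this]
      exact Nat.pow_lt_pow_right (by norm_num) (by omega)
    have h5 : Nat.card χ.ker * Nat.card χ.range ≤ 2 ^ j * 4 := by
      rw [hjeq]
      exact Nat.mul_le_mul_left _ hrange
    omega
  have hva : (Nat.card ↥(commutator ↥(isoSubgroup (Qκ ι d)))).factorization 2 = a := by
    have h4 : (Nat.card ↥(commutator ↥(isoSubgroup (Qκ ι d))) * 4).factorization 2 = a + 2 := by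
      rw [hc4, hv]
    have hpos : Nat.card ↥(commutator ↥(isoSubgroup (Qκ ι d))) ≠ 0 := Nat.card_pos.ne'
    rw [Nat.factorization_mul hpos (by norm_num), Finsupp.add_apply] at h4
    have h5 : (4 : ℕ).factorization 2 = 2 := by
      have : (4 : ℕ) = 2 ^ 2 := by norm_num
      rw [this, Nat.factorization_pow]
      simp [Nat.Prime.factorization_self Nat.prime_two]
    omega
  have hjle : j ≤ a := by
    have h4 : Nat.card χ.ker ∣ Nat.card ↥(commutator ↥(isoSubgroup (Qκ ι d))) := by
      rw [Nat.card_congr (MonoidHom.ofInjective hf).toEquiv]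
      exact Subgroup.card_subgroup_dvd_card _
    rw [hjeq] at h4
    have hpos : Nat.card ↥(commutator ↥(isoSubgroup (Qκ ι d))) ≠ 0 := Nat.card_pos.ne'
    have := (Nat.Prime.pow_dvd_iff_le_factorization Nat.prime_two hpos).1 h4
    omega
  rw [hva, hjeq]
  congr 1
  omega

end Cfsg.Agent.Lib.Helper10.OmegaSylow
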