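import Mathlib
import Cfsg.Agent.Lib.Helper10.OmegaSylowG
import Cfsg.Agent.S4623
import Cfsg.Agent.Lib.Helper10.SpSylowE4

set_option autoImplicit false
open scoped MatrixGroups

namespace Cfsg.Agent.Lib.Helper10.OmegaSylow

open Module Cfsg.Agent.Lib.Helper10.SpSylowE

universe u

variable {F : Type u} [Field F]

theorem exists_D [Fintype F] (hodd : Odd (Fintype.card F)) (h2 : (2 : F) ≠ 0) :
    ∃ (D : Type u) (_ : Group D) (_ : Finite D) (ρ : D →* (Module.End F (Fin 2 → F))ˣ)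
      (R : Subgroup D) (t₀ : D),
      Function.Injective ρ ∧ (∀ x, ρ x ∈ isoSubgroup (Q₂ (F := F))) ∧
      (∀ x : D, x ∉ R → x ^ 2 = 1) ∧
      (∀ x : D, x ∉ R → ∀ r ∈ R, x * r * x⁻¹ = r⁻¹) ∧ t₀ ∉ R ∧
      Nat.card D =
        2 ^ (padicValNat 2 (Fintype.card F + 1) + padicValNat 2 (Fintype.card F - 1)) := by
  classical
  have : Fact (Nat.Prime 2) := ⟨Nat.prime_two⟩
  set O2 : Subgroup (GL (Fin 2) F) := Cfsg.isometryGroup F (Q₂ (F := F)) with hO2
  have : Finite (GL (Fin 2) F) := inferInstance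
  have : Finite ↥O2 := inferInstance
  have h10 : (1 : F) ^ 2 + 0 ^ 2 = 1 := by ring
  let t : ↥O2 := ⟨refG 1 0 h10, refG_mem 1 0 h10⟩
  have ht2 : t ^ 2 = 1 := by
    apply Subtype.ext
    show (refG 1 0 h10) ^ 2 = 1
    exact refG_sq 1 0 h10
  have hpg : IsPGroup 2 ↥(Subgroup.zpowers t) := by
    intro g
    refine ⟨1, ?_⟩
    obtain ⟨g, hg⟩ := g
    obtain ⟨n, rfl⟩ := Subgroup.mem_zpowers_iff.mp hg
    apply Subtype.ext
    show (t ^ n) ^ (2 ^ 1) = 1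
    rw [pow_one, ← zpow_natCast, ← zpow_mul, mul_comm, zpow_mul, zpow_natCast, ht2, one_zpow]
  obtain ⟨S, hS⟩ := hpg.exists_le_sylow
  have htS : t ∈ (S : Subgroup ↥O2) := hS (Subgroup.mem_zpowers t)
  let e := isoEquivMatrix (Q₂ (F := F))
  let ρ : ↥(S : Subgroup ↥O2) →* (Module.End F (Fin 2 → F))ˣ :=
    (isoSubgroup (Q₂ (F := F))).subtype.comp (e.toMonoidHom.comp (S : Subgroup ↥O2).subtype)
  let R : Subgroup ↥(S : Subgroup ↥O2) :=
    ((RotS F).comap O2.subtype).comap (S : Subgroup ↥O2).subtype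
  have hR : ∀ x : ↥(S : Subgroup ↥O2), x ∈ R ↔ ((x : ↥O2) : GL (Fin 2) F) ∈ RotS F := fun x => Iff.rfl
  refine ⟨↥(S : Subgroup ↥O2), inferInstance, inferInstance, ρ, R, ⟨t, htS⟩, ?_, ?_, ?_, ?_, ?_, ?_⟩
  · intro x y hxy
    have h1 : e x.1 = e y.1 := Subtype.ext hxy
    exact Subtype.ext (e.injective h1)
  · intro x
    exact (e x.1).2
  · intro x hx
    obtain ⟨a, b, h, hc | hc⟩ := classify h2 x.1.1 x.1.2
    · exact absurd ((hR x).mpr ⟨a, b, h, hc⟩) hx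
    · apply Subtype.ext
      apply Subtype.ext
      show ((x : ↥O2) : GL (Fin 2) F) ^ 2 = 1
      rw [hc]
      exact refG_sq a b h
  · intro x hx r hr
    obtain ⟨a, b, h, hc | hc⟩ := classify h2 x.1.1 x.1.2
    · exact absurd ((hR x).mpr ⟨a, b, h, hc⟩) hx
    · obtain ⟨c, d, h', hr'⟩ := (hR r).mp hr
      apply Subtype.ext
      apply Subtype.ext
      show ((x : ↥O2) : GL (Fin 2) F) * ((r : ↥O2) : GL (Fin 2) F) * ((x : ↥O2) : GL (Fin 2) F)⁻¹
        = ((r : ↥O2) : GL (Fin 2) F)⁻¹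
      rw [hc, hr']
      exact refG_conj a b c d h h'
  · intro hmem
    exact refG_not_rot h2 1 0 h10 ((hR _).mp hmem)
  · rw [Sylow.card_eq_multiplicity, val_card_O₂ hodd h2]

theorem exists_T (m : ℕ) :
    ∃ T : Subgroup (Equiv.Perm (Fin m)), SqComm ↥T ∧ Nat.card ↥T = 2 ^ ff m := by
  classical
  have : Fact (Nat.Prime 2) := ⟨Nat.prime_two⟩
  let T : Sylow 2 (Equiv.Perm (Fin m)) := default
  refine ⟨(T : Subgroup (Equiv.Perm (Fin m))), ?_, ?_⟩
  · exact (Cfsg.Agent.S4623.result 2 m T default).1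
  · rw [Sylow.card_eq_multiplicity, Nat.card_eq_fintype_card, Fintype.card_perm, Fintype.card_fin,
      Nat.factorization_def _ Nat.prime_two]
    rfl

end Cfsg.Agent.Lib.Helper10.OmegaSylow
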