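import Mathlib
import Cfsg.Agent.Lib.Helper10.OmegaSylowG
import Cfsg.Agent.Lib.Helper19.OrthDiag

set_option autoImplicit false
open scoped MatrixGroups

namespace Cfsg.Agent.Lib.Helper10.OmegaSylow

open Module Cfsg.Agent.Lib.Helper10.SpSylowE QuadraticMap

universe u

variable {F : Type u} [Field F]

theorem Q_sum_orth {V : Type*} [AddCommGroup V] [Module F V] {κ' : Type*} [DecidableEq κ']
    (Q : QuadraticForm F V) (w : κ' → V)
    (hw : ∀ k l, k ≠ l → polar (⇑Q) (w k) (w l) = 0) (c : κ' → F) (s : Finset κ') :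
    Q (∑ k ∈ s, c k • w k) = ∑ k ∈ s, c k ^ 2 * Q (w k) := by
  induction s using Finset.induction_on with
  | empty => simp
  | insert a s ha ih =>
    rw [Finset.sum_insert ha, Finset.sum_insert ha, QuadraticMap.map_add (⇑Q), ih,
      QuadraticMap.map_smul, smul_eq_mul]
    have h0 : polar (⇑Q) (c a • w a) (∑ k ∈ s, c k • w k) = 0 := by
      have h := map_sum (QuadraticMap.polarBilin Q (c a • w a)) (fun i => c i • w i) s
      simp only [QuadraticMap.polarBilin_apply_apply] at h
      rw [h]
      apply Finset.sum_eq_zero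
      intro k hk
      have hak : a ≠ k := by
        rintro rfl
        exact ha hk
      rw [QuadraticMap.polar_smul_right, QuadraticMap.polar_smul_left, hw a k hak, smul_zero,
        smul_zero]
    rw [h0, add_zero]
    ring

theorem exists_model_equiv [Fintype F] (h2 : (2 : F) ≠ 0) {κ : Type} [Fintype κ] [DecidableEq κ]
    (Q : QuadraticForm F (κ → F)) (hQ : (QuadraticMap.polarBilin Q).Nondegenerate) (n : ℕ)
    (hcard : Fintype.card κ = 2 * n + 1) :
    ∃ (d : F) (ε : (κ → F) ≃ₗ[F] (Kap (Fin n) → F)), ∀ x, Qκ (Fin n) d (ε x) = Q x := by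
  classical
  have hfr : Module.finrank F (κ → F) = 2 * n + 1 := by
    rw [Module.finrank_fintype_fun_eq_card, hcard]
  obtain ⟨v, hv, hvc⟩ := Cfsg.Agent.Lib.Helper19.OrthRefl.exists_orthFam_const h2 Q hQ 1
    one_ne_zero (2 * n) (by omega)
  have hcardK : Fintype.card (Kap (Fin n)) = Fintype.card (Fin (Module.finrank F (κ → F))) := by
    rw [Fintype.card_sum, Fintype.card_prod, Fintype.card_fin, Fintype.card_fin, Fintype.card_fin,
      Fintype.card_unit, hfr]
    ring
  let e₀ : Kap (Fin n) ≃ Fin (Module.finrank F (κ → F)) := Fintype.equivOfCardEq hcardK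
  let last : Fin (Module.finrank F (κ → F)) := ⟨2 * n, by omega⟩
  let e : Kap (Fin n) ≃ Fin (Module.finrank F (κ → F)) :=
    e₀.trans (Equiv.swap (e₀ (Sum.inr ())) last)
  have he_inr : e (Sum.inr ()) = last := by
    show Equiv.swap (e₀ (Sum.inr ())) last (e₀ (Sum.inr ())) = last
    exact Equiv.swap_apply_left _ _
  have he_inl : ∀ p, ((e (Sum.inl p) : Fin (Module.finrank F (κ → F))) : ℕ) < 2 * n := by
    intro p
    have hne : e (Sum.inl p) ≠ last := by
      rw [← he_inr]
      intro h
      have := e.injective h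
      cases this
    have hlt : ((e (Sum.inl p) : Fin (Module.finrank F (κ → F))) : ℕ) < 2 * n + 1 := by
      have := (e (Sum.inl p)).2
      omega
    have hne' : ((e (Sum.inl p) : Fin (Module.finrank F (κ → F))) : ℕ) ≠ 2 * n := by
      intro h
      apply hne
      apply Fin.ext
      exact h
    omega
  let b := (hv.basis h2 Q rfl).reindex e.symm
  have hb : ∀ k, b k = v (e k) := by
    intro k
    show (hv.basis h2 Q rfl).reindex e.symm k = v (e k)
    rw [Module.Basis.reindex_apply, Equiv.symm_symm,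
      Cfsg.Agent.Lib.Helper19.OrthRefl.IsOrthFam.basis_apply]
  refine ⟨Q (v last), b.equivFun, ?_⟩
  intro x
  have hx : x = ∑ k, b.equivFun x k • b k := (b.sum_equivFun x).symm
  have horth : ∀ k l, k ≠ l → polar (⇑Q) (b k) (b l) = 0 := by
    intro k l hkl
    rw [hb, hb]
    exact hv.1 _ _ (fun h => hkl (e.injective h))
  conv_rhs => rw [hx]
  rw [Q_sum_orth Q b horth (b.equivFun x) Finset.univ, Fintype.sum_sum_type]
  unfold Qκ
  congr 1
  · apply Finset.sum_congr rfl
    intro p _
    rw [hb, hvc _ (he_inl p), mul_one]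
  · rw [Fintype.sum_unique, hb]
    show _ = _ * Q (v (e (Sum.inr ())))
    rw [he_inr]
    ring

end Cfsg.Agent.Lib.Helper10.OmegaSylow
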