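import Mathlib
import Cfsg.Agent.Lib.Helper10.OmegaSylowH
import Cfsg.Agent.Lib.Helper10.OmegaSylowI

set_option autoImplicit false
open scoped MatrixGroups

namespace Cfsg.Agent.Lib.Helper10.OmegaSylow

open Module Cfsg.Agent.Lib.Helper10.SpSylowE QuadraticMap

universe u

variable {F : Type u} [Field F]

set_option maxHeartbeats 800000 in
theorem sqComm_sylow_omega_odd [Fintype F] (hodd : Odd (Fintype.card F)) (h2 : (2 : F) ≠ 0)
    {κ : Type} [Fintype κ] [DecidableEq κ]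
    (Q : QuadraticForm F (κ → F)) (hQ : (QuadraticMap.polarBilin Q).Nondegenerate) (n : ℕ)
    (hn : 3 ≤ n) (hcard : Fintype.card κ = 2 * n + 1)
    (hv : (Nat.card ↥(Cfsg.isometryGroup F ⇑Q)).factorization 2 =
      n * (padicValNat 2 (Fintype.card F + 1) + padicValNat 2 (Fintype.card F - 1)) + ff n + 1)
    (P : Sylow 2 ↥(Cfsg.Omega F ⇑Q)) : SqComm ↥(P : Subgroup ↥(Cfsg.Omega F ⇑Q)) := by
  classical
  obtain ⟨d, ε, hε⟩ := exists_model_equiv h2 Q hQ n hcard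
  obtain ⟨D, instD, finD, ρ, R, t₀, hρinj, hρ, h1, h2', ht₀, hcD⟩ := exists_D hodd h2
  obtain ⟨T, hT, hcT⟩ := exists_T n
  set c := padicValNat 2 (Fintype.card F + 1) + padicValNat 2 (Fintype.card F - 1) with hc
  have hq2 : 2 ≤ Fintype.card F := Fintype.one_lt_card
  have hc1 : 1 ≤ c := by
    have h2dvd : 2 ∣ Fintype.card F + 1 := by
      obtain ⟨k, hk⟩ := hodd
      exact ⟨k + 1, by omega⟩
    have := one_le_padicValNat_of_dvd (p := 2) (n := Fintype.card F + 1) (by omega) h2dvd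
    omega
  have hnc : 1 ≤ n * c := by
    have : 3 * 1 ≤ n * c := Nat.mul_le_mul hn hc1
    omega
  let E : ↥(Cfsg.isometryGroup F ⇑Q) ≃* ↥(isoSubgroup (Qκ (Fin n) d)) :=
    (isoEquivMatrix ⇑Q).trans (isoTransfer ε ⇑Q (Qκ (Fin n) d) hε)
  have hfinGL : Finite (GL κ F) := inferInstance
  have hfinO : Finite ↥(Cfsg.isometryGroup F ⇑Q) := inferInstance
  have hcO : Nat.card ↥(isoSubgroup (Qκ (Fin n) d)) = Nat.card ↥(Cfsg.isometryGroup F ⇑Q) :=
    (Nat.card_congr E.toEquiv).symm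
  have hcC : Nat.card ↥(commutator ↥(isoSubgroup (Qκ (Fin n) d))) =
      Nat.card ↥(commutator ↥(Cfsg.isometryGroup F ⇑Q)) :=
    (Nat.card_congr (commEquiv E).toEquiv).symm
  have hidx : (Cfsg.Omega F ⇑Q).index = 4 :=
    (Cfsg.Agent.Lib.Helper19.OrthRefl.Omega_structure h2 Q hQ (by omega)).1
  have hc4 : Nat.card ↥(commutator ↥(isoSubgroup (Qκ (Fin n) d))) * 4 =
      Nat.card ↥(isoSubgroup (Qκ (Fin n) d)) := by
    rw [hcC, hcO, ← hidx]
    exact Subgroup.card_mul_index (Cfsg.Omega F ⇑Q)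
  have h3 : ∀ i : Fin n, ∃ j l : Fin n, i ≠ j ∧ i ≠ l ∧ j ≠ l := by
    intro i
    have h0 : (0 : ℕ) < n := by omega
    have h1' : (1 : ℕ) < n := by omega
    have h2'' : (2 : ℕ) < n := by omega
    by_cases hi0 : (i : ℕ) = 0
    · refine ⟨⟨1, h1'⟩, ⟨2, h2''⟩, ?_, ?_, ?_⟩ <;> intro h <;> have := congrArg Fin.val h <;>
        simp at this <;> omega
    · by_cases hi1 : (i : ℕ) = 1
      · refine ⟨⟨0, h0⟩, ⟨2, h2''⟩, ?_, ?_, ?_⟩ <;> intro h <;> have := congrArg Fin.val h <;>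
          simp at this <;> omega
      · refine ⟨⟨0, h0⟩, ⟨1, h1'⟩, ?_, ?_, ?_⟩ <;> intro h <;> have := congrArg Fin.val h <;>
          simp at this <;> omega
  have hι5 : 5 ≤ Nat.card (Fin n × Fin 2) := by
    rw [Nat.card_eq_fintype_card, Fintype.card_prod, Fintype.card_fin, Fintype.card_fin]
    omega
  have hcard' : Nat.card D ^ Fintype.card (Fin n) * Nat.card ↥T * 2 =
      2 ^ ((n * c + ff n - 1) + 2) := by
    rw [hcD, hcT, Fintype.card_fin, ← pow_mul, ← pow_add, ← pow_succ]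
    congr 1
    have : c * n = n * c := mul_comm _ _
    omega
  have hv' : (Nat.card ↥(isoSubgroup (Qκ (Fin n) d))).factorization 2 = (n * c + ff n - 1) + 2 := by
    rw [hcO, hv]
    omega
  obtain ⟨H, instH, f, hf, hH, hcH⟩ := model_main (F := F) (Fin n) d h2 h3 ρ hρinj hρ R h1 h2' t₀ ht₀
    T hT hι5 (n * c + ff n - 1) hcard' hc4 hv'
  refine sqComm_sylow_of_embedding (G := ↥(Cfsg.Omega F ⇑Q))
    ((commEquiv E).symm.toMonoidHom.comp f) ?_ hH ?_ P
  · intro x y hxy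
    exact hf ((commEquiv E).symm.injective hxy)
  · rw [hcH, hcC]

end Cfsg.Agent.Lib.Helper10.OmegaSylow
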