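import Mathlib
import Cfsg.Agent.Lib.Helper10.OmegaSylowE

set_option autoImplicit false
open scoped MatrixGroups

namespace Cfsg.Agent.Lib.Helper10.OmegaSylow

open Module Cfsg.Agent.Lib.Helper10.SpSylowE

universe u

variable {F : Type u} [Field F]

/-- the index type of the general model space -/
abbrev KapR (ι r : Type) : Type := (ι × Fin 2) ⊕ r

/-- the general model form: a sum of squares plus a form on the remaining coordinates -/
def QκR (ι r : Type) [Fintype ι] (QW : (r → F) → F) (x : KapR ι r → F) : F :=
  ∑ p : ι × Fin 2, x (Sum.inl p) ^ 2 + QW (fun u => x (Sum.inr u))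

/-- block-diagonal action -/
def embFunR (ι r : Type) (θ : ι → Module.End F (Fin 2 → F)) : Module.End F (KapR ι r → F) where
  toFun x := Sum.elim (fun p => θ p.1 (fun j => x (Sum.inl (p.1, j))) p.2) (fun u => x (Sum.inr u))
  map_add' := by
    intro x y
    funext k
    rcases k with p | u
    · show θ p.1 (fun j => (x + y) (Sum.inl (p.1, j))) p.2 = _
      have : (fun j => (x + y) (Sum.inl (p.1, j))) =
          (fun j => x (Sum.inl (p.1, j))) + (fun j => y (Sum.inl (p.1, j))) := rfl
      rw [this, map_add]
      rfl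
    · rfl
  map_smul' := by
    intro c x
    funext k
    rcases k with p | u
    · show θ p.1 (fun j => (c • x) (Sum.inl (p.1, j))) p.2 = _
      have : (fun j => (c • x) (Sum.inl (p.1, j))) = c • (fun j => x (Sum.inl (p.1, j))) := rfl
      rw [this, map_smul]
      rfl
    · rfl

theorem embFunR_inl (ι r : Type) (θ : ι → Module.End F (Fin 2 → F)) (x : KapR ι r → F)
    (p : ι × Fin 2) :
    embFunR ι r θ x (Sum.inl p) = θ p.1 (fun j => x (Sum.inl (p.1, j))) p.2 := rfl

theorem embFunR_inr (ι r : Type) (θ : ι → Module.End F (Fin 2 → F)) (x : KapR ι r → F) (u : r) :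
    embFunR ι r θ x (Sum.inr u) = x (Sum.inr u) := rfl

/-- the block-diagonal homomorphism -/
def emb0R (ι r : Type) {D : Type*} [Group D] (ρ : D →* (Module.End F (Fin 2 → F))ˣ) :
    (ι → D) →* Module.End F (KapR ι r → F) where
  toFun θ := embFunR ι r
    (fun i => ((ρ (θ i) : (Module.End F (Fin 2 → F))ˣ) : Module.End F (Fin 2 → F)))
  map_one' := by
    apply LinearMap.ext
    intro x
    funext k
    rcases k with p | u
    · rw [embFunR_inl]
      simp
    · rfl
  map_mul' := by
    intro θ θ'
    apply LinearMap.ext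
    intro x
    funext k
    rcases k with p | u
    · rw [Module.End.mul_apply, embFunR_inl, embFunR_inl]
      simp only [Pi.mul_apply, map_mul, Units.val_mul, Module.End.mul_apply]
      congr 2
    · rfl

/-- coordinate permutations -/
def perm0R (ι r : Type) : Equiv.Perm (ι × Fin 2) →* Module.End F (KapR ι r → F) where
  toFun π := LinearMap.funLeft F F (Sum.map π.symm id)
  map_one' := by
    apply LinearMap.ext
    intro x
    funext k
    rcases k with p | u <;> rfl
  map_mul' := by
    intro π π'
    apply LinearMap.ext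
    intro x
    funext k
    rcases k with p | u <;> rfl

theorem perm0R_inl (ι r : Type) (π : Equiv.Perm (ι × Fin 2)) (x : KapR ι r → F) (p : ι × Fin 2) :
    perm0R (F := F) ι r π x (Sum.inl p) = x (Sum.inl (π.symm p)) := rfl

theorem perm0R_inr (ι r : Type) (π : Equiv.Perm (ι × Fin 2)) (x : KapR ι r → F) (u : r) :
    perm0R (F := F) ι r π x (Sum.inr u) = x (Sum.inr u) := rfl

/-- action on the remaining coordinates -/
def embCfun (ι r : Type) (c : Module.End F (r → F)) : Module.End F (KapR ι r → F) where
  toFun x := Sum.elim (fun p => x (Sum.inl p)) (fun u => c (fun u' => x (Sum.inr u')) u)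
  map_add' := by
    intro x y
    funext k
    rcases k with p | u
    · rfl
    · show c (fun u' => (x + y) (Sum.inr u')) u = _
      have : (fun u' => (x + y) (Sum.inr u')) =
          (fun u' => x (Sum.inr u')) + (fun u' => y (Sum.inr u')) := rfl
      rw [this, map_add]
      rfl
  map_smul' := by
    intro a x
    funext k
    rcases k with p | u
    · rfl
    · show c (fun u' => (a • x) (Sum.inr u')) u = _
      have : (fun u' => (a • x) (Sum.inr u')) = a • (fun u' => x (Sum.inr u')) := rfl
      rw [this, map_smul]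
      rfl

theorem embCfun_inl (ι r : Type) (c : Module.End F (r → F)) (x : KapR ι r → F) (p : ι × Fin 2) :
    embCfun ι r c x (Sum.inl p) = x (Sum.inl p) := rfl

theorem embCfun_inr (ι r : Type) (c : Module.End F (r → F)) (x : KapR ι r → F) (u : r) :
    embCfun ι r c x (Sum.inr u) = c (fun u' => x (Sum.inr u')) u := rfl

def embC0 (ι r : Type) : Module.End F (r → F) →* Module.End F (KapR ι r → F) where
  toFun c := embCfun ι r c
  map_one' := by
    apply LinearMap.ext
    intro x
    funext k
    rcases k with p | u <;> rfl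
  map_mul' := by
    intro c c'
    apply LinearMap.ext
    intro x
    funext k
    rcases k with p | u
    · rfl
    · rfl

section Mem

variable (ι r : Type) [Fintype ι] (QW : (r → F) → F)

theorem QκR_embFun (θ : ι → Module.End F (Fin 2 → F))
    (hθ : ∀ i y, Q₂ (θ i y) = Q₂ y) (x : KapR ι r → F) :
    QκR ι r QW (embFunR ι r θ x) = QκR ι r QW x := by
  unfold QκR
  congr 1
  rw [Fintype.sum_prod_type, Fintype.sum_prod_type]
  apply Finset.sum_congr rfl
  intro i _
  have h1 := hθ i (fun j => x (Sum.inl (i, j)))
  rw [Q₂_eq_sum, Q₂_eq_sum] at h1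
  exact h1

theorem QκR_perm0 (π : Equiv.Perm (ι × Fin 2)) (x : KapR ι r → F) :
    QκR ι r QW (perm0R ι r π x) = QκR ι r QW x := by
  unfold QκR
  congr 1
  exact Equiv.sum_comp π.symm (fun p => x (Sum.inl p) ^ 2)

theorem QκR_embC (c : Module.End F (r → F)) (hc : ∀ y, QW (c y) = QW y) (x : KapR ι r → F) :
    QκR ι r QW (embCfun ι r c x) = QκR ι r QW x := by
  unfold QκR
  congr 1
  exact hc _

/-- block-diagonal maps as isometries of the model form -/
noncomputable def embOR {D : Type*} [Group D] (ρ : D →* (Module.End F (Fin 2 → F))ˣ)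
    (hρ : ∀ x, ρ x ∈ isoSubgroup (Q₂ (F := F))) : (ι → D) →* ↥(isoSubgroup (QκR ι r QW)) :=
  (MonoidHom.toHomUnits (emb0R ι r ρ)).codRestrict (isoSubgroup (QκR ι r QW)) (by
    intro θ x
    show QκR ι r QW (emb0R ι r ρ θ x) = QκR ι r QW x
    exact QκR_embFun ι r QW _ (fun i y => hρ (θ i) y) x)

/-- coordinate permutations as isometries of the model form -/
noncomputable def permOR : Equiv.Perm (ι × Fin 2) →* ↥(isoSubgroup (QκR ι r QW)) :=
  (MonoidHom.toHomUnits (perm0R (F := F) ι r)).codRestrict (isoSubgroup (QκR ι r QW)) (by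
    intro π x
    show QκR ι r QW (perm0R ι r π x) = QκR ι r QW x
    exact QκR_perm0 ι r QW π x)

/-- isometries of the remaining coordinates as isometries of the model form -/
noncomputable def embCO : ↥(isoSubgroup QW) →* ↥(isoSubgroup (QκR ι r QW)) :=
  ((Units.map (embC0 (F := F) ι r)).comp (isoSubgroup QW).subtype).codRestrict
    (isoSubgroup (QκR ι r QW)) (by
    intro c x
    show QκR ι r QW (embCfun ι r ((c.1 : (Module.End F (r → F))ˣ) : Module.End F (r → F)) x) =
      QκR ι r QW x
    exact QκR_embC ι r QW _ (fun y => c.2 y) x)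

theorem embCO_apply (c : ↥(isoSubgroup QW)) (x : KapR ι r → F) :
    (((embCO ι r QW c : ↥(isoSubgroup (QκR ι r QW))) : (Module.End F (KapR ι r → F))ˣ) :
      Module.End F (KapR ι r → F)) x =
      embCfun ι r ((c.1 : (Module.End F (r → F))ˣ) : Module.End F (r → F)) x := rfl

end Mem

end Cfsg.Agent.Lib.Helper10.OmegaSylow
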