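import Mathlib
import Cfsg.Agent.Lib.Helper10.OmegaSylowK

set_option autoImplicit false
open scoped MatrixGroups

namespace Cfsg.Agent.Lib.Helper10.OmegaSylow

open Module Cfsg.Agent.Lib.Helper10.SpSylowE

universe u

variable {F : Type u} [Field F]

/-- diagonal form -/
def Qdiag {r : Type} [Fintype r] (w : r → F) (y : r → F) : F := ∑ u, w u * y u ^ 2

/-- sign-diagonal maps -/
def signEnd (r : Type) (s : r → ℤˣ) : Module.End F (r → F) where
  toFun y u := (((s u : ℤˣ) : ℤ) : F) * y u
  map_add' := by
    intro x y
    funext u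
    show _ * (x u + y u) = _ * x u + _ * y u
    ring
  map_smul' := by
    intro a x
    funext u
    show _ * (a * x u) = a * (_ * x u)
    ring

theorem signEnd_apply (r : Type) (s : r → ℤˣ) (y : r → F) (u : r) :
    signEnd (F := F) r s y u = (((s u : ℤˣ) : ℤ) : F) * y u := rfl

def signHom0 (r : Type) : (r → ℤˣ) →* Module.End F (r → F) where
  toFun s := signEnd r s
  map_one' := by
    apply LinearMap.ext
    intro y
    funext u
    rw [signEnd_apply]
    simp
  map_mul' := by
    intro s s'
    apply LinearMap.ext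
    intro y
    funext u
    rw [Module.End.mul_apply, signEnd_apply, signEnd_apply, signEnd_apply, Pi.mul_apply,
      Units.val_mul, Int.cast_mul]
    ring

theorem sign_sq (e : ℤˣ) : (((e : ℤˣ) : ℤ) : F) ^ 2 = 1 := by
  rcases Int.units_eq_one_or e with h | h <;> rw [h] <;> simp

noncomputable def signHom {r : Type} [Fintype r] (w : r → F) :
    (r → ℤˣ) →* ↥(isoSubgroup (Qdiag w)) :=
  (MonoidHom.toHomUnits (signHom0 (F := F) r)).codRestrict (isoSubgroup (Qdiag w)) (by
    intro s y
    show Qdiag w (signEnd r s y) = Qdiag w y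
    unfold Qdiag
    apply Finset.sum_congr rfl
    intro u _
    rw [signEnd_apply, mul_pow, sign_sq, one_mul])

theorem signHom_apply {r : Type} [Fintype r] (w : r → F) (s : r → ℤˣ) (y : r → F) :
    (((signHom w s : ↥(isoSubgroup (Qdiag w))) : (Module.End F (r → F))ˣ) :
      Module.End F (r → F)) y = signEnd r s y := rfl

theorem signHom_injective {r : Type} [Fintype r] [DecidableEq r] (h2 : (2 : F) ≠ 0) (w : r → F) :
    Function.Injective (signHom w) := by
  rw [injective_iff_map_eq_one]
  intro s hs
  funext u
  have h4 := congrArg (fun g : ↥(isoSubgroup (Qdiag w)) =>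
    (((g : (Module.End F (r → F))ˣ) : Module.End F (r → F)) (Pi.single u 1)) u) hs
  simp only [signHom_apply, signEnd_apply] at h4
  rcases Int.units_eq_one_or (s u) with h | h
  · exact h
  · exfalso
    rw [h] at h4
    have h5 : (-(1 : F)) = 1 := by
      simpa using h4
    apply h2
    linear_combination (-1 : F) * h5

theorem sign_fun_sq {r : Type} (s : r → ℤˣ) : s ^ 2 = 1 := by
  funext u
  exact Int.units_sq (s u)

theorem card_sign_fun (r : Type) [Fintype r] : Nat.card (r → ℤˣ) = 2 ^ Fintype.card r := by
  rw [Nat.card_fun, Nat.card_eq_fintype_card (α := ℤˣ), Fintype.card_units_int,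
    Nat.card_eq_fintype_card]

end Cfsg.Agent.Lib.Helper10.OmegaSylow
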