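import Mathlib
import Cfsg.Agent.Lib.Helper10.OmegaSylowL
import Cfsg.Agent.Lib.Helper10.OmegaSylowG

set_option autoImplicit false
open scoped MatrixGroups

namespace Cfsg.Agent.Lib.Helper10.OmegaSylow

open Module Cfsg.Agent.Lib.Helper10.SpSylowE

universe u

variable {F : Type u} [Field F]

set_option maxHeartbeats 800000 in
theorem model_mainR [Fintype F] (ι r : Type) [Fintype ι] [DecidableEq ι] [Fintype r]
    [DecidableEq r] (w : r → F) (h2 : (2 : F) ≠ 0)
    {D : Type u} [Group D] [Finite D] (ρ : D →* (Module.End F (Fin 2 → F))ˣ)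
    (hρinj : Function.Injective ρ) (hρ : ∀ x, ρ x ∈ isoSubgroup (Q₂ (F := F)))
    (T : Subgroup (Equiv.Perm ι))
    (hker : ∀ (χ : ((ι → D) ⋊[(permAut ι D).comp T.subtype] T) × (r → ℤˣ) →*
        Abelianization ↥(isoSubgroup (QκR ι r (Qdiag w)))),
      (∀ τ : T, χ (SemidirectProduct.inr τ, 1) = 1) →
      (∀ (i j : ι) (x : D), χ (SemidirectProduct.inl (Pi.mulSingle i x), 1) =
        χ (SemidirectProduct.inl (Pi.mulSingle j x), 1)) → SqComm χ.ker)
    (hperm : ∀ τ : T, permOR ι r (Qdiag w) (prodHom ι τ.1) ∈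
      commutator ↥(isoSubgroup (QκR ι r (Qdiag w))))
    (a : ℕ) (hcard : Nat.card D ^ Fintype.card ι * Nat.card T * 2 ^ Fintype.card r = 2 ^ (a + 2))
    (hc4 : Nat.card ↥(commutator ↥(isoSubgroup (QκR ι r (Qdiag w)))) * 4 =
      Nat.card ↥(isoSubgroup (QκR ι r (Qdiag w))))
    (hv : (Nat.card ↥(isoSubgroup (QκR ι r (Qdiag w)))).factorization 2 = a + 2) :
    ∃ (H : Type u) (_ : Group H) (f : H →* ↥(commutator ↥(isoSubgroup (QκR ι r (Qdiag w))))),
      Function.Injective f ∧ SqComm H ∧
        Nat.card H =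
          2 ^ (Nat.card ↥(commutator ↥(isoSubgroup (QκR ι r (Qdiag w))))).factorization 2 := by
  classical
  have hfinU : Finite (Module.End F (KapR ι r → F))ˣ := finite_units_end (KapR ι r)
  have hfinO : Finite ↥(isoSubgroup (QκR ι r (Qdiag w))) := inferInstance
  let eN : (ι → D) →* ↥(isoSubgroup (QκR ι r (Qdiag w))) := embOR ι r (Qdiag w) ρ hρ
  let pP : Equiv.Perm ι →* ↥(isoSubgroup (QκR ι r (Qdiag w))) :=
    (permOR ι r (Qdiag w)).comp (prodHom ι)
  let fg : T →* ↥(isoSubgroup (QκR ι r (Qdiag w))) := pP.comp T.subtype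
  let γ : (r → ℤˣ) →* ↥(isoSubgroup (QκR ι r (Qdiag w))) :=
    (embCO ι r (Qdiag w)).comp (signHom w)
  have hcompat0 : ∀ (τ : Equiv.Perm ι) (θ : ι → D), eN (permAut ι D τ θ) * pP τ = pP τ * eN θ := by
    intro τ θ
    apply Subtype.ext
    apply Units.ext
    apply LinearMap.ext
    intro x
    funext k
    rcases k with p | u
    · rfl
    · rfl
  have hcompat : ∀ τ : T, eN.comp (((permAut ι D).comp T.subtype) τ).toMonoidHom =
      (MulAut.conj (fg τ)).toMonoidHom.comp eN := by
    intro τ
    apply MonoidHom.ext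
    intro θ
    show eN (permAut ι D τ.1 θ) = pP τ.1 * eN θ * (pP τ.1)⁻¹
    rw [eq_mul_inv_iff_mul_eq]
    exact hcompat0 τ.1 θ
  let Ψ : ((ι → D) ⋊[(permAut ι D).comp T.subtype] T) →* ↥(isoSubgroup (QκR ι r (Qdiag w))) :=
    SemidirectProduct.lift eN fg hcompat
  have hΨ : ∀ g, Ψ g = eN g.left * fg g.right := fun g => rfl
  have hZcomm : ∀ (g : (ι → D) ⋊[(permAut ι D).comp T.subtype] T) (c : r → ℤˣ),
      Commute (Ψ g) (γ c) := by
    intro g c
    show Ψ g * γ c = γ c * Ψ g
    rw [hΨ]
    apply Subtype.ext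
    apply Units.ext
    apply LinearMap.ext
    intro x
    funext k
    rcases k with p | u
    · rfl
    · rfl
  let Ψ₂ : ((ι → D) ⋊[(permAut ι D).comp T.subtype] T) × (r → ℤˣ) →*
      ↥(isoSubgroup (QκR ι r (Qdiag w))) :=
    MonoidHom.noncommCoprod Ψ γ hZcomm
  have hΨ₂ : ∀ g c, Ψ₂ (g, c) = eN g.left * fg g.right * γ c := fun g c => rfl
  have hΨ₂inj : Function.Injective Ψ₂ := by
    rw [injective_iff_map_eq_one]
    rintro ⟨g, c⟩ hgc
    rw [hΨ₂] at hgc
    have hact : ∀ x : KapR ι r → F,
        emb0R ι r ρ g.left (perm0R ι r (prodHom ι g.right.1)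
          (embCfun ι r (signEnd r c) x)) = x := by
      intro x
      have h4 := congrArg (fun g : ↥(isoSubgroup (QκR ι r (Qdiag w))) =>
        (((g : (Module.End F (KapR ι r → F))ˣ) : Module.End F (KapR ι r → F)) x)) hgc
      exact h4
    have hc1 : c = 1 := by
      apply signHom_injective h2 w
      rw [map_one]
      apply Subtype.ext
      apply Units.ext
      apply LinearMap.ext
      intro y
      funext u
      have h4 := congrFun (hact (Sum.elim (fun _ => 0) y)) (Sum.inr u)
      exact h4
    have hact' : ∀ x : KapR ι r → F,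
        emb0R ι r ρ g.left (perm0R ι r (prodHom ι g.right.1) x) = x := by
      intro x
      have h4 := hact x
      rw [hc1] at h4
      have h5 : embCfun ι r (signEnd (F := F) r 1) x = x := by
        have h6 : signEnd (F := F) r 1 = 1 := (signHom0 (F := F) r).map_one
        rw [h6]
        exact congrFun (congrArg DFunLike.coe ((embC0 (F := F) ι r).map_one)) x
      rw [h5] at h4
      exact h4
    have hτ : ∀ i : ι, g.right.1.symm i = i := by
      intro i
      by_contra hne
      have h4 := congrFun (hact' (Pi.single (Sum.inl (i, 0)) 1)) (Sum.inl (i, 0))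
      have h5 : emb0R ι r ρ g.left (perm0R ι r (prodHom ι g.right.1)
          (Pi.single (Sum.inl (i, 0)) (1 : F))) (Sum.inl (i, 0)) = 0 := by
        show ((ρ (g.left i) : (Module.End F (Fin 2 → F))ˣ) : Module.End F (Fin 2 → F))
          (fun j => (perm0R ι r (prodHom ι g.right.1)
            (Pi.single (Sum.inl (i, 0)) (1 : F))) (Sum.inl (i, j))) 0 = 0
        have h6 : (fun j => (perm0R ι r (prodHom ι g.right.1)
            (Pi.single (Sum.inl (i, 0)) (1 : F))) (Sum.inl (i, j))) = (0 : Fin 2 → F) := by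
          funext j
          rw [perm0R_inl, prodHom_symm_apply]
          rw [Pi.single_apply, if_neg]
          · rfl
          · intro h7
            apply hne
            have h8 := Sum.inl_injective h7
            exact congrArg Prod.fst h8
        rw [h6, map_zero]
        rfl
      rw [h5] at h4
      simp at h4
    have hτ1 : g.right = 1 := by
      apply Subtype.ext
      apply Equiv.ext
      intro i
      have := hτ (g.right.1 i)
      rw [Equiv.symm_apply_apply] at this
      exact this.symm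
    have hθ : ∀ i, g.left i = 1 := by
      intro i
      apply hρinj
      rw [map_one]
      apply Units.ext
      apply LinearMap.ext
      intro y
      funext j
      let x : KapR ι r → F := Sum.elim (fun p => if p.1 = i then y p.2 else 0) (fun _ => 0)
      have h4 := congrFun (hact' x) (Sum.inl (i, j))
      have h5 : emb0R ι r ρ g.left (perm0R ι r (prodHom ι g.right.1) x) (Sum.inl (i, j)) =
          ((ρ (g.left i) : (Module.End F (Fin 2 → F))ˣ) : Module.End F (Fin 2 → F)) y j := by
        show ((ρ (g.left i) : (Module.End F (Fin 2 → F))ˣ) : Module.End F (Fin 2 → F))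
          (fun j' => (perm0R ι r (prodHom ι g.right.1) x) (Sum.inl (i, j'))) j = _
        have h6 : (fun j' => (perm0R ι r (prodHom ι g.right.1) x) (Sum.inl (i, j'))) = y := by
          funext j'
          rw [perm0R_inl, prodHom_symm_apply, hτ i]
          show (if i = i then y j' else 0) = y j'
          rw [if_pos rfl]
        rw [h6]
      rw [h5] at h4
      rw [h4]
      show (if i = i then y j else 0) = _
      rw [if_pos rfl]
      rfl
    apply Prod.ext
    · apply SemidirectProduct.ext
      · funext i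
        exact hθ i
      · exact hτ1
    · exact hc1
  -- the abelianisation character
  let χ : ((ι → D) ⋊[(permAut ι D).comp T.subtype] T) × (r → ℤˣ) →*
      Abelianization ↥(isoSubgroup (QκR ι r (Qdiag w))) := (Abelianization.of).comp Ψ₂
  have c1 : ∀ τ : T, χ (SemidirectProduct.inr τ, 1) = 1 := by
    intro τ
    show Abelianization.of (Ψ₂ (SemidirectProduct.inr τ, 1)) = 1
    rw [← MonoidHom.mem_ker, Abelianization.ker_of]
    have h4 : Ψ₂ (SemidirectProduct.inr τ, 1) = permOR ι r (Qdiag w) (prodHom ι τ.1) := by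
      rw [hΨ₂]
      show eN 1 * pP τ.1 * γ 1 = _
      rw [map_one, map_one, one_mul, mul_one]
      rfl
    rw [h4]
    exact hperm τ
  have c2 : ∀ (i j : ι) (x : D), χ (SemidirectProduct.inl (Pi.mulSingle i x), 1) =
      χ (SemidirectProduct.inl (Pi.mulSingle j x), 1) := by
    intro i j x
    have h4 : ∀ k : ι, Ψ₂ (SemidirectProduct.inl (Pi.mulSingle k x), 1) = eN (Pi.mulSingle k x) := by
      intro k
      rw [hΨ₂]
      show eN (Pi.mulSingle k x) * pP 1 * γ 1 = _
      rw [map_one, map_one, mul_one, mul_one]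
    show Abelianization.of (Ψ₂ _) = Abelianization.of (Ψ₂ _)
    rw [h4 i, h4 j]
    have h5 : permAut ι D (Equiv.swap i j) (Pi.mulSingle i x) = Pi.mulSingle j x := by
      funext k
      rw [permAut_apply, Equiv.symm_swap]
      by_cases hkj : k = j
      · subst hkj
        rw [Equiv.swap_apply_right, Pi.mulSingle_eq_same, Pi.mulSingle_eq_same]
      · rw [Pi.mulSingle_eq_of_ne hkj]
        by_cases hki : k = i
        · subst hki
          rw [Equiv.swap_apply_left, Pi.mulSingle_eq_of_ne (Ne.symm hkj)]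
        · rw [Equiv.swap_apply_of_ne_of_ne hki hkj, Pi.mulSingle_eq_of_ne hki]
    have h6 := hcompat0 (Equiv.swap i j) (Pi.mulSingle i x)
    rw [h5] at h6
    have h7 : eN (Pi.mulSingle j x) = pP (Equiv.swap i j) * eN (Pi.mulSingle i x) *
        (pP (Equiv.swap i j))⁻¹ := by
      rw [eq_mul_inv_iff_mul_eq]
      exact h6
    rw [h7, map_mul, map_mul, map_inv, mul_comm, ← mul_assoc, inv_mul_cancel, one_mul]
  have hK := hker χ c1 c2
  -- the embedding of the kernel
  have hmemK : ∀ k : χ.ker, Ψ₂ k.1 ∈ commutator ↥(isoSubgroup (QκR ι r (Qdiag w))) := by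
    intro k
    have := k.2
    rw [MonoidHom.mem_ker] at this
    rw [← Abelianization.ker_of, MonoidHom.mem_ker]
    exact this
  let f : χ.ker →* ↥(commutator ↥(isoSubgroup (QκR ι r (Qdiag w)))) :=
    (Ψ₂.comp χ.ker.subtype).codRestrict (commutator ↥(isoSubgroup (QκR ι r (Qdiag w)))) hmemK
  have hf : Function.Injective f := by
    intro k k' hkk
    apply Subtype.ext
    apply hΨ₂inj
    exact congrArg Subtype.val hkk
  refine ⟨χ.ker, inferInstance, f, hf, hK, ?_⟩
  -- cardinalities
  have hfinT : Finite T := inferInstance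
  have hG : Nat.card (((ι → D) ⋊[(permAut ι D).comp T.subtype] T) × (r → ℤˣ)) = 2 ^ (a + 2) := by
    rw [Nat.card_prod, SemidirectProduct.card, Nat.card_fun, card_sign_fun,
      Nat.card_eq_fintype_card (α := ι)]
    exact hcard
  have hfinG : Finite (((ι → D) ⋊[(permAut ι D).comp T.subtype] T) × (r → ℤˣ)) :=
    Nat.finite_of_card_ne_zero (by rw [hG]; positivity)
  have hidx : (commutator ↥(isoSubgroup (QκR ι r (Qdiag w)))).index = 4 := by
    have h4 := Subgroup.card_mul_index (commutator ↥(isoSubgroup (QκR ι r (Qdiag w))))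
    rw [← hc4] at h4
    have hpos : 0 < Nat.card ↥(commutator ↥(isoSubgroup (QκR ι r (Qdiag w)))) := Nat.card_pos
    exact Nat.eq_of_mul_eq_mul_left hpos h4
  have hAb : Nat.card (Abelianization ↥(isoSubgroup (QκR ι r (Qdiag w)))) = 4 := by
    rw [← hidx]
    rfl
  have hfinAb : Finite (Abelianization ↥(isoSubgroup (QκR ι r (Qdiag w)))) :=
    Nat.finite_of_card_ne_zero (by rw [hAb]; norm_num)
  have hrange : Nat.card χ.range ≤ 4 := by
    rw [← hAb]
    exact Nat.card_le_card_of_injective _ (Subgroup.subtype_injective _)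
  have hker' : Nat.card χ.ker * Nat.card χ.range = 2 ^ (a + 2) := by
    rw [← hG, ← Subgroup.index_ker]
    exact Subgroup.card_mul_index χ.ker
  have hdvd : Nat.card χ.ker ∣ 2 ^ (a + 2) := Dvd.intro _ hker'
  obtain ⟨j, hj, hjeq⟩ := (Nat.dvd_prime_pow Nat.prime_two).1 hdvd
  have hja : a ≤ j := by
    by_contra hlt
    push Not at hlt
    have h4 : 2 ^ j * 4 < 2 ^ (a + 2) := by
      have : 2 ^ j * 4 = 2 ^ (j + 2) := by rw [pow_add]; norm_num
      rw [this]
      exact Nat.pow_lt_pow_right (by norm_num) (by omega)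
    have h5 : Nat.card χ.ker * Nat.card χ.range ≤ 2 ^ j * 4 := by
      rw [hjeq]
      exact Nat.mul_le_mul_left _ hrange
    omega
  have hva : (Nat.card ↥(commutator ↥(isoSubgroup (QκR ι r (Qdiag w))))).factorization 2 = a := by
    have h4 : (Nat.card ↥(commutator ↥(isoSubgroup (QκR ι r (Qdiag w)))) * 4).factorization 2 =
        a + 2 := by
      rw [hc4, hv]
    have hpos : Nat.card ↥(commutator ↥(isoSubgroup (QκR ι r (Qdiag w)))) ≠ 0 := Nat.card_pos.ne'
    rw [Nat.factorization_mul hpos (by norm_num), Finsupp.add_apply] at h4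
    have h5 : (4 : ℕ).factorization 2 = 2 := by
      have : (4 : ℕ) = 2 ^ 2 := by norm_num
      rw [this, Nat.factorization_pow]
      simp [Nat.Prime.factorization_self Nat.prime_two]
    omega
  have hjle : j ≤ a := by
    have h4 : Nat.card χ.ker ∣ Nat.card ↥(commutator ↥(isoSubgroup (QκR ι r (Qdiag w)))) := by
      rw [Nat.card_congr (MonoidHom.ofInjective hf).toEquiv]
      exact Subgroup.card_subgroup_dvd_card _
    rw [hjeq] at h4
    have hpos : Nat.card ↥(commutator ↥(isoSubgroup (QκR ι r (Qdiag w)))) ≠ 0 := Nat.card_pos.ne'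
    have := (Nat.Prime.pow_dvd_iff_le_factorization Nat.prime_two hpos).1 h4
    omega
  rw [hva, hjeq]
  congr 1
  omega

end Cfsg.Agent.Lib.Helper10.OmegaSylow
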