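import Mathlib
import Cfsg.Agent.Lib.Helper10.OmegaSylowK

set_option autoImplicit false
open scoped MatrixGroups

namespace Cfsg.Agent.Lib.Helper10.OmegaSylow

open Module Cfsg.Agent.Lib.Helper10.SpSylowE

universe u

variable {F : Type u} [Field F]

theorem hperm_of_five (ι r : Type) [Fintype ι] [DecidableEq ι] (QW : (r → F) → F)
    (hι5 : 5 ≤ Nat.card (ι × Fin 2)) (τ : Equiv.Perm ι) :
    permOR ι r QW (prodHom ι τ) ∈ commutator ↥(isoSubgroup (QκR ι r QW)) := by
  apply map_mem_commutator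
  rw [alternatingGroup.commutator_perm_eq hι5, Equiv.Perm.mem_alternatingGroup]
  exact sign_prodHom ι τ

theorem perm_fin_two_cases (τ : Equiv.Perm (Fin 2)) : τ = 1 ∨ τ = Equiv.swap 0 1 := by
  revert τ
  decide

theorem perm_fin_two_sq (τ : Equiv.Perm (Fin 2)) : τ ^ 2 = 1 := by
  revert τ
  decide

open scoped commutatorElement in
theorem prodHom_swap_eq :
    prodHom (Fin 2) (Equiv.swap 0 1) =
      ⁅(Equiv.swap ((0 : Fin 2), (1 : Fin 2)) ((1 : Fin 2), (1 : Fin 2)) :
          Equiv.Perm (Fin 2 × Fin 2)),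
        Equiv.swap ((0 : Fin 2), (0 : Fin 2)) ((0 : Fin 2), (1 : Fin 2)) *
          Equiv.swap ((0 : Fin 2), (1 : Fin 2)) ((1 : Fin 2), (0 : Fin 2)) *
          Equiv.swap ((1 : Fin 2), (0 : Fin 2)) ((1 : Fin 2), (1 : Fin 2))⁆ := by
  decide

theorem hperm_two (r : Type) (QW : (r → F) → F) (τ : Equiv.Perm (Fin 2)) :
    permOR (Fin 2) r QW (prodHom (Fin 2) τ) ∈ commutator ↥(isoSubgroup (QκR (Fin 2) r QW)) := by
  apply map_mem_commutator
  rcases perm_fin_two_cases τ with h | h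
  · rw [h, map_one]
    exact Subgroup.one_mem _
  · rw [h, prodHom_swap_eq, commutator_def]
    exact Subgroup.commutator_mem_commutator (Subgroup.mem_top _) (Subgroup.mem_top _)

end Cfsg.Agent.Lib.Helper10.OmegaSylow
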