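import Mathlib
import Cfsg.Agent.Lib.Helper10.OmegaSylowA

set_option autoImplicit false

namespace Cfsg.Agent.Lib.Helper10.OmegaSylow

open Cfsg.Agent.Lib.Helper10.SpSylowE

theorem perm_fin_two_sq' (τ : Equiv.Perm (Fin 2)) : τ ^ 2 = 1 := by
  revert τ
  decide

open scoped commutatorElement in
theorem sqComm_ker2 {D : Type*} [Group D] (R : Subgroup D)
    (h1 : ∀ d : D, d ∉ R → d ^ 2 = 1) (h2 : ∀ d : D, d ∉ R → ∀ ρ ∈ R, d * ρ * d⁻¹ = ρ⁻¹)
    (t₀ : D) (ht₀ : t₀ ∉ R)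
    (T : Subgroup (Equiv.Perm (Fin 2)))
    {C : Type*} [Group C] [Subsingleton C]
    {A : Type*} [CommGroup A]
    (χ : ((Fin 2 → D) ⋊[(permAut (Fin 2) D).comp T.subtype] T) × C →* A)
    (c1 : ∀ τ : T, χ (SemidirectProduct.inr τ, 1) = 1)
    (c2 : ∀ (i j : Fin 2) (d : D), χ (SemidirectProduct.inl (Pi.mulSingle i d), 1) =
      χ (SemidirectProduct.inl (Pi.mulSingle j d), 1)) :
    SqComm χ.ker := by
  classical
  let jN0 : (Fin 2 → D) →* ((Fin 2 → D) ⋊[(permAut (Fin 2) D).comp T.subtype] T) × C :=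
    (MonoidHom.inl _ C).comp SemidirectProduct.inl
  let jT0 : T →* ((Fin 2 → D) ⋊[(permAut (Fin 2) D).comp T.subtype] T) × C :=
    (MonoidHom.inl _ C).comp SemidirectProduct.inr
  have hjT : ∀ τ, jT0 τ ∈ χ.ker := fun τ => by
    rw [MonoidHom.mem_ker]
    exact c1 τ
  let jT : T →* χ.ker := jT0.codRestrict χ.ker hjT
  have hT : SqComm T := by
    intro τ
    have : τ ^ 2 = 1 := by
      apply Subtype.ext
      rw [Subgroup.coe_pow]
      exact perm_fin_two_sq' τ.1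
    rw [this]
    exact Subgroup.one_mem _
  let χ₀ : D →* A := χ.comp (jN0.comp (MonoidHom.mulSingle (fun _ : Fin 2 => D) 0))
  have hχ0 : ∀ d, χ (jN0 (Pi.mulSingle 0 d)) = χ₀ d := fun d => rfl
  have hχ1 : ∀ d, χ (jN0 (Pi.mulSingle 1 d)) = χ₀ d := fun d => c2 1 0 d
  have hvec : ∀ a b : D, (![a, b] : Fin 2 → D) = Pi.mulSingle 0 a * Pi.mulSingle 1 b := by
    intro a b
    funext k
    fin_cases k
    · simp
    · simp
  have hχvec : ∀ a b : D, χ (jN0 ![a, b]) = χ₀ a * χ₀ b := by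
    intro a b
    rw [hvec, map_mul, map_mul, hχ0, hχ1]
  -- commutators of kernel elements of the base
  let M : Subgroup (Fin 2 → D) := ((commutator χ.ker).map χ.ker.subtype).comap jN0
  have hcomm : ∀ α β : Fin 2 → D, jN0 α ∈ χ.ker → jN0 β ∈ χ.ker → ⁅α, β⁆ ∈ M := by
    intro α β hα hβ
    have hc : ⁅(⟨jN0 α, hα⟩ : χ.ker), ⟨jN0 β, hβ⟩⁆ ∈ commutator χ.ker := by
      rw [commutator_def]
      exact Subgroup.commutator_mem_commutator (Subgroup.mem_top _) (Subgroup.mem_top _)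
    rw [Subgroup.mem_comap, map_commutatorElement]
    exact ⟨_, hc, rfl⟩
  have hcommvec : ∀ a b a' b' : D, ⁅(![a, b] : Fin 2 → D), ![a', b']⁆ =
      ![a * a' * a⁻¹ * a'⁻¹, b * b' * b⁻¹ * b'⁻¹] := by
    intro a b a' b'
    funext k
    fin_cases k
    · simp [commutatorElement_def]
    · simp [commutatorElement_def]
  have hχsq : ∀ d : D, d ∉ R → χ₀ d * χ₀ d = 1 := by
    intro d hd
    rw [← map_mul, ← pow_two, h1 d hd, map_one]
  have hM : ∀ θ : Fin 2 → D, jN0 θ ∈ χ.ker → θ ^ 2 ∈ M := by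
    intro θ hθ
    have hθvec : θ = ![θ 0, θ 1] := by
      funext k
      fin_cases k
      · rfl
      · rfl
    have hθ2 : θ ^ 2 = ![θ 0 ^ 2, θ 1 ^ 2] := by
      funext k
      fin_cases k
      · rfl
      · rfl
    have hχθ : χ₀ (θ 0) * χ₀ (θ 1) = 1 := by
      rw [← hχvec, ← hθvec]
      exact hθ
    by_cases hx : θ 0 ∈ R
    · by_cases hy : θ 1 ∈ R
      · -- both rotations
        have hα : jN0 ![t₀, t₀] ∈ χ.ker := by
          rw [MonoidHom.mem_ker, hχvec]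
          exact hχsq t₀ ht₀
        have hβ : jN0 ![(θ 0)⁻¹, (θ 1)⁻¹] ∈ χ.ker := by
          rw [MonoidHom.mem_ker, hχvec, map_inv, map_inv, ← mul_inv, hχθ, inv_one]
        have h4 := hcomm _ _ hα hβ
        rw [hcommvec] at h4
        have e0 : t₀ * (θ 0)⁻¹ * t₀⁻¹ * (θ 0)⁻¹⁻¹ = θ 0 ^ 2 := by
          rw [h2 t₀ ht₀ _ (R.inv_mem hx), inv_inv, pow_two]
        have e1 : t₀ * (θ 1)⁻¹ * t₀⁻¹ * (θ 1)⁻¹⁻¹ = θ 1 ^ 2 := by
          rw [h2 t₀ ht₀ _ (R.inv_mem hy), inv_inv, pow_two]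
        rw [e0, e1, ← hθ2] at h4
        exact h4
      · -- rotation, reflection
        have hα : jN0 ![θ 1, θ 1] ∈ χ.ker := by
          rw [MonoidHom.mem_ker, hχvec]
          exact hχsq _ hy
        have hβ : jN0 ![(θ 0)⁻¹, θ 1] ∈ χ.ker := by
          rw [MonoidHom.mem_ker, hχvec, map_inv]
          have h5 : χ₀ (θ 1) = (χ₀ (θ 0))⁻¹ := by
            rw [eq_inv_iff_mul_eq_one, mul_comm]
            exact hχθ
          rw [← h5]
          exact hχsq _ hy
        have h4 := hcomm _ _ hα hβ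
        rw [hcommvec] at h4
        have e0 : θ 1 * (θ 0)⁻¹ * (θ 1)⁻¹ * (θ 0)⁻¹⁻¹ = θ 0 ^ 2 := by
          rw [h2 _ hy _ (R.inv_mem hx), inv_inv, pow_two]
        have e1 : θ 1 * θ 1 * (θ 1)⁻¹ * (θ 1)⁻¹ = θ 1 ^ 2 := by
          rw [h1 _ hy]
          group
        rw [e0, e1, ← hθ2] at h4
        exact h4
    · by_cases hy : θ 1 ∈ R
      · -- reflection, rotation
        have hα : jN0 ![θ 0, θ 0] ∈ χ.ker := by
          rw [MonoidHom.mem_ker, hχvec]
          exact hχsq _ hx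
        have hβ : jN0 ![θ 0, (θ 1)⁻¹] ∈ χ.ker := by
          rw [MonoidHom.mem_ker, hχvec, map_inv]
          have h5 : χ₀ (θ 0) = (χ₀ (θ 1))⁻¹ := by
            rw [eq_inv_iff_mul_eq_one]
            exact hχθ
          rw [← h5]
          exact hχsq _ hx
        have h4 := hcomm _ _ hα hβ
        rw [hcommvec] at h4
        have e0 : θ 0 * θ 0 * (θ 0)⁻¹ * (θ 0)⁻¹ = θ 0 ^ 2 := by
          rw [h1 _ hx]
          group
        have e1 : θ 0 * (θ 1)⁻¹ * (θ 0)⁻¹ * (θ 1)⁻¹⁻¹ = θ 1 ^ 2 := by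
          rw [h2 _ hx _ (R.inv_mem hy), inv_inv, pow_two]
        rw [e0, e1, ← hθ2] at h4
        exact h4
      · -- both reflections
        have : θ ^ 2 = 1 := by
          rw [hθ2, h1 _ hx, h1 _ hy]
          funext k
          fin_cases k
          · rfl
          · rfl
        rw [this]
        exact M.one_mem
  apply sqComm_of_sqKer
  rintro ⟨⟨g, c⟩, hk⟩
  have hk1 : jT g.right ∈ sqKer χ.ker := by
    rw [mem_sqKer, ← map_pow]
    exact map_mem_commutator jT (hT g.right)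
  have hc1 : c = 1 := Subsingleton.elim _ _
  have hdecomp : ((g, c) : ((Fin 2 → D) ⋊[(permAut (Fin 2) D).comp T.subtype] T) × C) =
      jN0 g.left * jT0 g.right := by
    apply Prod.ext
    · show g = SemidirectProduct.inl g.left * SemidirectProduct.inr g.right
      rw [SemidirectProduct.inl_left_mul_inr_right]
    · show c = 1 * 1
      rw [mul_one]
      exact hc1
  have hk2mem : jN0 g.left ∈ χ.ker := by
    have h6 : jN0 g.left = (g, c) * (jT0 g.right)⁻¹ := by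
      rw [hdecomp, mul_assoc, mul_inv_cancel, mul_one]
    rw [h6]
    exact χ.ker.mul_mem hk (χ.ker.inv_mem (hjT g.right))
  have hk2 : (⟨jN0 g.left, hk2mem⟩ : χ.ker) ∈ sqKer χ.ker := by
    rw [mem_sqKer]
    have hsq := hM g.left hk2mem
    rw [Subgroup.mem_comap] at hsq
    obtain ⟨z, hz, hzv⟩ := hsq
    have : (⟨jN0 g.left, hk2mem⟩ : χ.ker) ^ 2 = z := by
      apply Subtype.ext
      rw [Subgroup.coe_pow]
      show (jN0 g.left) ^ 2 = z.1
      have hzv' : z.1 = jN0 (g.left ^ 2) := hzv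
      rw [hzv', map_pow]
    rw [this]
    exact hz
  have hfinal : (⟨(g, c), hk⟩ : χ.ker) = ⟨jN0 g.left, hk2mem⟩ * jT g.right := by
    apply Subtype.ext
    exact hdecomp
  rw [hfinal]
  exact (sqKer χ.ker).mul_mem hk2 hk1

end Cfsg.Agent.Lib.Helper10.OmegaSylow
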