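import Mathlib
import Cfsg.Agent.Lib.Helper10.OmegaSylowL
import Cfsg.Agent.Lib.Helper10.OmegaSylowI
import Cfsg.Agent.Lib.Helper19.OrthTwoRank

set_option autoImplicit false
open scoped MatrixGroups

namespace Cfsg.Agent.Lib.Helper10.OmegaSylow

open Module Cfsg.Agent.Lib.Helper10.SpSylowE QuadraticMap Cfsg.Agent.Lib.Helper19.QuadWitt

universe u

variable {F : Type u} [Field F]

theorem model_equiv_of_family (h2 : (2 : F) ≠ 0) {κ : Type} [Fintype κ] [DecidableEq κ]
    (Q : QuadraticForm F (κ → F)) {n k : ℕ}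
    (v : Fin (Module.finrank F (κ → F)) → (κ → F))
    (hv : Cfsg.Agent.Lib.Helper19.OrthRefl.IsOrthFam Q v)
    (e : KapR (Fin n) (Fin k) ≃ Fin (Module.finrank F (κ → F)))
    (hone : ∀ p, Q (v (e (Sum.inl p))) = 1) :
    ∃ ε : (κ → F) ≃ₗ[F] (KapR (Fin n) (Fin k) → F),
      ∀ x, QκR (Fin n) (Fin k) (Qdiag (fun u => Q (v (e (Sum.inr u))))) (ε x) = Q x := by
  classical
  let b := (hv.basis h2 Q rfl).reindex e.symm
  have hb : ∀ k', b k' = v (e k') := by
    intro k'
    show (hv.basis h2 Q rfl).reindex e.symm k' = v (e k')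
    rw [Module.Basis.reindex_apply, Equiv.symm_symm,
      Cfsg.Agent.Lib.Helper19.OrthRefl.IsOrthFam.basis_apply]
  refine ⟨b.equivFun, ?_⟩
  intro x
  have hx : x = ∑ k', b.equivFun x k' • b k' := (b.sum_equivFun x).symm
  have horth : ∀ k' l, k' ≠ l → polar (⇑Q) (b k') (b l) = 0 := by
    intro k' l hkl
    rw [hb, hb]
    exact hv.1 _ _ (fun h => hkl (e.injective h))
  conv_rhs => rw [hx]
  rw [Q_sum_orth Q b horth (b.equivFun x) Finset.univ, Fintype.sum_sum_type]
  unfold QκR Qdiag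
  congr 1
  · apply Finset.sum_congr rfl
    intro p _
    rw [hb, hone p, mul_one]
  · apply Finset.sum_congr rfl
    intro u _
    rw [hb, mul_comm]

theorem exists_model_A [Fintype F] (h2 : (2 : F) ≠ 0) {κ : Type} [Fintype κ] [DecidableEq κ]
    (Q : QuadraticForm F (κ → F)) (hQ : (QuadraticMap.polarBilin Q).Nondegenerate) (m : ℕ)
    (hm : 1 ≤ m) (hcard : Fintype.card κ = 2 * m)
    (hsq : IsSquare (gram Q (Pi.basisFun F κ)).det) :
    ∃ (w : Fin 0 → F) (ε : (κ → F) ≃ₗ[F] (KapR (Fin m) (Fin 0) → F)),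
      ∀ x, QκR (Fin m) (Fin 0) (Qdiag w) (ε x) = Q x := by
  classical
  have hfr : Module.finrank F (κ → F) = 2 * m := by
    rw [Module.finrank_fintype_fun_eq_card, hcard]
  obtain ⟨v, hv, hvc⟩ := Cfsg.Agent.Lib.Helper19.OrthRefl.exists_orthFam_all_const_even h2 Q hQ
    (by rw [hfr]; exact even_two_mul m) (by omega) hsq
  have hcardK : Fintype.card (KapR (Fin m) (Fin 0)) =
      Fintype.card (Fin (Module.finrank F (κ → F))) := by
    rw [Fintype.card_sum, Fintype.card_prod, Fintype.card_fin, Fintype.card_fin, Fintype.card_fin,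
      Fintype.card_fin, hfr]
    ring
  let e : KapR (Fin m) (Fin 0) ≃ Fin (Module.finrank F (κ → F)) := Fintype.equivOfCardEq hcardK
  obtain ⟨ε, hε⟩ := model_equiv_of_family h2 Q v hv e (fun p => hvc _)
  exact ⟨_, ε, hε⟩

theorem exists_model_B [Fintype F] (h2 : (2 : F) ≠ 0) {κ : Type} [Fintype κ] [DecidableEq κ]
    (Q : QuadraticForm F (κ → F)) (hQ : (QuadraticMap.polarBilin Q).Nondegenerate) (m : ℕ)
    (hm : 1 ≤ m) (hcard : Fintype.card κ = 2 * m) :
    ∃ (w : Fin 2 → F) (ε : (κ → F) ≃ₗ[F] (KapR (Fin (m - 1)) (Fin 2) → F)),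
      ∀ x, QκR (Fin (m - 1)) (Fin 2) (Qdiag w) (ε x) = Q x := by
  classical
  have hfr : Module.finrank F (κ → F) = 2 * m := by
    rw [Module.finrank_fintype_fun_eq_card, hcard]
  obtain ⟨v, hv, hvc⟩ := Cfsg.Agent.Lib.Helper19.OrthRefl.exists_orthFam_const h2 Q hQ 1
    one_ne_zero (2 * m - 1) (by omega)
  have hcardK : Fintype.card (KapR (Fin (m - 1)) (Fin 2)) =
      Fintype.card (Fin (Module.finrank F (κ → F))) := by
    rw [Fintype.card_sum, Fintype.card_prod, Fintype.card_fin, Fintype.card_fin, Fintype.card_fin,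
      hfr]
    omega
  let e₀ : KapR (Fin (m - 1)) (Fin 2) ≃ Fin (Module.finrank F (κ → F)) :=
    Fintype.equivOfCardEq hcardK
  let last : Fin (Module.finrank F (κ → F)) := ⟨2 * m - 1, by omega⟩
  let e : KapR (Fin (m - 1)) (Fin 2) ≃ Fin (Module.finrank F (κ → F)) :=
    e₀.trans (Equiv.swap (e₀ (Sum.inr 1)) last)
  have he_inr : e (Sum.inr 1) = last := by
    show Equiv.swap (e₀ (Sum.inr 1)) last (e₀ (Sum.inr 1)) = last
    exact Equiv.swap_apply_left _ _
  have he_inl : ∀ p, ((e (Sum.inl p) : Fin (Module.finrank F (κ → F))) : ℕ) < 2 * m - 1 := by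
    intro p
    have hne : e (Sum.inl p) ≠ last := by
      rw [← he_inr]
      intro h
      have := e.injective h
      cases this
    have hlt : ((e (Sum.inl p) : Fin (Module.finrank F (κ → F))) : ℕ) < 2 * m := by
      have := (e (Sum.inl p)).2
      omega
    have hne' : ((e (Sum.inl p) : Fin (Module.finrank F (κ → F))) : ℕ) ≠ 2 * m - 1 := by
      intro h
      apply hne
      apply Fin.ext
      exact h
    omega
  obtain ⟨ε, hε⟩ := model_equiv_of_family h2 Q v hv e (fun p => hvc _ (he_inl p))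
  exact ⟨_, ε, hε⟩

end Cfsg.Agent.Lib.Helper10.OmegaSylow
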