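import Mathlib
import Cfsg.Agent.Lib.Helper10.OmegaSylowH
import Cfsg.Agent.Lib.Helper10.OmegaSylowM
import Cfsg.Agent.Lib.Helper10.OmegaSylowN
import Cfsg.Agent.Lib.Helper10.OmegaSylowN2
import Cfsg.Agent.Lib.Helper10.OmegaSylowO

set_option autoImplicit false
open scoped MatrixGroups

namespace Cfsg.Agent.Lib.Helper10.OmegaSylow

open Module Cfsg.Agent.Lib.Helper10.SpSylowE QuadraticMap Cfsg.Agent.Lib.Helper19.QuadWitt

universe u

variable {F : Type u} [Field F]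

theorem three_distinct (n : ℕ) (hn : 3 ≤ n) :
    ∀ i : Fin n, ∃ j l : Fin n, i ≠ j ∧ i ≠ l ∧ j ≠ l := by
  intro i
  have h0 : (0 : ℕ) < n := by omega
  have h1' : (1 : ℕ) < n := by omega
  have h2'' : (2 : ℕ) < n := by omega
  by_cases hi0 : (i : ℕ) = 0
  · refine ⟨⟨1, h1'⟩, ⟨2, h2''⟩, ?_, ?_, ?_⟩ <;> intro h <;> have := congrArg Fin.val h <;>
      simp at this <;> omega
  · by_cases hi1 : (i : ℕ) = 1
    · refine ⟨⟨0, h0⟩, ⟨2, h2''⟩, ?_, ?_, ?_⟩ <;> intro h <;> have := congrArg Fin.val h <;>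
        simp at this <;> omega
    · refine ⟨⟨0, h0⟩, ⟨1, h1'⟩, ?_, ?_, ?_⟩ <;> intro h <;> have := congrArg Fin.val h <;>
        simp at this <;> omega

set_option maxHeartbeats 800000 in
theorem sqComm_sylow_omega_model [Fintype F] (hodd : Odd (Fintype.card F)) (h2 : (2 : F) ≠ 0)
    {κ : Type} [Fintype κ] [DecidableEq κ]
    (Q : QuadraticForm F (κ → F)) (hQ : (QuadraticMap.polarBilin Q).Nondegenerate)
    (hκ : 2 ≤ Fintype.card κ) (n k : ℕ) (w : Fin k → F)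
    (ε : (κ → F) ≃ₗ[F] (KapR (Fin n) (Fin k) → F))
    (hε : ∀ x, QκR (Fin n) (Fin k) (Qdiag w) (ε x) = Q x)
    (hnk : 3 ≤ n ∨ (n = 2 ∧ k = 0))
    (hv : (Nat.card ↥(Cfsg.isometryGroup F ⇑Q)).factorization 2 =
      n * (padicValNat 2 (Fintype.card F + 1) + padicValNat 2 (Fintype.card F - 1)) + ff n + k)
    (P : Sylow 2 ↥(Cfsg.Omega F ⇑Q)) : SqComm ↥(P : Subgroup ↥(Cfsg.Omega F ⇑Q)) := by
  classical
  obtain ⟨D, instD, finD, ρ, R, t₀, hρinj, hρ, h1, h2', ht₀, hcD⟩ := exists_D hodd h2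
  obtain ⟨T, hT, hcT⟩ := exists_T n
  set c := padicValNat 2 (Fintype.card F + 1) + padicValNat 2 (Fintype.card F - 1) with hc
  have hq2 : 2 ≤ Fintype.card F := Fintype.one_lt_card
  have hc1 : 1 ≤ c := by
    have h2dvd : 2 ∣ Fintype.card F + 1 := by
      obtain ⟨k', hk'⟩ := hodd
      exact ⟨k' + 1, by omega⟩
    have := one_le_padicValNat_of_dvd (p := 2) (n := Fintype.card F + 1) (by omega) h2dvd
    omega
  have hn2 : 2 ≤ n := by
    rcases hnk with h | ⟨h, -⟩ <;> omega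
  have hnc : 2 ≤ n * c := by
    have : 2 * 1 ≤ n * c := Nat.mul_le_mul hn2 hc1
    omega
  have hker : ∀ (χ : ((Fin n → D) ⋊[(permAut (Fin n) D).comp T.subtype] T) × (Fin k → ℤˣ) →*
        Abelianization ↥(isoSubgroup (QκR (Fin n) (Fin k) (Qdiag w)))),
      (∀ τ : T, χ (SemidirectProduct.inr τ, 1) = 1) →
      (∀ (i j : Fin n) (x : D), χ (SemidirectProduct.inl (Pi.mulSingle i x), 1) =
        χ (SemidirectProduct.inl (Pi.mulSingle j x), 1)) → SqComm χ.ker := by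
    rcases hnk with h | ⟨rfl, rfl⟩
    · intro χ c1 c2
      exact sqComm_ker R h1 h2' t₀ ht₀ (three_distinct n h) T hT (fun s => sign_fun_sq s) χ c1 c2
    · intro χ c1 c2
      exact sqComm_ker2 R h1 h2' t₀ ht₀ T χ c1 c2
  have hperm : ∀ τ : T, permOR (Fin n) (Fin k) (Qdiag w) (prodHom (Fin n) τ.1) ∈
      commutator ↥(isoSubgroup (QκR (Fin n) (Fin k) (Qdiag w))) := by
    rcases hnk with h | ⟨rfl, rfl⟩
    · intro τ
      apply hperm_of_five
      rw [Nat.card_eq_fintype_card, Fintype.card_prod, Fintype.card_fin, Fintype.card_fin]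
      omega
    · intro τ
      exact hperm_two (Fin 0) (Qdiag w) τ.1
  let E : ↥(Cfsg.isometryGroup F ⇑Q) ≃* ↥(isoSubgroup (QκR (Fin n) (Fin k) (Qdiag w))) :=
    (isoEquivMatrix ⇑Q).trans (isoTransfer ε ⇑Q (QκR (Fin n) (Fin k) (Qdiag w)) hε)
  have hfinGL : Finite (GL κ F) := inferInstance
  have hfinO : Finite ↥(Cfsg.isometryGroup F ⇑Q) := inferInstance
  have hcO : Nat.card ↥(isoSubgroup (QκR (Fin n) (Fin k) (Qdiag w))) =
      Nat.card ↥(Cfsg.isometryGroup F ⇑Q) :=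
    (Nat.card_congr E.toEquiv).symm
  have hcC : Nat.card ↥(commutator ↥(isoSubgroup (QκR (Fin n) (Fin k) (Qdiag w)))) =
      Nat.card ↥(commutator ↥(Cfsg.isometryGroup F ⇑Q)) :=
    (Nat.card_congr (commEquiv E).toEquiv).symm
  have hidx : (Cfsg.Omega F ⇑Q).index = 4 :=
    (Cfsg.Agent.Lib.Helper19.OrthRefl.Omega_structure h2 Q hQ hκ).1
  have hc4 : Nat.card ↥(commutator ↥(isoSubgroup (QκR (Fin n) (Fin k) (Qdiag w)))) * 4 =
      Nat.card ↥(isoSubgroup (QκR (Fin n) (Fin k) (Qdiag w))) := by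
    rw [hcC, hcO, ← hidx]
    exact Subgroup.card_mul_index (Cfsg.Omega F ⇑Q)
  have hcard' : Nat.card D ^ Fintype.card (Fin n) * Nat.card ↥T * 2 ^ Fintype.card (Fin k) =
      2 ^ ((n * c + ff n + k - 2) + 2) := by
    rw [hcD, hcT, Fintype.card_fin, Fintype.card_fin, ← pow_mul, ← pow_add, ← pow_add]
    congr 1
    have : c * n = n * c := mul_comm _ _
    omega
  have hv' : (Nat.card ↥(isoSubgroup (QκR (Fin n) (Fin k) (Qdiag w)))).factorization 2 =
      (n * c + ff n + k - 2) + 2 := by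
    rw [hcO, hv]
    omega
  obtain ⟨H, instH, f, hf, hH, hcH⟩ := model_mainR (F := F) (Fin n) (Fin k) w h2 ρ hρinj hρ
    T hker hperm (n * c + ff n + k - 2) hcard' hc4 hv'
  refine sqComm_sylow_of_embedding (G := ↥(Cfsg.Omega F ⇑Q))
    ((commEquiv E).symm.toMonoidHom.comp f) ?_ hH ?_ P
  · intro x y hxy
    exact hf ((commEquiv E).symm.injective hxy)
  · rw [hcH, hcC]

theorem sqComm_sylow_omega_even [Fintype F] (hodd : Odd (Fintype.card F)) (h2 : (2 : F) ≠ 0)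
    {κ : Type} [Fintype κ] [DecidableEq κ]
    (Q : QuadraticForm F (κ → F)) (hQ : (QuadraticMap.polarBilin Q).Nondegenerate)
    (m : ℕ) (hm : 1 ≤ m) (hcard : Fintype.card κ = 2 * m)
    (hA : IsSquare (gram Q (Pi.basisFun F κ)).det → (m = 2 ∨ 3 ≤ m) ∧
      (Nat.card ↥(Cfsg.isometryGroup F ⇑Q)).factorization 2 =
        m * (padicValNat 2 (Fintype.card F + 1) + padicValNat 2 (Fintype.card F - 1)) + ff m)
    (hB : ¬ IsSquare (gram Q (Pi.basisFun F κ)).det → 4 ≤ m ∧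
      (Nat.card ↥(Cfsg.isometryGroup F ⇑Q)).factorization 2 =
        (m - 1) * (padicValNat 2 (Fintype.card F + 1) + padicValNat 2 (Fintype.card F - 1)) +
          ff (m - 1) + 2)
    (P : Sylow 2 ↥(Cfsg.Omega F ⇑Q)) : SqComm ↥(P : Subgroup ↥(Cfsg.Omega F ⇑Q)) := by
  classical
  by_cases hsq : IsSquare (gram Q (Pi.basisFun F κ)).det
  · obtain ⟨hm', hv⟩ := hA hsq
    obtain ⟨w, ε, hε⟩ := exists_model_A h2 Q hQ m hm hcard hsq
    refine sqComm_sylow_omega_model hodd h2 Q hQ (by omega) m 0 w ε hε ?_ (by rw [hv]; rfl) P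
    rcases hm' with h | h
    · exact Or.inr ⟨h, rfl⟩
    · exact Or.inl h
  · obtain ⟨hm', hv⟩ := hB hsq
    obtain ⟨w, ε, hε⟩ := exists_model_B h2 Q hQ m hm hcard
    exact sqComm_sylow_omega_model hodd h2 Q hQ (by omega) (m - 1) 2 w ε hε
      (Or.inl (by omega)) hv P

end Cfsg.Agent.Lib.Helper10.OmegaSylow
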