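import Mathlib
import Cfsg.Agent.Lib.Helper10.CharSimple
import Cfsg.Agent.Lib.Helper10.MinimalNormal

set_option autoImplicit false

/-! O'Nan–Scott: subgroups of powers of a non-abelian simple group (Scott's lemma), helper10. -/

namespace Cfsg.Agent.Lib.Helper10.OnanScott


section factors
variable {ι : Type*} [DecidableEq ι] {T : Type*} [Group T] [IsSimpleGroup T]

theorem center_trivial (hT : ¬ IsMulCommutative T) (t : T) (ht : ∀ s : T, s * t = t * s) : t = 1 := by
  have hc : t ∈ Subgroup.center T := by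
    rw [Subgroup.mem_center_iff]; exact ht
  rcases (Subgroup.Normal.eq_bot_or_eq_top (inferInstance : (Subgroup.center T).Normal)) with h0 | h0
  · rw [h0, Subgroup.mem_bot] at hc
    exact hc
  · exfalso
    apply hT
    refine ⟨⟨fun a b => ?_⟩⟩
    have : b ∈ Subgroup.center T := by rw [h0]; exact Subgroup.mem_top b
    exact (Subgroup.mem_center_iff.1 this) a

theorem exists_ne_one : ∃ t : T, t ≠ 1 := by
  obtain ⟨a, b, hab⟩ := (inferInstance : Nontrivial T).exists_pair_ne
  by_cases ha : a = 1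
  · exact ⟨b, fun hb => hab (by rw [ha, hb])⟩
  · exact ⟨a, ha⟩

theorem comm_iff (hT : ¬ IsMulCommutative T) (x : ι → T) (i : ι) :
    x i = 1 ↔ ∀ t : T, x * Pi.mulSingle i t = Pi.mulSingle i t * x := by
  constructor
  · intro hx t
    funext l
    by_cases hl : l = i
    · subst hl
      simp [hx]
    · simp [Pi.mulSingle_apply, hl]
  · intro h
    apply center_trivial hT
    intro s
    have := congrFun (h s) i
    simp only [Pi.mul_apply, Pi.mulSingle_eq_same] at this
    exact this.symm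

/-- `θ` carries the `i`-th coordinate kernel to the `j`-th one -/
def rel (θ : (ι → T) ≃* (ι → T)) (i j : ι) : Prop := ∀ x : ι → T, (θ x) j = 1 ↔ x i = 1

omit [DecidableEq ι] [IsSimpleGroup T] in
theorem rel_symm {θ : (ι → T) ≃* (ι → T)} {i j : ι} (h : rel θ i j) : rel θ.symm j i := by
  intro y
  have := h (θ.symm y)
  rw [θ.apply_symm_apply] at this
  exact this.symm

omit [DecidableEq ι] [IsSimpleGroup T] in
theorem rel_trans {θ θ' : (ι → T) ≃* (ι → T)} {i j k : ι} (h : rel θ i j) (h' : rel θ' j k) :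
    rel (θ.trans θ') i k := by
  intro x
  rw [MulEquiv.trans_apply, h' (θ x), h x]

omit [DecidableEq ι] [IsSimpleGroup T] in
theorem rel_conj (g : ι → T) (i : ι) : rel (MulAut.conj g) i i := by
  intro x
  rw [MulAut.conj_apply]
  simp only [Pi.mul_apply, Pi.inv_apply]
  constructor
  · intro h
    have : x i = (g i)⁻¹ * (g i * x i * (g i)⁻¹) * g i := by group
    rw [this, h]; group
  · intro h
    rw [h]; group

theorem rel_left_unique {θ : (ι → T) ≃* (ι → T)} {i i' j : ι} (h : rel θ i j) (h' : rel θ i' j) :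
    i = i' := by
  obtain ⟨t0, ht0⟩ := exists_ne_one (T := T)
  by_contra hne
  have h1 : (Pi.mulSingle i t0 : ι → T) i' = 1 := by
    rw [Pi.mulSingle_apply, if_neg (Ne.symm hne)]
  have h2 := (h' (Pi.mulSingle i t0)).2 h1
  have h3 := (h (Pi.mulSingle i t0)).1 h2
  rw [Pi.mulSingle_eq_same] at h3
  exact ht0 h3

theorem rel_right_unique {θ : (ι → T) ≃* (ι → T)} {i j j' : ι} (h : rel θ i j) (h' : rel θ i j') :
    j = j' :=
  rel_left_unique (rel_symm h) (rel_symm h')

theorem exists_rel [Finite ι] (hT : ¬ IsMulCommutative T) (θ : (ι → T) ≃* (ι → T)) (i : ι) :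
    ∃ j, rel θ i j := by
  obtain ⟨t0, ht0⟩ := exists_ne_one (T := T)
  -- the image of the i-th factor is a normal subgroup
  let F : Subgroup (ι → T) := (MonoidHom.mulSingle (fun _ : ι => T) i).range.map θ.toMonoidHom
  have hFn : F.Normal := by
    constructor
    rintro _ ⟨_, ⟨t, rfl⟩, rfl⟩ g
    refine ⟨Pi.mulSingle i ((θ.symm g) i * t * ((θ.symm g) i)⁻¹), ⟨_, rfl⟩, ?_⟩
    have h1 : (Pi.mulSingle i ((θ.symm g) i * t * ((θ.symm g) i)⁻¹) : ι → T) =
        θ.symm g * Pi.mulSingle i t * (θ.symm g)⁻¹ := by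
      funext l
      by_cases hl : l = i
      · subst hl; simp
      · simp [Pi.mulSingle_apply, hl]
    change θ (Pi.mulSingle i ((θ.symm g) i * t * ((θ.symm g) i)⁻¹)) = g * θ (Pi.mulSingle i t) * g⁻¹
    rw [h1, map_mul, map_mul, map_inv, θ.apply_symm_apply]
  have hy : θ (Pi.mulSingle i t0) ≠ 1 := by
    intro h
    have h2 : (Pi.mulSingle i t0 : ι → T) = 1 := by
      apply θ.injective; rw [h, map_one]
    have := congrFun h2 i
    rw [Pi.mulSingle_eq_same] at this
    exact ht0 this
  obtain ⟨j, hj⟩ : ∃ j, (θ (Pi.mulSingle i t0)) j ≠ 1 := by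
    by_contra hcon
    push Not at hcon
    exact hy (funext hcon)
  have hFj : ∀ s : T, Pi.mulSingle j s ∈ F :=
    fun s => mulSingle_mem_of_normal hT F j (y := θ (Pi.mulSingle i t0)) ⟨_, ⟨t0, rfl⟩, rfl⟩ hj s
  -- so the j-th factor is contained in the image; conversely the image is contained in the j-th factor
  let A : Subgroup T :=
    ((MonoidHom.mulSingle (fun _ : ι => T) j).range.comap θ.toMonoidHom).comap
      (MonoidHom.mulSingle (fun _ : ι => T) i)
  have hAn : A.Normal := by
    have h1 : ((MonoidHom.mulSingle (fun _ : ι => T) j).range).Normal := by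
      constructor
      rintro _ ⟨s, rfl⟩ g
      refine ⟨g j * s * (g j)⁻¹, ?_⟩
      funext l
      by_cases hl : l = j
      · subst hl; simp
      · simp [Pi.mulSingle_apply, hl]
    infer_instance
  have hA1 : A ≠ ⊥ := by
    intro hbot
    obtain ⟨_, ⟨t, rfl⟩, ht⟩ := hFj t0
    have hmem : t ∈ A := ⟨t0, ht.symm⟩
    rw [hbot, Subgroup.mem_bot] at hmem
    rw [hmem] at ht
    have h2 : θ.toMonoidHom ((MonoidHom.mulSingle (fun _ : ι => T) i) 1) = 1 := by
      rw [map_one, map_one]
    rw [h2] at ht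
    have := congrFun ht j
    rw [Pi.mulSingle_eq_same] at this
    exact ht0 this.symm
  have hAtop : A = ⊤ := (Subgroup.Normal.eq_bot_or_eq_top hAn).resolve_left hA1
  have hFle : ∀ t : T, ∃ s : T, θ (Pi.mulSingle i t) = Pi.mulSingle j s := by
    intro t
    have : t ∈ A := by rw [hAtop]; exact Subgroup.mem_top t
    obtain ⟨s, hs⟩ := this
    exact ⟨s, hs.symm⟩
  refine ⟨j, fun x => ?_⟩
  rw [comm_iff hT (θ x) j, comm_iff hT x i]
  constructor
  · intro h t
    obtain ⟨s, hs⟩ := hFle t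
    apply θ.injective
    rw [map_mul, map_mul, hs]
    exact h s
  · intro h s
    obtain ⟨_, ⟨t, rfl⟩, ht⟩ := hFj s
    have ht' : θ (Pi.mulSingle i t) = Pi.mulSingle j s := ht
    rw [← ht', ← map_mul, ← map_mul, h t]

end factors


section scott
variable {ι : Type*} [DecidableEq ι] {T : Type*} [Group T] [IsSimpleGroup T]

theorem exists_ne_one' : ∃ t : T, t ≠ 1 := by
  obtain ⟨a, b, hab⟩ := (inferInstance : Nontrivial T).exists_pair_ne
  by_cases ha : a = 1
  · exact ⟨b, fun hb => hab (by rw [ha, hb])⟩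
  · exact ⟨a, ha⟩

/-- `R` projects onto every coordinate -/
def Subdirect (R : Subgroup (ι → T)) : Prop := ∀ (i : ι) (t : T), ∃ r ∈ R, r i = t

/-- coordinates `i` and `j` are linked in `R` -/
def eqv (R : Subgroup (ι → T)) (i j : ι) : Prop := ∀ r ∈ R, r j = 1 → r i = 1

omit [DecidableEq ι] [IsSimpleGroup T] in
theorem eqv_refl (R : Subgroup (ι → T)) (i : ι) : eqv R i i := fun _ _ h => h

omit [DecidableEq ι] [IsSimpleGroup T] in
theorem eqv_trans {R : Subgroup (ι → T)} {i j k : ι} (h1 : eqv R i j) (h2 : eqv R j k) : eqv R i k :=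
  fun r hr h => h1 r hr (h2 r hr h)

/-- the normal subgroup of `T` of `i`-coordinates of elements of `R` trivial on a set of coordinates -/
def coordSub (R : Subgroup (ι → T)) (i : ι) (S : Set ι) : Subgroup T where
  carrier := {t | ∃ r ∈ R, r i = t ∧ ∀ l ∈ S, r l = 1}
  one_mem' := ⟨1, R.one_mem, rfl, fun _ _ => rfl⟩
  mul_mem' := by
    rintro _ _ ⟨r, hr, rfl, h1⟩ ⟨r', hr', rfl, h1'⟩
    exact ⟨r * r', R.mul_mem hr hr', rfl, fun l hl => by rw [Pi.mul_apply, h1 l hl, h1' l hl, one_mul]⟩
  inv_mem' := by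
    rintro _ ⟨r, hr, rfl, h1⟩
    exact ⟨r⁻¹, R.inv_mem hr, rfl, fun l hl => by rw [Pi.inv_apply, h1 l hl, inv_one]⟩

omit [DecidableEq ι] [IsSimpleGroup T] in
theorem coordSub_normal {R : Subgroup (ι → T)} (hR : Subdirect R) (i : ι) (S : Set ι) :
    (coordSub R i S).Normal := by
  constructor
  rintro _ ⟨r, hr, rfl, h1⟩ g
  obtain ⟨r', hr', hg⟩ := hR i g
  refine ⟨r' * r * r'⁻¹, R.mul_mem (R.mul_mem hr' hr) (R.inv_mem hr'), ?_, ?_⟩
  · simp [hg]
  · intro l hl
    simp [h1 l hl]

omit [DecidableEq ι] in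
theorem coordSub_eq_top {R : Subgroup (ι → T)} (hR : Subdirect R) (i : ι) (S : Set ι)
    (h : ∃ r ∈ R, r i ≠ 1 ∧ ∀ l ∈ S, r l = 1) : coordSub R i S = ⊤ := by
  haveI := coordSub_normal hR i S
  refine (Subgroup.Normal.eq_bot_or_eq_top (inferInstance : (coordSub R i S).Normal)).resolve_left ?_
  intro hbot
  obtain ⟨r, hr, hri, h1⟩ := h
  have : r i ∈ coordSub R i S := ⟨r, hr, rfl, h1⟩
  rw [hbot, Subgroup.mem_bot] at this
  exact hri this

omit [DecidableEq ι] in
theorem eqv_symm {R : Subgroup (ι → T)} (hR : Subdirect R) {i j : ι} (h : eqv R i j) : eqv R j i := by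
  intro r hr hri
  by_contra hrj
  have htop := coordSub_eq_top hR j {i} ⟨r, hr, hrj, fun l hl => by rw [Set.mem_singleton_iff.1 hl]; exact hri⟩
  obtain ⟨t0, ht0⟩ := exists_ne_one' (T := T)
  obtain ⟨r1, hr1, hr1i⟩ := hR i t0
  have hmem : r1 j ∈ coordSub R j {i} := by rw [htop]; exact Subgroup.mem_top _
  obtain ⟨r2, hr2, hr2j, hr2i⟩ := hmem
  have h3 := h (r1 * r2⁻¹) (R.mul_mem hr1 (R.inv_mem hr2)) (by simp [hr2j])
  simp only [Pi.mul_apply, Pi.inv_apply, hr2i i rfl, inv_one, mul_one] at h3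
  rw [hr1i] at h3
  exact ht0 h3

/-- the automorphism linking two equivalent coordinates -/
theorem exists_linking_aut {R : Subgroup (ι → T)} (hR : Subdirect R) {i j : ι} (h : eqv R i j) :
    ∃ φ : T ≃* T, ∀ r ∈ R, r i = φ (r j) := by
  classical
  have hsymm := eqv_symm hR h
  choose f hfR hf using hR j
  have hwd : ∀ r ∈ R, ∀ r' ∈ R, r j = r' j → r i = r' i := by
    intro r hr r' hr' hjj
    have h1 := h (r * r'⁻¹) (R.mul_mem hr (R.inv_mem hr')) (by simp [hjj])
    simp only [Pi.mul_apply, Pi.inv_apply] at h1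
    exact mul_inv_eq_one.1 h1
  have hwd' : ∀ r ∈ R, ∀ r' ∈ R, r i = r' i → r j = r' j := by
    intro r hr r' hr' hii
    have h1 := hsymm (r * r'⁻¹) (R.mul_mem hr (R.inv_mem hr')) (by simp [hii])
    simp only [Pi.mul_apply, Pi.inv_apply] at h1
    exact mul_inv_eq_one.1 h1
  have key : ∀ r ∈ R, r i = (f (r j)) i := fun r hr => hwd r hr _ (hfR _) (hf _).symm
  let φ : T →* T :=
    { toFun := fun s => (f s) i
      map_one' := by
        have := key 1 R.one_mem
        simp only [Pi.one_apply] at this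
        exact this.symm
      map_mul' := by
        intro s s'
        have h1 := key (f s * f s') (R.mul_mem (hfR s) (hfR s'))
        simp only [Pi.mul_apply, hf] at h1
        exact h1.symm }
  have hinj : Function.Injective φ := by
    intro s s' hss
    have := hwd' _ (hfR s) _ (hfR s') hss
    rwa [hf, hf] at this
  have hsurj : Function.Surjective φ := by
    intro t
    obtain ⟨r, hr, hri⟩ := hR i t
    exact ⟨r j, by rw [← hri]; exact (key r hr).symm⟩
  exact ⟨MulEquiv.ofBijective φ ⟨hinj, hsurj⟩, fun r hr => key r hr⟩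

/-- independence of pairwise unlinked coordinates -/
theorem independent (hT : ¬ IsMulCommutative T) {R : Subgroup (ι → T)} (hR : Subdirect R) :
    ∀ (n : ℕ) (S : Finset ι), S.card = n → (∀ a ∈ S, ∀ b ∈ S, a ≠ b → ¬ eqv R a b) →
      ∀ i ∈ S, ∀ t : T, ∃ r ∈ R, r i = t ∧ ∀ l ∈ S, l ≠ i → r l = 1 := by
  intro n
  induction n using Nat.strong_induction_on with
  | _ n ih =>
    intro S hS hpair i hi t
    have htop : coordSub R i {l | l ∈ S ∧ l ≠ i} = ⊤ := by
      apply coordSub_eq_top hR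
      by_cases h2 : ∃ j k, j ∈ S ∧ k ∈ S ∧ j ≠ i ∧ k ≠ i ∧ j ≠ k
      · obtain ⟨j, k, hj, hk, hji, hki, hjk⟩ := h2
        -- two noncommuting elements
        obtain ⟨t1, t2, ht12⟩ : ∃ t1 t2 : T, t1 * t2 ≠ t2 * t1 := by
          by_contra hcon
          push Not at hcon
          exact hT ⟨⟨hcon⟩⟩
        have hcj : (S.erase j).card < n := by
          rw [Finset.card_erase_of_mem hj, hS]
          have : 0 < S.card := Finset.card_pos.2 ⟨j, hj⟩
          omega
        have hck : (S.erase k).card < n := by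
          rw [Finset.card_erase_of_mem hk, hS]
          have : 0 < S.card := Finset.card_pos.2 ⟨k, hk⟩
          omega
        obtain ⟨r1, hr1, hr1i, hr1l⟩ := ih _ hcj (S.erase j) rfl
          (fun a ha b hb hab => hpair a (Finset.mem_of_mem_erase ha) b (Finset.mem_of_mem_erase hb) hab)
          i (Finset.mem_erase.2 ⟨Ne.symm hji, hi⟩) t1
        obtain ⟨r2, hr2, hr2i, hr2l⟩ := ih _ hck (S.erase k) rfl
          (fun a ha b hb hab => hpair a (Finset.mem_of_mem_erase ha) b (Finset.mem_of_mem_erase hb) hab)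
          i (Finset.mem_erase.2 ⟨Ne.symm hki, hi⟩) t2
        refine ⟨r1 * r2 * r1⁻¹ * r2⁻¹, R.mul_mem (R.mul_mem (R.mul_mem hr1 hr2) (R.inv_mem hr1)) (R.inv_mem hr2), ?_, ?_⟩
        · simp only [Pi.mul_apply, Pi.inv_apply, hr1i, hr2i]
          intro h
          apply ht12
          calc t1 * t2 = (t1 * t2 * t1⁻¹ * t2⁻¹) * t2 * t1 := by group
            _ = t2 * t1 := by rw [h, one_mul]
        · rintro l ⟨hl, hli⟩
          simp only [Pi.mul_apply, Pi.inv_apply]
          by_cases hlj : l = j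
          · -- r2 l = 1
            have : r2 l = 1 := hr2l l (Finset.mem_erase.2 ⟨by rw [hlj]; exact hjk, hl⟩) hli
            rw [this]; group
          · have : r1 l = 1 := hr1l l (Finset.mem_erase.2 ⟨hlj, hl⟩) hli
            rw [this]; group
      · push Not at h2
        by_cases h1 : ∃ j, j ∈ S ∧ j ≠ i
        · obtain ⟨j, hj, hji⟩ := h1
          have hne : ¬ eqv R i j := hpair i hi j hj (Ne.symm hji)
          unfold eqv at hne
          push Not at hne
          obtain ⟨r, hr, hrj, hri⟩ := hne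
          refine ⟨r, hr, hri, ?_⟩
          rintro l ⟨hl, hli⟩
          have : j = l := by
            by_contra hjl
            exact hjl (h2 j l hj hl hji hli)
          rw [← this]; exact hrj
        · push Not at h1
          obtain ⟨t0, ht0⟩ := exists_ne_one' (T := T)
          obtain ⟨r, hr, hri⟩ := hR i t0
          refine ⟨r, hr, by rw [hri]; exact ht0, ?_⟩
          rintro l ⟨hl, hli⟩
          exact absurd (h1 l hl) hli
    have hmem : t ∈ coordSub R i {l | l ∈ S ∧ l ≠ i} := by rw [htop]; exact Subgroup.mem_top t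
    obtain ⟨r, hr, hri, hrl⟩ := hmem
    exact ⟨r, hr, hri, fun l hl hli => hrl l ⟨hl, hli⟩⟩

/-- joint surjectivity on pairwise unlinked coordinates -/
theorem joint_surjective (hT : ¬ IsMulCommutative T) {R : Subgroup (ι → T)} (hR : Subdirect R)
    (S : Finset ι) (hpair : ∀ a ∈ S, ∀ b ∈ S, a ≠ b → ¬ eqv R a b) (x : ι → T) :
    ∃ r ∈ R, ∀ s ∈ S, r s = x s := by
  have key : ∀ S' : Finset ι, S' ⊆ S → ∃ r ∈ R, (∀ s ∈ S', r s = x s) ∧ ∀ s ∈ S, s ∉ S' → r s = 1 := by
    intro S'
    induction S' using Finset.induction_on with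
    | empty =>
      intro _
      exact ⟨1, R.one_mem, fun s hs => absurd hs (Finset.notMem_empty s), fun _ _ _ => rfl⟩
    | insert a S' ha ih =>
      intro hsub
      obtain ⟨r, hr, h1, h2⟩ := ih (fun s hs => hsub (Finset.mem_insert_of_mem hs))
      have haS : a ∈ S := hsub (Finset.mem_insert_self a S')
      obtain ⟨r', hr', hr'a, hr'l⟩ := independent hT hR S.card S rfl hpair a haS (x a)
      refine ⟨r * r', R.mul_mem hr hr', ?_, ?_⟩
      · intro s hs
        rw [Finset.mem_insert] at hs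
        rcases hs with rfl | hs
        · rw [Pi.mul_apply, h2 s haS ha, one_mul, hr'a]
        · have hsa : s ≠ a := fun h => ha (h ▸ hs)
          rw [Pi.mul_apply, h1 s hs, hr'l s (hsub (Finset.mem_insert_of_mem hs)) hsa, mul_one]
      · intro s hs hns
        rw [Finset.mem_insert, not_or] at hns
        rw [Pi.mul_apply, h2 s hs hns.2, hr'l s hs hns.1, one_mul]
  obtain ⟨r, hr, h1, _⟩ := key S (Finset.Subset.refl S)
  exact ⟨r, hr, h1⟩

end scott
section scott2
variable {ι : Type*} [DecidableEq ι] {T : Type*} [Group T] [IsSimpleGroup T]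

/-- Scott's lemma: a subdirect subgroup of a power of a non-abelian simple group is a product of
twisted diagonals over the blocks of a partition of the coordinates. -/
theorem scott [Fintype ι] (hT : ¬ IsMulCommutative T) {R : Subgroup (ι → T)} (hR : Subdirect R) :
    ∃ (c : ι → ι) (φ : ι → (T ≃* T)), (∀ i, c (c i) = c i) ∧ (∀ i j, c i = c j ↔ eqv R i j) ∧
      (∀ i, c i = i → φ i = MulEquiv.refl T) ∧ ∀ x : ι → T, x ∈ R ↔ ∀ i, x i = φ i (x (c i)) := by
  classical
  let s : Setoid ι := ⟨eqv R, ⟨eqv_refl R, fun h => eqv_symm hR h, fun h1 h2 => eqv_trans h1 h2⟩⟩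
  let c : ι → ι := fun i => (Quotient.mk s i).out
  have hcc : ∀ i, c (c i) = c i := by
    intro i
    exact congrArg Quotient.out (Quotient.out_eq (Quotient.mk s i))
  have hceq : ∀ i j, c i = c j ↔ eqv R i j := by
    intro i j
    constructor
    · intro h
      have h1 : Quotient.mk s i = Quotient.mk s j := by
        rw [← Quotient.out_eq (Quotient.mk s i), ← Quotient.out_eq (Quotient.mk s j)]
        exact congrArg (Quotient.mk s) h
      exact Quotient.exact h1
    · intro h
      have h1 : Quotient.mk s i = Quotient.mk s j := Quotient.sound h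
      exact congrArg Quotient.out h1
  have hci : ∀ i, eqv R i (c i) := fun i => (hceq i (c i)).1 (hcc i).symm
  choose φ0 hφ0 using fun i => exists_linking_aut hR (hci i)
  let φ : ι → (T ≃* T) := fun i => if c i = i then MulEquiv.refl T else φ0 i
  have hφ : ∀ i, ∀ r ∈ R, r i = φ i (r (c i)) := by
    intro i r hr
    by_cases h : c i = i
    · simp only [φ, if_pos h, MulEquiv.refl_apply, h]
    · simp only [φ, if_neg h]
      exact hφ0 i r hr
  refine ⟨c, φ, hcc, hceq, fun i h => by simp only [φ, if_pos h], fun x => ⟨fun hx i => hφ i x hx, ?_⟩⟩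
  intro hx
  let S : Finset ι := Finset.univ.image c
  have hpair : ∀ a ∈ S, ∀ b ∈ S, a ≠ b → ¬ eqv R a b := by
    intro a ha b hb hab h
    obtain ⟨i', _, rfl⟩ := Finset.mem_image.1 ha
    obtain ⟨j', _, rfl⟩ := Finset.mem_image.1 hb
    apply hab
    have := (hceq (c i') (c j')).2 h
    rwa [hcc, hcc] at this
  obtain ⟨r, hr, hrS⟩ := joint_surjective hT hR S hpair x
  have : r = x := by
    funext i
    rw [hφ i r hr, hx i, hrS (c i) (Finset.mem_image_of_mem c (Finset.mem_univ i))]
  rw [← this]; exact hr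

end scott2
section inv
variable {ι : Type*} [DecidableEq ι] {T : Type*} [Group T] [IsSimpleGroup T]

omit [DecidableEq ι] [IsSimpleGroup T] in
theorem eqv_of_rel_aux {R : Subgroup (ι → T)} {θ : (ι → T) ≃* (ι → T)} (hθ : ∀ x, x ∈ R ↔ θ x ∈ R)
    {i i' j j' : ι} (h : rel θ i j) (h' : rel θ i' j') (he : eqv R i i') : eqv R j j' := by
  intro r hr hrj'
  have hx : θ.symm r ∈ R := by
    rw [hθ, θ.apply_symm_apply]; exact hr
  have h1 : (θ (θ.symm r)) j' = 1 := by rw [θ.apply_symm_apply]; exact hrj'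
  have h2 := he _ hx ((h' _).1 h1)
  have h3 := (h _).2 h2
  rwa [θ.apply_symm_apply] at h3

theorem eqv_of_rel {R : Subgroup (ι → T)} {θ : (ι → T) ≃* (ι → T)} (hθ : ∀ x, x ∈ R ↔ θ x ∈ R)
    {i i' j j' : ι} (h : rel θ i j) (h' : rel θ i' j') : eqv R i i' ↔ eqv R j j' := by
  constructor
  · exact eqv_of_rel_aux hθ h h'
  · have hθ' : ∀ x, x ∈ R ↔ θ.symm x ∈ R := by
      intro x
      rw [hθ (θ.symm x), θ.apply_symm_apply]
    exact eqv_of_rel_aux hθ' (rel_symm h) (rel_symm h')

theorem block_card_le [Fintype ι] (hT : ¬ IsMulCommutative T) {R : Subgroup (ι → T)}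
    {θ : (ι → T) ≃* (ι → T)} (hθ : ∀ x, x ∈ R ↔ θ x ∈ R) {i j : ι} (h : rel θ i j) :
    Nat.card {l : ι // eqv R l i} ≤ Nat.card {l : ι // eqv R l j} := by
  classical
  choose σ hσ using exists_rel hT θ
  have hσi : σ i = j := rel_right_unique (hσ i) h
  apply Nat.card_le_card_of_injective
    (fun l : {l : ι // eqv R l i} => (⟨σ l.1, by
      have := (eqv_of_rel hθ (hσ l.1) (hσ i)).1 l.2
      rwa [hσi] at this⟩ : {l : ι // eqv R l j}))
  intro l l' hll
  have h1 : σ l.1 = σ l'.1 := congrArg Subtype.val hll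
  apply Subtype.ext
  have h2 := hσ l'.1
  rw [← h1] at h2
  exact rel_left_unique (hσ l.1) h2

/-- the product of the coordinate projections of `R` -/
def Rplus (R : Subgroup (ι → T)) : Subgroup (ι → T) where
  carrier := {x | ∀ i, ∃ r ∈ R, r i = x i}
  one_mem' := fun _ => ⟨1, R.one_mem, rfl⟩
  mul_mem' := by
    intro x y hx hy i
    obtain ⟨r, hr, hri⟩ := hx i
    obtain ⟨r', hr', hri'⟩ := hy i
    exact ⟨r * r', R.mul_mem hr hr', by rw [Pi.mul_apply, Pi.mul_apply, hri, hri']⟩
  inv_mem' := by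
    intro x hx i
    obtain ⟨r, hr, hri⟩ := hx i
    exact ⟨r⁻¹, R.inv_mem hr, by rw [Pi.inv_apply, Pi.inv_apply, hri]⟩

omit [DecidableEq ι] [IsSimpleGroup T] in
theorem le_Rplus (R : Subgroup (ι → T)) : R ≤ Rplus R := fun x hx _ => ⟨x, hx, rfl⟩

omit [DecidableEq ι] [IsSimpleGroup T] in
theorem coord_transfer {R : Subgroup (ι → T)} {θ : (ι → T) ≃* (ι → T)} (hθ : ∀ x, x ∈ R ↔ θ x ∈ R)
    {i j : ι} (h : rel θ i j) (x : ι → T) (hx : ∃ r ∈ R, r i = x i) : ∃ r ∈ R, r j = (θ x) j := by
  obtain ⟨r, hr, hri⟩ := hx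
  refine ⟨θ r, (hθ r).1 hr, ?_⟩
  have h1 : (r⁻¹ * x) i = 1 := by rw [Pi.mul_apply, Pi.inv_apply, hri, inv_mul_cancel]
  have h2 := (h _).2 h1
  rw [map_mul, map_inv, Pi.mul_apply, Pi.inv_apply] at h2
  exact (inv_mul_eq_one.1 h2)

theorem Rplus_invariant [Finite ι] (hT : ¬ IsMulCommutative T) {R : Subgroup (ι → T)}
    {θ : (ι → T) ≃* (ι → T)} (hθ : ∀ x, x ∈ R ↔ θ x ∈ R) {x : ι → T} (hx : x ∈ Rplus R) :
    θ x ∈ Rplus R := by
  intro j
  obtain ⟨i, hi⟩ := exists_rel hT θ.symm j
  have hij : rel θ i j := by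
    have := rel_symm hi
    rwa [MulEquiv.symm_symm] at this
  exact coord_transfer hθ hij x (hx i)

omit [DecidableEq ι] [IsSimpleGroup T] in
theorem proj_surj_of_rel {R : Subgroup (ι → T)} {θ : (ι → T) ≃* (ι → T)} (hθ : ∀ x, x ∈ R ↔ θ x ∈ R)
    {i j : ι} (h : rel θ i j) (hi : ∀ t : T, ∃ r ∈ R, r i = t) : ∀ t : T, ∃ r ∈ R, r j = t := by
  classical
  intro s
  obtain ⟨r, hr, hrj⟩ := coord_transfer hθ h (θ.symm (Pi.mulSingle j s)) (hi _)
  refine ⟨r, hr, ?_⟩
  rw [hrj, θ.apply_symm_apply, Pi.mulSingle_eq_same]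

end inv

section glue
variable {G : Type*} [Group G] {ι : Type*} [DecidableEq ι] {T : Type*} [Group T]
variable (N : Subgroup G) [N.Normal] (e0 : N ≃* (ι → T))

/-- the automorphism of the power induced by conjugation with `g` -/
def theta (g : G) : (ι → T) ≃* (ι → T) :=
  e0.symm.trans ((MulAut.conjNormal g : MulAut N).trans e0)

omit [DecidableEq ι] in
theorem theta_apply (g : G) (x : ι → T) :
    theta N e0 g x = e0 (MulAut.conjNormal g (e0.symm x)) := rfl

omit [DecidableEq ι] in
theorem theta_symm_coe (g : G) (x : ι → T) :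
    ((e0.symm (theta N e0 g x) : N) : G) = g * ((e0.symm x : N) : G) * g⁻¹ := by
  rw [theta_apply, e0.symm_apply_apply, MulAut.conjNormal_apply]

omit [DecidableEq ι] in
theorem theta_mul (g h : G) (x : ι → T) : theta N e0 (g * h) x = theta N e0 g (theta N e0 h x) := by
  apply e0.symm.injective
  apply Subtype.ext
  rw [theta_symm_coe, theta_symm_coe, theta_symm_coe]
  group

omit [DecidableEq ι] in
theorem theta_one (x : ι → T) : theta N e0 1 x = x := by
  apply e0.symm.injective
  apply Subtype.ext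
  rw [theta_symm_coe]
  group

omit [DecidableEq ι] in
theorem theta_symm (g : G) : (theta N e0 g).symm = theta N e0 g⁻¹ := by
  ext1 x
  apply (theta N e0 g).injective
  rw [MulEquiv.apply_symm_apply, ← theta_mul, mul_inv_cancel, theta_one]

omit [DecidableEq ι] in
theorem theta_of_mem (n : N) (x : ι → T) : theta N e0 (n : G) x = e0 n * x * (e0 n)⁻¹ := by
  apply e0.symm.injective
  apply Subtype.ext
  rw [theta_symm_coe, map_mul, map_mul, map_inv, e0.symm_apply_apply]
  rfl

omit [DecidableEq ι] in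
theorem rel_theta_of_mem (n : N) (i : ι) : rel (theta N e0 (n : G)) i i := by
  intro x
  rw [theta_of_mem]
  exact rel_conj (e0 n) i x

/-- the image in the power of the part of a subgroup `K` inside `N` -/
def imageSub (K : Subgroup G) : Subgroup (ι → T) := (K.subgroupOf N).map e0.toMonoidHom

omit [DecidableEq ι] in
theorem mem_imageSub (K : Subgroup G) (x : ι → T) :
    x ∈ imageSub N e0 K ↔ ((e0.symm x : N) : G) ∈ K := by
  constructor
  · rintro ⟨n, hn, rfl⟩
    change ((e0.symm (e0 n) : N) : G) ∈ K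
    rw [e0.symm_apply_apply]
    exact hn
  · intro h
    exact ⟨e0.symm x, h, e0.apply_symm_apply x⟩

omit [DecidableEq ι] in
theorem imageSub_invariant (K : Subgroup G) (k : G) (hk : k ∈ K) (x : ι → T) :
    x ∈ imageSub N e0 K ↔ theta N e0 k x ∈ imageSub N e0 K := by
  rw [mem_imageSub, mem_imageSub, theta_symm_coe]
  constructor
  · intro h
    exact K.mul_mem (K.mul_mem hk h) (K.inv_mem hk)
  · intro h
    have := K.mul_mem (K.mul_mem (K.inv_mem hk) h) hk
    have h2 : k⁻¹ * (k * ((e0.symm x : N) : G) * k⁻¹) * k = ((e0.symm x : N) : G) := by group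
    rwa [h2] at this

/-- the whole group permutes the coordinates transitively when `N` is minimal normal -/
theorem exists_rel_of_minimal [Finite ι] [IsSimpleGroup T] (hT : ¬ IsMulCommutative T)
    (hmin : ∀ M : Subgroup G, M.Normal → M ≤ N → M = ⊥ ∨ M = N) (i j : ι) :
    ∃ g : G, rel (theta N e0 g) i j := by
  classical
  by_contra hcon
  push Not at hcon
  obtain ⟨t0, ht0⟩ := exists_ne_one (T := T)
  let O : Set ι := {l | ∃ g : G, rel (theta N e0 g) i l}
  have hiO : i ∈ O := ⟨1, fun x => by rw [theta_one]⟩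
  have hjO : j ∉ O := fun ⟨g, hg⟩ => hcon g hg
  let L : Subgroup (ι → T) :=
    { carrier := {x | ∀ l ∈ O, x l = 1}
      one_mem' := fun _ _ => rfl
      mul_mem' := fun {x y} hx hy l hl => by rw [Pi.mul_apply, hx l hl, hy l hl, one_mul]
      inv_mem' := fun {x} hx l hl => by rw [Pi.inv_apply, hx l hl, inv_one] }
  have hLinv : ∀ (g : G) (x : ι → T), x ∈ L → theta N e0 g x ∈ L := by
    intro g x hx l hl
    obtain ⟨g0, hg0⟩ := hl
    obtain ⟨l', hl'⟩ := exists_rel hT (theta N e0 g).symm l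
    have h1 : rel (theta N e0 g) l' l := by
      have := rel_symm hl'
      rwa [MulEquiv.symm_symm] at this
    have h2 : rel (theta N e0 (g⁻¹ * g0)) i l' := by
      intro y
      rw [theta_mul, ← theta_symm]
      exact (rel_trans hg0 hl') y
    have h3 : l' ∈ O := ⟨_, h2⟩
    exact (h1 x).2 (hx l' h3)
  let M : Subgroup G := (L.comap e0.toMonoidHom).map N.subtype
  have hMN : M ≤ N := by
    rintro _ ⟨n, _, rfl⟩
    exact n.2
  have hMnormal : M.Normal := by
    constructor
    rintro _ ⟨n, hn, rfl⟩ g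
    refine ⟨MulAut.conjNormal g n, ?_, ?_⟩
    · change e0 (MulAut.conjNormal g n) ∈ L
      have h1 : e0 (MulAut.conjNormal g n) = theta N e0 g (e0 n) := by
        rw [theta_apply, e0.symm_apply_apply]
      rw [h1]
      exact hLinv g _ hn
    · change ((MulAut.conjNormal g n : N) : G) = g * (n : G) * g⁻¹
      rw [MulAut.conjNormal_apply]
  rcases hmin M hMnormal hMN with hM | hM
  · -- then `L = ⊥`, but the `j`-th factor lies in `L`
    have h1 : (Pi.mulSingle j t0 : ι → T) ∈ L := by
      intro l hl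
      have : l ≠ j := fun h => hjO (h ▸ hl)
      rw [Pi.mulSingle_apply, if_neg this]
    have h2 : ((e0.symm (Pi.mulSingle j t0) : N) : G) ∈ M :=
      ⟨e0.symm (Pi.mulSingle j t0), by change e0 (e0.symm _) ∈ L; rw [e0.apply_symm_apply]; exact h1, rfl⟩
    rw [hM, Subgroup.mem_bot] at h2
    have h3 : e0.symm (Pi.mulSingle j t0) = 1 := Subtype.ext h2
    have h4 : (Pi.mulSingle j t0 : ι → T) = 1 := by
      have := congrArg e0 h3
      rwa [e0.apply_symm_apply, map_one] at this
    have := congrFun h4 j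
    rw [Pi.mulSingle_eq_same] at this
    exact ht0 this
  · -- then `L = ⊤`, but the `i`-th factor is not in `L`
    have h1 : ((e0.symm (Pi.mulSingle i t0) : N) : G) ∈ M := by
      rw [hM]; exact (e0.symm (Pi.mulSingle i t0)).2
    obtain ⟨n, hn, hn2⟩ := h1
    have h2 : n = e0.symm (Pi.mulSingle i t0) := Subtype.ext hn2
    have h3 : (Pi.mulSingle i t0 : ι → T) ∈ L := by
      have : e0 n ∈ L := hn
      rwa [h2, e0.apply_symm_apply] at this
    have := h3 i hiO
    rw [Pi.mulSingle_eq_same] at this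
    exact ht0 this


/-- a `K`-invariant subgroup of the power containing the image of `K ∩ N` is that image or everything,
when `K` is a maximal subgroup -/
theorem invariant_overgroup [Finite ι] (K : Subgroup G) (hK : IsCoatom K) (Q : Subgroup (ι → T))
    (hle : imageSub N e0 K ≤ Q) (hinv : ∀ k ∈ K, ∀ x ∈ Q, theta N e0 k x ∈ Q) :
    Q ≤ imageSub N e0 K ∨ Q = ⊤ := by
  let L : Subgroup G := (Q.comap e0.toMonoidHom).map N.subtype
  have hLmem : ∀ n : N, (n : G) ∈ L ↔ e0 n ∈ Q := by
    intro n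
    constructor
    · rintro ⟨n', hn', hnn⟩
      have : n' = n := Subtype.ext hnn
      rw [← this]; exact hn'
    · intro h
      exact ⟨n, h, rfl⟩
  have hLN : ∀ l ∈ L, l ∈ N := by
    rintro _ ⟨n, _, rfl⟩
    exact n.2
  have hnorm : ∀ k ∈ K, ∀ l ∈ L, k * l * k⁻¹ ∈ L := by
    rintro k hk _ ⟨n, hn, rfl⟩
    have h1 : k * (n : G) * k⁻¹ = ((MulAut.conjNormal k n : N) : G) := (MulAut.conjNormal_apply k n).symm
    change k * (n : G) * k⁻¹ ∈ L
    rw [h1, hLmem]
    have h2 : e0 (MulAut.conjNormal k n) = theta N e0 k (e0 n) := by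
      rw [theta_apply, e0.symm_apply_apply]
    rw [h2]
    exact hinv k hk _ hn
  let M' : Subgroup G :=
    { carrier := {x | ∃ l ∈ L, ∃ k ∈ K, x = l * k}
      one_mem' := ⟨1, L.one_mem, 1, K.one_mem, by rw [mul_one]⟩
      mul_mem' := by
        rintro _ _ ⟨l, hl, k, hk, rfl⟩ ⟨l', hl', k', hk', rfl⟩
        refine ⟨l * (k * l' * k⁻¹), L.mul_mem hl (hnorm k hk l' hl'), k * k', K.mul_mem hk hk', ?_⟩
        group
      inv_mem' := by
        rintro _ ⟨l, hl, k, hk, rfl⟩
        refine ⟨k⁻¹ * l⁻¹ * k⁻¹⁻¹, hnorm k⁻¹ (K.inv_mem hk) l⁻¹ (L.inv_mem hl), k⁻¹, K.inv_mem hk, ?_⟩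
        group }
  have hKM : K ≤ M' := fun k hk => ⟨1, L.one_mem, k, hk, by rw [one_mul]⟩
  rcases hK.le_iff.1 hKM with h | h
  · right
    rw [eq_top_iff]
    intro x _
    have h1 : ((e0.symm x : N) : G) ∈ M' := by rw [h]; exact Subgroup.mem_top _
    obtain ⟨l, hl, k, hk, hlk⟩ := h1
    obtain ⟨n', hn', rfl⟩ := hl
    have hn'Q : e0 n' ∈ Q := hn'
    have hk2 : k = ((n'⁻¹ * e0.symm x : N) : G) := by
      rw [Subgroup.coe_mul, Subgroup.coe_inv, hlk]
      change k = (n' : G)⁻¹ * ((n' : G) * k)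
      group
    have h3 : e0 (n'⁻¹ * e0.symm x) ∈ imageSub N e0 K := by
      rw [mem_imageSub, e0.symm_apply_apply, ← hk2]; exact hk
    have h4 := Q.mul_mem hn'Q (hle h3)
    rwa [← map_mul, mul_inv_cancel_left, e0.apply_symm_apply] at h4
  · left
    intro x hx
    rw [mem_imageSub]
    have h1 : ((e0.symm x : N) : G) ∈ L := by
      rw [hLmem, e0.apply_symm_apply]; exact hx
    have h2 : ((e0.symm x : N) : G) ∈ M' := ⟨_, h1, 1, K.one_mem, by rw [mul_one]⟩
    rwa [h] at h2

end glue

/-- the core of the O'Nan–Scott theorem for a faithful primitive action -/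
theorem core {G : Type*} [Group G] [Finite G] {α : Type*} [MulAction G α] [FaithfulSMul G α]
    [MulAction.IsPreprimitive G α] (N : Subgroup G) [N.Normal] (hN : N ≠ ⊥)
    (hmin : ∀ M : Subgroup G, M.Normal → M ≤ N → M = ⊥ ∨ M = N) (hnab : ¬ IsMulCommutative N)
    (a : α) :
    ∃ (T : Type) (_ : Group T) (m : ℕ) (e : N ≃* (Fin m → T)), IsSimpleGroup T ∧
      ¬ IsMulCommutative T ∧ 0 < m ∧
      ((∃ K : Fin m → Subgroup T, (∀ i, K i ≠ ⊤) ∧
          ∀ n : N, (n : G) ∈ MulAction.stabilizer G a ↔ ∀ i, e n i ∈ K i) ∨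
       (∃ (k : ℕ) (c : Fin m → Fin m), 2 ≤ k ∧
          (∀ j : Fin m, Nat.card {i : Fin m // c i = j} = k ∨ Nat.card {i : Fin m // c i = j} = 0) ∧
          ∀ n : N, (n : G) ∈ MulAction.stabilizer G a ↔ ∀ i j : Fin m, c i = c j → e n i = e n j)) := by
  classical
  obtain ⟨T, instT, m, hsimp, hm, ⟨e0⟩⟩ := Cfsg.Agent.Lib.Helper10.minimal_normal_iso_pow N hN hmin
  have hT : ¬ IsMulCommutative T := by
    intro hc
    apply hnab
    refine ⟨⟨fun x y => ?_⟩⟩
    apply e0.injective
    rw [map_mul, map_mul]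
    funext i
    exact hc.1.1 _ _
  set K : Subgroup G := MulAction.stabilizer G a with hKdef
  -- `α` is nontrivial
  have hnt : Nontrivial α := by
    obtain ⟨n, hn1⟩ := Subgroup.ne_bot_iff_exists_ne_one.1 hN
    have hn1' : (n : G) ≠ 1 := fun h => hn1 (Subtype.ext h)
    have : ∃ x : α, (n : G) • x ≠ x := by
      by_contra hcon
      push Not at hcon
      apply hn1'
      apply FaithfulSMul.eq_of_smul_eq_smul (α := α)
      intro x
      rw [hcon x, one_smul]
    obtain ⟨x, hx⟩ := this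
    exact ⟨⟨_, _, hx⟩⟩
  have hcoat : IsCoatom K := MulAction.IsPreprimitive.isCoatom_stabilizer_of_isPreprimitive G a
  -- `N` is transitive
  have hNX : MulAction.fixedPoints N α ≠ Set.univ := by
    intro h
    apply hN
    rw [Subgroup.eq_bot_iff_forall]
    intro n hn
    apply FaithfulSMul.eq_of_smul_eq_smul (α := α)
    intro x
    have hx : x ∈ MulAction.fixedPoints N α := by rw [h]; trivial
    have := hx ⟨n, hn⟩
    rw [one_smul]
    exact this
  haveI : MulAction.IsPretransitive N α :=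
    MulAction.IsQuasiPreprimitive.isPretransitive_of_normal hNX
  have hNK : ∀ g : G, ∃ n : N, (n : G)⁻¹ * g ∈ K := by
    intro g
    obtain ⟨n, hn⟩ := MulAction.exists_smul_eq N a (g • a)
    refine ⟨n, ?_⟩
    rw [hKdef, MulAction.mem_stabilizer_iff, mul_smul, ← hn]
    change (n : G)⁻¹ • ((n : G) • a) = a
    rw [inv_smul_smul]
  -- transitivity of `K` on the coordinates
  have htransK : ∀ i j : Fin m, ∃ k ∈ K, rel (theta N e0 k) i j := by
    intro i j
    obtain ⟨g, hg⟩ := exists_rel_of_minimal N e0 hT hmin i j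
    obtain ⟨n, hn⟩ := hNK g
    refine ⟨(n : G)⁻¹ * g, hn, ?_⟩
    intro x
    have h1 : theta N e0 g x = theta N e0 (n : G) (theta N e0 ((n : G)⁻¹ * g) x) := by
      rw [← theta_mul, mul_inv_cancel_left]
    have h2 := hg x
    rw [h1, rel_theta_of_mem N e0 n j] at h2
    exact h2
  set R : Subgroup (Fin m → T) := imageSub N e0 K with hRdef
  have hRinv : ∀ k ∈ K, ∀ x, x ∈ R ↔ theta N e0 k x ∈ R :=
    fun k hk x => imageSub_invariant N e0 K k hk x
  have hmemR : ∀ n : N, (n : G) ∈ K ↔ e0 n ∈ R := by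
    intro n
    rw [hRdef, mem_imageSub, e0.symm_apply_apply]
  have hRtop : R ≠ ⊤ := by
    intro h
    obtain ⟨x, y, hxy⟩ := hnt.exists_pair_ne
    have hall : ∀ z : α, z = a := by
      intro z
      obtain ⟨n, hn⟩ := MulAction.exists_smul_eq N a z
      have h1 : (n : G) ∈ K := by
        rw [hmemR, h]; exact Subgroup.mem_top _
      rw [hKdef, MulAction.mem_stabilizer_iff] at h1
      rw [← hn]
      exact h1
    exact hxy (by rw [hall x, hall y])
  by_cases hsub : Subdirect R
  · obtain ⟨c, φ, hcc, hceq, hφid, hRmem⟩ := scott hT hsub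
    let e : N ≃* (Fin m → T) := e0.trans (MulEquiv.piCongrRight (fun i => (φ i).symm))
    have he : ∀ (n : N) (i : Fin m), e n i = (φ i).symm (e0 n i) := fun n i => rfl
    let i0 : Fin m := ⟨0, hm⟩
    have hblock : ∀ j : Fin m, Nat.card {l : Fin m // eqv R l j} = Nat.card {l : Fin m // eqv R l i0} := by
      intro j
      obtain ⟨k1, hk1, hr1⟩ := htransK j i0
      obtain ⟨k2, hk2, hr2⟩ := htransK i0 j
      exact le_antisymm (block_card_le hT (hRinv k1 hk1) hr1) (block_card_le hT (hRinv k2 hk2) hr2)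
    have hfib : ∀ j : Fin m, c j = j →
        Nat.card {i : Fin m // c i = j} = Nat.card {l : Fin m // eqv R l i0} := by
      intro j hj
      rw [← hblock j]
      apply Nat.card_congr
      refine Equiv.subtypeEquivRight (fun i => ?_)
      rw [← hceq, hj]
    refine ⟨T, instT, m, e, hsimp, hT, hm, Or.inr ⟨Nat.card {l : Fin m // eqv R l i0}, c, ?_, ?_, ?_⟩⟩
    · -- at least two
      by_contra hlt
      have hle1 : ∀ j : Fin m, Nat.card {l : Fin m // eqv R l j} ≤ 1 := by
        intro j; rw [hblock j]; omega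
      have hsingle : ∀ i j : Fin m, eqv R i j → i = j := by
        intro i j hij
        have := (Finite.card_le_one_iff_subsingleton.1 (hle1 j))
        have h1 := this.elim ⟨i, hij⟩ ⟨j, eqv_refl R j⟩
        exact congrArg Subtype.val h1
      have hcid : ∀ i, c i = i := fun i => hsingle _ _ ((hceq (c i) i).1 (hcc i))
      apply hRtop
      rw [eq_top_iff]
      intro x _
      rw [hRmem]
      intro i
      rw [hφid i (hcid i), hcid i, MulEquiv.refl_apply]
    · intro j
      by_cases hj : c j = j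
      · left; exact hfib j hj
      · right
        rw [Nat.card_eq_zero]
        left
        constructor
        rintro ⟨i, hi⟩
        apply hj
        rw [← hi, hcc]
    · intro n
      change (n : G) ∈ K ↔ _
      rw [hmemR, hRmem]
      constructor
      · intro h i j hij
        rw [he, he, h i, h j, MulEquiv.symm_apply_apply, MulEquiv.symm_apply_apply, hij]
      · intro h i
        have h1 := h i (c i) (hcc i).symm
        rw [he, he, hφid (c i) (hcc i)] at h1
        change (φ i).symm (e0 n i) = e0 n (c i) at h1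
        rw [← h1, MulEquiv.apply_symm_apply]
  · refine ⟨T, instT, m, e0, hsimp, hT, hm, Or.inl ?_⟩
    have hbad : ∃ (i : Fin m) (t : T), ∀ r ∈ R, r i ≠ t := by
      unfold Subdirect at hsub
      push Not at hsub
      exact hsub
    obtain ⟨ib, tb, hb⟩ := hbad
    have hnosurj : ∀ j : Fin m, ¬ ∀ t : T, ∃ r ∈ R, r j = t := by
      intro j hj
      obtain ⟨k, hk, hr⟩ := htransK j ib
      obtain ⟨r, hr1, hr2⟩ := proj_surj_of_rel (hRinv k hk) hr hj tb
      exact hb r hr1 hr2
    have hplus : Rplus R ≤ R := by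
      rcases invariant_overgroup N e0 K hcoat (Rplus R) (le_Rplus R)
        (fun k hk x hx => Rplus_invariant hT (hRinv k hk) hx) with h | h
      · exact h
      · exfalso
        apply hnosurj ib
        intro t
        have : (Pi.mulSingle ib t : Fin m → T) ∈ Rplus R := by rw [h]; exact Subgroup.mem_top _
        obtain ⟨r, hr, hri⟩ := this ib
        exact ⟨r, hr, by rw [hri, Pi.mulSingle_eq_same]⟩
    refine ⟨fun i => R.map (Pi.evalMonoidHom (fun _ : Fin m => T) i), ?_, ?_⟩
    · intro i htop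
      have htop : R.map (Pi.evalMonoidHom (fun _ : Fin m => T) i) = ⊤ := htop
      apply hnosurj i
      intro t
      have : t ∈ R.map (Pi.evalMonoidHom (fun _ : Fin m => T) i) := by rw [htop]; exact Subgroup.mem_top t
      obtain ⟨r, hr, hrt⟩ := this
      exact ⟨r, hr, hrt⟩
    · intro n
      change (n : G) ∈ K ↔ _
      rw [hmemR]
      constructor
      · intro h i
        exact ⟨e0 n, h, rfl⟩
      · intro h
        apply hplus
        intro i
        obtain ⟨r, hr, hri⟩ := h i
        exact ⟨r, hr, hri⟩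


end Cfsg.Agent.Lib.Helper10.OnanScott
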