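import Mathlib

/-!
# Abelian case of the strengthened `P × Q` lemma (helper10)

A `p`-group `P` normalizing a `p'`-group `Q`, both acting on a finite abelian `p`-group `V`:
if every fixed point of `P` is fixed by `Q` then `Q` acts trivially.
-/

set_option autoImplicit false

namespace Cfsg.Agent.Lib.Helper10

theorem pq_abelian {V Γ : Type*} [CommGroup V] [Finite V] [Group Γ] [MulDistribMulAction Γ V]
    (p : ℕ) [hp : Fact p.Prime] (hV : IsPGroup p V) (P Q : Subgroup Γ) [Finite Q]
    (hP : IsPGroup p P) (hQ : (Nat.card Q).Coprime p)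
    (hPQ : P ≤ Subgroup.normalizer (Q : Set Γ))
    (hfix : ∀ v : V, (∀ a ∈ P, a • v = v) → ∀ q ∈ Q, q • v = v) :
    ∀ q ∈ Q, ∀ v : V, q • v = v := by
  classical
  haveI : Fintype ↥Q := Fintype.ofFinite ↥Q
  let N : V →* V := ∏ q : ↥Q, MulDistribMulAction.toMonoidHom V (q : Γ)
  have hN : ∀ v, N v = ∏ q : ↥Q, (q : Γ) • v := by
    intro v
    simp only [N, MonoidHom.finset_prod_apply, MulDistribMulAction.toMonoidHom_apply]
  have hNQ : ∀ q₀ ∈ Q, ∀ v, N (q₀ • v) = N v := by
    intro q₀ hq₀ v
    rw [hN, hN]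
    refine Fintype.prod_equiv (Equiv.mulRight (⟨q₀, hq₀⟩ : ↥Q)) _ _ (fun q => ?_)
    simp only [Equiv.coe_mulRight, Subgroup.coe_mul, mul_smul]
  have hNP : ∀ a ∈ P, ∀ v, a • N v = N (a • v) := by
    intro a ha v
    rw [hN, hN]
    have hn := hPQ ha
    let e : ↥Q ≃ ↥Q :=
      { toFun := fun q => ⟨a * q * a⁻¹, (Subgroup.mem_normalizer_iff.mp hn q).mp q.2⟩
        invFun := fun q => ⟨a⁻¹ * q * a, by
          have := (Subgroup.mem_normalizer_iff.mp (Subgroup.inv_mem _ hn) q).mp q.2
          simpa using this⟩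
        left_inv := fun q => by
          apply Subtype.ext
          simp only
          group
        right_inv := fun q => by
          apply Subtype.ext
          simp only
          group }
    have h1 : a • ∏ q : ↥Q, (q : Γ) • v = ∏ q : ↥Q, a • ((q : Γ) • v) :=
      map_prod (MulDistribMulAction.toMonoidHom V a) _ _
    rw [h1]
    rw [← Equiv.prod_comp e (fun q : ↥Q => (q : Γ) • (a • v))]
    refine Finset.prod_congr rfl (fun q _ => ?_)
    show a • ((q : Γ) • v) = (a * q * a⁻¹) • (a • v)
    rw [← mul_smul, ← mul_smul]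
    congr 1
    group
  set W : Subgroup V := N.ker with hW
  by_cases hWbot : W = ⊥
  · intro q hq v
    have h1 : v⁻¹ * q • v ∈ W := by
      show N (v⁻¹ * q • v) = 1
      rw [map_mul, map_inv, hNQ q hq]
      exact inv_mul_cancel _
    rw [hWbot, Subgroup.mem_bot] at h1
    exact (inv_mul_eq_one.mp h1).symm
  · exfalso
    letI act : MulAction ↥P ↥W :=
      { smul := fun a w => ⟨(a : Γ) • (w : V), by
          show N ((a : Γ) • (w : V)) = 1
          rw [← hNP a a.2, show N (w : V) = 1 from w.2, smul_one]⟩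
        one_smul := fun w => by
          apply Subtype.ext
          show ((1 : ↥P) : Γ) • (w : V) = w
          rw [Subgroup.coe_one, one_smul]
        mul_smul := fun a b w => by
          apply Subtype.ext
          show ((a * b : ↥P) : Γ) • (w : V) = (a : Γ) • ((b : Γ) • (w : V))
          rw [Subgroup.coe_mul, mul_smul] }
    have hsm : ∀ (a : ↥P) (w : ↥W), ((a • w : ↥W) : V) = (a : Γ) • (w : V) := fun _ _ => rfl
    have hWp : IsPGroup p ↥W := hV.to_subgroup W
    obtain ⟨j, hj⟩ := IsPGroup.iff_card.mp hWp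
    have hj0 : j ≠ 0 := by
      intro h0
      rw [h0, pow_zero] at hj
      exact hWbot (Subgroup.card_eq_one.mp hj)
    have hdvd : p ∣ Nat.card ↥W := by
      rw [hj]; exact dvd_pow_self p hj0
    have hone : (1 : ↥W) ∈ MulAction.fixedPoints ↥P ↥W := by
      intro a
      apply Subtype.ext
      rw [hsm, Subgroup.coe_one, smul_one]
    obtain ⟨w, hwf, hw1⟩ :=
      hP.exists_fixed_point_of_prime_dvd_card_of_fixed_point (α := ↥W) hdvd hone
    have hwP : ∀ a ∈ P, a • (w : V) = w := by
      intro a ha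
      have := hwf ⟨a, ha⟩
      have h2 := congrArg Subtype.val this
      rwa [hsm] at h2
    have hwQ := hfix (w : V) hwP
    have hNw : N (w : V) = (w : V) ^ Nat.card ↥Q := by
      rw [hN, Finset.prod_congr rfl (fun (q : ↥Q) _ => hwQ (q : Γ) q.2), Finset.prod_const, Finset.card_univ,
        Nat.card_eq_fintype_card]
    have hNw1 : N (w : V) = 1 := w.2
    rw [hNw] at hNw1
    obtain ⟨k, hk⟩ := hV (w : V)
    have h3 : orderOf (w : V) ∣ Nat.card ↥Q := orderOf_dvd_of_pow_eq_one hNw1
    have h4 : orderOf (w : V) ∣ p ^ k := orderOf_dvd_of_pow_eq_one hk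
    have h5 : orderOf (w : V) = 1 :=
      Nat.eq_one_of_dvd_coprimes (Nat.Coprime.pow_right k hQ) h3 h4
    apply hw1
    apply Subtype.ext
    rw [Subgroup.coe_one]
    exact (orderOf_eq_one_iff.mp h5).symm
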