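import Mathlib
import Cfsg.Agent.Lib.Helper10.Baer
import Cfsg.Agent.Lib.Helper10.PQAbelian
import Cfsg.Agent.Lib.Helper1.OmegaOne
import Cfsg.Agent.Lib.Helper1.CoprimeAction
import Cfsg.Agent.Lib.Helper13.Coprime
import Cfsg.Agent.Lib.Helper13.PQLemma
import Cfsg.Agent.Lib.Helper2.PGroupFrattini

/-!
# Thompson's strengthening of the `P × Q` lemma for odd primes (helper10)

`P` a `p`-group normalizing the `p'`-group `Q`, both normalizing the `p`-group `G`, `p` odd.
If `C_G(P) ≤ C_G(Q)` then `Q` centralizes `G`.  The proof reduces to class at most two and then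
uses the Baer trick.
-/

set_option autoImplicit false

namespace Cfsg.Agent.Lib.Helper10

open Cfsg.Agent.Lib.Helper1 in
/-- Conjugation as a homomorphism from the normalizer to the automorphism group. -/
def conjHom {X : Type*} [Group X] (G : Subgroup X) :
    ↥(Subgroup.normalizer (G : Set X)) →* MulAut ↥G where
  toFun n := conjNormalizer G n n.2
  map_one' := by
    apply MulEquiv.ext
    intro x
    apply Subtype.ext
    simp
  map_mul' a b := by
    apply MulEquiv.ext
    intro x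
    apply Subtype.ext
    simp [mul_assoc]

theorem conjHom_coe {X : Type*} [Group X] (G : Subgroup X)
    (n : ↥(Subgroup.normalizer (G : Set X))) (x : ↥G) :
    ((conjHom G n x : ↥G) : X) = n * x * (n : X)⁻¹ := rfl

/-- The class-two case, via the Baer trick. -/
theorem pq_strong_class_two {X : Type*} [Group X] [Finite X] {p : ℕ} [hp : Fact p.Prime]
    (hp2 : p ≠ 2) (P Q G : Subgroup X) (hP : IsPGroup p P) (hQ : (Nat.card Q).Coprime p)
    (hPQ : P ≤ Subgroup.normalizer (Q : Set X)) (hG : IsPGroup p G)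
    (hPG : P ≤ Subgroup.normalizer (G : Set X)) (hQG : Q ≤ Subgroup.normalizer (G : Set X))
    (hC : G ⊓ Subgroup.centralizer (P : Set X) ≤ Subgroup.centralizer (Q : Set X))
    (hcl : ∀ x ∈ G, ∀ y ∈ G, ∀ z ∈ G, (x * y * x⁻¹ * y⁻¹) * z = z * (x * y * x⁻¹ * y⁻¹)) :
    Q ≤ Subgroup.centralizer (G : Set X) := by
  classical
  obtain ⟨k, hk⟩ := IsPGroup.iff_card.mp hG
  have hodd : Odd (Nat.card ↥G) := by
    rw [hk]
    exact Odd.pow (hp.out.odd_of_ne_two hp2)
  have hc : ∀ x y : ↥G, cm x y ∈ Subgroup.center ↥G := by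
    intro x y
    rw [Subgroup.mem_center_iff]
    intro z
    apply Subtype.ext
    have := hcl x x.2 y y.2 z z.2
    simp only [cm, Subgroup.coe_mul, Subgroup.coe_inv]
    exact this.symm
  let h : BaerHyp ↥G := baerHypOfOdd hodd hc
  let N : Subgroup X := Subgroup.normalizer (G : Set X)
  let Ψ : ↥N →* MulAut (Baer h) := (Baer.mapHom h).comp (conjHom G)
  have hΨ : ∀ (n : ↥N) (v : Baer h), ((Baer.toG h (Ψ n v) : ↥G) : X) =
      n * ((Baer.toG h v : ↥G) : X) * (n : X)⁻¹ := fun n v => rfl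
  let P' : Subgroup (MulAut (Baer h)) := (P.subgroupOf N).map Ψ
  let Q' : Subgroup (MulAut (Baer h)) := (Q.subgroupOf N).map Ψ
  have hV : IsPGroup p (Baer h) := IsPGroup.of_card (n := k) (by rw [Baer.card_eq, hk])
  have hP' : IsPGroup p ↥P' := (hP.comap_subtype (K := N)).map Ψ
  have hQ' : (Nat.card ↥Q').Coprime p := by
    have h1 : Nat.card ↥Q' ∣ Nat.card ↥(Q.subgroupOf N) := Subgroup.card_map_dvd _ _
    have h2 : Nat.card ↥(Q.subgroupOf N) = Nat.card ↥Q :=
      Nat.card_congr (Subgroup.subgroupOfEquivOfLe hQG).toEquiv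
    rw [h2] at h1
    exact Nat.Coprime.coprime_dvd_left h1 hQ
  have hPQ' : P' ≤ Subgroup.normalizer (Q' : Set (MulAut (Baer h))) := by
    have h1 : P.subgroupOf N ≤ Subgroup.normalizer ((Q.subgroupOf N : Subgroup ↥N) : Set ↥N) := by
      have : (Subgroup.normalizer (Q : Set X)).comap N.subtype ≤
          Subgroup.normalizer ((Q.comap N.subtype : Subgroup ↥N) : Set ↥N) :=
        Subgroup.le_normalizer_comap N.subtype
      exact (Subgroup.comap_mono hPQ).trans this
    exact (Subgroup.map_mono h1).trans (Subgroup.le_normalizer_map Ψ)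
  have hfix : ∀ v : Baer h, (∀ a ∈ P', a • v = v) → ∀ q ∈ Q', q • v = v := by
    intro v hv q hq
    obtain ⟨n, hn, rfl⟩ := hq
    have hg : ((Baer.toG h v : ↥G) : X) ∈ G ⊓ Subgroup.centralizer (P : Set X) := by
      refine ⟨(Baer.toG h v).2, ?_⟩
      show ((Baer.toG h v : ↥G) : X) ∈ Subgroup.centralizer (P : Set X)
      rw [Subgroup.mem_centralizer_iff]
      intro a ha
      have h1 := hv (Ψ ⟨a, hPG ha⟩) ⟨⟨a, hPG ha⟩, ha, rfl⟩
      rw [MulAut.smul_def] at h1
      have h2 := hΨ ⟨a, hPG ha⟩ v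
      rw [h1] at h2
      simp only at h2
      calc a * ((Baer.toG h v : ↥G) : X)
          = (a * ((Baer.toG h v : ↥G) : X) * a⁻¹) * a := by group
        _ = ((Baer.toG h v : ↥G) : X) * a := by rw [← h2]
    have hgQ := hC hg
    rw [Subgroup.mem_centralizer_iff] at hgQ
    rw [MulAut.smul_def]
    apply Baer.toG_injective h
    apply Subtype.ext
    rw [hΨ]
    have hnQ : (n : X) ∈ Q := Subgroup.mem_subgroupOf.mp hn
    have := hgQ (n : X) hnQ
    rw [this]; group
  have key := pq_abelian p hV P' Q' hP' hQ' hPQ' hfix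
  intro q hq
  rw [Subgroup.mem_centralizer_iff]
  intro g hg
  have h1 := key (Ψ ⟨q, hQG hq⟩) ⟨⟨q, hQG hq⟩, hq, rfl⟩ (Baer.ofG h ⟨g, hg⟩)
  rw [MulAut.smul_def] at h1
  have h2 := hΨ ⟨q, hQG hq⟩ (Baer.ofG h ⟨g, hg⟩)
  rw [h1] at h2
  simp only [Baer.toG_ofG] at h2
  -- `g = q * g * q⁻¹`
  calc g * q = (q * g * q⁻¹) * q := by rw [← h2]
    _ = q * g := by group

open scoped commutatorElement in
/-- **Thompson's strengthening of the `P × Q` lemma** for odd primes. -/
theorem pq_strong {X : Type*} [Group X] [Finite X] {p : ℕ} [hp : Fact p.Prime] (hp2 : p ≠ 2)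
    (P Q G : Subgroup X) (hP : IsPGroup p P) (hQ : (Nat.card Q).Coprime p)
    (hPQ : P ≤ Subgroup.normalizer (Q : Set X)) (hG : IsPGroup p G)
    (hPG : P ≤ Subgroup.normalizer (G : Set X)) (hQG : Q ≤ Subgroup.normalizer (G : Set X))
    (hC : G ⊓ Subgroup.centralizer (P : Set X) ≤ Subgroup.centralizer (Q : Set X)) :
    Q ≤ Subgroup.centralizer (G : Set X) := by
  classical
  induction hn : Nat.card ↥G using Nat.strong_induction_on generalizing G with
  | _ n ih =>
  -- coprimality of `Q` and `G`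
  have hcop : (Nat.card ↥Q).Coprime (Nat.card ↥G) := by
    obtain ⟨k, hk⟩ := IsPGroup.iff_card.mp hG
    rw [hk]; exact Nat.Coprime.pow_right k hQ
  have hGQle : ⁅G, Q⁆ ≤ G := Cfsg.Agent.Lib.Helper13.commutator_le_of_le_normalizer G Q hQG
  by_cases hlt : ⁅G, Q⁆ = G
  · -- `G = [G, Q]`
    by_cases hGbot : G = ⊥
    · rw [hGbot]
      intro q _
      rw [Subgroup.mem_centralizer_iff]
      intro g hg
      rw [Subgroup.coe_bot, Set.mem_singleton_iff] at hg
      rw [hg, one_mul, mul_one]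
    -- the Frattini subgroup
    set Φ : Subgroup X := (frattini ↥G).map G.subtype with hΦ
    have hΦG : Φ ≤ G := Subgroup.map_subtype_le _
    have hΦlt : Φ < G := Cfsg.Agent.Lib.Helper1.map_frattini_lt G hGbot
    have hNΦ : Subgroup.normalizer (G : Set X) ≤ Subgroup.normalizer (Φ : Set X) := fun a ha =>
      Cfsg.Agent.Lib.Helper1.mem_normalizer_map_of_characteristic G (frattini ↥G) a ha
    have hcardlt : Nat.card ↥Φ < n := by
      rw [← hn]
      exact Set.ncard_lt_ncard (s := (Φ : Set X)) (t := (G : Set X)) hΦlt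
    have hQΦ : Q ≤ Subgroup.centralizer (Φ : Set X) :=
      ih _ hcardlt Φ (hG.to_le hΦG) (hPG.trans hNΦ) (hQG.trans hNΦ)
        ((inf_le_inf_right _ hΦG).trans hC) rfl
    have hΦQ : ⁅Φ, Q⁆ = ⊥ := by
      rw [Subgroup.commutator_comm, Subgroup.commutator_eq_bot_iff_le_centralizer]
      exact hQΦ
    -- `Φ` is central in `G`
    have hGΦ : ⁅G, Φ⁆ = ⊥ := by
      have h1 : ⁅⁅G, Φ⁆, Q⁆ = ⊥ := by
        have hle : ⁅G, Φ⁆ ≤ Φ := by
          rw [Subgroup.commutator_comm]
          exact Cfsg.Agent.Lib.Helper13.commutator_le_of_le_normalizer Φ G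
            ((Subgroup.le_normalizer (H := G)).trans hNΦ)
        rw [eq_bot_iff, ← hΦQ]
        exact Subgroup.commutator_mono hle le_rfl
      have h2 : ⁅⁅Φ, Q⁆, G⁆ = ⊥ := by
        rw [hΦQ]; exact Subgroup.commutator_bot_left G
      have h3 := Subgroup.commutator_commutator_eq_bot_of_rotate h1 h2
      rw [Subgroup.commutator_comm Q G, hlt] at h3
      exact h3
    -- commutators are central in `G`
    have hcl : ∀ x ∈ G, ∀ y ∈ G, ∀ z ∈ G,
        (x * y * x⁻¹ * y⁻¹) * z = z * (x * y * x⁻¹ * y⁻¹) := by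
      intro x hx y hy z hz
      have hcomm : x * y * x⁻¹ * y⁻¹ ∈ Φ := by
        have h1 : (⁅(⟨x, hx⟩ : ↥G), (⟨y, hy⟩ : ↥G)⁆ : ↥G) ∈ frattini ↥G := by
          apply Cfsg.Agent.Lib.Helper2.commutator_le_frattini_of_isPGroup (p := p) hG
          exact Subgroup.commutator_mem_commutator (Subgroup.mem_top _) (Subgroup.mem_top _)
        refine ⟨_, h1, ?_⟩
        simp [commutatorElement_def]
      rw [Subgroup.commutator_eq_bot_iff_le_centralizer] at hGΦ
      have := hGΦ hz
      rw [Subgroup.mem_centralizer_iff] at this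
      exact this _ hcomm
    exact pq_strong_class_two hp2 P Q G hP hQ hPQ hG hPG hQG hC hcl
  · -- `[G, Q] < G`
    have hlt' : ⁅G, Q⁆ < G := lt_of_le_of_ne hGQle hlt
    have hcardlt : Nat.card ↥⁅G, Q⁆ < n := by
      rw [← hn]
      exact Set.ncard_lt_ncard (s := ((⁅G, Q⁆ : Subgroup X) : Set X)) (t := (G : Set X)) hlt'
    have hPn : P ≤ Subgroup.normalizer ((⁅G, Q⁆ : Subgroup X) : Set X) :=
      Cfsg.Agent.Lib.Helper13.le_normalizer_commutator_of_le hPG hPQ
    have hQn : Q ≤ Subgroup.normalizer ((⁅G, Q⁆ : Subgroup X) : Set X) :=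
      le_sup_right.trans (Cfsg.Agent.Lib.Helper13.le_normalizer_commutator G Q)
    have h1 : Q ≤ Subgroup.centralizer ((⁅G, Q⁆ : Subgroup X) : Set X) :=
      ih _ hcardlt ⁅G, Q⁆ (hG.to_le hGQle) hPn hQn ((inf_le_inf_right _ hGQle).trans hC) rfl
    have h2 : ⁅⁅G, Q⁆, Q⁆ = ⊥ := by
      rw [Subgroup.commutator_comm, Subgroup.commutator_eq_bot_iff_le_centralizer]
      exact h1
    have h3 : ⁅G, Q⁆ = ⊥ :=
      Cfsg.Agent.Lib.Helper1.commutator_eq_bot_of_commutator_commutator_eq_bot G Q hQG hcop h2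
    rw [Subgroup.commutator_comm, Subgroup.commutator_eq_bot_iff_le_centralizer] at h3
    exact h3

end Cfsg.Agent.Lib.Helper10
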