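import Mathlib

set_option autoImplicit false

namespace Cfsg.Agent.Lib.Helper10

open Equiv

variable {α : Type*}

/-- Elements of the centralizer of `H` commute with elements of `H` pointwise. -/
theorem centralizer_apply_comm {H : Subgroup (Perm α)} {c : Perm α}
    (hc : c ∈ Subgroup.centralizer (H : Set (Perm α))) {h : Perm α} (hh : h ∈ H) (x : α) :
    c (h x) = h (c x) := by
  have h1 := Subgroup.mem_centralizer_iff.1 hc h hh
  have h2 := congrArg (fun f : Perm α => f x) h1
  simpa [Perm.mul_apply] using h2.symm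

/-- The centralizer of a transitive permutation group is semiregular. -/
theorem centralizer_semiregular {H : Subgroup (Perm α)} (htr : ∀ a b : α, ∃ h ∈ H, h a = b)
    {c : Perm α} (hc : c ∈ Subgroup.centralizer (H : Set (Perm α))) {a : α} (hca : c a = a) : c = 1 := by
  ext x
  obtain ⟨h, hh, hx⟩ := htr a x
  rw [← hx, centralizer_apply_comm hc hh a, hca]
  rfl

/-- If `K` is a transitive subgroup of the centralizer of the transitive group `H`, then `K` is the whole
centralizer. -/
theorem centralizer_eq_of_transitive_le {H K : Subgroup (Perm α)} (htrH : ∀ a b : α, ∃ h ∈ H, h a = b)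
    (htrK : ∀ a b : α, ∃ k ∈ K, k a = b) (hK : K ≤ Subgroup.centralizer (H : Set (Perm α))) :
    Subgroup.centralizer (H : Set (Perm α)) = K := by
  apply le_antisymm _ hK
  intro c hc
  rcases isEmpty_or_nonempty α with hα | ⟨⟨a⟩⟩
  · have : c = 1 := by
      ext x
      exact (hα.false x).elim
    rw [this]; exact K.one_mem
  · obtain ⟨k, hk, hka⟩ := htrK a (c a)
    have h1 : k⁻¹ * c ∈ Subgroup.centralizer (H : Set (Perm α)) :=
      Subgroup.mul_mem _ (Subgroup.inv_mem _ (hK hk)) hc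
    have h2 : (k⁻¹ * c) a = a := by
      simp [Perm.mul_apply, ← hka]
    have h3 := centralizer_semiregular htrH h1 h2
    have : c = k := by
      rw [inv_mul_eq_one] at h3
      exact h3.symm
    rw [this]; exact hk

/-- Two transitive semiregular permutation groups centralizing each other are isomorphic. -/
theorem nonempty_mulEquiv_of_regular_centralizing {H K : Subgroup (Perm α)}
    (htrH : ∀ a b : α, ∃ h ∈ H, h a = b) (htrK : ∀ a b : α, ∃ k ∈ K, k a = b)
    (hsrH : ∀ h ∈ H, ∀ a : α, h a = a → h = 1) (hsrK : ∀ k ∈ K, ∀ a : α, k a = a → k = 1)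
    (hK : K ≤ Subgroup.centralizer (H : Set (Perm α))) : Nonempty (H ≃* K) := by
  classical
  rcases isEmpty_or_nonempty α with hα | ⟨⟨a⟩⟩
  · -- both groups are trivial
    have hH : ∀ h : H, h = 1 := fun h => Subtype.ext (by ext x; exact (hα.false x).elim)
    have hK' : ∀ k : K, k = 1 := fun k => Subtype.ext (by ext x; exact (hα.false x).elim)
    exact ⟨{ toFun := fun _ => 1, invFun := fun _ => 1, left_inv := fun h => (hH h).symm,
             right_inv := fun k => (hK' k).symm, map_mul' := fun _ _ => (mul_one 1).symm }⟩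
  · -- uniqueness in `H` and `K`
    have huH : ∀ h₁ ∈ H, ∀ h₂ ∈ H, h₁ a = h₂ a → h₁ = h₂ := by
      intro h₁ hh₁ h₂ hh₂ he
      have : (h₂⁻¹ * h₁) a = a := by simp [Perm.mul_apply, he]
      have := hsrH _ (H.mul_mem (H.inv_mem hh₂) hh₁) a this
      exact (inv_mul_eq_one.1 this).symm
    have huK : ∀ k₁ ∈ K, ∀ k₂ ∈ K, k₁ a = k₂ a → k₁ = k₂ := by
      intro k₁ hk₁ k₂ hk₂ he
      have : (k₂⁻¹ * k₁) a = a := by simp [Perm.mul_apply, he]
      have := hsrK _ (K.mul_mem (K.inv_mem hk₂) hk₁) a this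
      exact (inv_mul_eq_one.1 this).symm
    -- `φ h` is the element of `K` with `φ h a = h⁻¹ a`
    have hexK : ∀ h : H, ∃ k : K, (k : Perm α) a = (h : Perm α)⁻¹ a := by
      intro h
      obtain ⟨k, hk, hka⟩ := htrK a ((h : Perm α)⁻¹ a)
      exact ⟨⟨k, hk⟩, hka⟩
    have hexH : ∀ k : K, ∃ h : H, (h : Perm α) a = (k : Perm α)⁻¹ a := by
      intro k
      obtain ⟨h, hh, hha⟩ := htrH a ((k : Perm α)⁻¹ a)
      exact ⟨⟨h, hh⟩, hha⟩
    let φ : H → K := fun h => Classical.choose (hexK h)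
    let ψ : K → H := fun k => Classical.choose (hexH k)
    have hφ : ∀ h : H, ((φ h : K) : Perm α) a = (h : Perm α)⁻¹ a := fun h => Classical.choose_spec (hexK h)
    have hψ : ∀ k : K, ((ψ k : H) : Perm α) a = (k : Perm α)⁻¹ a := fun k => Classical.choose_spec (hexH k)
    have hcomm : ∀ (h : H) (k : K) (x : α), (k : Perm α) ((h : Perm α) x) = (h : Perm α) ((k : Perm α) x) :=
      fun h k x => centralizer_apply_comm (hK k.2) h.2 x
    refine ⟨{ toFun := φ, invFun := ψ, left_inv := ?_, right_inv := ?_, map_mul' := ?_ }⟩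
    · intro h
      apply Subtype.ext
      apply huH _ (ψ (φ h)).2 _ h.2
      rw [hψ]
      -- φ h a = h⁻¹ a, so a = (φ h)⁻¹ (h⁻¹ a) = h⁻¹ ((φ h)⁻¹ a)
      have h1 := hφ h
      have h2 : (h : Perm α) (((φ h : K) : Perm α) a) = a := by simp [h1]
      rw [← hcomm h (φ h) a] at h2
      rw [Perm.inv_eq_iff_eq]
      exact h2.symm
    · intro k
      apply Subtype.ext
      apply huK _ (φ (ψ k)).2 _ k.2
      rw [hφ]
      have h1 := hψ k
      have h2 : (k : Perm α) (((ψ k : H) : Perm α) a) = a := by simp [h1]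
      rw [hcomm (ψ k) k a] at h2
      rw [Perm.inv_eq_iff_eq]
      exact h2.symm
    · intro h₁ h₂
      apply Subtype.ext
      apply huK _ (φ (h₁ * h₂)).2 _ (K.mul_mem (φ h₁).2 (φ h₂).2)
      rw [hφ]
      show ((h₁ : Perm α) * (h₂ : Perm α))⁻¹ a = ((φ h₁ : Perm α) * (φ h₂ : Perm α)) a
      rw [mul_inv_rev, Perm.mul_apply, Perm.mul_apply, hφ h₂]
      -- h₂⁻¹ (h₁⁻¹ a) = φ h₁ (h₂⁻¹ a)
      have h3 : ((φ h₁ : K) : Perm α) ((h₂ : Perm α)⁻¹ a) = (h₂ : Perm α)⁻¹ (((φ h₁ : K) : Perm α) a) := by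
        have := centralizer_apply_comm (hK (φ h₁).2) (H.inv_mem h₂.2) a
        exact this
      rw [h3, hφ h₁]

end Cfsg.Agent.Lib.Helper10
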