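import Mathlib

set_option autoImplicit false

namespace Cfsg.Agent.Lib.Helper10

variable (G Ω : Type*) [Group G] [MulAction G Ω]

/-- The image of `G` in `Perm Ω`. -/
abbrev permImage : Subgroup (Equiv.Perm Ω) := (MulAction.toPermHom G Ω).range

variable {G Ω}
variable [FaithfulSMul G Ω]

/-- The isomorphism from `G` onto its image in `Perm Ω` for a faithful action. -/
noncomputable def toPermImage : G ≃* permImage G Ω :=
  MonoidHom.ofInjective (f := MulAction.toPermHom G Ω) MulAction.toPerm_injective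

theorem toPermImage_smul (g : G) (ω : Ω) : (toPermImage g : permImage G Ω) • ω = g • ω := rfl

/-- Transport of a subgroup of `G` to the image. -/
noncomputable def trSub (V : Subgroup G) : Subgroup (permImage G Ω) :=
  V.map (toPermImage (G := G) (Ω := Ω)).toMonoidHom

theorem mem_trSub {V : Subgroup G} {x : permImage G Ω} : x ∈ trSub V ↔ ∃ v ∈ V, toPermImage v = x := by
  unfold trSub
  rw [Subgroup.mem_map]
  rfl

theorem toPermImage_mem_trSub {V : Subgroup G} {v : G} : toPermImage (Ω := Ω) v ∈ trSub V ↔ v ∈ V := by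
  rw [mem_trSub]
  constructor
  · rintro ⟨w, hw, hwv⟩
    rwa [← toPermImage.injective hwv]
  · intro hv
    exact ⟨v, hv, rfl⟩

theorem trSub_normal (V : Subgroup G) [hV : V.Normal] : (trSub (Ω := Ω) V).Normal :=
  Subgroup.Normal.map hV _ (toPermImage (G := G) (Ω := Ω)).surjective

theorem trSub_le_iff {V W : Subgroup G} : trSub (Ω := Ω) V ≤ trSub W ↔ V ≤ W :=
  Subgroup.map_le_map_iff_of_injective (toPermImage (G := G) (Ω := Ω)).injective

theorem trSub_injective {V W : Subgroup G} (h : trSub (Ω := Ω) V = trSub W) : V = W :=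
  Subgroup.map_injective (toPermImage (G := G) (Ω := Ω)).injective h

theorem trSub_bot : trSub (Ω := Ω) (⊥ : Subgroup G) = ⊥ := Subgroup.map_bot _

theorem exists_eq_trSub (L' : Subgroup (permImage G Ω)) :
    trSub (L'.comap (toPermImage (G := G) (Ω := Ω)).toMonoidHom) = L' :=
  Subgroup.map_comap_eq_self_of_surjective (toPermImage (G := G) (Ω := Ω)).surjective L'

/-- Minimal normality is transported. -/
theorem trSub_minimal {V : Subgroup G}
    (hmin : ∀ L : Subgroup G, L.Normal → L ≤ V → L = ⊥ ∨ L = V) :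
    ∀ L' : Subgroup (permImage G Ω), L'.Normal → L' ≤ trSub V → L' = ⊥ ∨ L' = trSub V := by
  intro L' hL' hle
  set L := L'.comap (toPermImage (G := G) (Ω := Ω)).toMonoidHom with hL
  have hLL' : trSub L = L' := exists_eq_trSub L'
  have hLn : L.Normal := Subgroup.Normal.comap hL' _
  have hLV : L ≤ V := by
    rw [← hLL'] at hle
    exact trSub_le_iff.1 hle
  rcases hmin L hLn hLV with h | h
  · left
    rw [← hLL', h, trSub_bot]
  · right
    rw [← hLL', h]

/-- Minimal normality is transported back. -/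
theorem minimal_of_trSub {L' : Subgroup (permImage G Ω)}
    (hmin : ∀ K' : Subgroup (permImage G Ω), K'.Normal → K' ≤ L' → K' = ⊥ ∨ K' = L') :
    ∀ K : Subgroup G, K.Normal → K ≤ L'.comap (toPermImage (G := G) (Ω := Ω)).toMonoidHom →
      K = ⊥ ∨ K = L'.comap (toPermImage (G := G) (Ω := Ω)).toMonoidHom := by
  intro K hK hle
  have h1 : trSub (Ω := Ω) K ≤ L' := by
    rw [← exists_eq_trSub L']
    exact trSub_le_iff.2 hle
  rcases hmin _ (trSub_normal K) h1 with h | h
  · left
    apply trSub_injective (Ω := Ω)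
    rw [h, trSub_bot]
  · right
    apply trSub_injective (Ω := Ω)
    rw [h, exists_eq_trSub]

theorem trSub_pretransitive {V : Subgroup G} (hV : MulAction.IsPretransitive V Ω) :
    MulAction.IsPretransitive (trSub (Ω := Ω) V) Ω := by
  refine ⟨fun x y => ?_⟩
  obtain ⟨v, hv⟩ := hV.exists_smul_eq x y
  exact ⟨⟨toPermImage (v : G), toPermImage_mem_trSub.2 v.2⟩, hv⟩

theorem trSub_commutative {V : Subgroup G} (hV : IsMulCommutative V) :
    IsMulCommutative (trSub (Ω := Ω) V) := by
  refine ⟨⟨?_⟩⟩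
  rintro ⟨x, hx⟩ ⟨y, hy⟩
  obtain ⟨v, hv, rfl⟩ := mem_trSub.1 hx
  obtain ⟨w, hw, rfl⟩ := mem_trSub.1 hy
  apply Subtype.ext
  show toPermImage v * toPermImage w = toPermImage w * toPermImage v
  rw [← map_mul, ← map_mul]
  have := mul_comm' (⟨v, hv⟩ : V) ⟨w, hw⟩
  have h2 : v * w = w * v := congrArg Subtype.val this
  rw [h2]

theorem commutative_of_trSub {V : Subgroup G} (hV : IsMulCommutative (trSub (Ω := Ω) V)) :
    IsMulCommutative V := by
  refine ⟨⟨?_⟩⟩
  rintro ⟨v, hv⟩ ⟨w, hw⟩
  apply Subtype.ext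
  show v * w = w * v
  apply (toPermImage (G := G) (Ω := Ω)).injective
  rw [map_mul, map_mul]
  have := mul_comm' (⟨toPermImage v, toPermImage_mem_trSub.2 hv⟩ : trSub (Ω := Ω) V)
    ⟨toPermImage w, toPermImage_mem_trSub.2 hw⟩
  exact congrArg Subtype.val this

theorem stabilizer_eq_bot_of_trSub {V : Subgroup G} {a : Ω}
    (h : MulAction.stabilizer (trSub (Ω := Ω) V) a = ⊥) : MulAction.stabilizer V a = ⊥ := by
  rw [Subgroup.eq_bot_iff_forall]
  intro v hv
  rw [MulAction.mem_stabilizer_iff] at hv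
  have h1 : (⟨toPermImage (v : G), toPermImage_mem_trSub.2 v.2⟩ : trSub (Ω := Ω) V) ∈
      MulAction.stabilizer (trSub (Ω := Ω) V) a := by
    rw [MulAction.mem_stabilizer_iff]
    exact hv
  rw [h, Subgroup.mem_bot] at h1
  have h2 : toPermImage (Ω := Ω) (v : G) = 1 := congrArg Subtype.val h1
  have h3 : (v : G) = 1 := (toPermImage (G := G) (Ω := Ω)).injective (by rw [h2, map_one])
  exact Subtype.ext h3

/-- `V` is isomorphic to its transport. -/
noncomputable def trSubEquiv (V : Subgroup G) : V ≃* trSub (Ω := Ω) V :=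
  Subgroup.equivMapOfInjective V _ (toPermImage (G := G) (Ω := Ω)).injective

end Cfsg.Agent.Lib.Helper10
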