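import Mathlib
import Cfsg.Prelude.Def_Characters
import Cfsg.Agent.Lib.Helper26.Frame

set_option autoImplicit false

namespace Cfsg.Agent.Lib.Helper10.RankThree
open Cfsg
open scoped ComplexConjugate

/-- For an idempotent `E` of trace one (so of rank one), `E Y E = tr(Y E) • E`. -/
theorem idem_rank_one_sandwich {V : Type*} [AddCommGroup V] [Module ℂ V] [FiniteDimensional ℂ V]
    (E : Module.End ℂ V) (hE : IsIdempotentElem E) (htr : LinearMap.trace ℂ V E = 1)
    (Y : Module.End ℂ V) : E * Y * E = (LinearMap.trace ℂ V (Y * E)) • E := by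
  have hfr : Module.finrank ℂ (LinearMap.range E) = 1 := by
    have h1 := (LinearMap.IsIdempotentElem.isProj_range E hE).trace
    rw [htr] at h1
    exact_mod_cast h1.symm
  obtain ⟨⟨v0, hv0p⟩, hv0ne, hspan⟩ := finrank_eq_one_iff'.mp hfr
  have hEE : ∀ w, E (E w) = E w := by
    intro w
    rw [← Module.End.mul_apply, hE.eq]
  have hmem : (E * Y * E) v0 ∈ LinearMap.range E := ⟨(Y * E) v0, by
    simp only [Module.End.mul_apply]⟩
  obtain ⟨c, hc⟩ := hspan ⟨_, hmem⟩
  have hc' : c • v0 = (E * Y * E) v0 := congrArg Subtype.val hc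
  have hZ : E * Y * E = c • E := by
    apply LinearMap.ext
    intro w
    obtain ⟨d, hd⟩ := hspan ⟨E w, ⟨w, rfl⟩⟩
    have hd' : d • v0 = E w := congrArg Subtype.val hd
    have h1 : (E * Y * E) w = (E * Y * E) (E w) := by
      simp only [Module.End.mul_apply]
      rw [hEE]
    rw [h1, ← hd', map_smul, ← hc', LinearMap.smul_apply, ← hd', smul_comm]
  have htrZ : LinearMap.trace ℂ V (E * Y * E) = c := by
    rw [hZ, map_smul, htr, smul_eq_mul, mul_one]
  have htrZ' : LinearMap.trace ℂ V (E * Y * E) = LinearMap.trace ℂ V (Y * E) := by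
    rw [mul_assoc, LinearMap.trace_mul_comm, mul_assoc, hE.eq]
  rw [hZ, ← htrZ, htrZ']

section Mult
variable {G : Type*} [Group G] [Fintype G]

/-- Multiplicativity of character sums over right-`H`-invariant sets when the trivial character
of `H` occurs at most once in the restriction. -/
theorem char_sum_mul {V : Type*} [AddCommGroup V] [Module ℂ V] [FiniteDimensional ℂ V]
    (ρ : Representation ℂ G V) (H : Subgroup G) [Fintype H] (D D' : Finset G)
    (hD : ∀ x ∈ D, ∀ h ∈ H, x * h ∈ D) (hD' : ∀ x ∈ D', ∀ h ∈ H, x * h ∈ D')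
    (hμ : (Nat.card H : ℂ)⁻¹ * ∑ h : H, ρ.character h = 0 ∨
      (Nat.card H : ℂ)⁻¹ * ∑ h : H, ρ.character h = 1) :
    ∑ x ∈ D, ∑ y ∈ D', ρ.character (x * y) =
      (∑ x ∈ D, ρ.character x) * (∑ y ∈ D', ρ.character y) := by
  classical
  obtain ⟨k, hkdef⟩ : ∃ k : ℂ, k = (Nat.card H : ℂ)⁻¹ := ⟨_, rfl⟩
  have hcard : (Nat.card H : ℂ) ≠ 0 := by
    have : Nat.card H ≠ 0 := Nat.card_pos.ne'
    exact_mod_cast this
  have hk : k * (Fintype.card H : ℂ) = 1 := by
    rw [hkdef, ← Nat.card_eq_fintype_card, inv_mul_cancel₀ hcard]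
  rw [← hkdef] at hμ
  obtain ⟨E, he⟩ : ∃ e : Module.End ℂ V, e = k • ∑ h : H, ρ h := ⟨_, rfl⟩
  have hsumh : ∀ h : H, ρ (h : G) * ∑ h' : H, ρ (h' : G) = ∑ h' : H, ρ (h' : G) := by
    intro h
    rw [Finset.mul_sum]
    refine Fintype.sum_equiv (Equiv.mulLeft h) _ _ (fun h' => ?_)
    rw [← map_mul]
    rfl
  have hidem : IsIdempotentElem E := by
    show E * E = E
    have h2 : E * E = k • (E * ∑ h : H, ρ h) := by
      conv_lhs => rw [he]
      rw [mul_smul_comm, ← he]
    rw [h2]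
    have h3 : E * ∑ h : H, ρ h = ∑ h : H, ρ h := by
      rw [he, smul_mul_assoc, Finset.sum_mul]
      rw [Finset.sum_congr rfl (fun h _ => hsumh h), Finset.sum_const, Finset.card_univ,
        ← Nat.cast_smul_eq_nsmul ℂ, smul_smul, hk, one_smul]
    rw [h3, ← he]
  have htrE : LinearMap.trace ℂ V E = k * ∑ h : H, ρ.character h := by
    rw [he, map_smul, map_sum, smul_eq_mul]
    rfl
  -- the operator sums
  have hSE : ∀ (D : Finset G), (∀ x ∈ D, ∀ h ∈ H, x * h ∈ D) →
      (∑ x ∈ D, ρ x) * E = ∑ x ∈ D, ρ x := by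
    intro D hD
    have h1 : ∀ h : H, (∑ x ∈ D, ρ x) * ρ (h : G) = ∑ x ∈ D, ρ x := by
      intro h
      rw [Finset.sum_mul]
      refine Finset.sum_bij' (fun x _ => x * (h : G)) (fun x _ => x * (h : G)⁻¹) ?_ ?_ ?_ ?_ ?_
      · intro x hx
        exact hD x hx h h.2
      · intro x hx
        exact hD x hx _ (H.inv_mem h.2)
      · intro x _
        show x * (h : G) * (h : G)⁻¹ = x
        rw [mul_inv_cancel_right]
      · intro x _
        show x * (h : G)⁻¹ * (h : G) = x
        rw [inv_mul_cancel_right]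
      · intro x _
        rw [map_mul]
    rw [he, mul_smul_comm, Finset.mul_sum, Finset.sum_congr rfl (fun h _ => h1 h),
      Finset.sum_const, Finset.card_univ, ← Nat.cast_smul_eq_nsmul ℂ, smul_smul, hk, one_smul]
  obtain ⟨S, hS⟩ : ∃ S : Module.End ℂ V, S = ∑ x ∈ D, ρ x := ⟨_, rfl⟩
  obtain ⟨S', hS'⟩ : ∃ S' : Module.End ℂ V, S' = ∑ x ∈ D', ρ x := ⟨_, rfl⟩
  have hS1 : S * E = S := by rw [hS]; exact hSE D hD
  have hS2 : S' * E = S' := by rw [hS']; exact hSE D' hD'
  have htrS : LinearMap.trace ℂ V S = ∑ x ∈ D, ρ.character x := by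
    rw [hS, map_sum]
    rfl
  have htrS' : LinearMap.trace ℂ V S' = ∑ x ∈ D', ρ.character x := by
    rw [hS', map_sum]
    rfl
  have htrSS : LinearMap.trace ℂ V (S * S') = ∑ x ∈ D, ∑ y ∈ D', ρ.character (x * y) := by
    rw [hS, hS', Finset.sum_mul, map_sum]
    apply Finset.sum_congr rfl
    intro x _
    rw [Finset.mul_sum, map_sum]
    apply Finset.sum_congr rfl
    intro y _
    rw [← map_mul]
    rfl
  rw [← htrSS, ← htrS, ← htrS']
  rcases hμ with h0 | h1
  · have hE0 : E = 0 := by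
      apply (LinearMap.IsIdempotentElem.trace_eq_zero_iff hidem).mp
      rw [htrE, h0]
    have hS0 : S = 0 := by rw [← hS1, hE0, mul_zero]
    rw [hS0, zero_mul, map_zero, zero_mul]
  · have htr1 : LinearMap.trace ℂ V E = 1 := by rw [htrE, h1]
    have h2 := idem_rank_one_sandwich E hidem htr1 S'
    have h3 : S * S' = (LinearMap.trace ℂ V S') • S := by
      calc S * S' = S * E * (S' * E) := by rw [hS1, hS2]
        _ = S * (E * S' * E) := by simp only [mul_assoc]
        _ = S * ((LinearMap.trace ℂ V (S' * E)) • E) := by rw [h2]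
        _ = (LinearMap.trace ℂ V S') • S := by rw [hS2, mul_smul_comm, hS1]
    rw [h3, map_smul, smul_eq_mul, mul_comm]

end Mult

end Cfsg.Agent.Lib.Helper10.RankThree
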