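import Mathlib
import Cfsg.Prelude.Def_Characters
import Cfsg.Agent.Lib.Helper26.Frame
import Cfsg.Agent.Lib.Helper10.RankThreeA

set_option autoImplicit false

namespace Cfsg.Agent.Lib.Helper10.RankThree
open Cfsg
open scoped ComplexConjugate
open Cfsg.Agent.Lib.Helper26

section Rel
variable {G : Type*} [Group G] [Fintype G] {Ω : Type*} [Fintype Ω] [MulAction G Ω]

/-- The eigenvalue relations for a suborbit `Δ` of a transitive group with multiplicity-free
permutation character, phrased through the normalized character sums over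
`D = {x | x • a ∈ Δ}`. -/
theorem suborbit_relations [DecidableEq Ω] [MulAction.IsPretransitive G Ω]
    [Fintype (IrrCharacter G)] (a : Ω) (Δ : Finset Ω)
    (hΔ : ∀ h ∈ MulAction.stabilizer G a, ∀ c ∈ Δ, h • c ∈ Δ) (haΔ : a ∉ Δ)
    (hmf : ∀ χ : IrrCharacter G,
      classInner (fun g : G => (Nat.card (MulAction.fixedBy Ω g) : ℂ)) χ = 0 ∨
      classInner (fun g : G => (Nat.card (MulAction.fixedBy Ω g) : ℂ)) χ = 1) :
    ∃ cD : (G → ℂ) → ℂ,
      (∀ φ ψ : G → ℂ, cD (φ + ψ) = cD φ + cD ψ) ∧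
      cD (fun _ => 1) = Δ.card ∧
      (∃ q : ℚ, cD (fun g : G => (Nat.card (MulAction.fixedBy Ω g) : ℂ)) = q) ∧
      (∀ χ : IrrCharacter G, IsIntegral ℤ (cD χ) ∧
        (classInner (fun g : G => (Nat.card (MulAction.fixedBy Ω g) : ℂ)) χ = 0 → cD χ = 0)) ∧
      ∑ χ : IrrCharacter G, (χ : G → ℂ) 1 * cD χ = 0 ∧
      ∑ χ : IrrCharacter G, (χ : G → ℂ) 1 * (cD χ * conj (cD χ)) =
        (Fintype.card Ω : ℂ) * Δ.card := by
  classical
  obtain ⟨π, hπ⟩ : ∃ π : G → ℂ, π = fun g : G => (Nat.card (MulAction.fixedBy Ω g) : ℂ) :=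
    ⟨_, rfl⟩
  rw [← hπ] at hmf ⊢
  have hπind : π = indFun (MulAction.stabilizer G a) (fun _ => (1 : ℂ)) := by
    rw [hπ]
    exact permChar_eq_indFun' a
  have hex : ∀ c : Ω, ∃ g : G, g • a = c := fun c => MulAction.exists_smul_eq G a c
  choose s hs using hex
  obtain ⟨D, hD⟩ : ∃ D : Finset G, D = Finset.univ.filter (fun x : G => x • a ∈ Δ) := ⟨_, rfl⟩
  obtain ⟨D', hD'⟩ : ∃ D' : Finset G, D' = Finset.univ.filter (fun x : G => x⁻¹ • a ∈ Δ) :=
    ⟨_, rfl⟩
  have hmemD : ∀ x, x ∈ D ↔ x • a ∈ Δ := by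
    intro x
    rw [hD]
    simp
  have hmemD' : ∀ x, x ∈ D' ↔ x⁻¹ • a ∈ Δ := by
    intro x
    rw [hD']
    simp
  have hdecompC : ∀ F : G → ℂ, ∑ x ∈ D, F x =
      ∑ c ∈ Δ, ∑ h : MulAction.stabilizer G a, F (s c * h) := by
    intro F
    rw [hD]
    exact sum_over_preimage a Δ s (fun c _ => hs c) F
  have hleft : ∀ h ∈ MulAction.stabilizer G a, ∀ x ∈ D, h * x ∈ D := by
    intro h hh x hx
    rw [hmemD] at hx ⊢
    rw [mul_smul]
    exact hΔ h hh _ hx
  have hright : ∀ x ∈ D, ∀ h ∈ MulAction.stabilizer G a, x * h ∈ D := by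
    intro x hx h hh
    rw [hmemD] at hx ⊢
    rw [mul_smul, MulAction.mem_stabilizer_iff.mp hh]
    exact hx
  have hright' : ∀ x ∈ D', ∀ h ∈ MulAction.stabilizer G a, x * h ∈ D' := by
    intro x hx h hh
    rw [hmemD'] at hx ⊢
    rw [mul_inv_rev, mul_smul]
    exact hΔ _ (Subgroup.inv_mem _ hh) _ hx
  have h1D : (1 : G) ∉ D := by
    intro h1
    rw [hmemD, one_smul] at h1
    exact haΔ h1
  have hc : (Nat.card (MulAction.stabilizer G a) : ℂ) ≠ 0 := by
    have : Nat.card (MulAction.stabilizer G a) ≠ 0 := Nat.card_pos.ne'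
    exact_mod_cast this
  obtain ⟨k, hk⟩ : ∃ k : ℂ, k = (Nat.card (MulAction.stabilizer G a) : ℂ)⁻¹ := ⟨_, rfl⟩
  have hkconj : conj k = k := by
    rw [hk, map_inv₀, Complex.conj_natCast]
  obtain ⟨cD, hcD⟩ : ∃ cD : (G → ℂ) → ℂ, cD = fun χ => k * ∑ x ∈ D, χ x := ⟨_, rfl⟩
  have hcDapp : ∀ χ, cD χ = k * ∑ x ∈ D, χ x := fun χ => by rw [hcD]
  have hcardD : (D.card : ℂ) = (Δ.card : ℂ) * (Nat.card (MulAction.stabilizer G a) : ℂ) := by
    have h1 := hdecompC (fun _ => (1 : ℂ))
    simp only [Finset.sum_const, Finset.card_univ, nsmul_eq_mul, mul_one] at h1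
    rw [h1, Nat.card_eq_fintype_card]
  have hcardG : (Nat.card G : ℂ) =
      (Fintype.card Ω : ℂ) * (Nat.card (MulAction.stabilizer G a) : ℂ) := by
    have h1 : (MulAction.stabilizer G a).index = Nat.card Ω :=
      MulAction.index_stabilizer_of_transitive (G := G) (x := a)
    have h2 := (MulAction.stabilizer G a).index_mul_card
    rw [h1, Nat.card_eq_fintype_card (α := Ω)] at h2
    rw [← h2]
    push_cast
    rfl
  -- Frobenius reciprocity for the multiplicity
  have hfrob : ∀ χ : IrrCharacter G,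
      k * ∑ h : MulAction.stabilizer G a, (χ : G → ℂ) h = conj (classInner π χ) := by
    intro χ
    rw [hπind, classInner_indFun_left' _ _ _ (isClassFunction_of_isIrrCharacter χ.2)]
    unfold classInner
    rw [map_mul, map_inv₀, Complex.conj_natCast, ← hk, map_sum]
    congr 1
    apply Finset.sum_congr rfl
    intro h _
    simp
  have hmult : ∀ χ : IrrCharacter G,
      k * ∑ h : MulAction.stabilizer G a, (χ : G → ℂ) h = 0 ∨
      k * ∑ h : MulAction.stabilizer G a, (χ : G → ℂ) h = 1 := by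
    intro χ
    rw [hfrob]
    rcases hmf χ with h | h
    · left; rw [h, map_zero]
    · right; rw [h, map_one]
  have hint : ∀ χ : IrrCharacter G,
      IsIntegral ℤ (cD χ) ∧ (classInner π χ = 0 → cD χ = 0) := by
    intro χ
    obtain ⟨m, ρ, hρ, hχ⟩ := χ.2
    have h1 := doubleCoset_sum ρ (MulAction.stabilizer G a) D Δ s hleft (by
      intro F
      rw [hD]
      exact sum_over_preimage a Δ s (fun c _ => hs c) F)
    rw [hχ, ← hk, ← hcDapp] at h1
    refine ⟨h1.1, fun h0 => h1.2 ?_⟩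
    have h2 := hfrob χ
    rw [h0, map_zero] at h2
    have hk0 : k ≠ 0 := by rw [hk]; exact inv_ne_zero hc
    exact (mul_eq_zero.mp h2).resolve_left hk0
  have hdegreal : ∀ χ : IrrCharacter G,
      (starRingEnd ℂ) ((χ : G → ℂ) 1) = (χ : G → ℂ) 1 := by
    intro χ
    obtain ⟨j, _, hj⟩ := irr_degree χ.2
    rw [hj, Complex.conj_natCast]
  have hsum0 : ∑ χ : IrrCharacter G, (χ : G → ℂ) 1 * cD χ = 0 := by
    have h1 : ∀ χ : IrrCharacter G, (χ : G → ℂ) 1 * cD χ =
        k * ∑ x ∈ D, (χ : G → ℂ) x * (χ : G → ℂ) 1 := by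
      intro χ
      rw [hcDapp, Finset.mul_sum, Finset.mul_sum, Finset.mul_sum]
      apply Finset.sum_congr rfl
      intro x _
      ring
    rw [Finset.sum_congr rfl (fun χ _ => h1 χ), ← Finset.mul_sum, Finset.sum_comm]
    have h2 : ∀ x ∈ D, ∑ χ : IrrCharacter G, (χ : G → ℂ) x * (χ : G → ℂ) 1 = 0 := by
      intro x hx
      have h3 := Cfsg.Agent.Lib.Helper4.column_orthogonality x (1 : G)
      rw [if_neg] at h3
      · rw [← h3]
        apply Finset.sum_congr rfl
        intro χ _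
        rw [hdegreal]
      · rw [isConj_one_left]
        rintro rfl
        exact h1D hx
    rw [Finset.sum_congr rfl h2, Finset.sum_const_zero, mul_zero]
  -- the conjugate of the sum over `D` is the sum over `D'`
  have hconjsum : ∀ χ : IrrCharacter G,
      conj (∑ x ∈ D, (χ : G → ℂ) x) = ∑ y ∈ D', (χ : G → ℂ) y := by
    intro χ
    rw [map_sum]
    refine Finset.sum_equiv (Equiv.inv G) ?_ ?_
    · intro x
      rw [hmemD, hmemD']
      simp
    · intro x _
      rw [isCharacter_conj_eq_inv (isCharacter_of_isIrrCharacter χ.2)]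
      rfl
  have hprod : ∀ χ : IrrCharacter G, cD χ * conj (cD χ) =
      k * k * ∑ x ∈ D, ∑ y ∈ D', (χ : G → ℂ) (x * y) := by
    intro χ
    obtain ⟨m, ρ, hρ, hχ⟩ := χ.2
    have h1 := char_sum_mul ρ (MulAction.stabilizer G a) D D' hright hright' (by
      have := hmult χ
      rw [← hχ, hk] at this
      exact this)
    rw [hχ] at h1
    rw [h1, hcDapp, map_mul, hkconj, hconjsum]
    ring
  have hsum2 : ∑ χ : IrrCharacter G, (χ : G → ℂ) 1 * (cD χ * conj (cD χ)) =
      (Fintype.card Ω : ℂ) * Δ.card := by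
    have h1 : ∀ χ : IrrCharacter G, (χ : G → ℂ) 1 * (cD χ * conj (cD χ)) =
        k * k * ∑ x ∈ D, ∑ y ∈ D', (χ : G → ℂ) (x * y) * (χ : G → ℂ) 1 := by
      intro χ
      rw [hprod, Finset.mul_sum, Finset.mul_sum, Finset.mul_sum]
      apply Finset.sum_congr rfl
      intro x _
      rw [Finset.mul_sum, Finset.mul_sum, Finset.mul_sum]
      apply Finset.sum_congr rfl
      intro y _
      ring
    rw [Finset.sum_congr rfl (fun χ _ => h1 χ), ← Finset.mul_sum, Finset.sum_comm]
    have h2 : ∀ x ∈ D, ∑ χ : IrrCharacter G, ∑ y ∈ D', (χ : G → ℂ) (x * y) * (χ : G → ℂ) 1 =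
        (Nat.card G : ℂ) := by
      intro x hx
      rw [Finset.sum_comm]
      have h3 : ∀ y ∈ D', ∑ χ : IrrCharacter G, (χ : G → ℂ) (x * y) * (χ : G → ℂ) 1 =
          if y = x⁻¹ then (Nat.card G : ℂ) else 0 := by
        intro y _
        have h4 := Cfsg.Agent.Lib.Helper4.column_orthogonality (x * y) (1 : G)
        have h5 : ∑ χ : IrrCharacter G, (χ : G → ℂ) (x * y) * (χ : G → ℂ) 1 =
            ∑ χ : IrrCharacter G, (χ : G → ℂ) (x * y) * conj ((χ : G → ℂ) 1) := by
          apply Finset.sum_congr rfl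
          intro χ _
          rw [hdegreal]
        rw [h5, h4]
        by_cases hy : y = x⁻¹
        · rw [if_pos hy, if_pos]
          · rw [hy, mul_inv_cancel]
            congr 1
            have : Subgroup.centralizer ({(1 : G)} : Set G) = ⊤ := by
              ext z
              simp [Subgroup.mem_centralizer_iff]
            rw [this]
            exact Nat.card_congr Subgroup.topEquiv.toEquiv
          · rw [isConj_one_left, hy, mul_inv_cancel]
        · rw [if_neg hy, if_neg]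
          rw [isConj_one_left]
          intro h6
          exact hy (eq_inv_of_mul_eq_one_right h6)
      rw [Finset.sum_congr rfl h3, Finset.sum_ite_eq' D' x⁻¹]
      rw [if_pos]
      rw [hmemD', inv_inv]
      exact (hmemD x).mp hx
    rw [Finset.sum_congr rfl h2, Finset.sum_const, nsmul_eq_mul, hcardD, hcardG, hk]
    field_simp
  refine ⟨cD, ?_, ?_, ?_, hint, hsum0, hsum2⟩
  · intro φ ψ
    rw [hcDapp, hcDapp, hcDapp, ← mul_add, ← Finset.sum_add_distrib]
    rfl
  · rw [hcDapp]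
    simp only [Finset.sum_const, nsmul_eq_mul, mul_one]
    rw [hcardD, hk, mul_comm (Δ.card : ℂ), ← mul_assoc, inv_mul_cancel₀ hc, one_mul]
  · refine ⟨((∑ x ∈ D, Nat.card (MulAction.fixedBy Ω x) : ℕ) : ℚ) /
      (Nat.card (MulAction.stabilizer G a) : ℚ), ?_⟩
    rw [hcDapp, hk, hπ]
    push_cast
    rw [div_eq_inv_mul]

end Rel

end Cfsg.Agent.Lib.Helper10.RankThree
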