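import Mathlib

set_option autoImplicit false

namespace Cfsg.Agent.Lib.Helper10.RankThree

theorem int_of_isIntegral_rat (q : ℚ) (h : IsIntegral ℤ (q : ℂ)) : ∃ z : ℤ, (q : ℂ) = z := by
  have hq : (q : ℂ) = algebraMap ℚ ℂ q := by simp
  rw [hq, isIntegral_algebraMap_iff (algebraMap ℚ ℂ).injective] at h
  obtain ⟨z, hz⟩ := IsIntegrallyClosed.isIntegral_iff.mp h
  refine ⟨z, ?_⟩
  have h1 : (algebraMap ℤ ℚ z) = (z : ℚ) := rfl
  rw [h1] at hz
  rw [← hz]
  simp

theorem rank_three_arith (m k : ℕ) (t1 t2 : ℤ) (hm : 2 ≤ m) (hk1 : 1 ≤ k) (hk2 : k + 2 ≤ 2 * m)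
    (h1 : (k : ℤ) + ((m : ℤ) - 1) * t1 + (m : ℤ) * t2 = 0)
    (h2 : (k : ℤ) ^ 2 + ((m : ℤ) - 1) * t1 ^ 2 + (m : ℤ) * t2 ^ 2 = 2 * (m : ℤ) * (k : ℤ)) :
    k = 1 ∨ k + 2 = 2 * m ∨
      ∃ a : ℕ, m = 2 * a ^ 2 + 2 * a + 1 ∧ (k = a * (2 * a + 1) ∨ k = (a + 1) * (2 * a + 1)) := by
  obtain ⟨c, hc⟩ : ∃ c : ℤ, t2 = -c - t1 := ⟨-(t1 + t2), by ring⟩
  subst hc
  have hK : (k : ℤ) = t1 + (m : ℤ) * c := by linear_combination h1
  have hmpos : (0 : ℤ) < (m : ℤ) := by exact_mod_cast (by omega : 0 < m)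
  have hm2 : (2 : ℤ) ≤ (m : ℤ) := by exact_mod_cast hm
  have hP : (m : ℤ) * (2 * t1 ^ 2 + (4 * c - 2) * t1 + c ^ 2 + (m : ℤ) * c * (c - 2)) = 0 := by
    rw [hK] at h2
    linear_combination h2
  have hP0 : 2 * t1 ^ 2 + (4 * c - 2) * t1 + c ^ 2 + (m : ℤ) * c * (c - 2) = 0 := by
    rcases mul_eq_zero.mp hP with h | h
    · omega
    · exact h
  have hsq : (2 * t1 + 2 * c - 1) ^ 2 = 1 - 2 * ((m : ℤ) - 1) * (c * (c - 2)) := by
    linear_combination 2 * hP0
  have hsq1 : 1 ≤ (2 * t1 + 2 * c - 1) ^ 2 := by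
    have hne : 2 * t1 + 2 * c - 1 ≠ 0 := by omega
    have := pow_pos (abs_pos.mpr hne) 2
    rw [sq_abs] at this
    omega
  have hcc : c * (c - 2) ≤ 0 := by
    by_contra hcon
    push Not at hcon
    have : 0 < ((m : ℤ) - 1) * (c * (c - 2)) := mul_pos (by omega) hcon
    have h3 : 2 * ((m : ℤ) - 1) * (c * (c - 2)) = 2 * (((m : ℤ) - 1) * (c * (c - 2))) := by ring
    rw [h3] at hsq
    omega
  have hc0 : 0 ≤ c := by
    by_contra hcon
    push Not at hcon
    nlinarith
  have hc2 : c ≤ 2 := by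
    by_contra hcon
    push Not at hcon
    nlinarith
  have hkK : ((k : ℕ) : ℤ) = t1 + (m : ℤ) * c := hK
  interval_cases c
  · -- c = 0
    have h3 : t1 * (t1 - 1) = 0 := by
      have : 2 * (t1 * (t1 - 1)) = 0 := by linear_combination hP0
      omega
    rcases mul_eq_zero.mp h3 with h | h
    · exfalso
      rw [h] at hkK
      omega
    · left
      have : t1 = 1 := by omega
      rw [this] at hkK
      omega
  · -- c = 1
    right; right
    have hmval : (m : ℤ) = 2 * t1 ^ 2 + 2 * t1 + 1 := by linear_combination -hP0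
    rcases le_or_gt 0 t1 with hpos | hneg
    · obtain ⟨a, rfl⟩ := Int.eq_ofNat_of_zero_le hpos
      refine ⟨a, by exact_mod_cast hmval, Or.inr ?_⟩
      have : (k : ℤ) = ((a : ℤ) + 1) * (2 * (a : ℤ) + 1) := by
        rw [hkK, hmval]; ring
      exact_mod_cast this
    · have hpos' : 0 ≤ -t1 - 1 := by omega
      obtain ⟨a, ha⟩ := Int.eq_ofNat_of_zero_le hpos'
      have ht1 : t1 = -(a : ℤ) - 1 := by omega
      refine ⟨a, ?_, Or.inl ?_⟩
      · have : (m : ℤ) = 2 * (a : ℤ) ^ 2 + 2 * (a : ℤ) + 1 := by rw [hmval, ht1]; ring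
        exact_mod_cast this
      · have : (k : ℤ) = (a : ℤ) * (2 * (a : ℤ) + 1) := by
          rw [hkK, hmval, ht1]; ring
        exact_mod_cast this
  · -- c = 2
    have h3 : (t1 + 1) * (t1 + 2) = 0 := by
      have : 2 * ((t1 + 1) * (t1 + 2)) = 0 := by linear_combination hP0
      omega
    rcases mul_eq_zero.mp h3 with h | h
    · exfalso
      have : t1 = -1 := by omega
      rw [this] at hkK
      omega
    · right; left
      have : t1 = -2 := by omega
      rw [this] at hkK
      omega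

section Prim
variable {G : Type*} [Group G] [Finite G] {Ω : Type*} [MulAction G Ω]

/-- In a primitive group, if the stabilizer of `a₀` fixes another point then it fixes every
point. -/
theorem stabilizer_fixes_all (hprim : MulAction.IsPreprimitive G Ω) (a₀ b : Ω) (hb : b ≠ a₀)
    (hfix : ∀ h ∈ MulAction.stabilizer G a₀, h • b = b) :
    ∀ x : Ω, ∀ h ∈ MulAction.stabilizer G a₀, h • x = x := by
  classical
  have : MulAction.IsPretransitive G Ω := hprim.toIsPretransitive
  obtain ⟨H, hH⟩ : ∃ H : Subgroup G, H = MulAction.stabilizer G a₀ := ⟨_, rfl⟩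
  rw [← hH] at hfix ⊢
  have hcardstab : ∀ x : Ω, Nat.card (MulAction.stabilizer G x) = Nat.card H := by
    intro x
    obtain ⟨g, rfl⟩ := MulAction.exists_smul_eq G a₀ x
    rw [MulAction.stabilizer_smul_eq_stabilizer_map_conj, ← hH]
    exact Nat.card_congr
      (H.equivMapOfInjective _ (MulAut.conj g).injective).symm.toEquiv
  have hstabconj : ∀ (g : G) (x : Ω), MulAction.stabilizer G x = H →
      MulAction.stabilizer G (g • x) = H.map (MulAut.conj g).toMonoidHom := by
    intro g x hx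
    rw [MulAction.stabilizer_smul_eq_stabilizer_map_conj, hx]
  obtain ⟨B, hB⟩ : ∃ B : Set Ω, B = {x | MulAction.stabilizer G x = H} := ⟨_, rfl⟩
  have ha₀B : a₀ ∈ B := by rw [hB]; exact hH.symm
  have hbB : b ∈ B := by
    rw [hB]
    show MulAction.stabilizer G b = H
    symm
    apply Subgroup.eq_of_le_of_card_ge
    · intro h hh
      exact MulAction.mem_stabilizer_iff.mpr (hfix h hh)
    · rw [hcardstab b]
  have hblock : MulAction.IsBlock G B := by
    rw [MulAction.isBlock_iff_smul_eq_of_nonempty]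
    intro g hne
    obtain ⟨y, ⟨x, hxB, hxy⟩, hyB⟩ := hne
    rw [hB] at hxB hyB
    have hx : MulAction.stabilizer G x = H := hxB
    have hy : MulAction.stabilizer G y = H := hyB
    have hconj : H.map (MulAut.conj g).toMonoidHom = H := by
      rw [← hstabconj g x hx]
      have : g • x = y := hxy
      rw [this, hy]
    have hconj' : H.map (MulAut.conj g⁻¹).toMonoidHom = H := by
      conv_lhs => rw [← hconj]
      rw [Subgroup.map_map]
      have : (MulAut.conj g⁻¹).toMonoidHom.comp (MulAut.conj g).toMonoidHom = MonoidHom.id G := by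
        ext z
        simp [MulAut.conj_apply, mul_assoc]
      rw [this, Subgroup.map_id]
    ext z
    constructor
    · rintro ⟨w, hwB, rfl⟩
      rw [hB] at hwB ⊢
      show MulAction.stabilizer G (g • w) = H
      rw [hstabconj g w hwB, hconj]
    · intro hzB
      refine ⟨g⁻¹ • z, ?_, by simp⟩
      rw [hB] at hzB ⊢
      show MulAction.stabilizer G (g⁻¹ • z) = H
      rw [hstabconj g⁻¹ z hzB, hconj']
  rcases hprim.isTrivialBlock_of_isBlock hblock with hsub | htop
  · exact absurd (hsub hbB ha₀B) hb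
  · intro x h hh
    have hx : x ∈ B := by rw [htop]; exact Set.mem_univ x
    rw [hB] at hx
    have hx' : MulAction.stabilizer G x = H := hx
    rw [← hx'] at hh
    exact MulAction.mem_stabilizer_iff.mp hh

omit [Finite G] in
/-- If a subgroup fixes every point, its orbit space is in bijection with the set acted upon. -/
theorem card_quotient_of_fixes_all (H : Subgroup G)
    (hfix : ∀ x : Ω, ∀ h ∈ H, h • x = x) :
    Nat.card (MulAction.orbitRel.Quotient H Ω) = Nat.card Ω := by
  symm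
  apply Nat.card_congr
  refine Equiv.ofBijective (fun x => (Quotient.mk'' x : MulAction.orbitRel.Quotient H Ω)) ⟨?_, ?_⟩
  · intro x y hxy
    have h1 : x ∈ MulAction.orbit H y := by
      rw [← MulAction.orbitRel_apply]
      exact Quotient.exact hxy
    obtain ⟨h, hh⟩ := h1
    have h2 : (h : G) • y = x := hh
    rw [← h2, hfix y h h.2]
  · intro q
    induction q using Quotient.inductionOn' with
    | h x => exact ⟨x, rfl⟩

end Prim

end Cfsg.Agent.Lib.Helper10.RankThree
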