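import Mathlib

/-!
Regular normal subgroups of multiply primitive / multiply transitive groups (helper10).
-/

set_option autoImplicit false

namespace Cfsg.Agent.Lib.Helper10

open scoped Pointwise

section

variable {G : Type*} [Group G] {X : Type*} [MulAction G X] (N : Subgroup G)

/-- Regularity: `n ↦ n • x` is injective on `N`. -/
theorem regular_smul_inj (hreg : ∀ x : X, MulAction.stabilizer N x = ⊥) {x : X} {n₁ n₂ : G}
    (h₁ : n₁ ∈ N) (h₂ : n₂ ∈ N) (h : n₁ • x = n₂ • x) : n₁ = n₂ := by
  have hmem : (⟨n₂⁻¹ * n₁, N.mul_mem (N.inv_mem h₂) h₁⟩ : N) ∈ MulAction.stabilizer N x := by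
    rw [MulAction.mem_stabilizer_iff]
    show (n₂⁻¹ * n₁) • x = x
    rw [mul_smul, h, inv_smul_smul]
  rw [hreg x, Subgroup.mem_bot] at hmem
  have := congrArg Subtype.val hmem
  simp only [Subgroup.coe_one] at this
  exact (inv_mul_eq_one.mp this).symm

/-- Transitivity: every point is `n • x` with `n ∈ N`. -/
theorem exists_mem_smul_eq (htrans : MulAction.IsPretransitive N X) (x y : X) :
    ∃ n ∈ N, n • x = y := by
  obtain ⟨n, hn⟩ := htrans.exists_smul_eq x y
  exact ⟨n.1, n.2, hn⟩

/-- Conjugation formula for point stabilizers. -/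
theorem smul_smul_of_stab {g : G} (n : G) {x : X} (hg : g • x = x) :
    g • (n • x) = (g * n * g⁻¹) • x := by
  have : g⁻¹ • x = x := by rw [inv_smul_eq_iff, hg]
  rw [mul_smul, mul_smul, this]

/-- A regular transitive subgroup has the same cardinality as the set acted on. -/
theorem card_eq_of_regular (hreg : ∀ x : X, MulAction.stabilizer N x = ⊥)
    (htrans : MulAction.IsPretransitive N X) (x : X) : Nat.card N = Nat.card X := by
  apply Nat.card_congr
  refine Equiv.ofBijective (fun n : N => (n : G) • x) ⟨?_, ?_⟩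
  · intro a b hab
    exact Subtype.ext (regular_smul_inj N hreg a.2 b.2 hab)
  · intro y
    obtain ⟨n, hn, hny⟩ := exists_mem_smul_eq N htrans x y
    exact ⟨⟨n, hn⟩, hny⟩

/-- The key block lemma: if `G_x` is primitive on `X ∖ {x}` and `N` is a regular normal subgroup,
then every `n ∈ N` is an involution (or trivial), or `X ∖ {x} = {n • x, n⁻¹ • x}`. -/
theorem sq_eq_one_or_of_preprimitive [N.Normal] (hreg : ∀ x : X, MulAction.stabilizer N x = ⊥)
    (x : X)
    (hprim : MulAction.IsPreprimitive (fixingSubgroup G ({x} : Set X))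
      (SubMulAction.ofFixingSubgroup G ({x} : Set X)))
    (n : G) (hn : n ∈ N) (hn1 : n ≠ 1) :
    n ^ 2 = 1 ∨ ∀ y : X, y ≠ x → y = n • x ∨ y = n⁻¹ • x := by
  classical
  have hninv : n⁻¹ ∈ N := N.inv_mem hn
  have hnx : n • x ≠ x := fun h => hn1 (regular_smul_inj N hreg hn N.one_mem (by rw [h, one_smul]))
  have hnix : n⁻¹ • x ≠ x := fun h => by
    apply hn1
    have := regular_smul_inj N hreg hninv N.one_mem (by rw [h, one_smul])
    exact inv_eq_one.mp this
  -- the block
  let B : Set (SubMulAction.ofFixingSubgroup G ({x} : Set X)) :=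
    {y | (y : X) = n • x ∨ (y : X) = n⁻¹ • x}
  have hB : MulAction.IsBlock (fixingSubgroup G ({x} : Set X)) B := by
    rw [MulAction.isBlock_iff_smul_eq_of_nonempty]
    intro g hgB
    have hgx : (g : G) • x = x := by
      have := g.2
      rw [mem_fixingSubgroup_iff] at this
      exact this x rfl
    -- description of `g • B`
    have hmemg : ∀ y : SubMulAction.ofFixingSubgroup G ({x} : Set X), y ∈ g • B ↔
        ((y : X) = ((g : G) * n * (g : G)⁻¹) • x ∨ (y : X) = ((g : G) * n * (g : G)⁻¹)⁻¹ • x) := by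
      intro y
      rw [Set.mem_smul_set_iff_inv_smul_mem]
      show ((g⁻¹ • y : SubMulAction.ofFixingSubgroup G ({x} : Set X)) : X) = n • x ∨
        ((g⁻¹ • y : SubMulAction.ofFixingSubgroup G ({x} : Set X)) : X) = n⁻¹ • x ↔ _
      have e : ((g⁻¹ • y : SubMulAction.ofFixingSubgroup G ({x} : Set X)) : X) =
          (g : G)⁻¹ • (y : X) := rfl
      rw [e, inv_smul_eq_iff, inv_smul_eq_iff, smul_smul_of_stab n hgx, smul_smul_of_stab n⁻¹ hgx]
      have : ((g : G) * n * (g : G)⁻¹)⁻¹ = (g : G) * n⁻¹ * (g : G)⁻¹ := by group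
      rw [this]
    set m : G := (g : G) * n * (g : G)⁻¹ with hm
    have hmN : m ∈ N := ‹N.Normal›.conj_mem n hn g
    have hmiN : m⁻¹ ∈ N := N.inv_mem hmN
    obtain ⟨y, hy1, hy2⟩ := hgB
    rw [hmemg] at hy1
    have hset : (m = n ∨ m = n⁻¹) := by
      rcases hy1 with h1 | h1 <;> rcases hy2 with h2 | h2
      · left; exact regular_smul_inj N hreg hmN hn (h1.symm.trans h2)
      · right; exact regular_smul_inj N hreg hmN hninv (h1.symm.trans h2)
      · right
        have := regular_smul_inj N hreg hmiN hn (h1.symm.trans h2)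
        rw [← this, inv_inv]
      · left
        have := regular_smul_inj N hreg hmiN hninv (h1.symm.trans h2)
        exact inv_injective this
    ext z
    rw [hmemg]
    show _ ↔ ((z : X) = n • x ∨ (z : X) = n⁻¹ • x)
    rcases hset with h | h
    · rw [h]
    · rw [h, inv_inv]; exact or_comm
  rcases hprim.isTrivialBlock_of_isBlock hB with hsub | htop
  · left
    have h1 : (⟨n • x, by
        rw [SubMulAction.mem_ofFixingSubgroup_iff]; simpa using hnx⟩ :
        SubMulAction.ofFixingSubgroup G ({x} : Set X)) ∈ B := Or.inl rfl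
    have h2 : (⟨n⁻¹ • x, by
        rw [SubMulAction.mem_ofFixingSubgroup_iff]; simpa using hnix⟩ :
        SubMulAction.ofFixingSubgroup G ({x} : Set X)) ∈ B := Or.inr rfl
    have := congrArg Subtype.val (hsub h1 h2)
    have h3 : n = n⁻¹ := regular_smul_inj N hreg hn hninv this
    rw [pow_two]
    exact mul_eq_one_iff_eq_inv.mpr h3
  · right
    intro y hy
    have hmem : (⟨y, by rw [SubMulAction.mem_ofFixingSubgroup_iff]; simpa using hy⟩ :
        SubMulAction.ofFixingSubgroup G ({x} : Set X)) ∈ B := by rw [htop]; trivial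
    exact hmem

/-- Second block lemma: if `G_{x, n•x}` is primitive on the remaining points, `n` an involution of the
regular normal subgroup `N`, then `X = {x, n•x, m•x, nm•x}` for any `m ∈ N ∖ {1, n}`. -/
theorem all_of_preprimitive_pair [N.Normal] (hreg : ∀ x : X, MulAction.stabilizer N x = ⊥)
    (x : X) (n : G) (hn : n ∈ N) (hn1 : n ≠ 1) (hn2 : n ^ 2 = 1)
    (hprim : MulAction.IsPreprimitive (fixingSubgroup G ({x, n • x} : Set X))
      (SubMulAction.ofFixingSubgroup G ({x, n • x} : Set X)))
    (m : G) (hm : m ∈ N) (hm1 : m ≠ 1) (hmn : m ≠ n) :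
    ∀ y : X, y ≠ x → y ≠ n • x → y = m • x ∨ y = (n * m) • x := by
  classical
  have hnn : n * n = 1 := by rw [← pow_two]; exact hn2
  have hnm : n * m ∈ N := N.mul_mem hn hm
  have inj : ∀ {a b : G}, a ∈ N → b ∈ N → a • x = b • x → a = b :=
    fun ha hb h => regular_smul_inj N hreg ha hb h
  have hmx : m • x ≠ x := fun h => hm1 (inj hm N.one_mem (by rw [h, one_smul]))
  have hmnx : m • x ≠ n • x := fun h => hmn (inj hm hn h)
  have hnmx : (n * m) • x ≠ x := fun h => by
    have h1 : n * m = 1 := inj hnm N.one_mem (by rw [h, one_smul])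
    apply hmn
    calc m = n * (n * m) := by rw [← mul_assoc, hnn, one_mul]
      _ = n := by rw [h1, mul_one]
  have hnmnx : (n * m) • x ≠ n • x := fun h => by
    have h1 : n * m = n := inj hnm hn h
    exact hm1 (by simpa using h1)
  have hdist : m • x ≠ (n * m) • x := fun h => by
    have h1 : m = n * m := inj hm hnm h
    apply hn1
    have : n * m = 1 * m := by rw [one_mul]; exact h1.symm
    exact mul_right_cancel this
  let B : Set (SubMulAction.ofFixingSubgroup G ({x, n • x} : Set X)) :=
    {y | (y : X) = m • x ∨ (y : X) = (n * m) • x}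
  have hB : MulAction.IsBlock (fixingSubgroup G ({x, n • x} : Set X)) B := by
    rw [MulAction.isBlock_iff_smul_eq_of_nonempty]
    intro g hgB
    have hg := g.2
    rw [mem_fixingSubgroup_iff] at hg
    have hgx : (g : G) • x = x := hg x (by simp)
    have hgnx : (g : G) • (n • x) = n • x := hg (n • x) (by simp)
    have hgn : (g : G) * n * (g : G)⁻¹ = n := by
      apply inj (‹N.Normal›.conj_mem n hn g) hn
      rw [← smul_smul_of_stab n hgx, hgnx]
    set m' : G := (g : G) * m * (g : G)⁻¹ with hm'
    have hm'N : m' ∈ N := ‹N.Normal›.conj_mem m hm g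
    have hnm' : (g : G) * (n * m) * (g : G)⁻¹ = n * m' := by
      have e : (g : G) * (n * m) * (g : G)⁻¹ =
          ((g : G) * n * (g : G)⁻¹) * ((g : G) * m * (g : G)⁻¹) := by group
      rw [e, hgn]
    have hmemg : ∀ y : SubMulAction.ofFixingSubgroup G ({x, n • x} : Set X), y ∈ g • B ↔
        ((y : X) = m' • x ∨ (y : X) = (n * m') • x) := by
      intro y
      rw [Set.mem_smul_set_iff_inv_smul_mem]
      show ((g⁻¹ • y : SubMulAction.ofFixingSubgroup G ({x, n • x} : Set X)) : X) = m • x ∨
        ((g⁻¹ • y : SubMulAction.ofFixingSubgroup G ({x, n • x} : Set X)) : X) = (n * m) • x ↔ _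
      have e : ((g⁻¹ • y : SubMulAction.ofFixingSubgroup G ({x, n • x} : Set X)) : X) =
          (g : G)⁻¹ • (y : X) := rfl
      rw [e, inv_smul_eq_iff, inv_smul_eq_iff, smul_smul_of_stab m hgx,
        smul_smul_of_stab (n * m) hgx, hnm']
    obtain ⟨y, hy1, hy2⟩ := hgB
    rw [hmemg] at hy1
    have hset : (m' = m ∨ m' = n * m) := by
      rcases hy1 with h1 | h1 <;> rcases hy2 with h2 | h2
      · left; exact inj hm'N hm (h1.symm.trans h2)
      · right; exact inj hm'N hnm (h1.symm.trans h2)
      · right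
        have h3 : n * m' = m := inj (N.mul_mem hn hm'N) hm (h1.symm.trans h2)
        calc m' = n * (n * m') := by rw [← mul_assoc, hnn, one_mul]
          _ = n * m := by rw [h3]
      · left
        have h3 : n * m' = n * m := inj (N.mul_mem hn hm'N) hnm (h1.symm.trans h2)
        exact mul_left_cancel h3
    ext z
    rw [hmemg]
    show _ ↔ ((z : X) = m • x ∨ (z : X) = (n * m) • x)
    rcases hset with h | h
    · rw [h]
    · rw [h, ← mul_assoc, hnn, one_mul]; exact or_comm
  rcases hprim.isTrivialBlock_of_isBlock hB with hsub | htop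
  · exfalso
    have h1 : (⟨m • x, by
        rw [SubMulAction.mem_ofFixingSubgroup_iff]
        simp only [Set.mem_insert_iff, Set.mem_singleton_iff, not_or]
        exact ⟨hmx, hmnx⟩⟩ :
        SubMulAction.ofFixingSubgroup G ({x, n • x} : Set X)) ∈ B := Or.inl rfl
    have h2 : (⟨(n * m) • x, by
        rw [SubMulAction.mem_ofFixingSubgroup_iff]
        simp only [Set.mem_insert_iff, Set.mem_singleton_iff, not_or]
        exact ⟨hnmx, hnmnx⟩⟩ :
        SubMulAction.ofFixingSubgroup G ({x, n • x} : Set X)) ∈ B := Or.inr rfl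
    exact hdist (congrArg Subtype.val (hsub h1 h2))
  · intro y hy hy'
    have hmem : (⟨y, by
        rw [SubMulAction.mem_ofFixingSubgroup_iff]
        simp only [Set.mem_insert_iff, Set.mem_singleton_iff, not_or]
        exact ⟨hy, hy'⟩⟩ :
        SubMulAction.ofFixingSubgroup G ({x, n • x} : Set X)) ∈ B := by rw [htop]; trivial
    exact hmem

end

end Cfsg.Agent.Lib.Helper10
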