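import Mathlib

set_option autoImplicit false

namespace Cfsg.Agent.Lib.Helper10.Rs

open Matrix

universe u

variable {F : Type u} [Field F]


theorem val_card_GL_p [Fintype F] (p : ℕ) [hp : Fact p.Prime] (hpq : ¬ p ∣ Fintype.card F) (N : ℕ) :
    (Nat.card (GL (Fin N) F)).factorization p =
      ∑ e ∈ Finset.range N, padicValNat p (Fintype.card F ^ (e + 1) - 1) := by
  set q := Fintype.card F with hqdef
  have hq2 : 2 ≤ q := Fintype.one_lt_card
  let w : ℕ → ℕ := fun j => padicValNat p (q ^ j - 1)
  rw [Matrix.card_GL_field, Nat.factorization_prod, Finsupp.finsetSum_apply]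
  · have hterm : ∀ i : Fin N, (q ^ N - q ^ (i : ℕ)).factorization p = w (N - i) := by
      intro i
      have hi : (i : ℕ) < N := i.2
      have e1 : q ^ N - q ^ (i : ℕ) = q ^ (i : ℕ) * (q ^ (N - i) - 1) := by
        rw [Nat.mul_sub, mul_one, ← pow_add]
        congr 2
        omega
      have hqi : q ^ (i : ℕ) ≠ 0 := by positivity
      have hne : q ^ (N - (i : ℕ)) - 1 ≠ 0 := by
        have : 2 ≤ q ^ (N - (i : ℕ)) := by
          calc 2 ≤ q := hq2
            _ = q ^ 1 := (pow_one q).symm
            _ ≤ q ^ (N - (i : ℕ)) := Nat.pow_le_pow_right (by omega) (by omega)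
        omega
      rw [Nat.factorization_def _ hp.out, e1, padicValNat.mul hqi hne]
      have : padicValNat p (q ^ (i : ℕ)) = 0 := by
        apply padicValNat.eq_zero_of_not_dvd
        intro h
        exact hpq (hp.out.dvd_of_dvd_pow h)
      rw [this, zero_add]
    rw [Finset.sum_congr rfl (fun i _ => hterm i)]
    rw [Fin.sum_univ_eq_sum_range (fun i => w (N - i)) N]
    have h2 : ∀ j ∈ Finset.range N, w (N - j) = (fun e => w (e + 1)) (N - 1 - j) := by
      intro j hj
      rw [Finset.mem_range] at hj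
      show w (N - j) = w (N - 1 - j + 1)
      congr 1
      omega
    rw [Finset.sum_congr rfl h2]
    exact Finset.sum_range_reflect (fun e => w (e + 1)) N
  · intro i _
    have hi : (i : ℕ) < N := i.2
    have : q ^ (i : ℕ) < q ^ N := Nat.pow_lt_pow_right (by omega) hi
    show q ^ N - q ^ (i : ℕ) ≠ 0
    omega

theorem val_card_GL_prime [Fintype F] (p : ℕ) [hp : Fact p.Prime] (hp2 : p ≠ 2)
    (h1 : p ∣ Fintype.card F - 1) (h2 : ¬ p ^ 2 ∣ Fintype.card F - 1) :
    (Nat.card (GL (Fin p) F)).factorization p = p + 1 := by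
  set q := Fintype.card F with hqdef
  have hq2 : 2 ≤ q := Fintype.one_lt_card
  have hpp := hp.out
  have hpq : ¬ p ∣ q := by
    intro h
    have : p ∣ q - (q - 1) := Nat.dvd_sub h h1
    have e : q - (q - 1) = 1 := by omega
    rw [e] at this
    exact hpp.one_lt.ne' (Nat.dvd_one.mp this)
  rw [val_card_GL_p p hpq p]
  have hodd : Odd p := hpp.odd_of_ne_two hp2
  have hv1 : padicValNat p (q - 1) = 1 := by
    have hne : q - 1 ≠ 0 := by omega
    have ha : 1 ≤ padicValNat p (q - 1) := one_le_padicValNat_of_dvd hne h1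
    have hb : ¬ 2 ≤ padicValNat p (q - 1) := by
      intro h
      apply h2
      exact (padicValNat_dvd_iff_le hne).mpr h
    omega
  have hterm : ∀ e ∈ Finset.range p, padicValNat p (q ^ (e + 1) - 1) = 1 + padicValNat p (e + 1) := by
    intro e _
    have := padicValNat.pow_sub_pow (x := q) (y := 1) (p := p) hodd (by omega) h1 hpq
      (n := e + 1) (by omega)
    rw [one_pow] at this
    rw [this, hv1]
  rw [Finset.sum_congr rfl hterm, Finset.sum_add_distrib, Finset.sum_const, Finset.card_range,
    smul_eq_mul, mul_one]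
  congr 1
  -- ∑ e < p, v_p(e+1) = 1
  have hp0 : p = (p - 1) + 1 := by have := hpp.one_lt; omega
  rw [hp0, Finset.sum_range_succ]
  have hz : ∀ e ∈ Finset.range (p - 1), padicValNat (p - 1 + 1) (e + 1) = 0 := by
    intro e he
    rw [Finset.mem_range] at he
    apply padicValNat.eq_zero_of_not_dvd
    intro h
    have := Nat.le_of_dvd (by omega) h
    omega
  rw [Finset.sum_eq_zero hz, zero_add]
  rw [← hp0]
  exact padicValNat_self

end Cfsg.Agent.Lib.Helper10.Rs
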