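import Mathlib

set_option autoImplicit false

namespace Cfsg.Agent.Lib.Helper10.Rs

open Matrix

universe u

variable {F : Type u} [Field F]

variable {n : ℕ} [NeZero n]

/-- monomial matrix: `Nmat d j` sends `e_b ↦ d (b + j) • e_(b+j)` -/
def Nmat (d : Fin n → F) (j : Fin n) : Matrix (Fin n) (Fin n) F :=
  fun a b => if a = b + j then d a else 0

theorem Nmat_apply (d : Fin n → F) (j a b : Fin n) :
    Nmat d j a b = if a = b + j then d a else 0 := rfl

theorem Nmat_mul (d d' : Fin n → F) (j j' : Fin n) :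
    Nmat d j * Nmat d' j' = Nmat (fun a => d a * d' (a - j)) (j' + j) := by
  ext a c
  rw [Matrix.mul_apply, Finset.sum_eq_single (a - j)]
  · simp only [Nmat_apply, sub_add_cancel, if_true]
    by_cases h : a = c + (j' + j)
    · have h2 : a - j = c + j' := by rw [h]; abel
      rw [if_pos h, if_pos h2]
    · have h2 : ¬ a - j = c + j' := by
        intro h3
        apply h
        rw [← sub_add_cancel a j, h3]; abel
      rw [if_neg h, if_neg h2, mul_zero]
  · intro b _ hb
    have : ¬ a = b + j := by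
      intro h
      apply hb
      rw [h]; abel
    rw [Nmat_apply, if_neg this, zero_mul]
  · intro h
    exact absurd (Finset.mem_univ _) h

theorem Nmat_one : Nmat (fun _ => (1 : F)) (0 : Fin n) = 1 := by
  ext a b
  rw [Nmat_apply, Matrix.one_apply, add_zero]

/-- the monomial matrix as an element of `GL`. -/
def Ng (d : Fin n → Fˣ) (j : Fin n) : GL (Fin n) F :=
  ⟨Nmat (fun a => (d a : F)) j, Nmat (fun a => (((d (a + j))⁻¹ : Fˣ) : F)) (-j), by
    rw [Nmat_mul]
    have : (fun a => (d a : F) * (((d (a - j + j))⁻¹ : Fˣ) : F)) = fun _ => (1 : F) := by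
      funext a
      rw [sub_add_cancel, ← Units.val_mul, mul_inv_cancel, Units.val_one]
    rw [this, neg_add_cancel, Nmat_one], by
    rw [Nmat_mul]
    have : (fun a => (((d (a + j))⁻¹ : Fˣ) : F) * (d (a - -j) : F)) = fun _ => (1 : F) := by
      funext a
      rw [sub_neg_eq_add, ← Units.val_mul, inv_mul_cancel, Units.val_one]
    rw [this, add_neg_cancel, Nmat_one]⟩

theorem Ng_val (d : Fin n → Fˣ) (j : Fin n) :
    ((Ng d j : GL (Fin n) F) : Matrix (Fin n) (Fin n) F) = Nmat (fun a => (d a : F)) j := rfl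

theorem Ng_apply (d : Fin n → Fˣ) (j a b : Fin n) :
    ((Ng d j : GL (Fin n) F) : Matrix (Fin n) (Fin n) F) a b = if a = b + j then (d a : F) else 0 := rfl

theorem Ng_mul (d d' : Fin n → Fˣ) (j j' : Fin n) :
    Ng d j * Ng d' j' = Ng (fun a => d a * d' (a - j)) (j' + j) := by
  apply Units.ext
  rw [Units.val_mul, Ng_val, Ng_val, Ng_val, Nmat_mul]
  rfl

theorem Ng_one : Ng (fun _ => (1 : Fˣ)) (0 : Fin n) = (1 : GL (Fin n) F) := by
  apply Units.ext
  rw [Ng_val, Units.val_one]
  exact Nmat_one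

theorem Ng_inv (d : Fin n → Fˣ) (j : Fin n) :
    (Ng d j)⁻¹ = Ng (fun a => (d (a + j))⁻¹) (-j) := by
  apply inv_eq_of_mul_eq_one_right
  rw [Ng_mul]
  have : (fun a => d a * (d (a - j + j))⁻¹) = fun _ => (1 : Fˣ) := by
    funext a
    rw [sub_add_cancel, mul_inv_cancel]
  rw [this, neg_add_cancel, Ng_one]

theorem Ng_injective (d d' : Fin n → Fˣ) (j j' : Fin n) (h : Ng d j = Ng d' j') :
    d = d' ∧ j = j' := by
  have hv : ∀ a b, (if a = b + j then (d a : F) else 0) = if a = b + j' then (d' a : F) else 0 := by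
    intro a b
    rw [← Ng_apply, ← Ng_apply, h]
  have hj : j = j' := by
    have := hv (0 + j) 0
    rw [if_pos rfl] at this
    by_contra hne
    rw [if_neg] at this
    · exact (d (0 + j)).ne_zero this
    · intro h2
      exact hne (add_left_cancel h2)
  refine ⟨?_, hj⟩
  funext a
  have := hv a (a - j)
  rw [← hj, sub_add_cancel, if_pos rfl, if_pos rfl] at this
  exact Units.ext this

/-- The group `C_m wr C_n`-like group of monomial matrices with `m`-torsion entries and cyclic shifts. -/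
def Q0 (F : Type u) [Field F] (n : ℕ) [NeZero n] (m : ℕ) : Subgroup (GL (Fin n) F) where
  carrier := {g | ∃ d : Fin n → Fˣ, (∀ a, d a ^ m = 1) ∧ ∃ j : Fin n, g = Ng d j}
  mul_mem' := by
    rintro _ _ ⟨d, hd, j, rfl⟩ ⟨d', hd', j', rfl⟩
    refine ⟨fun a => d a * d' (a - j), ?_, j' + j, Ng_mul d d' j j'⟩
    intro a
    rw [mul_pow, hd, hd', one_mul]
  one_mem' := ⟨fun _ => 1, fun _ => one_pow _, 0, Ng_one.symm⟩
  inv_mem' := by
    rintro _ ⟨d, hd, j, rfl⟩
    refine ⟨fun a => (d (a + j))⁻¹, ?_, -j, Ng_inv d j⟩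
    intro a
    rw [inv_pow, hd, inv_one]

theorem mem_Q0 {m : ℕ} (g : GL (Fin n) F) :
    g ∈ Q0 F n m ↔ ∃ d : Fin n → Fˣ, (∀ a, d a ^ m = 1) ∧ ∃ j : Fin n, g = Ng d j := Iff.rfl

theorem card_Q0 [Finite F] (m : ℕ) [NeZero m] :
    Nat.card (Q0 F n m) = (Nat.card (rootsOfUnity m F)) ^ n * n := by
  let f : (Fin n → rootsOfUnity m F) × Fin n → GL (Fin n) F :=
    fun x => Ng (fun a => ((x.1 a : rootsOfUnity m F) : Fˣ)) x.2
  have hf : Function.Injective f := by
    rintro ⟨d, j⟩ ⟨d', j'⟩ h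
    obtain ⟨h1, h2⟩ := Ng_injective _ _ _ _ h
    have h3 : d = d' := by
      funext a
      exact Subtype.ext (congrFun h1 a)
    have h2' : j = j' := h2
    rw [h3, h2']
  have hr : ((Q0 F n m : Subgroup (GL (Fin n) F)) : Set (GL (Fin n) F)) = Set.range f := by
    ext g
    constructor
    · rintro ⟨d, hd, j, rfl⟩
      refine ⟨(fun a => ⟨d a, ?_⟩, j), rfl⟩
      rw [mem_rootsOfUnity]
      exact hd a
    · rintro ⟨⟨d, j⟩, rfl⟩
      refine ⟨fun a => ((d a : rootsOfUnity m F) : Fˣ), ?_, j, rfl⟩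
      intro a
      have := (d a).2
      rw [mem_rootsOfUnity] at this
      exact this
  have e1 : Nat.card (Q0 F n m) = Nat.card (Set.range f) :=
    Nat.card_congr (Equiv.setCongr hr)
  rw [e1, ← Nat.card_congr (Equiv.ofInjective f hf), Nat.card_prod, Nat.card_fun, Nat.card_fin]

end Cfsg.Agent.Lib.Helper10.Rs
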