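import Mathlib
import Cfsg.Agent.Lib.Helper10.RsA
import Cfsg.Agent.Lib.Helper10.RsB

set_option autoImplicit false

namespace Cfsg.Agent.Lib.Helper10.Rs

open Matrix Pointwise

universe u

variable {F : Type u} [Field F]

theorem exists_prim [Fintype F] (p : ℕ) [hp : Fact p.Prime] (h1 : p ∣ Fintype.card F - 1) :
    ∃ ζ : Fˣ, orderOf ζ = p := by
  classical
  apply exists_prime_orderOf_dvd_card p
  rw [Fintype.card_units]
  exact h1

theorem card_roots [Fintype F] (p : ℕ) [hp : Fact p.Prime] (h1 : p ∣ Fintype.card F - 1) :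
    Nat.card (rootsOfUnity p F) = p := by
  obtain ⟨ζ, hζ⟩ := exists_prim (F := F) p h1
  have : NeZero p := ⟨hp.out.ne_zero⟩
  have h2 : IsPrimitiveRoot ζ p := by
    have := IsPrimitiveRoot.orderOf ζ
    rwa [hζ] at this
  have h3 : IsPrimitiveRoot (ζ : F) p := IsPrimitiveRoot.coe_units_iff.mpr h2
  exact h3.card_rootsOfUnity

theorem card_Q0_prime [Fintype F] (p : ℕ) [hp : Fact p.Prime] [NeZero p] (h1 : p ∣ Fintype.card F - 1) :
    Nat.card (Q0 F p p) = p ^ (p + 1) := by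
  rw [card_Q0, card_roots p h1, pow_succ]

/-- The explicit Sylow subgroup. -/
noncomputable def Qsyl [Fintype F] (p : ℕ) [hp : Fact p.Prime] [NeZero p] (hp2 : p ≠ 2)
    (h1 : p ∣ Fintype.card F - 1) (h2 : ¬ p ^ 2 ∣ Fintype.card F - 1) :
    Sylow p (GL (Fin p) F) :=
  Sylow.ofCard (Q0 F p p) (by rw [card_Q0_prime p h1, val_card_GL_prime p hp2 h1 h2])

theorem Qsyl_coe [Fintype F] (p : ℕ) [hp : Fact p.Prime] [NeZero p] (hp2 : p ≠ 2)
    (h1 : p ∣ Fintype.card F - 1) (h2 : ¬ p ^ 2 ∣ Fintype.card F - 1) :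
    ((Qsyl p hp2 h1 h2 : Sylow p (GL (Fin p) F)) : Subgroup (GL (Fin p) F)) = Q0 F p p := rfl

/-- "monomial": at most one nonzero entry in each row and each column -/
def Mono {n : ℕ} (M : Matrix (Fin n) (Fin n) F) : Prop :=
  (∀ i j k, M i j ≠ 0 → M i k ≠ 0 → j = k) ∧ (∀ i j k, M j i ≠ 0 → M k i ≠ 0 → j = k)

theorem mono_of_mem {n m : ℕ} [NeZero n] (g : GL (Fin n) F) (hg : g ∈ Q0 F n m) :
    Mono (g : Matrix (Fin n) (Fin n) F) := by
  obtain ⟨d, _, j, rfl⟩ := hg
  constructor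
  · intro a b c hb hc
    rw [Ng_apply] at hb hc
    have h1 : a = b + j := by
      by_contra h
      rw [if_neg h] at hb
      exact hb rfl
    have h2 : a = c + j := by
      by_contra h
      rw [if_neg h] at hc
      exact hc rfl
    rw [h1] at h2
    exact add_right_cancel h2
  · intro a b c hb hc
    rw [Ng_apply] at hb hc
    have h1 : b = a + j := by
      by_contra h
      rw [if_neg h] at hb
      exact hb rfl
    have h2 : c = a + j := by
      by_contra h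
      rw [if_neg h] at hc
      exact hc rfl
    rw [h1, h2]

/-- Key transfer lemma: if `g⁻¹ x g ∈ Q0` and `g` does not normalize `Q0` then `x` lies in
another Sylow subgroup. -/
theorem two_sylow [Fintype F] (p : ℕ) [hp : Fact p.Prime] [NeZero p] (hp2 : p ≠ 2)
    (h1 : p ∣ Fintype.card F - 1) (h2 : ¬ p ^ 2 ∣ Fintype.card F - 1)
    (x g : GL (Fin p) F) (hx : g⁻¹ * x * g ∈ Q0 F p p)
    (hg : g ∉ Subgroup.normalizer ((Q0 F p p : Subgroup (GL (Fin p) F)) : Set (GL (Fin p) F))) :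
    ∃ P : Sylow p (GL (Fin p) F), P ≠ Qsyl p hp2 h1 h2 ∧ x ∈ P := by
  refine ⟨g • Qsyl p hp2 h1 h2, ?_, ?_⟩
  · intro h
    rw [Sylow.smul_eq_iff_mem_normalizer] at h
    exact hg h
  · rw [Sylow.smul_def]
    change x ∈ ((MulAut.conj g • Qsyl p hp2 h1 h2 : Sylow p (GL (Fin p) F)) : Subgroup (GL (Fin p) F))
    rw [Sylow.pointwise_smul_def, Subgroup.mem_pointwise_smul_iff_inv_smul_mem, Qsyl_coe]
    have : (MulAut.conj g)⁻¹ • x = g⁻¹ * x * g := by
      rw [MulAut.smul_def, ← map_inv, MulAut.conj_apply, inv_inv]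
    rw [this]
    exact hx

/-- non-normalizing criterion -/
theorem not_mem_normalizer {n m : ℕ} [NeZero n] (g y : GL (Fin n) F) (hy : y ∈ Q0 F n m)
    (hM : ¬ Mono ((g * y * g⁻¹ : GL (Fin n) F) : Matrix (Fin n) (Fin n) F)) :
    g ∉ Subgroup.normalizer ((Q0 F n m : Subgroup (GL (Fin n) F)) : Set (GL (Fin n) F)) := by
  intro h
  rw [Subgroup.mem_normalizer_iff] at h
  exact hM (mono_of_mem _ ((h y).mp hy))

end Cfsg.Agent.Lib.Helper10.Rs
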