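import Mathlib
import Cfsg.Agent.Lib.Helper10.RsC

set_option autoImplicit false

namespace Cfsg.Agent.Lib.Helper10.Rs

open Matrix Pointwise

universe u

variable {F : Type u} [Field F]

theorem exists_ne_pair {H : Type*} [Finite H] (h : 3 ≤ Nat.card H) (a b : H) :
    ∃ c : H, c ≠ a ∧ c ≠ b := by
  classical
  by_contra hcon
  push Not at hcon
  let f : H → Bool := fun c => decide (c = a)
  have hf : Function.Injective f := by
    intro c c' hcc
    by_cases hc : c = a
    · have : c' = a := by
        by_contra hc'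
        simp [f, hc, hc'] at hcc
      rw [hc, this]
    · have hc' : c' ≠ a := by
        intro hc'
        simp [f, hc, hc'] at hcc
      rw [hcon c hc, hcon c' hc']
  have h1 := Nat.card_le_card_of_injective f hf
  rw [Nat.card_eq_fintype_card (α := Bool), Fintype.card_bool] at h1
  omega

variable {n : ℕ}

/-- transvection as element of GL -/
def Tg (i k : Fin n) (hik : i ≠ k) (c : F) : GL (Fin n) F :=
  ⟨transvection i k c, transvection i k (-c),
    by rw [transvection_mul_transvection_same _ _ hik, add_neg_cancel, transvection_zero],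
    by rw [transvection_mul_transvection_same _ _ hik, neg_add_cancel, transvection_zero]⟩

theorem Tg_val (i k : Fin n) (hik : i ≠ k) (c : F) :
    ((Tg i k hik c : GL (Fin n) F) : Matrix (Fin n) (Fin n) F) = transvection i k c := rfl

theorem Tg_inv_val (i k : Fin n) (hik : i ≠ k) (c : F) :
    (((Tg i k hik c)⁻¹ : GL (Fin n) F) : Matrix (Fin n) (Fin n) F) = transvection i k (-c) := rfl

theorem Nmat_zero_eq [NeZero n] (d : Fin n → F) : Nmat d 0 = Matrix.diagonal d := by
  ext a b
  rw [Nmat_apply, add_zero, Matrix.diagonal_apply]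

theorem diag_comm_transvection (d : Fin n → F) (i k : Fin n) (h : d i = d k) (c : F) :
    Matrix.diagonal d * transvection i k c = transvection i k c * Matrix.diagonal d := by
  ext a b
  rw [Matrix.diagonal_mul, Matrix.mul_diagonal, transvection, Matrix.add_apply, Matrix.one_apply,
    Matrix.single_apply]
  by_cases hab : a = b
  · subst hab; ring
  · rw [if_neg hab, zero_add]
    by_cases h2 : i = a ∧ k = b
    · obtain ⟨rfl, rfl⟩ := h2
      rw [if_pos ⟨rfl, rfl⟩, h]; ring
    · rw [if_neg h2]; ring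

theorem Tg_comm [NeZero n] (d : Fin n → Fˣ) (i k : Fin n) (hik : i ≠ k) (h : d i = d k) (c : F) :
    (Tg i k hik c)⁻¹ * Ng d 0 * Tg i k hik c = Ng d 0 := by
  have h1 : Ng d 0 * Tg i k hik c = Tg i k hik c * Ng d 0 := by
    apply Units.ext
    rw [Units.val_mul, Units.val_mul, Ng_val, Tg_val, Nmat_zero_eq]
    apply diag_comm_transvection
    rw [h]
  rw [mul_assoc, h1, ← mul_assoc, inv_mul_cancel, one_mul]

theorem Tg_not_normalizer [NeZero n] {m : ℕ} (i k : Fin n) (hik : i ≠ k) (ζ : Fˣ) (hζ : ζ ^ m = 1)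
    (hζ1 : ζ ≠ 1) :
    Tg i k hik (1 : F) ∉
      Subgroup.normalizer ((Q0 F n m : Subgroup (GL (Fin n) F)) : Set (GL (Fin n) F)) := by
  classical
  let d' : Fin n → Fˣ := Function.update (fun _ => (1 : Fˣ)) i ζ
  have hd'i : d' i = ζ := Function.update_self ..
  have hd'k : d' k = 1 := by
    show Function.update (fun _ => (1 : Fˣ)) i ζ k = 1
    rw [Function.update_of_ne hik.symm]
  apply not_mem_normalizer _ (Ng d' 0)
  · refine ⟨d', ?_, 0, rfl⟩
    intro a
    by_cases ha : a = i
    · rw [ha, hd'i, hζ]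
    · show (Function.update (fun _ => (1 : Fˣ)) i ζ a) ^ m = 1
      rw [Function.update_of_ne ha, one_pow]
  · intro hM
    have hval : ((Tg i k hik (1 : F) * Ng d' 0 * (Tg i k hik (1 : F))⁻¹ : GL (Fin n) F) :
        Matrix (Fin n) (Fin n) F) =
        transvection i k (1 : F) * (Matrix.diagonal (fun a => (d' a : F)) * transvection i k (-1 : F)) := by
      rw [Units.val_mul, Units.val_mul, Tg_val, Tg_inv_val, Ng_val, Nmat_zero_eq, Matrix.mul_assoc]
    have e1 : ((Tg i k hik (1 : F) * Ng d' 0 * (Tg i k hik (1 : F))⁻¹ : GL (Fin n) F) :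
        Matrix (Fin n) (Fin n) F) i i = (ζ : F) := by
      rw [hval, transvection_mul_apply_same, Matrix.diagonal_mul, Matrix.diagonal_mul, hd'i, hd'k]
      simp [transvection, Matrix.one_apply, Matrix.single_apply, hik, hik.symm]
    have e2 : ((Tg i k hik (1 : F) * Ng d' 0 * (Tg i k hik (1 : F))⁻¹ : GL (Fin n) F) :
        Matrix (Fin n) (Fin n) F) i k = 1 - (ζ : F) := by
      rw [hval, transvection_mul_apply_same, Matrix.diagonal_mul, Matrix.diagonal_mul, hd'i, hd'k]
      simp [transvection, Matrix.one_apply, Matrix.single_apply, hik, hik.symm]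
      ring
    have h3 := hM.1 i i k (by rw [e1]; exact ζ.ne_zero) (by
      rw [e2]
      intro h
      apply hζ1
      apply Units.ext
      rw [Units.val_one]
      exact (sub_eq_zero.mp h).symm)
    exact hik h3

/-- Case (i): a diagonal element with a repeated entry lies in two Sylow subgroups. -/
theorem case_rep [Fintype F] (p : ℕ) [hp : Fact p.Prime] [NeZero p] (hp2 : p ≠ 2)
    (h1 : p ∣ Fintype.card F - 1) (h2 : ¬ p ^ 2 ∣ Fintype.card F - 1)
    (d : Fin p → Fˣ) (hd : ∀ a, d a ^ p = 1) (i k : Fin p) (hik : i ≠ k) (h : d i = d k) :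
    ∃ P : Sylow p (GL (Fin p) F), P ≠ Qsyl p hp2 h1 h2 ∧ Ng d 0 ∈ P := by
  obtain ⟨ζ, hζ⟩ := exists_prim (F := F) p h1
  have hζp : ζ ^ p = 1 := by rw [← hζ]; exact pow_orderOf_eq_one ζ
  have hζ1 : ζ ≠ 1 := by
    intro h
    rw [h, orderOf_one] at hζ
    exact hp.out.one_lt.ne hζ
  apply two_sylow p hp2 h1 h2 (Ng d 0) (Tg i k hik (1 : F))
  · rw [Tg_comm d i k hik h]
    exact ⟨d, hd, 0, rfl⟩
  · exact Tg_not_normalizer i k hik ζ hζp hζ1

end Cfsg.Agent.Lib.Helper10.Rs
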