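import Mathlib
import Cfsg.Agent.Lib.Helper10.RsD

set_option autoImplicit false

namespace Cfsg.Agent.Lib.Helper10.Rs

open Matrix Pointwise

universe u

variable {F : Type u} [Field F]

variable {n : ℕ}

theorem pow_mod_of (e : F) (p : ℕ) (he : e ^ p = 1) (m : ℕ) : e ^ (m % p) = e ^ m := by
  conv_rhs => rw [← Nat.div_add_mod m p, pow_add, pow_mul, he, one_pow, one_mul]

theorem vand_conj [NeZero n] (e : Fin n → F) (he : ∀ a, e a ^ n = 1) :
    Matrix.diagonal e * Matrix.vandermonde e =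
      Matrix.vandermonde e * Nmat (fun _ => (1 : F)) 1 := by
  ext a b
  rw [Matrix.diagonal_mul, Matrix.vandermonde_apply, Matrix.mul_apply,
    Finset.sum_eq_single (b + 1)]
  · rw [Nmat_apply, if_pos rfl, mul_one, Matrix.vandermonde_apply, ← pow_succ', Fin.val_add,
      Fin.val_one', Nat.add_mod_mod, pow_mod_of _ _ (he a)]
  · intro c _ hc
    rw [Nmat_apply, if_neg hc, mul_zero]
  · intro h
    exact absurd (Finset.mem_univ _) h

theorem conj_diag_update (g V : Matrix (Fin n) (Fin n) F) (hgV : g * V = 1) (i : Fin n) (z : F)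
    (a b : Fin n) :
    (g * Matrix.diagonal (Function.update (fun _ => (1 : F)) i z) * V) a b =
      (1 : Matrix (Fin n) (Fin n) F) a b + g a i * (z - 1) * V i b := by
  rw [Matrix.mul_apply]
  have h1 : ∀ c ∈ Finset.univ, (g * Matrix.diagonal (Function.update (fun _ => (1 : F)) i z)) a c * V c b =
      g a c * V c b + (if c = i then g a i * (z - 1) * V i b else 0) := by
    intro c _
    rw [Matrix.mul_diagonal]
    by_cases hc : c = i
    · subst hc
      rw [Function.update_self, if_pos rfl]; ring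
    · rw [Function.update_of_ne hc, if_neg hc]; ring
  rw [Finset.sum_congr rfl h1, Finset.sum_add_distrib, ← Matrix.mul_apply, hgV,
    Finset.sum_ite_eq' Finset.univ i, if_pos (Finset.mem_univ _)]

/-- Vandermonde element of GL. -/
noncomputable def Wg (e : Fin n → F) (he : Function.Injective e) : GL (Fin n) F :=
  Matrix.GeneralLinearGroup.mkOfDetNeZero (Matrix.vandermonde e)
    (Matrix.det_vandermonde_ne_zero_iff.mpr he)

theorem Wg_val (e : Fin n → F) (he : Function.Injective e) :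
    ((Wg e he : GL (Fin n) F) : Matrix (Fin n) (Fin n) F) = Matrix.vandermonde e := rfl

theorem coe_update_one (i : Fin n) (ζ : Fˣ) :
    (fun a => ((Function.update (fun _ => (1 : Fˣ)) i ζ a : Fˣ) : F)) =
      Function.update (fun _ => (1 : F)) i (ζ : F) := by
  funext a
  by_cases ha : a = i
  · subst ha
    rw [Function.update_self, Function.update_self]
  · rw [Function.update_of_ne ha, Function.update_of_ne ha, Units.val_one]

theorem update_mem_Q0 [NeZero n] {m : ℕ} (i : Fin n) (ζ : Fˣ) (hζ : ζ ^ m = 1) :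
    Ng (Function.update (fun _ => (1 : Fˣ)) i ζ) 0 ∈ Q0 F n m := by
  refine ⟨_, ?_, 0, rfl⟩
  intro a
  by_cases ha : a = i
  · subst ha
    rw [Function.update_self, hζ]
  · rw [Function.update_of_ne ha, one_pow]

theorem vand_not_normalizer [NeZero n] (hn : 3 ≤ n) {m : ℕ} (e : Fin n → F)
    (he : Function.Injective e) (ζ : Fˣ) (hζ : ζ ^ m = 1) (hζ1 : ζ ≠ 1) :
    Wg e he ∉
      Subgroup.normalizer ((Q0 F n m : Subgroup (GL (Fin n) F)) : Set (GL (Fin n) F)) := by
  classical
  apply not_mem_normalizer _ (Ng (Function.update (fun _ => (1 : Fˣ)) 0 ζ) 0) (update_mem_Q0 0 ζ hζ)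
  intro hM
  set g := Wg e he with hg
  have hgV : (g : Matrix (Fin n) (Fin n) F) * ((g⁻¹ : GL (Fin n) F) : Matrix (Fin n) (Fin n) F) = 1 := by
    rw [← Units.val_mul, mul_inv_cancel, Units.val_one]
  have hVg : ((g⁻¹ : GL (Fin n) F) : Matrix (Fin n) (Fin n) F) * (g : Matrix (Fin n) (Fin n) F) = 1 := by
    rw [← Units.val_mul, inv_mul_cancel, Units.val_one]
  have hval : ∀ a b, ((g * Ng (Function.update (fun _ => (1 : Fˣ)) 0 ζ) 0 * g⁻¹ : GL (Fin n) F) :
      Matrix (Fin n) (Fin n) F) a b =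
      (1 : Matrix (Fin n) (Fin n) F) a b + ((ζ : F) - 1) *
        ((g⁻¹ : GL (Fin n) F) : Matrix (Fin n) (Fin n) F) 0 b := by
    intro a b
    rw [Units.val_mul, Units.val_mul, Ng_val, Nmat_zero_eq, coe_update_one,
      conj_diag_update _ _ hgV, hg, Wg_val, Matrix.vandermonde_apply]
    have : ((0 : Fin n) : ℕ) = 0 := rfl
    rw [this, pow_zero, one_mul]
  -- row 0 of the inverse is nonzero
  have hrow : ∃ b, ((g⁻¹ : GL (Fin n) F) : Matrix (Fin n) (Fin n) F) 0 b ≠ 0 := by
    by_contra hcon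
    push Not at hcon
    have h1 := congrFun (congrFun hVg 0) 0
    rw [Matrix.mul_apply, Matrix.one_apply_eq] at h1
    rw [Finset.sum_eq_zero] at h1
    · exact zero_ne_one h1
    · intro c _
      rw [hcon c, zero_mul]
  obtain ⟨b, hb⟩ := hrow
  have hcard : 3 ≤ Nat.card (Fin n) := by rw [Nat.card_fin]; exact hn
  obtain ⟨a, ha, _⟩ := exists_ne_pair hcard b b
  obtain ⟨a', ha'b, ha'a⟩ := exists_ne_pair hcard b a
  have hz : (ζ : F) - 1 ≠ 0 := by
    intro h
    apply hζ1
    apply Units.ext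
    rw [Units.val_one]
    exact sub_eq_zero.mp h
  have h3 := hM.2 b a a' (by
    rw [hval, Matrix.one_apply_ne ha, zero_add]
    exact mul_ne_zero hz hb) (by
    rw [hval, Matrix.one_apply_ne ha'b, zero_add]
    exact mul_ne_zero hz hb)
  exact ha'a h3.symm

/-- Vandermonde conjugates the diagonal to the cyclic shift. -/
theorem Wg_conj [NeZero n] (d : Fin n → Fˣ) (hd : ∀ a, d a ^ n = 1)
    (he : Function.Injective (fun a => (d a : F))) :
    (Wg _ he)⁻¹ * Ng d 0 * Wg _ he = Ng (fun _ => (1 : Fˣ)) 1 := by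
  have h1 : Ng d 0 * Wg _ he = Wg _ he * Ng (fun _ => (1 : Fˣ)) 1 := by
    apply Units.ext
    rw [Units.val_mul, Units.val_mul, Ng_val, Ng_val, Wg_val, Nmat_zero_eq]
    simp only [Units.val_one]
    apply vand_conj
    intro a
    rw [← Units.val_pow_eq_pow_val, hd, Units.val_one]
  rw [mul_assoc, h1, ← mul_assoc, inv_mul_cancel, one_mul]

/-- Case (ii): a diagonal element with distinct entries lies in two Sylow subgroups. -/
theorem case_inj [Fintype F] (p : ℕ) [hp : Fact p.Prime] [NeZero p] (hp2 : p ≠ 2)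
    (h1 : p ∣ Fintype.card F - 1) (h2 : ¬ p ^ 2 ∣ Fintype.card F - 1)
    (d : Fin p → Fˣ) (hd : ∀ a, d a ^ p = 1) (hinj : Function.Injective d) :
    ∃ P : Sylow p (GL (Fin p) F), P ≠ Qsyl p hp2 h1 h2 ∧ Ng d 0 ∈ P := by
  obtain ⟨ζ, hζ⟩ := exists_prim (F := F) p h1
  have hζp : ζ ^ p = 1 := by rw [← hζ]; exact pow_orderOf_eq_one ζ
  have hζ1 : ζ ≠ 1 := by
    intro h
    rw [h, orderOf_one] at hζ
    exact hp.out.one_lt.ne hζ
  have hp3 : 3 ≤ p := by
    have := hp.out.two_le
    omega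
  have he : Function.Injective (fun a => (d a : F)) := fun a b hab => hinj (Units.ext hab)
  apply two_sylow p hp2 h1 h2 (Ng d 0) (Wg _ he)
  · rw [Wg_conj d hd he]
    exact ⟨_, fun _ => one_pow _, 1, rfl⟩
  · exact vand_not_normalizer hp3 _ he ζ hζp hζ1

end Cfsg.Agent.Lib.Helper10.Rs
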