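import Mathlib
import Cfsg.Agent.Lib.Helper10.RsE

set_option autoImplicit false

namespace Cfsg.Agent.Lib.Helper10.Rs

open Matrix Pointwise
open Fin.NatCast

universe u

variable {F : Type u} [Field F]

variable {n : ℕ}

theorem Ng_pow_one [NeZero n] (d : Fin n → Fˣ) (m : ℕ) :
    (Ng d 1) ^ m = Ng (fun a => ∏ i ∈ Finset.range m, d (a - (i : Fin n))) (m : Fin n) := by
  induction m with
  | zero =>
    rw [pow_zero]
    simp only [Finset.range_zero, Finset.prod_empty, Nat.cast_zero]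
    exact Ng_one.symm
  | succ m ih =>
    rw [pow_succ, ih, Ng_mul]
    congr 1
    · funext a
      rw [Finset.prod_range_succ]
    · rw [Nat.cast_succ, add_comm]

theorem Ng_pow_card [NeZero n] (d : Fin n → Fˣ) :
    (Ng d 1) ^ n = Ng (fun _ => ∏ a, d a) 0 := by
  rw [Ng_pow_one]
  congr 1
  · funext a
    rw [← Fin.prod_univ_eq_prod_range (fun i => d (a - (i : Fin n))) n]
    have : ∀ i : Fin n, d (a - ((i : ℕ) : Fin n)) = d (Equiv.subLeft a i) := by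
      intro i
      rw [Fin.cast_val_eq_self]
      rfl
    rw [Finset.prod_congr rfl (fun i _ => this i)]
    exact Equiv.prod_comp (Equiv.subLeft a) d
  · exact Fin.natCast_self n

theorem Nmat_const_zero [NeZero n] (c : F) :
    Nmat (fun _ : Fin n => c) 0 = c • (1 : Matrix (Fin n) (Fin n) F) := by
  ext a b
  rw [Nmat_apply, add_zero, Matrix.smul_apply, Matrix.one_apply, smul_eq_mul]
  by_cases h : a = b
  · rw [if_pos h, if_pos h, mul_one]
  · rw [if_neg h, if_neg h, mul_zero]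

/-- entries of the sum of powers -/
theorem sum_pow_apply_ne [NeZero n] (d : Fin n → Fˣ) (b : Fin n) :
    (∑ i ∈ Finset.range n, ((Ng d 1 ^ i : GL (Fin n) F) : Matrix (Fin n) (Fin n) F)) 0 b ≠ 0 := by
  rw [Matrix.sum_apply]
  have hn : 0 < n := Nat.pos_of_ne_zero (NeZero.ne n)
  have hi0 : ((-b : Fin n) : ℕ) ∈ Finset.range n := Finset.mem_range.mpr (-b).2
  rw [Finset.sum_eq_single_of_mem _ hi0]
  · rw [Ng_pow_one, Ng_apply, Fin.cast_val_eq_self, if_pos (by rw [add_neg_cancel])]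
    exact Units.ne_zero _
  · intro i hi hne
    rw [Ng_pow_one, Ng_apply, if_neg]
    intro h
    apply hne
    have h2 : ((i : ℕ) : Fin n) = -b := by
      rw [eq_neg_iff_add_eq_zero, add_comm]
      exact h.symm
    have h3 := congrArg Fin.val h2
    rw [Fin.val_natCast, Nat.mod_eq_of_lt (Finset.mem_range.mp hi)] at h3
    exact h3

theorem one_sub_mul_sum [NeZero n] (d : Fin n → Fˣ) :
    ((1 : Matrix (Fin n) (Fin n) F) - ((Ng d 1 : GL (Fin n) F) : Matrix (Fin n) (Fin n) F)) *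
      (∑ i ∈ Finset.range n, ((Ng d 1 ^ i : GL (Fin n) F) : Matrix (Fin n) (Fin n) F)) =
      ((1 : F) - ((∏ a, d a : Fˣ) : F)) • (1 : Matrix (Fin n) (Fin n) F) := by
  have h1 : ∀ i ∈ Finset.range n, ((Ng d 1 ^ i : GL (Fin n) F) : Matrix (Fin n) (Fin n) F) =
      ((Ng d 1 : GL (Fin n) F) : Matrix (Fin n) (Fin n) F) ^ i := fun i _ => Units.val_pow_eq_pow_val _ _
  rw [Finset.sum_congr rfl h1, mul_neg_geom_sum, ← Units.val_pow_eq_pow_val, Ng_pow_card, Ng_val,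
    Nmat_const_zero, sub_smul, one_smul]

/-- the element `1 - x` of GL, for `x = Ng d 1` with `∏ d ≠ 1`. -/
noncomputable def G1 [NeZero n] (d : Fin n → Fˣ) (hδ : (∏ a, d a) ≠ 1) : GL (Fin n) F :=
  have hne : (1 : F) - ((∏ a, d a : Fˣ) : F) ≠ 0 := by
    intro h
    apply hδ
    apply Units.ext
    rw [Units.val_one]
    exact (sub_eq_zero.mp h).symm
  have h1 : ((1 : Matrix (Fin n) (Fin n) F) - ((Ng d 1 : GL (Fin n) F) : Matrix (Fin n) (Fin n) F)) *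
      (((1 : F) - ((∏ a, d a : Fˣ) : F))⁻¹ •
        ∑ i ∈ Finset.range n, ((Ng d 1 ^ i : GL (Fin n) F) : Matrix (Fin n) (Fin n) F)) = 1 := by
    rw [Matrix.mul_smul, one_sub_mul_sum, smul_smul, inv_mul_cancel₀ hne, one_smul]
  ⟨(1 : Matrix (Fin n) (Fin n) F) - ((Ng d 1 : GL (Fin n) F) : Matrix (Fin n) (Fin n) F),
    ((1 : F) - ((∏ a, d a : Fˣ) : F))⁻¹ •
      ∑ i ∈ Finset.range n, ((Ng d 1 ^ i : GL (Fin n) F) : Matrix (Fin n) (Fin n) F),
    h1, mul_eq_one_comm.mp h1⟩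

theorem G1_val [NeZero n] (d : Fin n → Fˣ) (hδ : (∏ a, d a) ≠ 1) :
    ((G1 d hδ : GL (Fin n) F) : Matrix (Fin n) (Fin n) F) =
      (1 : Matrix (Fin n) (Fin n) F) - ((Ng d 1 : GL (Fin n) F) : Matrix (Fin n) (Fin n) F) := rfl

theorem G1_inv_val [NeZero n] (d : Fin n → Fˣ) (hδ : (∏ a, d a) ≠ 1) :
    (((G1 d hδ)⁻¹ : GL (Fin n) F) : Matrix (Fin n) (Fin n) F) =
      ((1 : F) - ((∏ a, d a : Fˣ) : F))⁻¹ •
      ∑ i ∈ Finset.range n, ((Ng d 1 ^ i : GL (Fin n) F) : Matrix (Fin n) (Fin n) F) := rfl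

theorem G1_comm [NeZero n] (d : Fin n → Fˣ) (hδ : (∏ a, d a) ≠ 1) :
    (G1 d hδ)⁻¹ * Ng d 1 * G1 d hδ = Ng d 1 := by
  have h1 : Ng d 1 * G1 d hδ = G1 d hδ * Ng d 1 := by
    apply Units.ext
    rw [Units.val_mul, Units.val_mul, G1_val, mul_sub, sub_mul, mul_one, one_mul]
  rw [mul_assoc, h1, ← mul_assoc, inv_mul_cancel, one_mul]

theorem one_ne_zero_fin (hn : 2 ≤ n) [NeZero n] : (1 : Fin n) ≠ 0 := by
  intro h
  have := congrArg Fin.val h
  rw [Fin.val_one', Nat.mod_eq_of_lt (by omega)] at this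
  exact one_ne_zero this

theorem G1_not_normalizer [NeZero n] (hn : 3 ≤ n) {m : ℕ} (d : Fin n → Fˣ) (hδ : (∏ a, d a) ≠ 1)
    (ζ : Fˣ) (hζ : ζ ^ m = 1) (hζ1 : ζ ≠ 1) :
    G1 d hδ ∉
      Subgroup.normalizer ((Q0 F n m : Subgroup (GL (Fin n) F)) : Set (GL (Fin n) F)) := by
  classical
  apply not_mem_normalizer _ (Ng (Function.update (fun _ => (1 : Fˣ)) 0 ζ) 0) (update_mem_Q0 0 ζ hζ)
  intro hM
  set g := G1 d hδ with hg
  have hgV : (g : Matrix (Fin n) (Fin n) F) * ((g⁻¹ : GL (Fin n) F) : Matrix (Fin n) (Fin n) F) = 1 := by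
    rw [← Units.val_mul, mul_inv_cancel, Units.val_one]
  have h10 : (1 : Fin n) ≠ 0 := one_ne_zero_fin (by omega)
  have hne : (1 : F) - ((∏ a, d a : Fˣ) : F) ≠ 0 := by
    intro h
    apply hδ
    apply Units.ext
    rw [Units.val_one]
    exact (sub_eq_zero.mp h).symm
  have hz : (ζ : F) - 1 ≠ 0 := by
    intro h
    apply hζ1
    apply Units.ext
    rw [Units.val_one]
    exact sub_eq_zero.mp h
  have hval : ∀ b, b ≠ 1 → ((g * Ng (Function.update (fun _ => (1 : Fˣ)) 0 ζ) 0 * g⁻¹ : GL (Fin n) F) :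
      Matrix (Fin n) (Fin n) F) 1 b ≠ 0 := by
    intro b hb
    rw [Units.val_mul, Units.val_mul, Ng_val, Nmat_zero_eq, coe_update_one,
      conj_diag_update _ _ hgV, Matrix.one_apply_ne hb.symm, zero_add, hg, G1_val, G1_inv_val,
      Matrix.sub_apply, Matrix.one_apply_ne h10, zero_sub, Ng_apply, if_pos (zero_add 1).symm,
      Matrix.smul_apply, smul_eq_mul]
    refine mul_ne_zero (mul_ne_zero (neg_ne_zero.mpr (Units.ne_zero _)) hz)
      (mul_ne_zero (inv_ne_zero hne) (sum_pow_apply_ne d b))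
  have hcard : 3 ≤ Nat.card (Fin n) := by rw [Nat.card_fin]; exact hn
  obtain ⟨b, hb, _⟩ := exists_ne_pair hcard (1 : Fin n) 1
  obtain ⟨b', hb'1, hb'b⟩ := exists_ne_pair hcard (1 : Fin n) b
  exact hb'b (hM.1 1 b b' (hval b hb) (hval b' hb'1)).symm

/-- Case (iii): `x = Ng d 1` with `∏ d ≠ 1`. -/
theorem case_nonsplit [Fintype F] (p : ℕ) [hp : Fact p.Prime] [NeZero p] (hp2 : p ≠ 2)
    (h1 : p ∣ Fintype.card F - 1) (h2 : ¬ p ^ 2 ∣ Fintype.card F - 1)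
    (d : Fin p → Fˣ) (hd : ∀ a, d a ^ p = 1) (hδ : (∏ a, d a) ≠ 1) :
    ∃ P : Sylow p (GL (Fin p) F), P ≠ Qsyl p hp2 h1 h2 ∧ Ng d 1 ∈ P := by
  obtain ⟨ζ, hζ⟩ := exists_prim (F := F) p h1
  have hζp : ζ ^ p = 1 := by rw [← hζ]; exact pow_orderOf_eq_one ζ
  have hζ1 : ζ ≠ 1 := by
    intro h
    rw [h, orderOf_one] at hζ
    exact hp.out.one_lt.ne hζ
  have hp3 : 3 ≤ p := by
    have := hp.out.two_le
    omega
  apply two_sylow p hp2 h1 h2 (Ng d 1) (G1 d hδ)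
  · rw [G1_comm d hδ]
    exact ⟨d, hd, 1, rfl⟩
  · exact G1_not_normalizer hp3 d hδ ζ hζp hζ1

end Cfsg.Agent.Lib.Helper10.Rs
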