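import Mathlib
import Cfsg.Agent.Lib.Helper10.RsF

set_option autoImplicit false

namespace Cfsg.Agent.Lib.Helper10.Rs

open Matrix Pointwise
open Fin.NatCast

universe u

variable {F : Type u} [Field F]

variable {n : ℕ}

/-- partial products -/
def tfun [NeZero n] (d : Fin n → Fˣ) (a : Fin n) : Fˣ :=
  ∏ i ∈ Finset.range (a.val + 1), d (i : Fin n)

theorem prod_range_cast [NeZero n] (d : Fin n → Fˣ) :
    ∏ i ∈ Finset.range n, d (i : Fin n) = ∏ a, d a := by
  rw [← Fin.prod_univ_eq_prod_range (fun i => d (i : Fin n)) n]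
  apply Finset.prod_congr rfl
  intro i _
  rw [Fin.cast_val_eq_self]

theorem t_rec [NeZero n] (d : Fin n → Fˣ) (hprod : ∏ a, d a = 1) (b : Fin n) :
    tfun d (b + 1) = d (b + 1) * tfun d b := by
  have hb := b.2
  by_cases h : b.val + 1 < n
  · have hv : (b + 1 : Fin n).val = b.val + 1 := by
      rw [Fin.val_add, Fin.val_one', Nat.add_mod_mod, Nat.mod_eq_of_lt h]
    have hc : ((b.val + 1 : ℕ) : Fin n) = b + 1 := by
      rw [Nat.cast_add, Nat.cast_one, Fin.cast_val_eq_self]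
    unfold tfun
    rw [hv, Finset.prod_range_succ _ (b.val + 1), hc, mul_comm]
  · have hbn : b.val + 1 = n := by omega
    have h0 : b + 1 = 0 := by
      apply Fin.ext
      rw [Fin.val_add, Fin.val_one', Nat.add_mod_mod, hbn, Nat.mod_self]
      rfl
    rw [h0]
    unfold tfun
    rw [hbn, prod_range_cast, hprod, mul_one]
    have : ((0 : Fin n) : ℕ) = 0 := rfl
    rw [this, zero_add, Finset.prod_range_one, Nat.cast_zero]

theorem t_pow [NeZero n] (d : Fin n → Fˣ) (m : ℕ) (hd : ∀ a, d a ^ m = 1) (a : Fin n) :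
    tfun d a ^ m = 1 := by
  unfold tfun
  rw [← Finset.prod_pow]
  apply Finset.prod_eq_one
  intro i _
  exact hd _

theorem t_conj [NeZero n] (d : Fin n → Fˣ) (hprod : ∏ a, d a = 1) :
    Ng d 1 * Ng (tfun d) 0 = Ng (tfun d) 0 * Ng (fun _ => (1 : Fˣ)) 1 := by
  rw [Ng_mul, Ng_mul, zero_add, add_zero]
  congr 1
  funext a
  rw [mul_one]
  have := t_rec d hprod (a - 1)
  rw [sub_add_cancel] at this
  exact this.symm

/-- Case (iv): `x = Ng d 1` with `∏ d = 1`. -/
theorem case_split [Fintype F] (p : ℕ) [hp : Fact p.Prime] [NeZero p] (hp2 : p ≠ 2)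
    (h1 : p ∣ Fintype.card F - 1) (h2 : ¬ p ^ 2 ∣ Fintype.card F - 1)
    (d : Fin p → Fˣ) (hd : ∀ a, d a ^ p = 1) (hδ : (∏ a, d a) = 1) :
    ∃ P : Sylow p (GL (Fin p) F), P ≠ Qsyl p hp2 h1 h2 ∧ Ng d 1 ∈ P := by
  obtain ⟨ζ, hζ⟩ := exists_prim (F := F) p h1
  have hζp : ζ ^ p = 1 := by rw [← hζ]; exact pow_orderOf_eq_one ζ
  have hζ1 : ζ ≠ 1 := by
    intro h
    rw [h, orderOf_one] at hζ
    exact hp.out.one_lt.ne hζ
  have hp3 : 3 ≤ p := by
    have := hp.out.two_le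
    omega
  -- the diagonal element with distinct eigenvalues
  let e : Fin p → Fˣ := fun a => ζ ^ (a : ℕ)
  have hep : ∀ a, e a ^ p = 1 := by
    intro a
    show (ζ ^ (a : ℕ)) ^ p = 1
    rw [← pow_mul, mul_comm, pow_mul, hζp, one_pow]
  have hinj : Function.Injective e := by
    intro a b hab
    apply Fin.ext
    apply pow_injOn_Iio_orderOf (x := ζ)
    · rw [hζ]; exact a.2
    · rw [hζ]; exact b.2
    · exact hab
  have he : Function.Injective (fun a => (e a : F)) := fun a b hab => hinj (Units.ext hab)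
  set W := Wg _ he with hW
  have hWc : W⁻¹ * Ng e 0 * W = Ng (fun _ => (1 : Fˣ)) 1 := Wg_conj e hep he
  have hWn : W ∉ Subgroup.normalizer ((Q0 F p p : Subgroup (GL (Fin p) F)) : Set (GL (Fin p) F)) :=
    vand_not_normalizer hp3 _ he ζ hζp hζ1
  set T := Ng (tfun d) 0 with hT
  have hTQ : T ∈ Q0 F p p := ⟨_, t_pow d p hd, 0, rfl⟩
  have hTc : Ng d 1 * T = T * Ng (fun _ => (1 : Fˣ)) 1 := t_conj d hδ
  apply two_sylow p hp2 h1 h2 (Ng d 1) (T * W⁻¹)
  · have : (T * W⁻¹)⁻¹ * Ng d 1 * (T * W⁻¹) = Ng e 0 := by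
      rw [_root_.mul_inv_rev, inv_inv, mul_assoc, ← mul_assoc (Ng d 1), hTc, ← hWc]
      group
    rw [this]
    exact ⟨e, hep, 0, rfl⟩
  · intro hmem
    apply hWn
    have hTn : T ∈ Subgroup.normalizer ((Q0 F p p : Subgroup (GL (Fin p) F)) : Set (GL (Fin p) F)) :=
      Subgroup.le_normalizer hTQ
    have h3 := Subgroup.mul_mem _ (Subgroup.inv_mem _ hTn) hmem
    rw [← mul_assoc, inv_mul_cancel, one_mul] at h3
    have h4 := Subgroup.inv_mem _ h3
    rwa [inv_inv] at h4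

end Cfsg.Agent.Lib.Helper10.Rs
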