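import Mathlib
import Cfsg.Agent.Lib.Helper10.RsG

set_option autoImplicit false

namespace Cfsg.Agent.Lib.Helper10.Rs

open Matrix Pointwise
open Fin.NatCast

universe u

variable {F : Type u} [Field F]

variable {n : ℕ}

theorem Ng_pow_gen [NeZero n] {p : ℕ} (d : Fin n → Fˣ) (hd : ∀ a, d a ^ p = 1) (j : Fin n) (m : ℕ) :
    ∃ d'' : Fin n → Fˣ, (∀ a, d'' a ^ p = 1) ∧ (Ng d j) ^ m = Ng d'' (m • j) := by
  induction m with
  | zero =>
    refine ⟨fun _ => 1, fun _ => one_pow _, ?_⟩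
    rw [pow_zero, zero_smul]
    exact Ng_one.symm
  | succ m ih =>
    obtain ⟨d'', hd'', hpow⟩ := ih
    refine ⟨fun a => d'' a * d (a - m • j), ?_, ?_⟩
    · intro a
      rw [mul_pow, hd'', hd, one_mul]
    · rw [pow_succ, hpow, Ng_mul, succ_nsmul, add_comm]

theorem val_nsmul_fin [NeZero n] (j : Fin n) (m : ℕ) : (m • j).val = (m * j.val) % n := by
  induction m with
  | zero =>
    rw [zero_smul, zero_mul, Nat.zero_mod]
    rfl
  | succ m ih =>
    rw [succ_nsmul, Fin.val_add, ih, Nat.mod_add_mod, Nat.succ_mul]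

theorem exists_nsmul_eq_one (p : ℕ) [hp : Fact p.Prime] [NeZero p] (j : Fin p) (hj : j ≠ 0) :
    ∃ m : ℕ, m • j = 1 ∧ ¬ p ∣ m := by
  have hj0 : j.val ≠ 0 := by
    intro h
    apply hj
    apply Fin.ext
    rw [h]
    rfl
  have hcop : Nat.Coprime j.val p := by
    apply Nat.Coprime.symm
    rw [Nat.Prime.coprime_iff_not_dvd hp.out]
    intro h
    have := Nat.le_of_dvd (Nat.pos_of_ne_zero hj0) h
    have := j.2
    omega
  obtain ⟨m, -, hm⟩ := Nat.exists_mul_mod_eq_one_of_coprime hcop hp.out.one_lt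
  refine ⟨m, ?_, ?_⟩
  · apply Fin.ext
    rw [val_nsmul_fin, mul_comm, hm, Fin.val_one', Nat.mod_eq_of_lt hp.out.one_lt]
  · intro h
    obtain ⟨c, rfl⟩ := h
    rw [← mul_assoc, mul_comm j.val p, mul_assoc, Nat.mul_mod_right] at hm
    exact zero_ne_one hm

/-- Case (v): general shift. -/
theorem case_gen [Fintype F] (p : ℕ) [hp : Fact p.Prime] [NeZero p] (hp2 : p ≠ 2)
    (h1 : p ∣ Fintype.card F - 1) (h2 : ¬ p ^ 2 ∣ Fintype.card F - 1)
    (d : Fin p → Fˣ) (hd : ∀ a, d a ^ p = 1) (j : Fin p) (hj : j ≠ 0)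
    (k : ℕ) (hk : orderOf (Ng d j) = p ^ k) :
    ∃ P : Sylow p (GL (Fin p) F), P ≠ Qsyl p hp2 h1 h2 ∧ Ng d j ∈ P := by
  obtain ⟨m, hm1, hpm⟩ := exists_nsmul_eq_one p j hj
  obtain ⟨d'', hd'', hpow⟩ := Ng_pow_gen d hd j m
  rw [hm1] at hpow
  have hex : ∃ P : Sylow p (GL (Fin p) F), P ≠ Qsyl p hp2 h1 h2 ∧ Ng d'' 1 ∈ P := by
    by_cases hδ : (∏ a, d'' a) = 1
    · exact case_split p hp2 h1 h2 d'' hd'' hδ
    · exact case_nonsplit p hp2 h1 h2 d'' hd'' hδ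
  obtain ⟨P, hPQ, hxP⟩ := hex
  refine ⟨P, hPQ, ?_⟩
  set x := Ng d j with hx
  by_cases hk1 : p ^ k = 1
  · rw [hk1, orderOf_eq_one_iff] at hk
    rw [hk]
    exact one_mem _
  · have hlt : 1 < p ^ k := by
      have : 0 < p ^ k := pow_pos hp.out.pos k
      omega
    have hcop : Nat.Coprime m (p ^ k) := by
      apply Nat.Coprime.pow_right
      apply Nat.Coprime.symm
      rw [Nat.Prime.coprime_iff_not_dvd hp.out]
      exact hpm
    obtain ⟨m', -, hm'⟩ := Nat.exists_mul_mod_eq_one_of_coprime hcop hlt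
    have h3 : (Ng d'' 1) ^ m' = x := by
      rw [← hpow, ← pow_mul, ← pow_mod_orderOf, hk, hm', pow_one]
    rw [← h3]
    exact pow_mem hxP m'

theorem main [Fintype F] (p : ℕ) [hp : Fact p.Prime]
    (hp2 : p ≠ 2) (h1 : p ∣ Fintype.card F - 1) (h2 : ¬ p ^ 2 ∣ Fintype.card F - 1) :
    ∃ Q : Sylow p (GL (Fin p) F), ∀ x : GL (Fin p) F,
      (∃ k : ℕ, orderOf x = p ^ k) → ∃ P : Sylow p (GL (Fin p) F), P ≠ Q ∧ x ∈ P := by
  have : NeZero p := ⟨hp.out.ne_zero⟩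
  refine ⟨Qsyl p hp2 h1 h2, ?_⟩
  rintro x ⟨k, hk⟩
  have hpg : IsPGroup p (Subgroup.zpowers x) := by
    apply IsPGroup.of_card (n := k)
    rw [Nat.card_zpowers, hk]
  obtain ⟨P, hP⟩ := hpg.exists_le_sylow
  have hxP : x ∈ P := hP (Subgroup.mem_zpowers x)
  by_cases hPQ : P = Qsyl p hp2 h1 h2
  · have hxQ : x ∈ Q0 F p p := by
      rw [hPQ] at hxP
      exact hxP
    obtain ⟨d, hd, j, rfl⟩ := hxQ
    by_cases hj : j = 0
    · subst hj
      by_cases hinj : Function.Injective d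
      · exact case_inj p hp2 h1 h2 d hd hinj
      · rw [Function.Injective] at hinj
        push Not at hinj
        obtain ⟨i, k', hik, hne⟩ := hinj
        exact case_rep p hp2 h1 h2 d hd i k' hne hik
    · exact case_gen p hp2 h1 h2 d hd j hj k hk
  · exact ⟨P, hPQ, hxP⟩

end Cfsg.Agent.Lib.Helper10.Rs
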