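import Mathlib
import Cfsg.Agent.Lib.Helper10.SpSylowP4

set_option autoImplicit false

namespace Cfsg.Agent.Lib.Helper10.SLSylow

open Cfsg.Agent.Lib.Helper10.SpSylowE Cfsg.Agent.Lib.Helper10.SpSylowP
open scoped commutatorElement

/-- squares of the subgroup lie in its derived subgroup -/
def SqCommSub {G : Type*} [Group G] (K : Subgroup G) : Prop := ∀ k ∈ K, k ^ 2 ∈ ⁅K, K⁆

theorem sqComm_of_sqCommSub {G : Type*} [Group G] (K : Subgroup G) (h : SqCommSub K) :
    SqComm ↥K := by
  intro x
  have h1 := h x.1 x.2
  rw [← Subgroup.map_subtype_commutator] at h1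
  obtain ⟨y, hy, hyx⟩ := h1
  have : y = x ^ 2 := by
    apply Subtype.ext
    rw [Subgroup.coe_pow]
    exact hyx
  rw [← this]
  exact hy

/-- pairs as elements of the base group of the wreath product -/
def pairHom (G : Type*) [Group G] : G × G →* RegularWreathProduct G C2 where
  toFun p := ⟨fun c => if c = 1 then p.1 else p.2, 1⟩
  map_one' := by
    apply RegularWreathProduct.ext
    · funext c
      show (if c = 1 then (1 : G) else 1) = 1
      split_ifs <;> rfl
    · rfl
  map_mul' := by
    intro a b
    apply RegularWreathProduct.ext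
    · funext c
      rw [RegularWreathProduct.mul_left]
      show (if c = 1 then (a * b).1 else (a * b).2) =
        (if c = 1 then a.1 else a.2) * (if (1 : C2)⁻¹ * c = 1 then b.1 else b.2)
      rw [inv_one, one_mul]
      split_ifs <;> rfl
    · rw [RegularWreathProduct.mul_right]
      show (1 : C2) = 1 * 1
      rw [one_mul]

theorem pairHom_left_one {G : Type*} [Group G] (p : G × G) : (pairHom G p).left 1 = p.1 := by
  show (if (1 : C2) = 1 then p.1 else p.2) = p.1
  rw [if_pos rfl]

theorem pairHom_left_sg {G : Type*} [Group G] (p : G × G) : (pairHom G p).left sg = p.2 := by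
  show (if sg = 1 then p.1 else p.2) = p.2
  rw [if_neg sg_ne_one]

theorem pairHom_right {G : Type*} [Group G] (p : G × G) : (pairHom G p).right = 1 := rfl

/-- the swap -/
def swapW (G : Type*) [Group G] : RegularWreathProduct G C2 := ⟨1, sg⟩

theorem swapW_sq (G : Type*) [Group G] : swapW G * swapW G = 1 := by
  apply RegularWreathProduct.ext
  · funext c
    rw [RegularWreathProduct.mul_left]
    show (1 : G) * 1 = 1
    rw [mul_one]
  · rw [RegularWreathProduct.mul_right]
    show sg * sg = 1
    decide

theorem swapW_inv (G : Type*) [Group G] : (swapW G)⁻¹ = swapW G := by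
  rw [inv_eq_iff_mul_eq_one]
  exact swapW_sq G

theorem swapW_conj {G : Type*} [Group G] (x y : G) :
    swapW G * pairHom G (x, y) * (swapW G)⁻¹ = pairHom G (y, x) := by
  rw [swapW_inv]
  apply RegularWreathProduct.ext
  · funext c
    simp only [RegularWreathProduct.mul_left, RegularWreathProduct.mul_right, Pi.mul_apply]
    show (1 : G) * (if (sg : C2)⁻¹ * c = 1 then x else y) * 1 = if c = 1 then y else x
    rw [one_mul, mul_one, sg_inv]
    rcases c2_cases c with h | h
    · rw [h, mul_one, if_neg sg_ne_one, if_pos rfl]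
    · rw [h, if_neg sg_ne_one]
      have : sg * sg = (1 : C2) := by decide
      rw [this, if_pos rfl]
  · simp only [RegularWreathProduct.mul_right]
    show sg * 1 * sg = 1
    decide

theorem wr_cases {G : Type*} [Group G] (w : RegularWreathProduct G C2) :
    (w = pairHom G (w.left 1, w.left sg) ∧ w.right = 1) ∨
      (w = pairHom G (w.left 1, w.left sg) * swapW G ∧ w.right = sg) := by
  rcases c2_cases w.right with h | h
  · left
    refine ⟨?_, h⟩
    apply RegularWreathProduct.ext
    · funext c
      show w.left c = if c = 1 then w.left 1 else w.left sg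
      rcases c2_cases c with hc | hc
      · rw [hc, if_pos rfl]
      · rw [hc, if_neg sg_ne_one]
    · rw [h]
      rfl
  · right
    refine ⟨?_, h⟩
    apply RegularWreathProduct.ext
    · funext c
      rw [RegularWreathProduct.mul_left]
      show w.left c = (if c = 1 then w.left 1 else w.left sg) * 1
      rw [mul_one]
      rcases c2_cases c with hc | hc
      · rw [hc, if_pos rfl]
      · rw [hc, if_neg sg_ne_one]
    · rw [RegularWreathProduct.mul_right, h]
      show sg = 1 * sg
      rw [one_mul]

theorem sq_pair_swap {G : Type*} [Group G] (x y : G) :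
    (pairHom G (x, y) * swapW G) ^ 2 = pairHom G (x * y, y * x) := by
  rw [pow_two]
  have h1 : pairHom G (x, y) * swapW G * (pairHom G (x, y) * swapW G) =
      pairHom G (x, y) * (swapW G * pairHom G (x, y) * (swapW G)⁻¹) * (swapW G * swapW G) := by
    group
  rw [h1, swapW_conj, swapW_sq, mul_one, ← map_mul]
  rfl

/-- commutators of the whole group lie in `[ker, G]` when the image is cyclic -/
theorem comm_le_of_cyclic {G A : Type*} [Group G] [CommGroup A] (χ : G →* A)
    [hc : IsCyclic χ.range] : commutator G ≤ ⁅χ.ker, (⊤ : Subgroup G)⁆ := by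
  set N : Subgroup G := ⁅χ.ker, (⊤ : Subgroup G)⁆ with hN
  have hNn : N.Normal := by
    rw [hN]
    infer_instance
  obtain ⟨g₀, hg₀⟩ := hc.exists_generator
  obtain ⟨u, hu⟩ := g₀.2
  -- every element is a kernel element times a power of u
  have hdecomp : ∀ x : G, ∃ (k : G) (i : ℤ), χ k = 1 ∧ x = k * u ^ i := by
    intro x
    have hx := hg₀ ⟨χ x, x, rfl⟩
    obtain ⟨i, hi⟩ := Subgroup.mem_zpowers_iff.mp hx
    have hi' : χ u ^ i = χ x := by
      have := congrArg Subtype.val hi
      rw [Subgroup.coe_zpow, ← hu] at this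
      exact this
    refine ⟨x * (u ^ i)⁻¹, i, ?_, ?_⟩
    · rw [map_mul, map_inv, map_zpow, hi', mul_inv_cancel]
    · rw [inv_mul_cancel_right]
  -- work in the quotient
  let π : G →* G ⧸ N := QuotientGroup.mk' N
  have hπ : ∀ a : G, π a = 1 ↔ a ∈ N := by
    intro a
    exact QuotientGroup.eq_one_iff a
  have hcent : ∀ k : G, χ k = 1 → ∀ x : G, Commute (π k) (π x) := by
    intro k hk x
    have h1 : ⁅k, x⁆ ∈ N :=
      Subgroup.commutator_mem_commutator (MonoidHom.mem_ker.mpr hk) (Subgroup.mem_top x)
    have h2 := (hπ _).mpr h1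
    rw [map_commutatorElement, commutatorElement_eq_one_iff_commute] at h2
    exact h2
  rw [commutator_def, Subgroup.commutator_le]
  intro x _ y _
  rw [← hπ, map_commutatorElement, commutatorElement_eq_one_iff_commute]
  obtain ⟨k, i, hk, rfl⟩ := hdecomp x
  obtain ⟨k', j, hk', rfl⟩ := hdecomp y
  rw [map_mul, map_mul, map_zpow, map_zpow]
  have c1 : Commute (π k) (π k') := hcent k hk k'
  have c2 : Commute (π k) (π u) := hcent k hk u
  have c3 : Commute (π k') (π u) := hcent k' hk' u
  have c4 : Commute (π u ^ i) (π u ^ j) := (Commute.refl (π u)).zpow_zpow i j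
  exact (c1.mul_right (c2.zpow_right j)).mul_left
    ((c3.symm.zpow_left i).mul_right c4)

end Cfsg.Agent.Lib.Helper10.SLSylow
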