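import Mathlib
import Cfsg.Agent.Lib.Helper10.SLSylowA

set_option autoImplicit false

namespace Cfsg.Agent.Lib.Helper10.SLSylow

open Cfsg.Agent.Lib.Helper10.SpSylowE Cfsg.Agent.Lib.Helper10.SpSylowP
open scoped commutatorElement

/-- the wreath step for kernels of determinant-like characters -/
theorem wk_main {G A : Type*} [Group G] [CommGroup A] (χ : G →* A)
    (hH1 : ∀ k : G, χ k = 1 → k ^ 2 ∈ ⁅χ.ker, (⊤ : Subgroup G)⁆)
    (hcyc : commutator G ≤ ⁅χ.ker, (⊤ : Subgroup G)⁆)
    (χW : RegularWreathProduct G C2 →* A)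
    (hχW : ∀ w, χW w = χ (w.left 1) * χ (w.left sg)) :
    SqCommSub χW.ker := by
  set N : Subgroup G := ⁅χ.ker, (⊤ : Subgroup G)⁆ with hN
  set D : Subgroup (RegularWreathProduct G C2) := ⁅χW.ker, χW.ker⁆ with hD
  have hχpair : ∀ x y : G, χW (pairHom G (x, y)) = χ x * χ y := by
    intro x y
    rw [hχW, pairHom_left_one, pairHom_left_sg]
  have hχswap : χW (swapW G) = 1 := by
    rw [hχW]
    show χ 1 * χ 1 = 1
    rw [map_one, mul_one]
  have hswapK : swapW G ∈ χW.ker := MonoidHom.mem_ker.mpr hχswap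
  -- (A)
  have hA : ∀ x y : G, χ x * χ y = 1 → pairHom G (y * x⁻¹, x * y⁻¹) ∈ D := by
    intro x y hxy
    have hp : pairHom G (x, y) ∈ χW.ker := by
      rw [MonoidHom.mem_ker, hχpair]
      exact hxy
    have h1 : ⁅swapW G, pairHom G (x, y)⁆ ∈ D :=
      Subgroup.commutator_mem_commutator hswapK hp
    have h2 : ⁅swapW G, pairHom G (x, y)⁆ = pairHom G (y * x⁻¹, x * y⁻¹) := by
      rw [commutatorElement_def, swapW_conj, ← map_inv, ← map_mul]
      rfl
    rw [← h2]
    exact h1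
  -- (B)
  have hB1 : ∀ n ∈ N, pairHom G (n, 1) ∈ D := by
    have : N ≤ D.comap ((pairHom G).comp (MonoidHom.inl G G)) := by
      rw [hN, Subgroup.commutator_le]
      intro k hk x _
      rw [Subgroup.mem_comap]
      show pairHom G (⁅k, x⁆, 1) ∈ D
      have h1 : pairHom G (⁅k, x⁆, 1) = ⁅pairHom G (k, 1), pairHom G (x, x⁻¹)⁆ := by
        rw [← map_commutatorElement]
        congr 1
        apply Prod.ext
        · rfl
        · show (1 : G) = 1 * x⁻¹ * 1⁻¹ * x⁻¹⁻¹
          group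
      rw [h1]
      apply Subgroup.commutator_mem_commutator
      · rw [MonoidHom.mem_ker, hχpair, MonoidHom.mem_ker.mp hk, map_one, mul_one]
      · rw [MonoidHom.mem_ker, hχpair, map_inv, mul_inv_cancel]
    intro n hn
    exact this hn
  have hB2 : ∀ n ∈ N, pairHom G (1, n) ∈ D := by
    have : N ≤ D.comap ((pairHom G).comp (MonoidHom.inr G G)) := by
      rw [hN, Subgroup.commutator_le]
      intro k hk x _
      rw [Subgroup.mem_comap]
      show pairHom G (1, ⁅k, x⁆) ∈ D
      have h1 : pairHom G (1, ⁅k, x⁆) = ⁅pairHom G (1, k), pairHom G (x⁻¹, x)⁆ := by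
        rw [← map_commutatorElement]
        congr 1
        apply Prod.ext
        · show (1 : G) = 1 * x⁻¹ * 1⁻¹ * x⁻¹⁻¹
          group
        · rfl
      rw [h1]
      apply Subgroup.commutator_mem_commutator
      · rw [MonoidHom.mem_ker, hχpair, MonoidHom.mem_ker.mp hk, map_one, mul_one]
      · rw [MonoidHom.mem_ker, hχpair, map_inv, inv_mul_cancel]
    intro n hn
    exact this hn
  have hNn : N.Normal := by
    rw [hN]
    infer_instance
  have hcomm : ∀ a b : G, ⁅a, b⁆ ∈ N := by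
    intro a b
    apply hcyc
    rw [commutator_def]
    exact Subgroup.commutator_mem_commutator (Subgroup.mem_top a) (Subgroup.mem_top b)
  have main : ∀ x y : G, χ x * χ y = 1 →
      pairHom G (x, y) ^ 2 ∈ D ∧ (pairHom G (x, y) * swapW G) ^ 2 ∈ D := by
    intro x y hw
    have hxyK : χ (x * y) = 1 := by
      rw [map_mul]
      exact hw
    have hxy2 : (x * y) ^ 2 ∈ N := hH1 _ hxyK
    constructor
    · rw [← map_pow]
      have h1 : ((x, y) : G × G) ^ 2 = (x ^ 2 * y ^ 2, 1) * (y⁻¹ * y⁻¹, y * y⁻¹⁻¹) := by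
        apply Prod.ext
        · show x ^ 2 = x ^ 2 * y ^ 2 * (y⁻¹ * y⁻¹)
          rw [pow_two, pow_two]
          group
        · show y ^ 2 = 1 * (y * y⁻¹⁻¹)
          rw [pow_two]
          group
      rw [h1, map_mul]
      apply D.mul_mem
      · apply hB1
        have h2 : x ^ 2 * y ^ 2 = (x * y) ^ 2 * (y⁻¹ * ⁅x⁻¹, y⁻¹⁆ * y⁻¹⁻¹) := by
          rw [commutatorElement_def, pow_two, pow_two, pow_two]
          group
        rw [h2]
        exact N.mul_mem hxy2 (hNn.conj_mem _ (hcomm _ _) _)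
      · apply hA
        rw [map_inv, mul_inv_cancel]
    · rw [sq_pair_swap]
      have h1 : ((x * y, y * x) : G × G) =
          (x * y * 1⁻¹, 1 * (x * y)⁻¹) * (1, (x * y) * (y * x)) := by
        apply Prod.ext
        · show x * y = x * y * 1⁻¹ * 1
          group
        · show y * x = 1 * (x * y)⁻¹ * ((x * y) * (y * x))
          group
      rw [h1, map_mul]
      apply D.mul_mem
      · apply hA
        rw [map_one, one_mul]
        exact hxyK
      · apply hB2
        have h2 : (x * y) * (y * x) = (x * y) ^ 2 * ⁅y⁻¹, x⁻¹⁆ := by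
          rw [commutatorElement_def, pow_two]
          group
        rw [h2]
        exact N.mul_mem hxy2 (hcomm _ _)
  intro w hw
  rw [MonoidHom.mem_ker, hχW] at hw
  rcases wr_cases w with ⟨hw1, -⟩ | ⟨hw1, -⟩
  · rw [hw1]
    exact (main _ _ hw).1
  · rw [hw1]
    exact (main _ _ hw).2

/-- the wreath step over an abelian base with a sign twist -/
theorem wk_odd {G A : Type*} [CommGroup G] [CommGroup A] (χ : G →* A)
    (hχ : Function.Injective χ) (ν : A) (hν : ν * ν = 1) (y₀ : G) (hy₀ : χ y₀ * χ y₀ = ν)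
    (χW : RegularWreathProduct G C2 →* A)
    (hχW : ∀ w, χW w = χ (w.left 1) * χ (w.left sg) * (if w.right = 1 then 1 else ν)) :
    SqCommSub χW.ker := by
  set D : Subgroup (RegularWreathProduct G C2) := ⁅χW.ker, χW.ker⁆ with hD
  have hχpair : ∀ x y : G, χW (pairHom G (x, y)) = χ x * χ y := by
    intro x y
    rw [hχW, pairHom_left_one, pairHom_left_sg, pairHom_right, if_pos rfl, mul_one]
  have hχps : ∀ x y : G, χW (pairHom G (x, y) * swapW G) = χ x * χ y * ν := by
    intro x y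
    rw [hχW]
    have h1 : (pairHom G (x, y) * swapW G).left 1 = x := by
      rw [RegularWreathProduct.mul_left]
      show (if (1 : C2) = 1 then x else y) * 1 = x
      rw [if_pos rfl, mul_one]
    have h2 : (pairHom G (x, y) * swapW G).left sg = y := by
      rw [RegularWreathProduct.mul_left]
      show (if sg = 1 then x else y) * 1 = y
      rw [if_neg sg_ne_one, mul_one]
    have h3 : (pairHom G (x, y) * swapW G).right = sg := by
      rw [RegularWreathProduct.mul_right]
      show 1 * sg = sg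
      rw [one_mul]
    rw [h1, h2, h3, if_neg sg_ne_one]
  set s' := pairHom G (1, y₀ * y₀) * swapW G with hs'
  have hs'K : s' ∈ χW.ker := by
    rw [MonoidHom.mem_ker, hs', hχps, map_one, one_mul, map_mul, hy₀, hν]
  have hy₀4 : (y₀ * y₀)⁻¹ = y₀ * y₀ := by
    rw [inv_eq_iff_mul_eq_one]
    apply hχ
    rw [map_mul, map_mul, hy₀, hν, map_one]
  -- commutators with s'
  have hkey : ∀ x : G, pairHom G (x * x, x⁻¹ * x⁻¹) ∈ D := by
    intro x
    have hp : pairHom G (x, x⁻¹) ∈ χW.ker := by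
      rw [MonoidHom.mem_ker, hχpair, map_inv, mul_inv_cancel]
    have h1 : ⁅pairHom G (x, x⁻¹), s'⁆ ∈ D := Subgroup.commutator_mem_commutator hp hs'K
    have h2 : ⁅pairHom G (x, x⁻¹), s'⁆ = pairHom G (x * x, x⁻¹ * x⁻¹) := by
      rw [commutatorElement_def, hs']
      have h3 : pairHom G (x, x⁻¹) * (pairHom G (1, y₀ * y₀) * swapW G) * (pairHom G (x, x⁻¹))⁻¹ *
          (pairHom G (1, y₀ * y₀) * swapW G)⁻¹ =
          pairHom G (x, x⁻¹) * pairHom G (1, y₀ * y₀) *
            (swapW G * (pairHom G (x, x⁻¹))⁻¹ * (swapW G)⁻¹) * (pairHom G (1, y₀ * y₀))⁻¹ := by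
        group
      rw [h3, ← map_inv, Prod.inv_mk, swapW_conj, ← map_inv, ← map_mul, ← map_mul, ← map_mul]
      congr 1
      apply Prod.ext
      · show x * 1 * x⁻¹⁻¹ * 1⁻¹ = x * x
        rw [inv_inv, inv_one, mul_one, mul_one]
      · show x⁻¹ * (y₀ * y₀) * x⁻¹ * (y₀ * y₀)⁻¹ = x⁻¹ * x⁻¹
        rw [mul_comm (x⁻¹ * (y₀ * y₀)) x⁻¹, mul_assoc, mul_assoc, mul_inv_cancel, mul_one]
    rw [← h2]
    exact h1
  have main1 : ∀ x y : G, χ x * χ y = 1 → pairHom G (x, y) ^ 2 ∈ D := by
    intro x y hw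
    rw [← map_mul] at hw
    have hxy : x * y = 1 := hχ (hw.trans (map_one χ).symm)
    have hyx : y = x⁻¹ := (inv_eq_of_mul_eq_one_right hxy).symm
    rw [← map_pow, hyx]
    have : ((x, x⁻¹) : G × G) ^ 2 = (x * x, x⁻¹ * x⁻¹) := by
      rw [pow_two]
      rfl
    rw [this]
    exact hkey x
  have main2 : ∀ x y : G, χ x * χ y * ν = 1 → (pairHom G (x, y) * swapW G) ^ 2 ∈ D := by
    intro x y hw
    have hxy : x * y = y₀ * y₀ := by
      apply hχ
      rw [map_mul, map_mul, hy₀]
      calc χ x * χ y = χ x * χ y * (ν * ν) := by rw [hν, mul_one]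
        _ = (χ x * χ y * ν) * ν := by simp only [mul_assoc]
        _ = ν := by rw [hw, one_mul]
    rw [sq_pair_swap, mul_comm y x, hxy]
    have h1 := hkey y₀
    have h2 : y₀⁻¹ * y₀⁻¹ = y₀ * y₀ := by
      rw [← mul_inv, hy₀4]
    rw [h2] at h1
    exact h1
  intro w hw
  rw [MonoidHom.mem_ker] at hw
  rcases wr_cases w with ⟨hw1, -⟩ | ⟨hw1, -⟩
  · rw [hw1] at hw ⊢
    rw [hχpair] at hw
    exact main1 _ _ hw
  · rw [hw1] at hw ⊢
    rw [hχps] at hw
    exact main2 _ _ hw

/-- the product step -/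
theorem pk_main {G₁ G₂ A : Type*} [Group G₁] [Group G₂] [CommGroup A] (χ₁ : G₁ →* A)
    (χ₂ : G₂ →* A) (ν : A) (hν : ν * ν = 1)
    (hv₁ : ∀ x, χ₁ x = 1 ∨ χ₁ x = ν) (hv₂ : ∀ x, χ₂ x = 1 ∨ χ₂ x = ν)
    (t₁ : G₁) (ht₁ : χ₁ t₁ = ν) (t₂ : G₂) (ht₂ : χ₂ t₂ = ν)
    (hS₁ : SqComm G₁) (hS₂ : SqComm G₂)
    (χ : G₁ × G₂ →* A) (hχ : ∀ p, χ p = χ₁ p.1 * χ₂ p.2) :
    SqCommSub χ.ker := by
  classical
  set D : Subgroup (G₁ × G₂) := ⁅χ.ker, χ.ker⁆ with hD
  have hC1 : ∀ n ∈ commutator G₁, ((n, 1) : G₁ × G₂) ∈ D := by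
    have : commutator G₁ ≤ D.comap (MonoidHom.inl G₁ G₂) := by
      rw [commutator_def, Subgroup.commutator_le]
      intro x₁ _ x₂ _
      rw [Subgroup.mem_comap]
      show ((⁅x₁, x₂⁆, 1) : G₁ × G₂) ∈ D
      let ys : G₁ → G₂ := fun x => if χ₁ x = 1 then 1 else t₂
      have hys : ∀ x, χ₁ x * χ₂ (ys x) = 1 := by
        intro x
        show χ₁ x * χ₂ (if χ₁ x = 1 then 1 else t₂) = 1
        split_ifs with h
        · rw [h, map_one, mul_one]
        · rcases hv₁ x with h' | h'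
          · exact absurd h' h
          · rw [h', ht₂, hν]
      have hcomm : ⁅ys x₁, ys x₂⁆ = 1 := by
        rw [commutatorElement_eq_one_iff_commute]
        show Commute (if χ₁ x₁ = 1 then 1 else t₂) (if χ₁ x₂ = 1 then 1 else t₂)
        split_ifs
        · exact Commute.one_left _
        · exact Commute.one_left _
        · exact Commute.one_right _
        · exact Commute.refl _
      have h1 : ((⁅x₁, x₂⁆, 1) : G₁ × G₂) = ⁅((x₁, ys x₁) : G₁ × G₂), (x₂, ys x₂)⁆ := by
        apply Prod.ext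
        · rfl
        · exact hcomm.symm
      rw [h1]
      apply Subgroup.commutator_mem_commutator
      · rw [MonoidHom.mem_ker, hχ]
        exact hys x₁
      · rw [MonoidHom.mem_ker, hχ]
        exact hys x₂
    intro n hn
    exact this hn
  have hC2 : ∀ n ∈ commutator G₂, ((1, n) : G₁ × G₂) ∈ D := by
    have : commutator G₂ ≤ D.comap (MonoidHom.inr G₁ G₂) := by
      rw [commutator_def, Subgroup.commutator_le]
      intro x₁ _ x₂ _
      rw [Subgroup.mem_comap]
      show ((1, ⁅x₁, x₂⁆) : G₁ × G₂) ∈ D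
      let ys : G₂ → G₁ := fun x => if χ₂ x = 1 then 1 else t₁
      have hys : ∀ x, χ₁ (ys x) * χ₂ x = 1 := by
        intro x
        show χ₁ (if χ₂ x = 1 then 1 else t₁) * χ₂ x = 1
        split_ifs with h
        · rw [h, map_one, mul_one]
        · rcases hv₂ x with h' | h'
          · exact absurd h' h
          · rw [h', ht₁, hν]
      have hcomm : ⁅ys x₁, ys x₂⁆ = 1 := by
        rw [commutatorElement_eq_one_iff_commute]
        show Commute (if χ₂ x₁ = 1 then 1 else t₁) (if χ₂ x₂ = 1 then 1 else t₁)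
        split_ifs
        · exact Commute.one_left _
        · exact Commute.one_left _
        · exact Commute.one_right _
        · exact Commute.refl _
      have h1 : ((1, ⁅x₁, x₂⁆) : G₁ × G₂) = ⁅((ys x₁, x₁) : G₁ × G₂), (ys x₂, x₂)⁆ := by
        apply Prod.ext
        · exact hcomm.symm
        · rfl
      rw [h1]
      apply Subgroup.commutator_mem_commutator
      · rw [MonoidHom.mem_ker, hχ]
        exact hys x₁
      · rw [MonoidHom.mem_ker, hχ]
        exact hys x₂
    intro n hn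
    exact this hn
  intro p _
  have h1 : p ^ 2 = ((p.1 ^ 2, 1) : G₁ × G₂) * (1, p.2 ^ 2) := by
    apply Prod.ext
    · show p.1 ^ 2 = p.1 ^ 2 * 1
      rw [mul_one]
    · show p.2 ^ 2 = 1 * p.2 ^ 2
      rw [one_mul]
  rw [h1]
  exact D.mul_mem (hC1 _ (hS₁ p.1)) (hC2 _ (hS₂ p.2))

end Cfsg.Agent.Lib.Helper10.SLSylow
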