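import Mathlib
import Cfsg.Agent.Lib.Helper10.SLSylowB
import Cfsg.Agent.Lib.Helper10.GLSylowE4

set_option autoImplicit false

namespace Cfsg.Agent.Lib.Helper10.SLSylow

open Module Cfsg.Agent.Lib.Helper10.SpSylow Cfsg.Agent.Lib.Helper10.WreathLinear
  Cfsg.Agent.Lib.Helper10.SpSylowE Cfsg.Agent.Lib.Helper10.SpSylowP

universe u

variable {F : Type u} [Field F]

/-- determinant character of a representation -/
noncomputable def detHom {G W : Type*} [Group G] [AddCommGroup W] [Module F W]
    (ρ : G →* (Module.End F W)ˣ) : G →* Fˣ :=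
  (Units.map (LinearMap.det : Module.End F W →* F)).comp ρ

theorem detHom_val {G W : Type*} [Group G] [AddCommGroup W] [Module F W]
    (ρ : G →* (Module.End F W)ˣ) (g : G) :
    ((detHom ρ g : Fˣ) : F) = LinearMap.det (((ρ g : (Module.End F W)ˣ) : Module.End F W)) := rfl

theorem univ_c2 : (Finset.univ : Finset C2) = {1, sg} := by decide

theorem prod_c2 {M : Type*} [CommMonoid M] (f : C2 → M) : ∏ c, f c = f 1 * f sg := by
  rw [univ_c2, Finset.prod_pair sg_ne_one.symm]

theorem sg_mul_sg : sg * sg = (1 : C2) := by decide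

/-- the determinant of the coordinate swap -/
theorem det_swapMap (W : Type*) [AddCommGroup W] [Module F W] [FiniteDimensional F W]
    (h2 : (2 : F) ≠ 0) :
    LinearMap.det (LinearMap.funLeft F W (fun c : C2 => sg * c)) = (-1) ^ finrank F W := by
  classical
  let T : Module.End F (C2 → W) := LinearMap.funLeft F W (fun c : C2 => sg * c)
  let M : Module.End F (C2 → W) :=
    { toFun := fun φ c => if c = 1 then φ 1 + φ sg else φ 1 - φ sg
      map_add' := by
        intro φ ψ
        funext c
        simp only [Pi.add_apply]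
        split_ifs <;> abel
      map_smul' := by
        intro a φ
        funext c
        simp only [Pi.smul_apply, RingHom.id_apply]
        split_ifs
        · rw [smul_add]
        · rw [smul_sub] }
  let fN : C2 → (W →ₗ[F] W) := fun c => if c = 1 then LinearMap.id else -LinearMap.id
  let N : Module.End F (C2 → W) :=
    LinearMap.pi (fun c => (fN c).comp (LinearMap.proj c : (C2 → W) →ₗ[F] W))
  have hM1 : ∀ φ : C2 → W, M φ 1 = φ 1 + φ sg := by
    intro φ
    show (if (1 : C2) = 1 then φ 1 + φ sg else φ 1 - φ sg) = _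
    rw [if_pos rfl]
  have hMs : ∀ φ : C2 → W, M φ sg = φ 1 - φ sg := by
    intro φ
    show (if sg = 1 then φ 1 + φ sg else φ 1 - φ sg) = _
    rw [if_neg sg_ne_one]
  have hT : ∀ (φ : C2 → W) (c : C2), T φ c = φ (sg * c) := by
    intro φ c
    rfl
  have hN1 : ∀ φ : C2 → W, N φ 1 = φ 1 := by
    intro φ
    simp [N, fN]
  have hNs : ∀ φ : C2 → W, N φ sg = -φ sg := by
    intro φ
    simp [N, fN, sg_ne_one]
  have hMT : M * T = N * M := by
    apply LinearMap.ext
    intro φ
    funext c
    rw [Module.End.mul_apply, Module.End.mul_apply]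
    rcases c2_cases c with h | h
    · rw [h, hM1, hN1, hM1, hT, hT, mul_one, sg_mul_sg, add_comm]
    · rw [h, hMs, hNs, hMs, hT, hT, mul_one, sg_mul_sg, neg_sub]
  have hMM : M * M = (2 : F) • (1 : Module.End F (C2 → W)) := by
    apply LinearMap.ext
    intro φ
    funext c
    rw [Module.End.mul_apply, LinearMap.smul_apply, Module.End.one_apply, Pi.smul_apply]
    rcases c2_cases c with h | h
    · rw [h, hM1, hM1, hMs, two_smul]
      abel
    · rw [h, hMs, hM1, hMs, two_smul]
      abel
  have hdetM : LinearMap.det M ≠ 0 := by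
    intro h
    have h1 : LinearMap.det (M * M) = 0 := by
      rw [map_mul, h, mul_zero]
    rw [hMM, LinearMap.det_smul, map_one, mul_one] at h1
    exact pow_ne_zero _ h2 h1
  have hdetN : LinearMap.det N = (-1) ^ finrank F W := by
    show LinearMap.det (LinearMap.pi (fun c => (fN c).comp
      (LinearMap.proj c : (C2 → W) →ₗ[F] W))) = _
    rw [LinearMap.det_pi, prod_c2]
    show LinearMap.det (if (1 : C2) = 1 then (LinearMap.id : W →ₗ[F] W) else -LinearMap.id) *
      LinearMap.det (if sg = 1 then (LinearMap.id : W →ₗ[F] W) else -LinearMap.id) = _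
    rw [if_pos rfl, if_neg sg_ne_one, LinearMap.det_id, one_mul]
    have : (-LinearMap.id : W →ₗ[F] W) = (-1 : F) • (LinearMap.id : W →ₗ[F] W) := by
      rw [neg_smul, one_smul]
    rw [this, LinearMap.det_smul, LinearMap.det_id, mul_one]
  have h3 : LinearMap.det M * LinearMap.det T = LinearMap.det N * LinearMap.det M := by
    rw [← map_mul, ← map_mul, hMT]
  have h4 : LinearMap.det T = LinearMap.det N := by
    apply mul_left_cancel₀ hdetM
    rw [h3, mul_comm]
  rw [← hdetN, ← h4]

theorem det_wrRep {G W : Type*} [Group G] [AddCommGroup W] [Module F W] [FiniteDimensional F W]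
    (h2 : (2 : F) ≠ 0) (ρ : G →* (Module.End F W)ˣ) (w : RegularWreathProduct G C2) :
    LinearMap.det (((wrRep ρ w : (Module.End F (C2 → W))ˣ) : Module.End F (C2 → W))) =
      LinearMap.det (((ρ (w.left 1) : (Module.End F W)ˣ) : Module.End F W)) *
        LinearMap.det (((ρ (w.left sg) : (Module.End F W)ˣ) : Module.End F W)) *
        (if w.right = 1 then 1 else (-1) ^ finrank F W) := by
  classical
  let Dg : Module.End F (C2 → W) := LinearMap.pi (fun c =>
    (((ρ (w.left c) : (Module.End F W)ˣ) : Module.End F W)).comp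
      (LinearMap.proj c : (C2 → W) →ₗ[F] W))
  let Pm : Module.End F (C2 → W) := LinearMap.funLeft F W (fun c : C2 => w.right⁻¹ * c)
  have h1 : ((wrRep ρ w : (Module.End F (C2 → W))ˣ) : Module.End F (C2 → W)) = Dg * Pm := by
    apply LinearMap.ext
    intro φ
    funext c
    rw [wrRep_apply]
    rfl
  have hDg : LinearMap.det Dg =
      LinearMap.det (((ρ (w.left 1) : (Module.End F W)ˣ) : Module.End F W)) *
        LinearMap.det (((ρ (w.left sg) : (Module.End F W)ˣ) : Module.End F W)) := by
    show LinearMap.det (LinearMap.pi (fun c =>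
      (((ρ (w.left c) : (Module.End F W)ˣ) : Module.End F W)).comp
        (LinearMap.proj c : (C2 → W) →ₗ[F] W))) = _
    rw [LinearMap.det_pi, prod_c2]
  have hPm : LinearMap.det Pm = if w.right = 1 then 1 else (-1) ^ finrank F W := by
    rcases c2_cases w.right with h | h
    · rw [if_pos h]
      have : Pm = 1 := by
        apply LinearMap.ext
        intro φ
        funext c
        show φ (w.right⁻¹ * c) = φ c
        rw [h, inv_one, one_mul]
      rw [this, map_one]
    · have hne : w.right ≠ 1 := by
        rw [h]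
        exact sg_ne_one
      rw [if_neg hne]
      have : Pm = LinearMap.funLeft F W (fun c : C2 => sg * c) := by
        show LinearMap.funLeft F W (fun c : C2 => w.right⁻¹ * c) = _
        rw [h, sg_inv]
      rw [this, det_swapMap W h2]
  rw [h1, map_mul, hDg, hPm]

theorem detHom_wrRep {G W : Type*} [Group G] [AddCommGroup W] [Module F W]
    [FiniteDimensional F W] (h2 : (2 : F) ≠ 0) (ρ : G →* (Module.End F W)ˣ)
    (w : RegularWreathProduct G C2) :
    detHom (wrRep ρ) w = detHom ρ (w.left 1) * detHom ρ (w.left sg) *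
      (if w.right = 1 then 1 else (-1) ^ finrank F W) := by
  apply Units.ext
  rw [detHom_val, det_wrRep h2, Units.val_mul, Units.val_mul, detHom_val, detHom_val]
  congr 1
  split_ifs
  · rfl
  · simp

/-- the product of two representations -/
noncomputable def prodRepHom {G₁ G₂ V V' : Type*} [Group G₁] [Group G₂] [AddCommGroup V]
    [Module F V] [AddCommGroup V'] [Module F V'] (ρ₁ : G₁ →* (Module.End F V)ˣ)
    (ρ₂ : G₂ →* (Module.End F V')ˣ) : G₁ × G₂ →* (Module.End F (V × V'))ˣ :=
  MonoidHom.toHomUnits
    { toFun := fun p => (((ρ₁ p.1 : (Module.End F V)ˣ) : Module.End F V)).prodMap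
        (((ρ₂ p.2 : (Module.End F V')ˣ) : Module.End F V'))
      map_one' := by
        apply LinearMap.ext
        intro v
        simp
      map_mul' := by
        intro a b
        apply LinearMap.ext
        intro v
        simp }

theorem prodRepHom_apply {G₁ G₂ V V' : Type*} [Group G₁] [Group G₂] [AddCommGroup V]
    [Module F V] [AddCommGroup V'] [Module F V'] (ρ₁ : G₁ →* (Module.End F V)ˣ)
    (ρ₂ : G₂ →* (Module.End F V')ˣ) (p : G₁ × G₂) (w : V × V') :
    ((prodRepHom ρ₁ ρ₂ p : (Module.End F (V × V'))ˣ) : Module.End F (V × V')) w =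
      ((((ρ₁ p.1 : (Module.End F V)ˣ) : Module.End F V)) w.1,
        (((ρ₂ p.2 : (Module.End F V')ˣ) : Module.End F V')) w.2) := rfl

theorem prodRepHom_injective {G₁ G₂ V V' : Type*} [Group G₁] [Group G₂] [AddCommGroup V]
    [Module F V] [AddCommGroup V'] [Module F V'] (ρ₁ : G₁ →* (Module.End F V)ˣ)
    (ρ₂ : G₂ →* (Module.End F V')ˣ) (h₁ : Function.Injective ρ₁) (h₂ : Function.Injective ρ₂) :
    Function.Injective (prodRepHom ρ₁ ρ₂) := by
  intro p p' h
  have h1 : ∀ w : V × V', ((prodRepHom ρ₁ ρ₂ p : (Module.End F (V × V'))ˣ) :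
      Module.End F (V × V')) w = ((prodRepHom ρ₁ ρ₂ p' : (Module.End F (V × V'))ˣ) :
      Module.End F (V × V')) w := by
    intro w
    rw [h]
  apply Prod.ext
  · apply h₁
    apply Units.ext
    apply LinearMap.ext
    intro v
    have := congrArg Prod.fst (h1 (v, 0))
    rw [prodRepHom_apply, prodRepHom_apply] at this
    exact this
  · apply h₂
    apply Units.ext
    apply LinearMap.ext
    intro v
    have := congrArg Prod.snd (h1 (0, v))
    rw [prodRepHom_apply, prodRepHom_apply] at this
    exact this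

theorem detHom_prodRepHom {G₁ G₂ V V' : Type*} [Group G₁] [Group G₂] [AddCommGroup V]
    [Module F V] [AddCommGroup V'] [Module F V'] [FiniteDimensional F V] [FiniteDimensional F V']
    (ρ₁ : G₁ →* (Module.End F V)ˣ) (ρ₂ : G₂ →* (Module.End F V')ˣ) (p : G₁ × G₂) :
    detHom (prodRepHom ρ₁ ρ₂) p = detHom ρ₁ p.1 * detHom ρ₂ p.2 := by
  apply Units.ext
  rw [detHom_val, Units.val_mul, detHom_val, detHom_val]
  show LinearMap.det ((((ρ₁ p.1 : (Module.End F V)ˣ) : Module.End F V)).prodMap
        (((ρ₂ p.2 : (Module.End F V')ˣ) : Module.End F V'))) = _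
  rw [LinearMap.det_prodMap]

end Cfsg.Agent.Lib.Helper10.SLSylow
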