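import Mathlib
import Cfsg.Agent.Lib.Helper10.SLSylowC

set_option autoImplicit false

namespace Cfsg.Agent.Lib.Helper10.SLSylow

open Module Cfsg.Agent.Lib.Helper10.SpSylow Cfsg.Agent.Lib.Helper10.WreathLinear
  Cfsg.Agent.Lib.Helper10.SpSylowE Cfsg.Agent.Lib.Helper10.SpSylowP

universe u

variable {F : Type u} [Field F]

def HasT (F : Type u) [Field F] (k D : ℕ) : Prop :=
  ∃ (W : Type u) (_ : AddCommGroup W) (_ : Module F W) (_ : FiniteDimensional F W)
    (G : Type u) (_ : Group G) (ρ : G →* (Module.End F W)ˣ),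
    finrank F W = D ∧ Function.Injective ρ ∧ Nat.card G = 2 ^ k ∧ SqCommSub (detHom ρ).ker

def HasJT (F : Type u) [Field F] (k D : ℕ) : Prop :=
  ∃ (W : Type u) (_ : AddCommGroup W) (_ : Module F W) (_ : FiniteDimensional F W)
    (G : Type u) (_ : Group G) (ρ : G →* (Module.End F W)ˣ),
    finrank F W = D ∧ Function.Injective ρ ∧ Nat.card G = 2 ^ k ∧ SqCommSub (detHom ρ).ker ∧
      SqComm G ∧ ∃ t : G, detHom ρ t = -1

theorem HasJT.toHasT {k D : ℕ} (h : HasJT F k D) : HasT F k D := by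
  obtain ⟨W, i1, i2, i3, G, i4, ρ, h1, h2, h3, h4, -, -⟩ := h
  exact ⟨W, i1, i2, i3, G, i4, ρ, h1, h2, h3, h4⟩

theorem sqCommSub_wreath [Fintype F] (h2 : (2 : F) ≠ 0) {G W : Type*} [Group G]
    [AddCommGroup W] [Module F W] [FiniteDimensional F W] (ρ : G →* (Module.End F W)ˣ)
    (hD : Even (finrank F W)) (hT : SqCommSub (detHom ρ).ker) :
    SqCommSub (detHom (wrRep (Q := C2) ρ)).ker := by
  have hcyc : IsCyclic (detHom ρ).range := inferInstance
  apply wk_main (detHom ρ) _ (comm_le_of_cyclic (detHom ρ)) (detHom (wrRep ρ))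
  · intro w
    rw [detHom_wrRep h2, hD.neg_one_pow, ite_self, mul_one]
  · intro k hk
    exact Subgroup.commutator_mono le_rfl le_top (hT k (MonoidHom.mem_ker.mpr hk))

theorem card_c2 : Nat.card C2 = 2 := by
  show Nat.card (Multiplicative (ZMod 2)) = 2
  rw [Nat.card_eq_fintype_card, Fintype.card_multiplicative, ZMod.card]

theorem sqComm_c2 : SqComm C2 := by
  intro x
  have : x ^ 2 = 1 := by
    revert x
    show ∀ x : Multiplicative (ZMod 2), x ^ 2 = 1
    decide
  rw [this]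
  exact Subgroup.one_mem _

theorem card_wreath {G : Type*} [Group G] {k : ℕ} (h : Nat.card G = 2 ^ k) :
    Nat.card (RegularWreathProduct G C2) = 2 ^ (2 * k + 1) := by
  have hfin : Finite C2 := inferInstanceAs (Finite (Multiplicative (ZMod 2)))
  rw [RegularWreathProduct.card, h, card_c2, ← pow_mul, pow_succ]
  ring

theorem hasT_step [Fintype F] (h2 : (2 : F) ≠ 0) {k D : ℕ} (hD : 0 < D) (hDe : Even D)
    (h : HasT F k D) : HasT F (2 * k + 1) (2 * D) := by
  classical
  obtain ⟨W, _, _, _, G, _, ρ, hWd, hρ, hcard, hT⟩ := h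
  have hWnt : Nontrivial W := by
    rw [← Module.finrank_pos_iff (R := F), hWd]
    exact hD
  have hfin : Finite C2 := inferInstanceAs (Finite (Multiplicative (ZMod 2)))
  let _ : Fintype C2 := inferInstanceAs (Fintype (Multiplicative (ZMod 2)))
  refine ⟨C2 → W, inferInstance, inferInstance, inferInstance, RegularWreathProduct G C2,
    inferInstance, wrRep ρ, ?_, wrRep_injective ρ hρ, card_wreath hcard, ?_⟩
  · rw [Module.finrank_pi_fintype]
    simp only [Finset.sum_const, Finset.card_univ, smul_eq_mul, hWd]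
    rw [show Fintype.card C2 = 2 from by
      show Fintype.card (Multiplicative (ZMod 2)) = 2
      rw [Fintype.card_multiplicative, ZMod.card]]
  · apply sqCommSub_wreath h2 ρ _ hT
    rw [hWd]
    exact hDe

theorem hasJT_step [Fintype F] (h2 : (2 : F) ≠ 0) {k D : ℕ} (hD : 0 < D) (hDe : Even D)
    (h : HasJT F k D) : HasJT F (2 * k + 1) (2 * D) := by
  classical
  obtain ⟨W, _, _, _, G, _, ρ, hWd, hρ, hcard, hT, hS, t, ht⟩ := h
  have hWnt : Nontrivial W := by
    rw [← Module.finrank_pos_iff (R := F), hWd]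
    exact hD
  have hfin : Finite C2 := inferInstanceAs (Finite (Multiplicative (ZMod 2)))
  let _ : Fintype C2 := inferInstanceAs (Fintype (Multiplicative (ZMod 2)))
  refine ⟨C2 → W, inferInstance, inferInstance, inferInstance, RegularWreathProduct G C2,
    inferInstance, wrRep ρ, ?_, wrRep_injective ρ hρ, card_wreath hcard, ?_,
    SqComm.wreath hS sqComm_c2, pairHom G (t, 1), ?_⟩
  · rw [Module.finrank_pi_fintype]
    simp only [Finset.sum_const, Finset.card_univ, smul_eq_mul, hWd]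
    rw [show Fintype.card C2 = 2 from by
      show Fintype.card (Multiplicative (ZMod 2)) = 2
      rw [Fintype.card_multiplicative, ZMod.card]]
  · apply sqCommSub_wreath h2 ρ _ hT
    rw [hWd]
    exact hDe
  · rw [detHom_wrRep h2, pairHom_left_one, pairHom_left_sg, pairHom_right, if_pos rfl, map_one,
      mul_one, mul_one]
    exact ht

theorem val_pm_one [Fintype F] (h3 : Fintype.card F % 4 = 3) {G : Type*} [Group G] {k : ℕ}
    (hG : Nat.card G = 2 ^ k) (χ : G →* Fˣ) (x : G) : χ x = 1 ∨ χ x = -1 := by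
  classical
  have hfinG : Finite G := Nat.finite_of_card_ne_zero (by rw [hG]; positivity)
  have h1 : (χ x) ^ (2 ^ k) = 1 := by
    rw [← map_pow, ← hG, pow_card_eq_one', map_one]
  have hd1 : orderOf (χ x) ∣ 2 ^ k := orderOf_dvd_of_pow_eq_one h1
  have hd2 : orderOf (χ x) ∣ Fintype.card F - 1 := by
    have := orderOf_dvd_card (G := Fˣ) (x := χ x)
    rw [Fintype.card_units] at this
    exact this
  obtain ⟨i, -, hi⟩ := (Nat.dvd_prime_pow Nat.prime_two).mp hd1
  have hi1 : i ≤ 1 := by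
    by_contra hlt
    push Not at hlt
    have h4' : 4 ∣ Fintype.card F - 1 := by
      apply dvd_trans _ hd2
      rw [hi]
      calc 4 = 2 ^ 2 := by norm_num
        _ ∣ 2 ^ i := pow_dvd_pow 2 hlt
    omega
  have hd3 : orderOf (χ x) ∣ 2 := by
    rw [hi]
    calc 2 ^ i ∣ 2 ^ 1 := pow_dvd_pow 2 hi1
      _ = 2 := by norm_num
  have h5 : (χ x) ^ 2 = 1 := orderOf_dvd_iff_pow_eq_one.mp hd3
  have h6 : ((χ x : Fˣ) : F) * ((χ x : Fˣ) : F) = 1 := by
    rw [← Units.val_mul, ← pow_two, h5, Units.val_one]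
  rcases mul_self_eq_one_iff.mp h6 with h | h
  · left
    exact Units.ext h
  · right
    apply Units.ext
    rw [h]
    simp

theorem hasJT_add [Fintype F] (h3 : Fintype.card F % 4 = 3) {k D k' D' : ℕ}
    (h : HasJT F k D) (h' : HasJT F k' D') : HasJT F (k + k') (D + D') := by
  classical
  obtain ⟨W, _, _, _, G, _, ρ, hWd, hρ, hcard, hT, hS, t, ht⟩ := h
  obtain ⟨W', _, _, _, G', _, ρ', hWd', hρ', hcard', hT', hS', t', ht'⟩ := h'
  have hνν : (-1 : Fˣ) * (-1) = 1 := by
    apply Units.ext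
    simp
  refine ⟨W × W', inferInstance, inferInstance, inferInstance, G × G', inferInstance,
    prodRepHom ρ ρ', ?_, prodRepHom_injective ρ ρ' hρ hρ', ?_, ?_, SqComm.prod hS hS',
    (t, 1), ?_⟩
  · rw [Module.finrank_prod, hWd, hWd']
  · rw [Nat.card_prod, hcard, hcard', pow_add]
  · exact pk_main (detHom ρ) (detHom ρ') (-1) hνν (val_pm_one h3 hcard _) (val_pm_one h3 hcard' _)
      t ht t' ht' hS hS' (detHom (prodRepHom ρ ρ')) (detHom_prodRepHom ρ ρ')
  · rw [detHom_prodRepHom, map_one, mul_one]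
    exact ht

theorem hasJT_pow [Fintype F] (h2 : (2 : F) ≠ 0) {k₀ : ℕ} (hbase : HasJT F k₀ 2) (s : ℕ) :
    HasJT F (2 ^ s * k₀ + ff (2 ^ s)) (2 ^ s * 2) := by
  induction s with
  | zero =>
    simpa [ff] using hbase
  | succ s ih =>
    have h := hasJT_step h2 (by positivity) (by
      rw [mul_comm]
      exact even_two_mul _) ih
    have h1 := ff_pow s
    have h2' := ff_pow (s + 1)
    rw [← mul_assoc, ← pow_succ'] at h
    have hk : 2 * (2 ^ s * k₀ + ff (2 ^ s)) + 1 = 2 ^ (s + 1) * k₀ + ff (2 ^ (s + 1)) := by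
      rw [pow_succ'] at h2' ⊢
      have : 2 * (2 ^ s * k₀) = 2 * 2 ^ s * k₀ := by ring
      omega
    rw [hk] at h
    exact h

theorem hasT_pow [Fintype F] (h2 : (2 : F) ≠ 0) {k₀ : ℕ} (hbase : HasT F k₀ 2) (s : ℕ) :
    HasT F (2 ^ s * k₀ + ff (2 ^ s)) (2 ^ s * 2) := by
  induction s with
  | zero =>
    simpa [ff] using hbase
  | succ s ih =>
    have h := hasT_step h2 (by positivity) (by
      rw [mul_comm]
      exact even_two_mul _) ih
    have h1 := ff_pow s
    have h2' := ff_pow (s + 1)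
    rw [← mul_assoc, ← pow_succ'] at h
    have hk : 2 * (2 ^ s * k₀ + ff (2 ^ s)) + 1 = 2 ^ (s + 1) * k₀ + ff (2 ^ (s + 1)) := by
      rw [pow_succ'] at h2' ⊢
      have : 2 * (2 ^ s * k₀) = 2 * 2 ^ s * k₀ := by ring
      omega
    rw [hk] at h
    exact h

theorem hasJT_all [Fintype F] (h3 : Fintype.card F % 4 = 3) (h2 : (2 : F) ≠ 0) {k₀ : ℕ}
    (hbase : HasJT F k₀ 2) (n : ℕ) (hn : 1 ≤ n) : HasJT F (n * k₀ + ff n) (n * 2) := by
  induction n using Nat.strong_induction_on with
  | _ n ih =>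
    set s := Nat.log 2 n with hs
    have h1 : 2 ^ s ≤ n := Nat.pow_log_le_self 2 (by omega)
    have h2' : n < 2 ^ (s + 1) := Nat.lt_pow_succ_log_self (by norm_num) n
    have hr : n - 2 ^ s < 2 ^ s := by
      rw [pow_succ] at h2'
      omega
    have hpos : 0 < 2 ^ s := by positivity
    rcases Nat.eq_zero_or_pos (n - 2 ^ s) with h0 | h0
    · have hn' : n = 2 ^ s := by omega
      rw [hn']
      exact hasJT_pow h2 hbase s
    · have h3' := hasJT_add h3 (hasJT_pow (F := F) h2 hbase s) (ih (n - 2 ^ s) (by omega) h0)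
      have hsum : 2 ^ s + (n - 2 ^ s) = n := by omega
      have hsum2 : 2 ^ s * 2 + (n - 2 ^ s) * 2 = n * 2 := by
        rw [← add_mul, hsum]
      have h4' := ff_add s (n - 2 ^ s) hr
      rw [hsum] at h4'
      rw [hsum2] at h3'
      have hk : 2 ^ s * k₀ + ff (2 ^ s) + ((n - 2 ^ s) * k₀ + ff (n - 2 ^ s)) =
          n * k₀ + ff n := by
        have : 2 ^ s * k₀ + (n - 2 ^ s) * k₀ = n * k₀ := by
          rw [← add_mul, hsum]
        omega
      rw [hk] at h3'
      exact h3'

end Cfsg.Agent.Lib.Helper10.SLSylow
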