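import Mathlib
import Cfsg.Agent.Lib.Helper10.SLSylowD

set_option autoImplicit false
open scoped MatrixGroups

namespace Cfsg.Agent.Lib.Helper10.SLSylow

open Module Cfsg.Agent.Lib.Helper10.SpSylow Cfsg.Agent.Lib.Helper10.WreathLinear
  Cfsg.Agent.Lib.Helper10.SpSylowE Cfsg.Agent.Lib.Helper10.SpSylowP
  Cfsg.Agent.Lib.Helper10.GLSylowE

universe u

variable {F : Type u} [Field F]

theorem sqCommSub_of_sqComm {G : Type*} [Group G] (K : Subgroup G) (h : SqComm ↥K) :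
    SqCommSub K := by
  intro k hk
  have h1 := h ⟨k, hk⟩
  rw [← Subgroup.map_subtype_commutator]
  exact ⟨_, h1, rfl⟩

/-- the structure of a Sylow 2-subgroup of `GL₂(q)`, `q ≡ 3 (mod 4)` -/
theorem sylow_GL2_data [Fintype F] (hodd : Odd (Fintype.card F)) (h4 : 4 ∣ Fintype.card F + 1) :
    ∃ (P : Sylow 2 (Module.End F (Fin 2 → F))ˣ) (P₀ : Subgroup (Module.End F (Fin 2 → F))ˣ),
      P₀ ≤ (P : Subgroup (Module.End F (Fin 2 → F))ˣ) ∧
      Nat.card ↥(P : Subgroup (Module.End F (Fin 2 → F))ˣ) = 2 * Nat.card P₀ ∧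
      SqComm ↥P₀ ∧
      (∀ x ∈ P₀, LinearMap.det ((x : (Module.End F (Fin 2 → F))ˣ) : Module.End F (Fin 2 → F)) = 1) ∧
      ∃ t ∈ (P : Subgroup (Module.End F (Fin 2 → F))ˣ), t ^ 2 = 1 ∧
        LinearMap.det ((t : (Module.End F (Fin 2 → F))ˣ) : Module.End F (Fin 2 → F)) = -1 := by
  classical
  have h2 := two_ne_zero_of_odd (F := F) _ rfl hodd
  have hfinSp : Finite ↥(Matrix.symplecticGroup (Fin 1) F) := inferInstance
  have hfinU : Finite (Module.End F (Fin 2 → F))ˣ :=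
    Finite.of_equiv _ (Matrix.GeneralLinearGroup.toLin (n := Fin 2) (R := F)).toEquiv
  let P₁ : Sylow 2 ↥(Matrix.symplecticGroup (Fin 1) F) := default
  have hP₁E := sqComm_sylow_sp1 hodd P₁
  let ε : (Fin 1 ⊕ Fin 1 → F) ≃ₗ[F] (Fin 2 → F) :=
    LinearEquiv.funCongrLeft F F (finSumFinEquiv (m := 1) (n := 1)).symm
  let θ : (Module.End F (Fin 1 ⊕ Fin 1 → F))ˣ →* (Module.End F (Fin 2 → F))ˣ :=
    Units.map (conjHom ε)
  have hθinj : Function.Injective θ := by
    intro a b hab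
    apply Units.ext
    apply conjHom_injective ε
    have := congrArg (fun u : (Module.End F (Fin 2 → F))ˣ => (u : Module.End F (Fin 2 → F))) hab
    simpa [θ] using this
  let ψ : ↥(P₁ : Subgroup ↥(Matrix.symplecticGroup (Fin 1) F)) →* (Module.End F (Fin 2 → F))ˣ :=
    (θ.comp (spToEnd (F := F) (Fin 1))).comp
      (P₁ : Subgroup ↥(Matrix.symplecticGroup (Fin 1) F)).subtype
  have hψ : Function.Injective ψ := by
    intro a b hab
    apply Subtype.ext
    apply spToEnd_injective (Fin 1)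
    exact hθinj hab
  let e₀ : ↥(P₁ : Subgroup ↥(Matrix.symplecticGroup (Fin 1) F)) ≃* ψ.range :=
    MonoidHom.ofInjective hψ
  have hP₀card : Nat.card ψ.range =
      2 ^ (padicValNat 2 (Fintype.card F + 1) + padicValNat 2 (Fintype.card F - 1)) := by
    rw [← Nat.card_congr e₀.toEquiv, P₁.card_eq_multiplicity, val_card_sp hodd 1]
    simp [ff]
  have hP₀p : IsPGroup 2 ψ.range := IsPGroup.of_card hP₀card
  obtain ⟨P, hP⟩ := hP₀p.exists_le_sylow
  have hPcard : Nat.card ↥(P : Subgroup (Module.End F (Fin 2 → F))ˣ) =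
      2 * Nat.card ψ.range := by
    rw [P.card_eq_multiplicity, val_card_GL2 hodd h4, hP₀card, pow_succ, mul_comm]
  -- determinants on the range of ψ
  have hdetψ : ∀ x ∈ ψ.range,
      LinearMap.det ((x : (Module.End F (Fin 2 → F))ˣ) : Module.End F (Fin 2 → F)) = 1 := by
    rintro _ ⟨s, rfl⟩
    show LinearMap.det ((ε : (Fin 1 ⊕ Fin 1 → F) →ₗ[F] (Fin 2 → F)) ∘ₗ
      (((spToEnd (F := F) (Fin 1) s.1 : (Module.End F (Fin 1 ⊕ Fin 1 → F))ˣ) :
        Module.End F (Fin 1 ⊕ Fin 1 → F))) ∘ₗ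
      (ε.symm : (Fin 2 → F) →ₗ[F] (Fin 1 ⊕ Fin 1 → F))) = 1
    rw [LinearMap.det_conj]
    show LinearMap.det (Matrix.toLin' (s.1.1 : Matrix (Fin 1 ⊕ Fin 1) (Fin 1 ⊕ Fin 1) F)) = 1
    rw [LinearMap.det_toLin']
    exact SymplecticGroup.det_eq_one s.1.2
  -- the involution
  let M₀ : Matrix (Fin 2) (Fin 2) F := !![1, 0; 0, -1]
  have hM₀det : M₀.det = -1 := by
    rw [Matrix.det_fin_two_of]
    ring
  let g₀ : Matrix.GeneralLinearGroup (Fin 2) F :=
    Matrix.GeneralLinearGroup.mkOfDetNeZero M₀ (by rw [hM₀det]; simp)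
  have hg₀sq : g₀ ^ 2 = 1 := by
    apply Units.ext
    show M₀ ^ 2 = 1
    rw [pow_two]
    ext i j
    fin_cases i <;> fin_cases j <;> simp [M₀, Matrix.mul_apply, Fin.sum_univ_two]
  let t₀ : (Module.End F (Fin 2 → F))ˣ := Matrix.GeneralLinearGroup.toLin (n := Fin 2) (R := F) g₀
  have ht₀sq : t₀ ^ 2 = 1 := by
    rw [← map_pow, hg₀sq, map_one]
  have ht₀det : LinearMap.det ((t₀ : (Module.End F (Fin 2 → F))ˣ) : Module.End F (Fin 2 → F))
      = -1 := by
    simp only [t₀, Matrix.GeneralLinearGroup.coe_toLin]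
    show LinearMap.det (Matrix.mulVecLin M₀) = -1
    rw [← Matrix.toLin'_apply', LinearMap.det_toLin', hM₀det]
  have ht₀p : IsPGroup 2 (Subgroup.zpowers t₀) := by
    rintro ⟨g, hg⟩
    obtain ⟨m, rfl⟩ := Subgroup.mem_zpowers_iff.1 hg
    refine ⟨1, ?_⟩
    apply Subtype.ext
    show (t₀ ^ m) ^ 2 ^ 1 = 1
    rw [pow_one, ← zpow_natCast, ← zpow_mul, mul_comm, zpow_mul, zpow_natCast, ht₀sq, one_zpow]
  obtain ⟨P₂, hP₂⟩ := ht₀p.exists_le_sylow
  obtain ⟨g, hg⟩ := MulAction.exists_smul_eq (Module.End F (Fin 2 → F))ˣ P₂ P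
  have htP : g * t₀ * g⁻¹ ∈ (P : Subgroup (Module.End F (Fin 2 → F))ˣ) := by
    rw [← hg, Sylow.coe_subgroup_smul]
    exact ⟨t₀, hP₂ (Subgroup.mem_zpowers t₀), rfl⟩
  have htsq : (g * t₀ * g⁻¹) ^ 2 = 1 := by
    rw [pow_two]
    have : g * t₀ * g⁻¹ * (g * t₀ * g⁻¹) = g * (t₀ ^ 2) * g⁻¹ := by
      rw [pow_two]; group
    rw [this, ht₀sq]
    group
  have htdet : LinearMap.det (((g * t₀ * g⁻¹ : (Module.End F (Fin 2 → F))ˣ)) :
      Module.End F (Fin 2 → F)) = -1 := by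
    have h1 : Units.map (LinearMap.det : Module.End F (Fin 2 → F) →* F) (g * t₀ * g⁻¹) =
        Units.map (LinearMap.det : Module.End F (Fin 2 → F) →* F) t₀ := by
      rw [map_mul, map_mul, map_inv, mul_comm, ← mul_assoc, inv_mul_cancel, one_mul]
    have h3 := congrArg Units.val h1
    rw [Units.coe_map, Units.coe_map] at h3
    exact h3.trans ht₀det
  exact ⟨P, ψ.range, hP, hPcard, hP₁E.of_equiv e₀, hdetψ, g * t₀ * g⁻¹, htP, htsq, htdet⟩

theorem hasJT_base [Fintype F] (h3 : Fintype.card F % 4 = 3) :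
    HasJT F ((padicValNat 2 (Fintype.card F + 1) + padicValNat 2 (Fintype.card F - 1)) + 1) 2 := by
  classical
  have hodd : Odd (Fintype.card F) := by
    rw [Nat.odd_iff]
    omega
  have h4 : 4 ∣ Fintype.card F + 1 := by omega
  have h2 := two_ne_zero_of_odd (F := F) _ rfl hodd
  have hfinU : Finite (Module.End F (Fin 2 → F))ˣ :=
    Finite.of_equiv _ (Matrix.GeneralLinearGroup.toLin (n := Fin 2) (R := F)).toEquiv
  obtain ⟨P, P₀, hP₀P, hcard, hP₀E, hdet₀, t, htP, htsq, htdet⟩ := sylow_GL2_data hodd h4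
  have hfinP : Finite ↥(P : Subgroup (Module.End F (Fin 2 → F))ˣ) := inferInstance
  let ρ : ↥(P : Subgroup (Module.End F (Fin 2 → F))ˣ) →* (Module.End F (Fin 2 → F))ˣ :=
    (P : Subgroup (Module.End F (Fin 2 → F))ˣ).subtype
  let P₀' : Subgroup ↥(P : Subgroup (Module.End F (Fin 2 → F))ˣ) :=
    P₀.subgroupOf (P : Subgroup (Module.End F (Fin 2 → F))ˣ)
  have hcard' : Nat.card ↥(P : Subgroup (Module.End F (Fin 2 → F))ˣ) = 2 * Nat.card P₀' := by
    rw [hcard, Nat.card_congr (Subgroup.subgroupOfEquivOfLe hP₀P).toEquiv]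
  have hP₀'E : SqComm ↥P₀' := hP₀E.of_equiv (Subgroup.subgroupOfEquivOfLe hP₀P).symm
  have hne : (-1 : F) ≠ 1 := by
    intro h
    apply h2
    linear_combination -h
  have htdet' : detHom ρ ⟨t, htP⟩ = -1 := by
    apply Units.ext
    rw [detHom_val]
    show LinearMap.det ((t : (Module.End F (Fin 2 → F))ˣ) : Module.End F (Fin 2 → F)) = _
    rw [htdet]
    simp
  have htK : (⟨t, htP⟩ : ↥(P : Subgroup (Module.End F (Fin 2 → F))ˣ)) ∉ (detHom ρ).ker := by
    rw [MonoidHom.mem_ker, htdet']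
    intro h
    apply hne
    have := congrArg Units.val h
    simpa using this
  have htP₀ : (⟨t, htP⟩ : ↥(P : Subgroup (Module.End F (Fin 2 → F))ˣ)) ∉ P₀' := by
    rw [Subgroup.mem_subgroupOf]
    intro h
    apply hne
    rw [← htdet]
    exact hdet₀ t h
  have hle : P₀' ≤ (detHom ρ).ker := by
    intro x hx
    rw [MonoidHom.mem_ker]
    apply Units.ext
    rw [detHom_val]
    exact hdet₀ x.1 (Subgroup.mem_subgroupOf.mp hx)
  -- the kernel is P₀'
  have hK : (detHom ρ).ker = P₀' := by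
    symm
    apply Subgroup.eq_of_le_of_card_ge hle
    have h3' : Nat.card P₀' ∣ Nat.card (detHom ρ).ker := Subgroup.card_dvd_of_le hle
    have h4' : Nat.card (detHom ρ).ker ∣ Nat.card ↥(P : Subgroup (Module.End F (Fin 2 → F))ˣ) :=
      Subgroup.card_subgroup_dvd_card _
    have hneq : Nat.card (detHom ρ).ker ≠ Nat.card ↥(P : Subgroup (Module.End F (Fin 2 → F))ˣ) := by
      intro heq
      have : (detHom ρ).ker = ⊤ := Subgroup.eq_top_of_card_eq _ heq
      apply htK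
      rw [this]
      exact Subgroup.mem_top _
    obtain ⟨a, ha⟩ := h3'
    rw [hcard', ha] at h4' hneq
    have hpos : 0 < Nat.card P₀' := Nat.card_pos
    have h4'' : Nat.card P₀' * a ∣ Nat.card P₀' * 2 := by
      rw [mul_comm _ 2]
      exact h4'
    have ha2 : a ∣ 2 := Nat.dvd_of_mul_dvd_mul_left hpos h4''
    have hale : a ≤ 2 := Nat.le_of_dvd (by norm_num) ha2
    have ha0 : a ≠ 0 := by
      intro h0
      rw [h0] at ha2
      omega
    have ha1 : a = 1 := by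
      by_contra hcon
      have : a = 2 := by omega
      apply hneq
      rw [this, mul_comm]
    rw [ha, ha1, mul_one]
  refine ⟨Fin 2 → F, inferInstance, inferInstance, inferInstance,
    ↥(P : Subgroup (Module.End F (Fin 2 → F))ˣ), inferInstance, ρ, Module.finrank_fin_fun F,
    Subtype.val_injective, ?_, ?_, ?_, ⟨t, htP⟩, htdet'⟩
  · rw [P.card_eq_multiplicity, val_card_GL2 hodd h4]
  · rw [hK]
    exact sqCommSub_of_sqComm P₀' hP₀'E
  · apply sqComm_of_index_two P₀' hcard' hP₀'E ⟨t, htP⟩ htP₀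
    apply Subtype.ext
    exact htsq

end Cfsg.Agent.Lib.Helper10.SLSylow
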