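import Mathlib
import Cfsg.Agent.Lib.Helper10.SLSylowE
import Cfsg.Agent.Lib.Helper10.GLSylowP5

set_option autoImplicit false
open scoped MatrixGroups

namespace Cfsg.Agent.Lib.Helper10.SLSylow

open Module Cfsg.Agent.Lib.Helper10.SpSylow Cfsg.Agent.Lib.Helper10.WreathLinear
  Cfsg.Agent.Lib.Helper10.SpSylowE Cfsg.Agent.Lib.Helper10.SpSylowP
  Cfsg.Agent.Lib.Helper10.GLSylowE Cfsg.Agent.Lib.Helper10.GLSylowP

universe u

variable {F : Type u} [Field F]

theorem hasT_base_one [Fintype F] (h1 : Fintype.card F % 4 = 1) :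
    HasT F (2 * padicValNat 2 (Fintype.card F - 1) + 1) 2 := by
  classical
  have : Fact (Nat.Prime 2) := ⟨Nat.prime_two⟩
  have hodd : Odd (Fintype.card F) := by
    rw [Nat.odd_iff]
    omega
  have h2 := two_ne_zero_of_odd (F := F) _ rfl hodd
  obtain ⟨r, hr⟩ : IsSquare (-1 : F) := FiniteField.isSquare_neg_one_iff.mpr (by omega)
  have hr0 : r ≠ 0 := by
    intro h
    rw [h, mul_zero] at hr
    have : (1 : F) = 0 := by linear_combination -hr
    exact one_ne_zero this
  let y₀ : Fˣ := Units.mk0 r hr0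
  have hy₀ : y₀ * y₀ = -1 := by
    apply Units.ext
    show r * r = ((-1 : Fˣ) : F)
    rw [← hr]
    simp
  have hνν : (-1 : Fˣ) * (-1) = 1 := by
    apply Units.ext
    simp
  have hy₀4 : y₀ ^ 4 = 1 := by
    have : y₀ ^ 4 = (y₀ * y₀) * (y₀ * y₀) := by
      rw [← pow_two, ← pow_two, ← pow_mul]
    rw [this, hy₀, hνν]
  have hy₀p : IsPGroup 2 (Subgroup.zpowers y₀) := by
    rintro ⟨g, hg⟩
    obtain ⟨m, rfl⟩ := Subgroup.mem_zpowers_iff.1 hg
    refine ⟨2, ?_⟩
    apply Subtype.ext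
    show (y₀ ^ m) ^ 2 ^ 2 = 1
    have : (2 : ℕ) ^ 2 = 4 := by norm_num
    rw [this, ← zpow_natCast, ← zpow_mul, mul_comm, zpow_mul, zpow_natCast, hy₀4, one_zpow]
  obtain ⟨μ, hμ⟩ := hy₀p.exists_le_sylow
  let y₀' : ↥(μ : Subgroup Fˣ) := ⟨y₀, hμ (Subgroup.mem_zpowers y₀)⟩
  let ρ₁ : ↥(μ : Subgroup Fˣ) →* (Module.End F F)ˣ :=
    (Units.map ((algebraMap F (Module.End F F)).toMonoidHom)).comp (μ : Subgroup Fˣ).subtype
  have hdet₁ : ∀ y : ↥(μ : Subgroup Fˣ), detHom ρ₁ y = (y : Fˣ) := by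
    intro y
    apply Units.ext
    rw [detHom_val]
    show LinearMap.det (algebraMap F (Module.End F F) ((y : Fˣ) : F)) = _
    rw [LinearMap.det_ring, Module.algebraMap_end_apply, smul_eq_mul, mul_one]
  have hχinj : Function.Injective (detHom ρ₁) := by
    intro a b hab
    rw [hdet₁, hdet₁] at hab
    exact Subtype.ext hab
  have hρ₁ : Function.Injective ρ₁ := by
    intro a b hab
    apply hχinj
    show (Units.map (LinearMap.det : Module.End F F →* F)) (ρ₁ a) =
      (Units.map (LinearMap.det : Module.End F F →* F)) (ρ₁ b)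
    rw [hab]
  have hcardμ : Nat.card ↥(μ : Subgroup Fˣ) = 2 ^ padicValNat 2 (Fintype.card F - 1) := by
    rw [μ.card_eq_multiplicity, Nat.card_eq_fintype_card (α := Fˣ), Fintype.card_units,
      Nat.factorization_def _ Nat.prime_two]
  have hfin : Finite C2 := inferInstanceAs (Finite (Multiplicative (ZMod 2)))
  let _ : Fintype C2 := inferInstanceAs (Fintype (Multiplicative (ZMod 2)))
  refine ⟨C2 → F, inferInstance, inferInstance, inferInstance,
    RegularWreathProduct ↥(μ : Subgroup Fˣ) C2, inferInstance, wrRep ρ₁, ?_,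
    wrRep_injective ρ₁ hρ₁, card_wreath hcardμ, ?_⟩
  · rw [Module.finrank_pi_fintype]
    simp only [Finset.sum_const, Finset.card_univ, smul_eq_mul, Module.finrank_self, mul_one]
    show Fintype.card (Multiplicative (ZMod 2)) = 2
    rw [Fintype.card_multiplicative, ZMod.card]
  · apply wk_odd (detHom ρ₁) hχinj (-1) hνν y₀' _ (detHom (wrRep ρ₁))
    · intro w
      rw [detHom_wrRep h2, Module.finrank_self, pow_one]
    · rw [hdet₁]
      exact hy₀

/-- transfer to the special linear group -/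
theorem sqComm_sylow_SL_of_hasT [Fintype F] {k n : ℕ} (h : HasT F k (n + 1))
    (hk : (Nat.card (GL (Fin (n + 1)) F)).factorization 2 = k)
    (P : Sylow 2 (Matrix.SpecialLinearGroup (Fin (n + 1)) F)) :
    SqComm ↥(P : Subgroup (Matrix.SpecialLinearGroup (Fin (n + 1)) F)) := by
  classical
  have : Fact (Nat.Prime 2) := ⟨Nat.prime_two⟩
  obtain ⟨W, _, _, _, G, _, ρ, hWd, hρ, hcard, hT⟩ := h
  have hfinG : Finite G := Nat.finite_of_card_ne_zero (by rw [hcard]; positivity)
  set K : Subgroup G := (detHom ρ).ker with hK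
  have hKE : SqComm ↥K := sqComm_of_sqCommSub K hT
  have hrk : finrank F W = finrank F (Fin (n + 1) → F) := by
    rw [hWd, Module.finrank_fin_fun]
  let ε : W ≃ₗ[F] (Fin (n + 1) → F) := LinearEquiv.ofFinrankEq _ _ hrk
  let Φ0 : K →* Matrix (Fin (n + 1)) (Fin (n + 1)) F :=
    ((((Matrix.toLinAlgEquiv' : Matrix (Fin (n + 1)) (Fin (n + 1)) F ≃ₐ[F]
        Module.End F (Fin (n + 1) → F)).symm :
        Module.End F (Fin (n + 1) → F) →* Matrix (Fin (n + 1)) (Fin (n + 1)) F).comp
      (conjHom ε)).comp (Units.coeHom (Module.End F W))).comp (ρ.comp K.subtype)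
  have hΦ0 : ∀ g : K, Matrix.toLin' (Φ0 g) =
      conjHom ε (((ρ g.1 : (Module.End F W)ˣ) : Module.End F W)) := by
    intro g
    show (Matrix.toLinAlgEquiv' : Matrix (Fin (n + 1)) (Fin (n + 1)) F ≃ₐ[F]
        Module.End F (Fin (n + 1) → F))
      ((Matrix.toLinAlgEquiv' : Matrix (Fin (n + 1)) (Fin (n + 1)) F ≃ₐ[F]
        Module.End F (Fin (n + 1) → F)).symm
          (conjHom ε (((ρ g.1 : (Module.End F W)ˣ) : Module.End F W)))) = _
    rw [AlgEquiv.apply_symm_apply]
  have hdet : ∀ g : K, (Φ0 g).det = 1 := by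
    intro g
    rw [← LinearMap.det_toLin', hΦ0 g]
    show LinearMap.det ((ε : W →ₗ[F] (Fin (n + 1) → F)) ∘ₗ
      (((ρ g.1 : (Module.End F W)ˣ) : Module.End F W)) ∘ₗ
      (ε.symm : (Fin (n + 1) → F) →ₗ[F] W)) = 1
    rw [LinearMap.det_conj, ← detHom_val]
    have h5 : detHom ρ g.1 = 1 := MonoidHom.mem_ker.mp g.2
    rw [h5, Units.val_one]
  let Φ : K →* Matrix.SpecialLinearGroup (Fin (n + 1)) F :=
    { toFun := fun g => ⟨Φ0 g, hdet g⟩
      map_one' := Subtype.ext (map_one Φ0)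
      map_mul' := fun a b => Subtype.ext (map_mul Φ0 a b) }
  have hΦ : Function.Injective Φ := by
    intro a b hab
    have h3 : Φ0 a = Φ0 b := congrArg Subtype.val hab
    apply Subtype.ext
    apply hρ
    apply Units.ext
    apply conjHom_injective ε
    rw [← hΦ0 a, ← hΦ0 b, h3]
  let e : K ≃* Φ.range := MonoidHom.ofInjective hΦ
  -- the order of K
  have hmul : Nat.card K * Nat.card (detHom ρ).range = 2 ^ k := by
    rw [← hcard, ← Subgroup.index_ker]
    exact Subgroup.card_mul_index (detHom ρ).ker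
  have hq2 : 2 ≤ Fintype.card F := Fintype.one_lt_card
  have hrdvd : Nat.card (detHom ρ).range ∣ 2 ^ k := by
    rw [← hmul]
    exact dvd_mul_left _ _
  obtain ⟨i, hik, hi⟩ := (Nat.dvd_prime_pow Nat.prime_two).mp hrdvd
  have hdvdF : Nat.card (detHom ρ).range ∣ Fintype.card F - 1 := by
    have := Subgroup.card_subgroup_dvd_card (detHom ρ).range
    rw [Nat.card_eq_fintype_card (α := Fˣ), Fintype.card_units] at this
    exact this
  have hia : i ≤ padicValNat 2 (Fintype.card F - 1) := by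
    apply (padicValNat_dvd_iff_le (p := 2) (by omega)).mp
    rw [← hi]
    exact hdvdF
  have hKcard : Nat.card K = 2 ^ (k - i) := by
    rw [hi] at hmul
    have h5 : 2 ^ k = 2 ^ (k - i) * 2 ^ i := by
      rw [← pow_add]
      congr 1
      omega
    rw [h5] at hmul
    exact Nat.eq_of_mul_eq_mul_right (by positivity) hmul
  -- the order of a Sylow subgroup of SL
  have hfinSL : Finite (Matrix.SpecialLinearGroup (Fin (n + 1)) F) := inferInstance
  have hGLSL := Cfsg.Agent.Lib.Helper19.ExcIso.card_GL_eq_card_SL (F := F) n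
  have hne : Nat.card (Matrix.SpecialLinearGroup (Fin (n + 1)) F) ≠ 0 := Nat.card_pos.ne'
  have hne2 : Fintype.card F - 1 ≠ 0 := by omega
  have hval : k = (Nat.card (Matrix.SpecialLinearGroup (Fin (n + 1)) F)).factorization 2 +
      padicValNat 2 (Fintype.card F - 1) := by
    rw [← hk, hGLSL, Nat.factorization_mul hne hne2, Finsupp.add_apply,
      Nat.factorization_def (Fintype.card F - 1) Nat.prime_two]
  have hΦp : IsPGroup 2 Φ.range := by
    apply IsPGroup.of_card (n := k - i)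
    rw [← Nat.card_congr e.toEquiv, hKcard]
  obtain ⟨P', hP'⟩ := hΦp.exists_le_sylow
  have hP'card := P'.card_eq_multiplicity
  have hge : Nat.card ↥(P' : Subgroup (Matrix.SpecialLinearGroup (Fin (n + 1)) F)) ≤
      Nat.card Φ.range := by
    rw [hP'card, ← Nat.card_congr e.toEquiv, hKcard]
    apply Nat.pow_le_pow_right (by norm_num)
    omega
  have heq : Φ.range = (P' : Subgroup (Matrix.SpecialLinearGroup (Fin (n + 1)) F)) :=
    Subgroup.eq_of_le_of_card_ge hP' hge
  have hP'E : SqComm ↥(P' : Subgroup (Matrix.SpecialLinearGroup (Fin (n + 1)) F)) := by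
    rw [← heq]
    exact hKE.of_equiv e
  obtain ⟨g, hg⟩ := MulAction.exists_smul_eq (Matrix.SpecialLinearGroup (Fin (n + 1)) F) P' P
  subst hg
  exact hP'E.of_equiv (Sylow.equivSMul P' g)

theorem sqComm_sylow_SL_of_hasT' [Fintype F] {k N : ℕ} (hN : 0 < N) (h : HasT F k N)
    (hk : (Nat.card (GL (Fin N) F)).factorization 2 = k)
    (P : Sylow 2 (Matrix.SpecialLinearGroup (Fin N) F)) :
    SqComm ↥(P : Subgroup (Matrix.SpecialLinearGroup (Fin N) F)) := by
  obtain ⟨n, rfl⟩ : ∃ n, N = n + 1 := ⟨N - 1, by omega⟩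
  exact sqComm_sylow_SL_of_hasT h hk P

theorem sqComm_sylow_SL_even_three [Fintype F] (h3 : Fintype.card F % 4 = 3) (m : ℕ) (hm : 1 ≤ m)
    (P : Sylow 2 (Matrix.SpecialLinearGroup (Fin (2 * m)) F)) :
    SqComm ↥(P : Subgroup (Matrix.SpecialLinearGroup (Fin (2 * m)) F)) := by
  have hodd : Odd (Fintype.card F) := by
    rw [Nat.odd_iff]
    omega
  have h4 : 4 ∣ Fintype.card F + 1 := by omega
  have h2 := two_ne_zero_of_odd (F := F) _ rfl hodd
  have h := (hasJT_all h3 h2 (hasJT_base h3) m hm).toHasT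
  rw [mul_comm m 2] at h
  exact sqComm_sylow_SL_of_hasT' (by omega) h (val_card_GL_even hodd h4 m) P

theorem sqComm_sylow_SL_pow_one [Fintype F] (h1 : Fintype.card F % 4 = 1) (j : ℕ)
    (P : Sylow 2 (Matrix.SpecialLinearGroup (Fin (2 * 2 ^ j)) F)) :
    SqComm ↥(P : Subgroup (Matrix.SpecialLinearGroup (Fin (2 * 2 ^ j)) F)) := by
  have hodd : Odd (Fintype.card F) := by
    rw [Nat.odd_iff]
    omega
  have h2 := two_ne_zero_of_odd (F := F) _ rfl hodd
  have h := hasT_pow h2 (hasT_base_one h1) j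
  rw [mul_comm (2 ^ j) 2] at h
  have hpos : 0 < 2 ^ j := by positivity
  apply sqComm_sylow_SL_of_hasT' (by omega) h
  rw [val_card_GL_one h1]
  have e1 := ff_pow j
  have e2 := ff_pow (j + 1)
  rw [pow_succ'] at e2
  have e3 : 2 ^ j * (2 * padicValNat 2 (Fintype.card F - 1) + 1) =
      2 * 2 ^ j * padicValNat 2 (Fintype.card F - 1) + 2 ^ j := by ring
  omega

end Cfsg.Agent.Lib.Helper10.SLSylow
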