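import Mathlib
import Cfsg.Agent.Lib.Helper24.RegUnip

/-!
# Regular unipotent elements of `GL_n`: eigen-structure of the centraliser
-/

set_option autoImplicit false

namespace Cfsg.Agent.Lib.Helper10.SUReg

open Matrix Cfsg.Agent.Lib.Helper24

variable {K : Type*} [Field K] {n : ℕ}

/-- regular unipotent in `GL_n`. -/
def IsRegG (g : GL (Fin n) K) : Prop :=
  ((g : Matrix (Fin n) (Fin n) K) - 1) ^ n = 0 ∧ ((g : Matrix (Fin n) (Fin n) K) - 1).rank = n - 1

/-- a left null vector of `N0` is an eigenvector of anything commuting with `N0`. -/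
theorem vecMul_of_comm_N0 (hn : 1 ≤ n) (z : Matrix (Fin n) (Fin n) K)
    (hz : z * RegUnip.N0 n = RegUnip.N0 n * z) (r : Fin n → K)
    (hr : r ᵥ* (RegUnip.N0 n : Matrix (Fin n) (Fin n) K) = 0) :
    r ᵥ* z = z ⟨0, hn⟩ ⟨0, hn⟩ • r := by
  have hr0 : ∀ i : Fin n, 0 < i.val → r i = 0 := by
    intro i hi
    have hj : (i.val - 1) + 1 < n := by have := i.isLt; omega
    have h1 := congrFun hr ⟨i.val - 1, by omega⟩
    rw [Matrix.vecMul, dotProduct, Pi.zero_apply] at h1
    rw [Finset.sum_eq_single i] at h1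
    · rw [RegUnip.N0_apply, if_pos (by simp; omega), mul_one] at h1
      exact h1
    · intro k _ hk
      rw [RegUnip.N0_apply, if_neg, mul_zero]
      intro hk'
      apply hk
      apply Fin.ext
      simp at hk'
      omega
    · intro h'
      exact absurd (Finset.mem_univ _) h'
  funext j
  rw [Matrix.vecMul, dotProduct, Pi.smul_apply, smul_eq_mul]
  rw [Finset.sum_eq_single (⟨0, hn⟩ : Fin n)]
  · by_cases hj : j.val = 0
    · have : j = ⟨0, hn⟩ := Fin.ext hj
      rw [this, mul_comm]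
    · rw [hr0 j (by omega), mul_zero,
        RegUnip.comm_N0_upper z hz 0 ⟨0, hn⟩ j rfl (by simp; omega), mul_zero]
  · intro k _ hk
    rw [hr0 k, zero_mul]
    rcases Nat.eq_zero_or_pos k.val with h | h
    · exact absurd (Fin.ext h) hk
    · exact h
  · intro h'
    exact absurd (Finset.mem_univ _) h'

/-- a right null vector of `N0` is an eigenvector of anything commuting with `N0`. -/
theorem mulVec_of_comm_N0 (hn : 1 ≤ n) (z : Matrix (Fin n) (Fin n) K)
    (hz : z * RegUnip.N0 n = RegUnip.N0 n * z) (v : Fin n → K)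
    (hv : (RegUnip.N0 n : Matrix (Fin n) (Fin n) K) *ᵥ v = 0) :
    z *ᵥ v = z ⟨0, hn⟩ ⟨0, hn⟩ • v := by
  have hv0 : ∀ i : Fin n, i.val + 1 < n → v i = 0 := by
    intro i hi
    have h1 := congrFun hv ⟨i.val + 1, hi⟩
    rw [Matrix.mulVec, dotProduct, Pi.zero_apply] at h1
    rw [Finset.sum_eq_single i] at h1
    · rw [RegUnip.N0_apply, if_pos rfl, one_mul] at h1
      exact h1
    · intro k _ hk
      rw [RegUnip.N0_apply, if_neg, zero_mul]
      intro hk'
      apply hk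
      apply Fin.ext
      simp at hk'
      omega
    · intro h'
      exact absurd (Finset.mem_univ _) h'
  funext i
  rw [Matrix.mulVec, dotProduct, Pi.smul_apply, smul_eq_mul]
  rw [Finset.sum_eq_single (⟨n - 1, by omega⟩ : Fin n)]
  · by_cases hi : i.val = n - 1
    · have : i = ⟨n - 1, by omega⟩ := Fin.ext hi
      rw [this, RegUnip.comm_N0_diag hn z hz (n - 1) ⟨n - 1, by omega⟩ rfl]
    · rw [hv0 i (by have := i.isLt; omega), mul_zero,
        RegUnip.comm_N0_upper z hz i.val i ⟨n - 1, by omega⟩ rfl (by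
          have := i.isLt; simp; omega), zero_mul]
  · intro k _ hk
    rw [hv0 k, mul_zero]
    have := k.isLt
    have h2 : k.val ≠ n - 1 := fun h => hk (Fin.ext h)
    omega
  · intro h'
    exact absurd (Finset.mem_univ _) h'

/-- transport to a conjugate of `N0`. -/
theorem eigen_of_comm (hn : 1 ≤ n) (N c ci z : Matrix (Fin n) (Fin n) K)
    (h1 : c * ci = 1) (h2 : ci * c = 1) (hN : N * c = c * RegUnip.N0 n) (hz : z * N = N * z) :
    ∃ ζ : K, z.det = ζ ^ n ∧ (∀ r : Fin n → K, r ᵥ* N = 0 → r ᵥ* z = ζ • r) ∧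
      (∀ v : Fin n → K, N *ᵥ v = 0 → z *ᵥ v = ζ • v) := by
  set z' : Matrix (Fin n) (Fin n) K := ci * z * c with hz'
  have hN' : RegUnip.N0 n = ci * N * c := by
    rw [mul_assoc, hN, ← mul_assoc, h2, one_mul]
  have hN'' : N = c * RegUnip.N0 n * ci := by
    rw [← hN, mul_assoc, h1, mul_one]
  have hcomm : z' * RegUnip.N0 n = RegUnip.N0 n * z' := by
    rw [hz', hN']
    calc ci * z * c * (ci * N * c) = ci * z * (c * ci) * N * c := by simp only [mul_assoc]
      _ = ci * (z * N) * c := by rw [h1, mul_one]; simp only [mul_assoc]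
      _ = ci * (N * z) * c := by rw [hz]
      _ = ci * N * (c * ci) * z * c := by rw [h1, mul_one]; simp only [mul_assoc]
      _ = ci * N * c * (ci * z * c) := by simp only [mul_assoc]
  refine ⟨z' ⟨0, hn⟩ ⟨0, hn⟩, ?_, ?_, ?_⟩
  · rw [← RegUnip.det_of_comm_N0 hn z' hcomm, hz', Matrix.det_mul, Matrix.det_mul]
    have : ci.det * c.det = 1 := by rw [← Matrix.det_mul, h2, Matrix.det_one]
    calc z.det = ci.det * c.det * z.det := by rw [this, one_mul]
      _ = ci.det * z.det * c.det := by ring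
  · intro r hr
    have h3 : (r ᵥ* c) ᵥ* (RegUnip.N0 n : Matrix (Fin n) (Fin n) K) = 0 := by
      rw [Matrix.vecMul_vecMul, ← hN, ← Matrix.vecMul_vecMul, hr, Matrix.zero_vecMul]
    have h4 := vecMul_of_comm_N0 hn z' hcomm (r ᵥ* c) h3
    have h5 : (r ᵥ* c) ᵥ* z' = (r ᵥ* z) ᵥ* c := by
      rw [hz', Matrix.vecMul_vecMul, Matrix.vecMul_vecMul]
      congr 1
      calc c * (ci * z * c) = (c * ci) * z * c := by simp only [mul_assoc]
        _ = z * c := by rw [h1, one_mul]
    rw [h5] at h4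
    have h6 := congrArg (fun w => w ᵥ* ci) h4
    simp only [Matrix.vecMul_vecMul, Matrix.smul_vecMul, mul_assoc, h1, mul_one,
      Matrix.vecMul_one] at h6
    exact h6
  · intro v hv
    have h3 : (RegUnip.N0 n : Matrix (Fin n) (Fin n) K) *ᵥ (ci *ᵥ v) = 0 := by
      rw [Matrix.mulVec_mulVec, hN']
      calc (ci * N * c * ci) *ᵥ v = (ci * N * (c * ci)) *ᵥ v := by simp only [mul_assoc]
        _ = ci *ᵥ (N *ᵥ v) := by rw [h1, mul_one, Matrix.mulVec_mulVec]
        _ = 0 := by rw [hv, Matrix.mulVec_zero]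
    have h4 := mulVec_of_comm_N0 hn z' hcomm (ci *ᵥ v) h3
    have h5 : z' *ᵥ (ci *ᵥ v) = ci *ᵥ (z *ᵥ v) := by
      rw [hz', Matrix.mulVec_mulVec, Matrix.mulVec_mulVec]
      congr 1
      calc ci * z * c * ci = ci * z * (c * ci) := by simp only [mul_assoc]
        _ = ci * z := by rw [h1, mul_one]
    rw [h5] at h4
    have h6 := congrArg (fun w => c *ᵥ w) h4
    simp only [Matrix.mulVec_mulVec, Matrix.mulVec_smul, ← mul_assoc, h1, one_mul,
      Matrix.one_mulVec] at h6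
    exact h6

/-- the eigen-structure of the centraliser of a regular unipotent. -/
theorem eigen_of_isRegG (hn : 1 ≤ n) (u : GL (Fin n) K) (hu : IsRegG u)
    (z : Matrix (Fin n) (Fin n) K)
    (hz : z * (u : Matrix (Fin n) (Fin n) K) = (u : Matrix (Fin n) (Fin n) K) * z) :
    ∃ ζ : K, z.det = ζ ^ n ∧
      (∀ r : Fin n → K, r ᵥ* (u : Matrix (Fin n) (Fin n) K) = r → r ᵥ* z = ζ • r) ∧
      (∀ v : Fin n → K, (u : Matrix (Fin n) (Fin n) K) *ᵥ v = v → z *ᵥ v = ζ • v) := by
  obtain ⟨c, hc⟩ := RegUnip.exists_conj ((u : Matrix (Fin n) (Fin n) K) - 1) hu.1 hu.2 hn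
  have hzN : z * ((u : Matrix (Fin n) (Fin n) K) - 1) = ((u : Matrix (Fin n) (Fin n) K) - 1) * z := by
    rw [mul_sub, sub_mul, hz, mul_one, one_mul]
  obtain ⟨ζ, h1, h2, h3⟩ := eigen_of_comm hn _ (c : Matrix (Fin n) (Fin n) K)
    ((c⁻¹ : GL (Fin n) K) : Matrix (Fin n) (Fin n) K) z (Units.mul_inv c) (Units.inv_mul c) hc hzN
  refine ⟨ζ, h1, ?_, ?_⟩
  · intro r hr
    apply h2
    rw [Matrix.vecMul_sub, hr, Matrix.vecMul_one, sub_self]
  · intro v hv
    apply h3
    rw [Matrix.sub_mulVec, hv, Matrix.one_mulVec, sub_self]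

/-- a regular unipotent has a nonzero fixed vector. -/
theorem exists_fixed (hn : 1 ≤ n) (u : GL (Fin n) K) (hu : IsRegG u) :
    ∃ v : Fin n → K, v ≠ 0 ∧ (u : Matrix (Fin n) (Fin n) K) *ᵥ v = v := by
  have hdet : ((u : Matrix (Fin n) (Fin n) K) - 1).det = 0 := by
    have h1 := congrArg Matrix.det hu.1
    have : Nonempty (Fin n) := ⟨⟨0, hn⟩⟩
    rw [Matrix.det_pow, Matrix.det_zero] at h1
    exact pow_eq_zero_iff (by omega) |>.1 h1
  obtain ⟨v, hv0, hv⟩ := Matrix.exists_mulVec_eq_zero_iff.2 hdet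
  refine ⟨v, hv0, ?_⟩
  rw [Matrix.sub_mulVec, Matrix.one_mulVec, sub_eq_zero] at hv
  exact hv

/-- conjugates of regular unipotents are regular unipotent. -/
theorem isRegG_conj (c g : GL (Fin n) K) (hg : IsRegG g) : IsRegG (c * g * c⁻¹) := by
  have e : ((c * g * c⁻¹ : GL (Fin n) K) : Matrix (Fin n) (Fin n) K) - 1 =
      (c : Matrix (Fin n) (Fin n) K) * ((g : Matrix (Fin n) (Fin n) K) - 1) *
        ((c⁻¹ : GL (Fin n) K) : Matrix (Fin n) (Fin n) K) := by
    rw [mul_sub, sub_mul, mul_one, Units.mul_inv]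
    rfl
  constructor
  · rw [e]
    have : ∀ k : ℕ, ((c : Matrix (Fin n) (Fin n) K) * ((g : Matrix (Fin n) (Fin n) K) - 1) *
        ((c⁻¹ : GL (Fin n) K) : Matrix (Fin n) (Fin n) K)) ^ k =
        (c : Matrix (Fin n) (Fin n) K) * ((g : Matrix (Fin n) (Fin n) K) - 1) ^ k *
        ((c⁻¹ : GL (Fin n) K) : Matrix (Fin n) (Fin n) K) := by
      intro k
      induction k with
      | zero => rw [pow_zero, pow_zero, mul_one, Units.mul_inv]
      | succ k ih =>
        rw [pow_succ, ih, pow_succ]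
        simp only [mul_assoc]
        rw [← mul_assoc ((c⁻¹ : GL (Fin n) K) : Matrix (Fin n) (Fin n) K), Units.inv_mul, one_mul]
    rw [this, hg.1, mul_zero, zero_mul]
  · rw [e, Matrix.rank_mul_eq_left_of_isUnit_det _ _ (by
      rw [← Matrix.isUnit_iff_isUnit_det]; exact Units.isUnit _),
      Matrix.rank_mul_eq_right_of_isUnit_det _ _ (by
      rw [← Matrix.isUnit_iff_isUnit_det]; exact Units.isUnit _), hg.2]

/-- the standard regular unipotent as a unit. -/
noncomputable def JU (n : ℕ) (K : Type*) [Field K] : GL (Fin n) K :=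
  Matrix.GeneralLinearGroup.mkOfDetNeZero (RegUnip.Jm n) (by
    rw [RegUnip.det_Jm]; exact one_ne_zero)

theorem JU_val : ((JU n K : GL (Fin n) K) : Matrix (Fin n) (Fin n) K) = RegUnip.Jm n := rfl

theorem JU_sub_one : ((JU n K : GL (Fin n) K) : Matrix (Fin n) (Fin n) K) - 1 = RegUnip.N0 n := by
  rw [JU_val]
  unfold RegUnip.Jm
  rw [add_sub_cancel_left]

theorem isRegG_JU (hn : 1 ≤ n) : IsRegG (JU n K) := by
  constructor
  · rw [JU_sub_one, RegUnip.N0_pow_self]
  · rw [JU_sub_one, RegUnip.rank_N0 n hn]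

/-- every regular unipotent is conjugate to the standard one. -/
theorem exists_conj_JU (hn : 1 ≤ n) (g : GL (Fin n) K) (hg : IsRegG g) :
    ∃ c : GL (Fin n) K, g = c * JU n K * c⁻¹ := by
  obtain ⟨c, hc⟩ := RegUnip.exists_conj ((g : Matrix (Fin n) (Fin n) K) - 1) hg.1 hg.2 hn
  refine ⟨c, ?_⟩
  rw [eq_mul_inv_iff_mul_eq]
  apply Units.ext
  rw [Units.val_mul, Units.val_mul, JU_val]
  unfold RegUnip.Jm
  rw [mul_add, mul_one, ← hc, sub_mul, one_mul]
  abel

theorem det_of_isRegG (hn : 1 ≤ n) (g : GL (Fin n) K) (hg : IsRegG g) :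
    (g : Matrix (Fin n) (Fin n) K).det = 1 := by
  obtain ⟨c, hc⟩ := exists_conj_JU hn g hg
  rw [hc, Units.val_mul, Units.val_mul, Matrix.det_mul, Matrix.det_mul, JU_val, RegUnip.det_Jm,
    mul_one, ← Matrix.det_mul, Units.mul_inv, Matrix.det_one]

theorem isConj_of_isRegG (hn : 1 ≤ n) (g g' : GL (Fin n) K) (hg : IsRegG g) (hg' : IsRegG g') :
    IsConj g g' := by
  obtain ⟨c, hc⟩ := exists_conj_JU hn g hg
  obtain ⟨c', hc'⟩ := exists_conj_JU hn g' hg'
  rw [isConj_iff]
  refine ⟨c' * c⁻¹, ?_⟩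
  rw [hc, hc']
  group

end Cfsg.Agent.Lib.Helper10.SUReg
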