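import Mathlib
import Cfsg.Agent.Lib.Helper10.SURegA
import Cfsg.Agent.Lib.Helper10.GUOrdPB
import Cfsg.Agent.Lib.Helper24.GUConjE
import Cfsg.Agent.Lib.Helper27.UOrder2

/-!
# Regular unipotent elements of `GU_n(q)` and `SU_n(q)`
-/

set_option autoImplicit false

namespace Cfsg.Agent.Lib.Helper10.SUReg

open Matrix Cfsg Cfsg.Agent.Lib.Helper24
open Cfsg.Agent.Lib.Helper27.Unitary
open Cfsg.Agent.Lib.Helper19.PSUGraph
open Cfsg.Agent.S0780 Cfsg.Agent.S0783

variable {K : Type*} [Field K] [Fintype K] {n q : ℕ}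

/-- the determinant of a unitary matrix centralising a regular unipotent unitary matrix is an
`n`-th power of a norm-one element. -/
theorem det_centralizer (hK : Fintype.card K = q ^ 2) (hn : 1 ≤ n)
    (u z : GL (Fin n) K) (hu : u ∈ GU n K q) (hz : z ∈ GU n K q) (hreg : IsRegG u)
    (hcomm : z * u = u * z) :
    ∃ a : Kˣ, a ∈ mu K q ∧ (z : Matrix (Fin n) (Fin n) K).det = (a : K) ^ n := by
  have hzc : (z : Matrix (Fin n) (Fin n) K) * (u : Matrix (Fin n) (Fin n) K) =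
      (u : Matrix (Fin n) (Fin n) K) * (z : Matrix (Fin n) (Fin n) K) := by
    have := congrArg Units.val hcomm
    rw [Units.val_mul, Units.val_mul] at this
    exact this
  obtain ⟨ζ, hdet, hrow, hcol⟩ := eigen_of_isRegG hn u hreg _ hzc
  obtain ⟨v, hv0, hv⟩ := exists_fixed hn u hreg
  obtain ⟨r, hr⟩ : ∃ r : Fin n → K, r = cjV q v := ⟨_, rfl⟩
  have hU := (mat_mem_GU_iff hK u).1 hu
  have hZ := (mat_mem_GU_iff hK z).1 hz
  have h1 : cjM q (u : Matrix (Fin n) (Fin n) K) *ᵥ r = r := by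
    rw [hr, ← cjV_mulVec hK, hv]
  have h2 : r ᵥ* (u : Matrix (Fin n) (Fin n) K) = r := by
    rw [← Matrix.mulVec_transpose]
    conv_lhs => rw [← h1]
    rw [Matrix.mulVec_mulVec, hU, Matrix.one_mulVec]
  have h3 := hrow r h2
  have h4 : cjM q (z : Matrix (Fin n) (Fin n) K) *ᵥ r = ζ ^ q • r := by
    rw [hr, ← cjV_mulVec hK, hcol v hv]
    funext i
    simp [cjV, mul_pow]
  have h5 : r = (ζ ^ q * ζ) • r := by
    calc r = ((z : Matrix (Fin n) (Fin n) K)ᵀ * cjM q (z : Matrix (Fin n) (Fin n) K)) *ᵥ r := by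
          rw [hZ, Matrix.one_mulVec]
      _ = (z : Matrix (Fin n) (Fin n) K)ᵀ *ᵥ (ζ ^ q • r) := by
          rw [← Matrix.mulVec_mulVec, h4]
      _ = ζ ^ q • (r ᵥ* (z : Matrix (Fin n) (Fin n) K)) := by
          rw [Matrix.mulVec_smul, Matrix.mulVec_transpose]
      _ = (ζ ^ q * ζ) • r := by rw [h3, smul_smul]
  have hr0 : ∃ i, r i ≠ 0 := by
    by_contra hcon
    simp only [not_exists, not_not] at hcon
    apply hv0
    funext i
    have := hcon i
    rw [hr] at this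
    exact (cj_eq_zero hK).1 this
  obtain ⟨i, hi⟩ := hr0
  have h6 : ζ ^ q * ζ = 1 := by
    have := congrFun h5 i
    rw [Pi.smul_apply, smul_eq_mul] at this
    have h7 : (ζ ^ q * ζ - 1) * r i = 0 := by rw [sub_mul, one_mul, ← this, sub_self]
    rcases mul_eq_zero.1 h7 with h | h
    · exact sub_eq_zero.1 h
    · exact absurd h hi
  have hζ0 : ζ ≠ 0 := by
    intro h
    rw [h, mul_zero] at h6
    exact zero_ne_one h6
  refine ⟨Units.mk0 ζ hζ0, ?_, ?_⟩
  · rw [mem_mu', Units.val_mk0, mul_comm]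
    exact h6
  · rw [Units.val_mk0]
    exact hdet

/-- there is a regular unipotent element in `GU_n(q)`. -/
theorem exists_reg_GU (hK : Fintype.card K = q ^ 2) (hn : 1 ≤ n) :
    ∃ B : ↥(GU n K q), IsRegG (B : GL (Fin n) K) := by
  have hφ : Function.Bijective (Cfsg.Agent.Lib.Helper27.Unitary.conjHom hK) := by
    rw [← Finite.injective_iff_bijective]
    exact (Cfsg.Agent.Lib.Helper27.Unitary.conjHom hK).injective
  have hnil : ∃ m, (Cfsg.Agent.Lib.Helper5.Nil.nilPart (JU n K)) ^ m = 0 :=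
    ⟨n, (isRegG_JU hn).1⟩
  have h1 := Cfsg.Agent.Lib.Helper10.GUOrdP.isConj_twist (Cfsg.Agent.Lib.Helper27.Unitary.conjHom hK) hφ (JU n K) hnil
  have h2 : ∃ B : ↥(GU n K q), IsConj (JU n K) (B : GL (Fin n) K) :=
    (GUConj.main88 hK (JU n K)).2 h1
  obtain ⟨B, hB⟩ := h2
  refine ⟨B, ?_⟩
  rw [isConj_iff] at hB
  obtain ⟨c, hc⟩ := hB
  rw [← hc]
  exact isRegG_conj c _ (isRegG_JU hn)

end Cfsg.Agent.Lib.Helper10.SUReg
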