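import Mathlib
import Cfsg.Agent.Lib.Helper10.SURegB

/-!
# Counting the regular unipotent classes of `SU_n(q)`
-/

set_option autoImplicit false

namespace Cfsg.Agent.Lib.Helper10.SUReg

open Matrix Cfsg Cfsg.Agent.Lib.Helper24
open Cfsg.Agent.Lib.Helper27.Unitary
open Cfsg.Agent.Lib.Helper19.PSUGraph
open Cfsg.Agent.S0780 Cfsg.Agent.S0783

variable {K : Type*} [Field K] [Fintype K] {n q : ℕ}

/-- conjugacy in `SU_n` in terms of `GU_n`-elements of determinant one. -/
theorem isConj_SU_iff (hK : Fintype.card K = q ^ 2) (A B : ↥(Cfsg.SU n K q)) :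
    IsConj A B ↔ ∃ s : ↥(GU n K q), detU hK n s = 1 ∧
      (s : GL (Fin n) K) * phi n K q A * (s : GL (Fin n) K)⁻¹ = phi n K q B := by
  constructor
  · intro h
    rw [isConj_iff] at h
    obtain ⟨t, ht⟩ := h
    have hmem := (mem_SUg_iff _).1 (phi_mem t)
    refine ⟨⟨phi n K q t, hmem.1⟩, ?_, ?_⟩
    · have : (⟨phi n K q t, hmem.1⟩ : ↥(GU n K q)) ∈ (detU hK n).ker := by
        rw [mem_ker_detU]
        exact hmem.2
      exact this
    · rw [← ht, map_mul, map_mul, map_inv]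
  · rintro ⟨s, hs1, hs2⟩
    have hs : (s : GL (Fin n) K) ∈ GU n K q ⊓ Cfsg.Geo.specialLinear (Fin n) K := by
      rw [mem_SUg_iff]
      refine ⟨s.2, ?_⟩
      have : s ∈ (detU hK n).ker := hs1
      rw [mem_ker_detU] at this
      exact this
    obtain ⟨t, ht⟩ := exists_lift hs
    rw [isConj_iff]
    refine ⟨t, ?_⟩
    apply phi_injective
    rw [map_mul, map_mul, map_inv, ht]
    exact hs2

/-- the scalar matrix as an element of `GU`. -/
noncomputable def scalU (n : ℕ) (a : ↥(mu K q)) : ↥(GU n K q) := ⟨scal n (a : Kˣ), scal_mem_GU a.2⟩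

theorem detU_scalU (hK : Fintype.card K = q ^ 2) (a : ↥(mu K q)) :
    detU hK n (scalU n a) = a ^ n := by
  apply Subtype.ext
  apply Units.ext
  rw [detU_coe]
  show (scal n (a : Kˣ) : Matrix (Fin n) (Fin n) K).det = _
  rw [det_scal]
  simp

theorem scalU_comm (a : ↥(mu K q)) (g : ↥(GU n K q)) : scalU n a * g = g * scalU n a := by
  apply Subtype.ext
  exact scal_comm (a : Kˣ) (g : GL (Fin n) K)

theorem main (hK : Fintype.card K = q ^ 2) (hn : 2 ≤ n) :
    Nat.card {C : ConjClasses ↥(Cfsg.SU n K q) // ∃ u : ↥(Cfsg.SU n K q), ConjClasses.mk u = C ∧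
      (((u : GL (Fin n) K) : Matrix (Fin n) (Fin n) K) - 1) ^ n = 0 ∧
      (((u : GL (Fin n) K) : Matrix (Fin n) (Fin n) K) - 1).rank = n - 1} = Nat.gcd n (q + 1) := by
  classical
  have hn1 : 1 ≤ n := by omega
  let M := ↥(mu K q)
  let H : Subgroup M := (powMonoidHom n : M →* M).range
  obtain ⟨u₀, hu₀⟩ := exists_reg_GU (n := n) hK hn1
  have hsurj := detU_surjective (n := n) hK hn1
  choose gd hgd using hsurj
  -- the conjugates of the base element
  let w : M → ↥(GU n K q) := fun d => gd d * u₀ * (gd d)⁻¹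
  have hwreg : ∀ d, IsRegG ((w d : ↥(GU n K q)) : GL (Fin n) K) := by
    intro d
    exact isRegG_conj _ _ hu₀
  have hwmem : ∀ d, ((w d : ↥(GU n K q)) : GL (Fin n) K) ∈
      GU n K q ⊓ Cfsg.Geo.specialLinear (Fin n) K := by
    intro d
    rw [mem_SUg_iff]
    exact ⟨(w d).2, det_of_isRegG hn1 _ (hwreg d)⟩
  choose A hA using fun d => exists_lift (hwmem d)
  let T := {C : ConjClasses ↥(Cfsg.SU n K q) // ∃ u : ↥(Cfsg.SU n K q), ConjClasses.mk u = C ∧
      (((u : GL (Fin n) K) : Matrix (Fin n) (Fin n) K) - 1) ^ n = 0 ∧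
      (((u : GL (Fin n) K) : Matrix (Fin n) (Fin n) K) - 1).rank = n - 1}
  have hAreg : ∀ d, IsRegG (phi n K q (A d)) := by
    intro d
    rw [hA d]
    exact hwreg d
  let Φ₀ : M → T := fun d => ⟨ConjClasses.mk (A d), ⟨A d, rfl, hAreg d⟩⟩
  have key : ∀ d d' : M, Φ₀ d = Φ₀ d' ↔ d⁻¹ * d' ∈ H := by
    intro d d'
    rw [Subtype.ext_iff]
    show ConjClasses.mk (A d) = ConjClasses.mk (A d') ↔ _
    rw [ConjClasses.mk_eq_mk_iff_isConj, isConj_SU_iff hK, hA d, hA d']
    constructor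
    · rintro ⟨s, hs1, hs2⟩
      have hs2' : s * w d * s⁻¹ = w d' := Subtype.ext hs2
      obtain ⟨z, hz⟩ : ∃ z : ↥(GU n K q), z = (gd d')⁻¹ * s * gd d := ⟨_, rfl⟩
      have hzcomm : z * u₀ = u₀ * z := by
        have h1 : s * (gd d * u₀ * (gd d)⁻¹) * s⁻¹ = gd d' * u₀ * (gd d')⁻¹ := hs2'
        have h2 : s * gd d * u₀ = gd d' * u₀ * (gd d')⁻¹ * s * gd d := by
          rw [← h1]
          group
        rw [hz]
        calc (gd d')⁻¹ * s * gd d * u₀ = (gd d')⁻¹ * (s * gd d * u₀) := by group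
          _ = (gd d')⁻¹ * (gd d' * u₀ * (gd d')⁻¹ * s * gd d) := by rw [h2]
          _ = u₀ * ((gd d')⁻¹ * s * gd d) := by group
      have hzc : (z : GL (Fin n) K) * (u₀ : GL (Fin n) K) = (u₀ : GL (Fin n) K) * (z : GL (Fin n) K) :=
        congrArg Subtype.val hzcomm
      obtain ⟨a, ha, hdet⟩ := det_centralizer hK hn1 _ _ u₀.2 z.2 hu₀ hzc
      have hdz : detU hK n z = (⟨a, ha⟩ : M) ^ n := by
        apply Subtype.ext
        apply Units.ext
        rw [detU_coe, hdet]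
        simp
      have hdz2 : detU hK n z = d'⁻¹ * d := by
        rw [hz, map_mul, map_mul, map_inv, hs1, hgd, hgd, mul_one]
      refine ⟨(⟨a, ha⟩ : M)⁻¹, ?_⟩
      rw [powMonoidHom_apply, inv_pow, ← hdz, hdz2, _root_.mul_inv_rev, inv_inv]
    · rintro ⟨a, ha⟩
      rw [powMonoidHom_apply] at ha
      refine ⟨(scalU n a)⁻¹ * gd d' * (gd d)⁻¹, ?_, ?_⟩
      · rw [map_mul, map_mul, map_inv, map_inv, detU_scalU, hgd, hgd, ha]
        rw [_root_.mul_inv_rev, inv_inv]
        calc d'⁻¹ * d * d' * d⁻¹ = (d'⁻¹ * d') * (d * d⁻¹) := by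
              simp only [mul_comm, mul_left_comm, mul_assoc]
          _ = 1 := by rw [inv_mul_cancel, mul_inv_cancel, one_mul]
      · have h1 : (scalU n a)⁻¹ * gd d' * (gd d)⁻¹ * w d * ((scalU n a)⁻¹ * gd d' * (gd d)⁻¹)⁻¹
            = w d' := by
          show (scalU n a)⁻¹ * gd d' * (gd d)⁻¹ * (gd d * u₀ * (gd d)⁻¹) *
            ((scalU n a)⁻¹ * gd d' * (gd d)⁻¹)⁻¹ = gd d' * u₀ * (gd d')⁻¹
          have h2 : (scalU n a)⁻¹ * gd d' * (gd d)⁻¹ * (gd d * u₀ * (gd d)⁻¹) *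
            ((scalU n a)⁻¹ * gd d' * (gd d)⁻¹)⁻¹ =
              (scalU n a)⁻¹ * (gd d' * u₀ * (gd d')⁻¹) * scalU n a := by group
          rw [h2, mul_assoc, ← scalU_comm, ← mul_assoc, inv_mul_cancel, one_mul]
        exact congrArg Subtype.val h1
  have hsurjΦ : Function.Surjective Φ₀ := by
    rintro ⟨C, u, hu, hreg⟩
    have hureg : IsRegG (phi n K q u) := hreg
    have humem := (mem_SUg_iff _).1 (phi_mem u)
    have hc : IsConj (u₀ : GL (Fin n) K) (phi n K q u) := isConj_of_isRegG hn1 _ _ hu₀ hureg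
    have hc2 : IsConj u₀ (⟨phi n K q u, humem.1⟩ : ↥(GU n K q)) := GUConj.gu_conj hK _ _ hc
    rw [isConj_iff] at hc2
    obtain ⟨x, hx⟩ := hc2
    refine ⟨detU hK n x, ?_⟩
    rw [Subtype.ext_iff]
    show ConjClasses.mk (A (detU hK n x)) = C
    rw [← hu, ConjClasses.mk_eq_mk_iff_isConj, isConj_SU_iff hK, hA]
    refine ⟨x * (gd (detU hK n x))⁻¹, ?_, ?_⟩
    · rw [map_mul, map_inv, hgd, mul_inv_cancel]
    · have h1 : x * (gd (detU hK n x))⁻¹ * w (detU hK n x) * (x * (gd (detU hK n x))⁻¹)⁻¹ =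
          (⟨phi n K q u, humem.1⟩ : ↥(GU n K q)) := by
        rw [← hx]
        show x * (gd (detU hK n x))⁻¹ * (gd (detU hK n x) * u₀ * (gd (detU hK n x))⁻¹) *
          (x * (gd (detU hK n x))⁻¹)⁻¹ = x * u₀ * x⁻¹
        group
      exact congrArg Subtype.val h1
  let Φ : M ⧸ H → T := Quotient.lift Φ₀ (by
    intro a b hab
    rw [key]
    exact QuotientGroup.leftRel_apply.mp hab)
  have hΦbij : Function.Bijective Φ := by
    constructor
    · intro x y
      induction x using Quotient.inductionOn with | _ a => ?_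
      induction y using Quotient.inductionOn with | _ b => ?_
      intro h
      have h' : Φ₀ a = Φ₀ b := h
      rw [key] at h'
      exact Quotient.sound (QuotientGroup.leftRel_apply.mpr h')
    · intro t
      obtain ⟨d, hd⟩ := hsurjΦ t
      exact ⟨Quotient.mk _ d, hd⟩
  rw [← Nat.card_congr (Equiv.ofBijective Φ hΦbij)]
  have hidx : H.index = (Nat.card M).gcd n := IsCyclic.index_powMonoidHom_range M n
  have hcard : Nat.card M = q + 1 := card_mu hK
  rw [hcard] at hidx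
  rw [Nat.gcd_comm]
  exact hidx

end Cfsg.Agent.Lib.Helper10.SUReg
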