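import Mathlib
import Cfsg.Prelude.Def_GeometricClasses

set_option autoImplicit false

namespace Cfsg.Agent.Lib.Helper10.Sub

open scoped Pointwise

variable {F : Type*} [Field F] {n : ℕ}

theorem mem_subfield_of_eq (F₀ : Subfield F) (g : GL (Fin n) F) (c : Fˣ) (m₀ : GL (Fin n) ↥F₀)
    (h : (g : Matrix (Fin n) (Fin n) F) =
      (c : F) • (m₀ : Matrix (Fin n) (Fin n) ↥F₀).map F₀.subtype) :
    g ∈ Cfsg.Geo.subfieldSubgroup F₀ (1 : GL (Fin n) F) := by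
  unfold Cfsg.Geo.subfieldSubgroup
  refine ⟨g, ?_, by simp⟩
  have h1 : Matrix.GeneralLinearGroup.map (F₀.subtype : ↥F₀ →+* F) m₀ ∈
      (Matrix.GeneralLinearGroup.map (F₀.subtype : ↥F₀ →+* F)).range ⊔
        Cfsg.Geo.scalars (Fin n) F :=
    Subgroup.mem_sup_left ⟨m₀, rfl⟩
  obtain ⟨s, hs⟩ : ∃ s : GL (Fin n) F, (s : Matrix (Fin n) (Fin n) F) = (c : F) • 1 := by
    refine ⟨⟨(c : F) • 1, ((c⁻¹ : Fˣ) : F) • 1, ?_, ?_⟩, rfl⟩
    · rw [smul_mul_smul_comm, mul_one, ← Units.val_mul, mul_inv_cancel, Units.val_one, one_smul]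
    · rw [smul_mul_smul_comm, mul_one, ← Units.val_mul, inv_mul_cancel, Units.val_one, one_smul]
  have h2 : s ∈ (Matrix.GeneralLinearGroup.map (F₀.subtype : ↥F₀ →+* F)).range ⊔
        Cfsg.Geo.scalars (Fin n) F :=
    Subgroup.mem_sup_right ((Cfsg.Geo.mem_scalars_iff s).2 ⟨c, hs⟩)
  have h3 : g = s * Matrix.GeneralLinearGroup.map (F₀.subtype : ↥F₀ →+* F) m₀ := by
    apply Units.ext
    rw [Units.val_mul, hs, h, smul_mul_assoc, one_mul]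
    rfl
  rw [h3]
  exact Subgroup.mul_mem _ h2 h1

theorem eq_of_mem_subfield (F₀ : Subfield F) (g : GL (Fin n) F)
    (hg : g ∈ Cfsg.Geo.subfieldSubgroup F₀ (1 : GL (Fin n) F)) :
    ∃ (c : Fˣ) (m₀ : GL (Fin n) ↥F₀), (g : Matrix (Fin n) (Fin n) F) =
      (c : F) • (m₀ : Matrix (Fin n) (Fin n) ↥F₀).map F₀.subtype := by
  unfold Cfsg.Geo.subfieldSubgroup at hg
  obtain ⟨y, hy, hyg⟩ := hg
  have hyg' : y = g := by
    rw [← hyg]
    simp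
  subst hyg'
  have hy' : y ∈ (((Matrix.GeneralLinearGroup.map (F₀.subtype : ↥F₀ →+* F)).range :
      Subgroup (GL (Fin n) F)) : Set (GL (Fin n) F)) *
      ((Cfsg.Geo.scalars (Fin n) F : Subgroup (GL (Fin n) F)) : Set (GL (Fin n) F)) := by
    rw [← Subgroup.mul_normal]
    exact hy
  obtain ⟨a, ⟨m₀, rfl⟩, b, hb, rfl⟩ := Set.mem_mul.1 hy'
  obtain ⟨c, hc⟩ := (Cfsg.Geo.mem_scalars_iff b).1 hb
  refine ⟨c, m₀, ?_⟩
  rw [Units.val_mul, hc, mul_smul_comm, mul_one]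
  rfl

end Cfsg.Agent.Lib.Helper10.Sub
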