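import Mathlib
import Cfsg.Agent.Lib.Helper10.GLSylowE3
import Cfsg.Agent.Lib.Helper10.SubC

set_option autoImplicit false

namespace Cfsg.Agent.Lib.Helper10.Sf

open Cfsg.Agent.Lib.Helper10.Sub

theorem val_pow_sub_one (a k : ℕ) (ha : Odd a) (ha2 : 2 ≤ a) (hk : Odd k) :
    padicValNat 2 (a ^ k - 1) = padicValNat 2 (a - 1) := by
  have h1 : (∑ i ∈ Finset.range k, a ^ i) * (a - 1) = a ^ k - 1 :=
    geom_sum_mul_of_one_le (by omega) k
  have hS : Odd (∑ i ∈ Finset.range k, a ^ i) := by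
    rw [Finset.odd_sum_iff_odd_card_odd]
    have : (Finset.range k).filter (fun i => Odd (a ^ i)) = Finset.range k := by
      apply Finset.filter_true_of_mem
      intro i _
      exact ha.pow
    rw [this, Finset.card_range]
    exact hk
  have hS0 : (∑ i ∈ Finset.range k, a ^ i) ≠ 0 := by
    intro h
    rw [h] at hS
    exact absurd hS (by decide)
  rw [← h1, padicValNat.mul hS0 (by omega)]
  have : padicValNat 2 (∑ i ∈ Finset.range k, a ^ i) = 0 := by
    apply padicValNat.eq_zero_of_not_dvd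
    rw [← even_iff_two_dvd, Nat.not_even_iff_odd]
    exact hS
  rw [this, zero_add]

variable {F : Type*} [Field F] [Fintype F]

theorem val_card_SL (F' : Type*) [Field F'] [Fintype F'] (hodd : Odd (Fintype.card F')) (n : ℕ) :
    (Nat.card (Matrix.SpecialLinearGroup (Fin (n + 1)) F')).factorization 2 +
      padicValNat 2 (Fintype.card F' - 1) =
      ∑ e ∈ Finset.range (n + 1), padicValNat 2 (Fintype.card F' ^ (e + 1) - 1) := by
  have h1 := Cfsg.Agent.Lib.Helper19.ExcIso.card_GL_eq_card_SL (F := F') n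
  have h2 := Cfsg.Agent.Lib.Helper10.GLSylowE.val_card_GL_two hodd (n + 1)
  have hq2 : 2 ≤ Fintype.card F' := Fintype.one_lt_card
  have hne : Nat.card (Matrix.SpecialLinearGroup (Fin (n + 1)) F') ≠ 0 := Nat.card_pos.ne'
  have hne2 : Fintype.card F' - 1 ≠ 0 := by omega
  rw [h1, Nat.factorization_mul hne hne2, Finsupp.add_apply,
    Nat.factorization_def (Fintype.card F' - 1) Nat.prime_two] at h2
  exact h2

theorem index_odd (hodd : Odd (Fintype.card F)) (n : ℕ) (hn : 1 ≤ n) (F₀ : Subfield F)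
    (k q₀ : ℕ) (hk : Odd k) (hF₀ : Nat.card ↥F₀ = q₀) (hq : Fintype.card F = q₀ ^ k) :
    ¬ 2 ∣ ((Cfsg.Geo.subfieldSubgroup F₀ (1 : GL (Fin n) F)).comap
      (Matrix.SpecialLinearGroup.toGL :
        Matrix.SpecialLinearGroup (Fin n) F →* GL (Fin n) F)).index := by
  classical
  obtain ⟨n', rfl⟩ : ∃ n', n = n' + 1 := ⟨n - 1, by omega⟩
  let _ : Fintype ↥F₀ := Fintype.ofFinite _
  have hc0 : Fintype.card ↥F₀ = q₀ := by rw [← hF₀, Nat.card_eq_fintype_card]
  have hq₀odd : Odd q₀ := by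
    rw [hq] at hodd
    have hk0 : k ≠ 0 := by
      rintro rfl
      exact absurd hk (by decide)
    exact (Nat.odd_pow_iff hk0).1 hodd
  have hq₀2 : 2 ≤ q₀ := by
    rw [← hc0]
    exact Fintype.one_lt_card
  have hodd0 : Odd (Fintype.card ↥F₀) := by rw [hc0]; exact hq₀odd
  have e1 := val_card_SL F hodd n'
  have e2 := val_card_SL ↥F₀ hodd0 n'
  rw [hq] at e1
  rw [hc0] at e2
  have hterm : ∀ e : ℕ, padicValNat 2 ((q₀ ^ k) ^ (e + 1) - 1) = padicValNat 2 (q₀ ^ (e + 1) - 1) := by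
    intro e
    rw [← pow_mul, mul_comm, pow_mul]
    apply val_pow_sub_one _ _ hq₀odd.pow _ hk
    calc 2 ≤ q₀ := hq₀2
      _ = q₀ ^ 1 := (pow_one _).symm
      _ ≤ q₀ ^ (e + 1) := Nat.pow_le_pow_right (by omega) (by omega)
  have hterm0 : padicValNat 2 (q₀ ^ k - 1) = padicValNat 2 (q₀ - 1) :=
    val_pow_sub_one _ _ hq₀odd hq₀2 hk
  rw [Finset.sum_congr rfl (fun e _ => hterm e), hterm0] at e1
  have heq : (Nat.card (Matrix.SpecialLinearGroup (Fin (n' + 1)) F)).factorization 2 =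
      (Nat.card (Matrix.SpecialLinearGroup (Fin (n' + 1)) ↥F₀)).factorization 2 := by omega
  -- embedding
  let φ : Matrix.SpecialLinearGroup (Fin (n' + 1)) ↥F₀ →* Matrix.SpecialLinearGroup (Fin (n' + 1)) F :=
    Matrix.SpecialLinearGroup.map (F₀.subtype : ↥F₀ →+* F)
  have hφinj : Function.Injective φ := by
    intro a b hab
    apply Subtype.ext
    ext i j
    have h5 := congrArg (fun g : Matrix.SpecialLinearGroup (Fin (n' + 1)) F =>
      (g : Matrix (Fin (n' + 1)) (Fin (n' + 1)) F) i j) hab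
    exact h5
  obtain ⟨H, hH⟩ : ∃ H, H = (Cfsg.Geo.subfieldSubgroup F₀ (1 : GL (Fin (n' + 1)) F)).comap
      (Matrix.SpecialLinearGroup.toGL :
        Matrix.SpecialLinearGroup (Fin (n' + 1)) F →* GL (Fin (n' + 1)) F) := ⟨_, rfl⟩
  rw [← hH]
  have hle : φ.range ≤ H := by
    rintro _ ⟨g₀, rfl⟩
    rw [hH, Subgroup.mem_comap]
    refine mem_subfield_of_eq F₀ _ 1 (Matrix.SpecialLinearGroup.toGL g₀) ?_
    rw [Units.val_one, one_smul]
    rfl
  have hcardrange : Nat.card φ.range = Nat.card (Matrix.SpecialLinearGroup (Fin (n' + 1)) ↥F₀) :=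
    (Nat.card_congr (Equiv.ofInjective φ hφinj)).symm
  have hdvd : Nat.card (Matrix.SpecialLinearGroup (Fin (n' + 1)) ↥F₀) ∣ Nat.card H := by
    rw [← hcardrange]
    exact Subgroup.card_dvd_of_le hle
  have hmul : H.index * Nat.card H = Nat.card (Matrix.SpecialLinearGroup (Fin (n' + 1)) F) :=
    Subgroup.index_mul_card H
  intro h2
  obtain ⟨c, hc⟩ := hdvd
  obtain ⟨i', hi'⟩ := h2
  have hA0 : Nat.card (Matrix.SpecialLinearGroup (Fin (n' + 1)) F) ≠ 0 := Nat.card_pos.ne'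
  have hB0 : Nat.card (Matrix.SpecialLinearGroup (Fin (n' + 1)) ↥F₀) ≠ 0 := Nat.card_pos.ne'
  rw [hc, hi'] at hmul
  have hi0 : i' ≠ 0 := by
    rintro rfl
    rw [mul_zero, zero_mul] at hmul
    exact hA0 hmul.symm
  have hc0' : c ≠ 0 := by
    rintro rfl
    rw [mul_zero, mul_zero] at hmul
    exact hA0 hmul.symm
  have h7 : (Nat.card (Matrix.SpecialLinearGroup (Fin (n' + 1)) F)).factorization 2 =
      1 + i'.factorization 2 + ((Nat.card (Matrix.SpecialLinearGroup (Fin (n' + 1)) ↥F₀)).factorization 2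
        + c.factorization 2) := by
    rw [← hmul, Nat.factorization_mul (mul_ne_zero two_ne_zero hi0) (mul_ne_zero hB0 hc0'),
      Nat.factorization_mul two_ne_zero hi0, Nat.factorization_mul hB0 hc0']
    simp only [Finsupp.add_apply]
    rw [Nat.Prime.factorization_self Nat.prime_two]
  omega

end Cfsg.Agent.Lib.Helper10.Sf
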