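import Mathlib
import Cfsg.Prelude.Def_JordanBlocks
import Cfsg.Agent.Lib.Helper10.DecA
import Cfsg.Agent.Lib.Helper10.JTC

set_option autoImplicit false

namespace Cfsg.Agent.Lib.Helper10.Sub

open Polynomial Module Cfsg.Agent.Lib.Helper5.Nil Cfsg.Agent.Lib.Helper10.GUOrdP
open Cfsg.Agent.Lib.Helper10.Dec Cfsg.Agent.Lib.Helper10.JT

variable {K : Type*} [Field K]

theorem sum_sub_eq (s : Multiset ℕ) (p : ℕ) :
    (s.map (fun a => a - p)).sum + (s.map (min p)).sum = s.sum := by
  induction s using Multiset.induction_on with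
  | empty => simp
  | cons b s ih =>
    rw [Multiset.map_cons, Multiset.map_cons, Multiset.sum_cons, Multiset.sum_cons,
      Multiset.sum_cons, ← ih]
    have : b - p + min p b = b := by
      rcases le_total p b with h | h
      · rw [min_eq_left h]; omega
      · rw [min_eq_right h]; omega
    omega

/-- Jordan normal form of a unipotent matrix over a finite field. -/
theorem exists_jordan [Finite K] {n : ℕ} (u : Matrix (Fin n) (Fin n) K)
    (hu : ∃ e, (u - 1) ^ e = 0) :
    ∃ (t : ℕ) (d : Fin t → ℕ) (_ : ∀ k, 1 ≤ d k) (e : ((k : Fin t) × Fin (d k)) ≃ Fin n),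
      IsConj (Matrix.reindex e e (Cfsg.jordanTypeMatrix d K)) u := by
  classical
  obtain ⟨s, hs⟩ := exists_hasType (u - 1) hu
  let d : Fin s.toList.length → ℕ := fun i => s.toList.get i
  have hmap : Finset.univ.val.map d = s := by
    rw [Fin.univ_val_map, List.ofFn_get, Multiset.coe_toList]
  have hsumf : ∀ f : ℕ → ℕ, ∑ k, f (d k) = (s.map f).sum := by
    intro f
    have h1 : (Finset.univ.val.map (fun k => f (d k))) = (Finset.univ.val.map d).map f := by
      rw [Multiset.map_map]
      rfl
    show (Finset.univ.val.map (fun k => f (d k))).sum = _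
    rw [h1, hmap]
  have hd : ∀ k, 1 ≤ d k := by
    intro k
    apply hs.pos
    rw [← hmap]
    exact Multiset.mem_map_of_mem d (Finset.mem_univ_val k)
  have hcard : Fintype.card ((k : Fin s.toList.length) × Fin (d k)) = Fintype.card (Fin n) := by
    rw [Fintype.card_sigma, Fintype.card_fin]
    simp only [Fintype.card_fin]
    have := hsumf id
    simp only [id, Multiset.map_id'] at this
    rw [this, hs.sum]
  let e : ((k : Fin s.toList.length) × Fin (d k)) ≃ Fin n := Fintype.equivOfCardEq hcard
  refine ⟨_, d, hd, e, ?_⟩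
  apply isConj_of_rank_eq
  · obtain ⟨m, hm⟩ := jordanType_nilpotent (F := K) d
    refine ⟨m, ?_⟩
    have : Matrix.reindex e e (Cfsg.jordanTypeMatrix d K) - 1 =
        Matrix.reindexAlgEquiv K K e (Cfsg.jordanTypeMatrix d K - 1) := by
      rw [map_sub, map_one]
      rfl
    rw [this, ← map_pow, hm, map_zero]
  · exact hu
  · intro p
    have h1 : Matrix.reindex e e (Cfsg.jordanTypeMatrix d K) - 1 =
        Matrix.reindexAlgEquiv K K e (Cfsg.jordanTypeMatrix d K - 1) := by
      rw [map_sub, map_one]
      rfl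
    rw [h1, ← map_pow]
    have h2 : (Matrix.reindexAlgEquiv K K e ((Cfsg.jordanTypeMatrix d K - 1) ^ p)).rank =
        ((Cfsg.jordanTypeMatrix d K - 1) ^ p).rank := Matrix.rank_reindex e e _
    rw [h2, rank_jordanType_pow d hd p, hsumf (fun a => a - p)]
    have h3 := finrank_ker_of_hasType hs p
    have h4 := rank_add_finrank_ker ((u - 1) ^ p)
    rw [Fintype.card_fin] at h4
    have h5 := sum_sub_eq s p
    have h6 := hs.sum
    omega

end Cfsg.Agent.Lib.Helper10.Sub
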