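import Mathlib

set_option autoImplicit false

namespace Cfsg.Agent.Lib.Helper10.Sub

variable {F : Type*} [Field F] [Fintype F] [CharP F 3]

theorem exists_cube_root (z : F) : ∃ l : F, l ^ 3 = z := by
  have hinj : Function.Injective (frobenius F 3) := frobenius_inj F 3
  have hsurj : Function.Surjective (frobenius F 3) := Finite.injective_iff_surjective.1 hinj
  obtain ⟨l, hl⟩ := hsurj z
  exact ⟨l, hl⟩

theorem cube_inj {a b : F} (h : a ^ 3 = b ^ 3) : a = b :=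
  frobenius_inj F 3 h

theorem mem_of_cube_mem (F₀ : Subfield F) {l : F} (h : l ^ 3 ∈ F₀) : l ∈ F₀ := by
  have : Fintype ↥F₀ := Fintype.ofFinite _
  obtain ⟨l0, hl0⟩ := exists_cube_root (F := ↥F₀) ⟨l ^ 3, h⟩
  have h1 : (l0 : F) ^ 3 = l ^ 3 := by
    have := congrArg Subtype.val hl0
    simpa using this
  rw [← cube_inj h1]
  exact l0.2

theorem ringChar_ne_two : ringChar F ≠ 2 := by
  rw [ringChar.eq F 3]
  norm_num

theorem card_odd : Fintype.card F % 2 = 1 :=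
  FiniteField.odd_card_of_char_ne_two ringChar_ne_two

theorem geom_odd (q₀ k : ℕ) (hq : q₀ % 2 = 1) (hk : k % 2 = 1) :
    (∑ i ∈ Finset.range k, q₀ ^ i) % 2 = 1 := by
  have h1 : ∀ i, q₀ ^ i % 2 = 1 := by
    intro i
    exact Nat.odd_iff.1 ((Nat.odd_iff.2 hq).pow)
  have h2 : ∀ k, (∑ i ∈ Finset.range k, q₀ ^ i) % 2 = k % 2 := by
    intro k
    induction k with
    | zero => simp
    | succ k ih =>
      rw [Finset.sum_range_succ, Nat.add_mod, ih, h1]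
      omega
  rw [h2, hk]

theorem half_card (q₀ k : ℕ) (hq : q₀ % 2 = 1) :
    q₀ ^ k / 2 = q₀ / 2 * ∑ i ∈ Finset.range k, q₀ ^ i := by
  have h1 : (q₀ - 1) * ∑ i ∈ Finset.range k, q₀ ^ i = q₀ ^ k - 1 := by
    have h := mul_geom_sum (q₀ : ℤ) k
    have h1 : 1 ≤ q₀ := by omega
    have h2 : 1 ≤ q₀ ^ k := Nat.one_le_pow k q₀ (by omega)
    zify [h1, h2]
    exact h
  have h2 : q₀ ^ k % 2 = 1 := Nat.odd_iff.1 ((Nat.odd_iff.2 hq).pow)
  have h3 : 1 ≤ q₀ ^ k := Nat.one_le_pow k q₀ (by omega)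
  have h4 : q₀ - 1 = 2 * (q₀ / 2) := by omega
  have h5 : q₀ ^ k - 1 = 2 * (q₀ ^ k / 2) := by omega
  rw [h4, h5, mul_assoc] at h1
  exact (Nat.eq_of_mul_eq_mul_left (by norm_num) h1).symm

theorem exists_nonsquare_sub (F₀ : Subfield F) (q₀ k : ℕ) (hF₀ : Nat.card ↥F₀ = q₀)
    (hq : Fintype.card F = q₀ ^ k) (hk : k % 2 = 1) :
    ∃ b : F, b ∈ F₀ ∧ b ≠ 0 ∧ ¬ IsSquare b := by
  have : Fintype ↥F₀ := Fintype.ofFinite _
  have hc0 : Fintype.card ↥F₀ = q₀ := by rw [← Nat.card_eq_fintype_card, hF₀]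
  have hodd0 : q₀ % 2 = 1 := by
    rw [← hc0]
    exact card_odd
  obtain ⟨b, hb⟩ := FiniteField.exists_nonsquare (F := ↥F₀) ringChar_ne_two
  have hb0 : b ≠ 0 := by
    rintro rfl
    exact hb ⟨0, by simp⟩
  have h1 : b ^ (Fintype.card ↥F₀ / 2) = -1 := by
    rcases FiniteField.pow_dichotomy (F := ↥F₀) ringChar_ne_two hb0 with h | h
    · exact absurd ((FiniteField.isSquare_iff ringChar_ne_two hb0).2 h) hb
    · exact h
  have hbF : (b : F) ≠ 0 := fun h => hb0 (Subtype.ext h)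
  refine ⟨b, b.2, hbF, ?_⟩
  rw [FiniteField.isSquare_iff ringChar_ne_two hbF, hq, half_card q₀ k hodd0, pow_mul]
  have h2 : (b : F) ^ (q₀ / 2) = -1 := by
    have := congrArg Subtype.val h1
    rw [hc0] at this
    simpa using this
  rw [h2, Odd.neg_one_pow (Nat.odd_iff.2 (geom_odd q₀ k hodd0 hk))]
  intro h
  have h3 : (2 : F) = 0 := by linear_combination -h
  have h4 : ((2 : ℕ) : F) = 0 := by exact_mod_cast h3
  rw [CharP.cast_eq_zero_iff F 3] at h4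
  omega

theorem isSquare_of_mem_sub (F₀ : Subfield F) (q₀ : ℕ) (hF₀ : Nat.card ↥F₀ = q₀)
    (hq : Fintype.card F = q₀ ^ 2) {b : F} (hb : b ∈ F₀) : IsSquare b := by
  have : Fintype ↥F₀ := Fintype.ofFinite _
  have hc0 : Fintype.card ↥F₀ = q₀ := by rw [← Nat.card_eq_fintype_card, hF₀]
  have hodd0 : q₀ % 2 = 1 := by
    rw [← hc0]
    exact card_odd
  by_cases hb0 : b = 0
  · rw [hb0]
    exact ⟨0, by simp⟩
  rw [FiniteField.isSquare_iff ringChar_ne_two hb0, hq, half_card q₀ 2 hodd0]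
  have h1 : (⟨b, hb⟩ : ↥F₀) ^ (Fintype.card ↥F₀ - 1) = 1 :=
    FiniteField.pow_card_sub_one_eq_one _ (fun h => hb0 (congrArg Subtype.val h))
  have h2 : b ^ (q₀ - 1) = 1 := by
    have := congrArg Subtype.val h1
    rw [hc0] at this
    simpa using this
  have h3 : q₀ / 2 * ∑ i ∈ Finset.range 2, q₀ ^ i = (q₀ - 1) * ((q₀ + 1) / 2) := by
    rw [Finset.sum_range_succ, Finset.sum_range_one, pow_zero, pow_one]
    obtain ⟨a, ha⟩ : ∃ a, q₀ = 2 * a + 1 := ⟨q₀ / 2, by omega⟩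
    have h4 : q₀ / 2 = a := by omega
    have h5 : (q₀ + 1) / 2 = a + 1 := by omega
    have h6 : q₀ - 1 = 2 * a := by omega
    rw [h4, h5, h6, ha]
    ring
  rw [h3, pow_mul, h2, one_pow]

end Cfsg.Agent.Lib.Helper10.Sub
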