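import Mathlib
import Cfsg.Prelude.Def_JordanBlocks
import Cfsg.Agent.Lib.Helper10.JTC

set_option autoImplicit false

namespace Cfsg.Agent.Lib.Helper10.Sub

open Cfsg.Agent.Lib.Helper10.JT

variable {K : Type*} [Field K] {L : Type*} [Field L]

theorem jordanBlock_map (f : K →+* L) (k : ℕ) :
    (Cfsg.jordanBlock k K).map f = Cfsg.jordanBlock k L := by
  ext i j
  unfold Cfsg.jordanBlock
  rw [Matrix.map_apply, Matrix.of_apply, Matrix.of_apply]
  split_ifs <;> simp

theorem jordanTypeMatrix_map (f : K →+* L) {t : ℕ} (d : Fin t → ℕ) :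
    (Cfsg.jordanTypeMatrix d K).map f = Cfsg.jordanTypeMatrix d L := by
  unfold Cfsg.jordanTypeMatrix
  rw [Matrix.blockDiagonal'_map _ _ (map_zero f)]
  congr 1
  funext k
  exact jordanBlock_map f (d k)

/-- block scalar matrix -/
def blockScalar {t : ℕ} (d : Fin t → ℕ) (k0 : Fin t) (ε : K) :
    Matrix ((k : Fin t) × Fin (d k)) ((k : Fin t) × Fin (d k)) K :=
  Matrix.diagonal fun a => if a.1 = k0 then ε else 1

theorem blockScalar_comm {t : ℕ} (d : Fin t → ℕ) (k0 : Fin t) (ε : K) :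
    blockScalar d k0 ε * Cfsg.jordanTypeMatrix d K = Cfsg.jordanTypeMatrix d K * blockScalar d k0 ε := by
  ext a b
  unfold blockScalar
  rw [Matrix.diagonal_mul, Matrix.mul_diagonal]
  unfold Cfsg.jordanTypeMatrix
  rw [Matrix.blockDiagonal'_apply]
  by_cases hab : a.1 = b.1
  · have h1 : (if a.1 = k0 then ε else 1) = (if b.1 = k0 then ε else 1) := by rw [hab]
    rw [h1, mul_comm]
  · rw [dif_neg hab, mul_zero, zero_mul]

theorem blockScalar_det {t : ℕ} (d : Fin t → ℕ) (k0 : Fin t) (ε : K) :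
    (blockScalar d k0 ε).det = ε ^ (d k0) := by
  unfold blockScalar
  rw [Matrix.det_diagonal, Fintype.prod_sigma]
  have : ∀ k : Fin t, ∏ i : Fin (d k), (if (⟨k, i⟩ : (k : Fin t) × Fin (d k)).1 = k0 then ε else 1) =
      if k = k0 then ε ^ (d k0) else 1 := by
    intro k
    by_cases hk : k = k0
    · subst hk
      simp
    · simp [hk]
  simp only [this]
  rw [Finset.prod_ite_eq' Finset.univ k0 (fun _ => ε ^ d k0), if_pos (Finset.mem_univ _)]

theorem le_three_of_cube {t : ℕ} (d : Fin t → ℕ) (hd : ∀ k, 1 ≤ d k)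
    (h : (Cfsg.jordanTypeMatrix d K - 1) ^ 3 = 0) (k : Fin t) : d k ≤ 3 := by
  have h1 := rank_jordanType_pow (F := K) d hd 3
  rw [h, Matrix.rank_zero] at h1
  have h2 := (Finset.sum_eq_zero_iff.1 h1.symm) k (Finset.mem_univ k)
  omega

end Cfsg.Agent.Lib.Helper10.Sub
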