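import Mathlib
import Cfsg.Prelude.Def_GeometricClasses
import Cfsg.Agent.Lib.Helper10.SubC
import Cfsg.Agent.Lib.Helper10.SubD

set_option autoImplicit false

namespace Cfsg.Agent.Lib.Helper10.Sub

open Cfsg.Agent.Lib.Helper10.JT

variable {F : Type*} [Field F] {n : ℕ}

theorem reindex_map {K L : Type*} [Field K] [Field L] (f : K →+* L) {ι : Type*} [Fintype ι]
    [DecidableEq ι] (e : ι ≃ Fin n) (A : Matrix ι ι K) :
    (Matrix.reindex e e A).map f = Matrix.reindex e e (A.map f) := by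
  ext i j
  rfl

theorem conj_into_subfield (hn : 1 ≤ n) (F₀ : Subfield F) {t : ℕ} (d : Fin t → ℕ)
    (e : ((k : Fin t) × Fin (d k)) ≃ Fin n)
    (Hdet : ∀ δ : F, δ ≠ 0 → ∃ (k0 : Fin t) (ε β : F), ε ≠ 0 ∧ β ≠ 0 ∧ β ∈ F₀ ∧
      δ = ε ^ (d k0) * β)
    (x : Matrix.SpecialLinearGroup (Fin n) F) (l : F) (hl : l ≠ 0)
    (P0 : Matrix (Fin n) (Fin n) F) (hP0 : P0.det ≠ 0)
    (hx : (x : Matrix (Fin n) (Fin n) F) * P0 =
      P0 * (l • Matrix.reindex e e (Cfsg.jordanTypeMatrix d F))) :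
    ∃ P : Matrix.SpecialLinearGroup (Fin n) F,
      P⁻¹ * x * P ∈ (Cfsg.Geo.subfieldSubgroup F₀ (1 : GL (Fin n) F)).comap
        (Matrix.SpecialLinearGroup.toGL : Matrix.SpecialLinearGroup (Fin n) F →* GL (Fin n) F) := by
  classical
  obtain ⟨k0, ε, β, hε, hβ, hβ0, hδ⟩ := Hdet (P0.det)⁻¹ (inv_ne_zero hP0)
  let ψ := Matrix.reindexAlgEquiv F F e
  let ψ₀ := Matrix.reindexAlgEquiv ↥F₀ ↥F₀ e
  obtain ⟨C, hC⟩ : ∃ C : Matrix (Fin n) (Fin n) F, C = ψ (blockScalar d k0 ε) := ⟨_, rfl⟩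
  obtain ⟨J, hJ⟩ : ∃ J : Matrix (Fin n) (Fin n) F, J = ψ (Cfsg.jordanTypeMatrix d F) := ⟨_, rfl⟩
  have hJ' : Matrix.reindex e e (Cfsg.jordanTypeMatrix d F) = J := by rw [hJ]; rfl
  rw [hJ'] at hx
  have hCJ : C * J = J * C := by
    rw [hC, hJ, ← map_mul, ← map_mul, blockScalar_comm]
  have hCdet : C.det = ε ^ (d k0) := by
    rw [hC]
    show (Matrix.reindex e e (blockScalar d k0 ε)).det = _
    rw [Matrix.det_reindex_self, blockScalar_det]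
  -- the matrices over the subfield
  let i0 : Fin n := ⟨0, hn⟩
  let b₀ : ↥F₀ := ⟨β, hβ0⟩
  have hb₀ : b₀ ≠ 0 := fun h => hβ (congrArg Subtype.val h)
  let D₀ : Matrix (Fin n) (Fin n) ↥F₀ := Matrix.diagonal (Function.update 1 i0 b₀)
  have hD₀det : D₀.det = b₀ := by
    show (Matrix.diagonal (Function.update 1 i0 b₀)).det = b₀
    rw [Matrix.det_diagonal, Finset.prod_update_of_mem (Finset.mem_univ i0)]
    simp
  let M₀ : GL (Fin n) ↥F₀ := Matrix.GeneralLinearGroup.mkOfDetNeZero D₀ (by rw [hD₀det]; exact hb₀)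
  obtain ⟨J₀, hJ₀⟩ : ∃ J₀ : Matrix (Fin n) (Fin n) ↥F₀, J₀ = ψ₀ (Cfsg.jordanTypeMatrix d ↥F₀) :=
    ⟨_, rfl⟩
  have hJ₀map : J₀.map F₀.subtype = J := by
    rw [hJ₀, hJ]
    show (Matrix.reindex e e (Cfsg.jordanTypeMatrix d ↥F₀)).map F₀.subtype = _
    rw [reindex_map, jordanTypeMatrix_map]
    rfl
  have hJ₀unit : IsUnit J₀ := by
    obtain ⟨m, hm⟩ := jordanType_nilpotent (F := ↥F₀) d
    have hnil : IsNilpotent (J₀ - 1) := by
      refine ⟨m, ?_⟩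
      rw [hJ₀, ← map_one ψ₀, ← map_sub, ← map_pow, hm, map_zero]
    have := hnil.isUnit_add_one
    rwa [sub_add_cancel] at this
  obtain ⟨j₀, hj₀⟩ := hJ₀unit
  let m₀ : GL (Fin n) ↥F₀ := M₀⁻¹ * j₀ * M₀
  -- images over F
  obtain ⟨Dm, hDm⟩ : ∃ Dm : Matrix (Fin n) (Fin n) F,
    Dm = (M₀ : Matrix (Fin n) (Fin n) ↥F₀).map F₀.subtype := ⟨_, rfl⟩
  obtain ⟨Dmi, hDmi⟩ : ∃ Dmi : Matrix (Fin n) (Fin n) F,
    Dmi = ((M₀⁻¹ : GL (Fin n) ↥F₀) : Matrix (Fin n) (Fin n) ↥F₀).map F₀.subtype := ⟨_, rfl⟩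
  have h1 : Dmi * Dm = 1 := by
    rw [hDm, hDmi, ← Matrix.map_mul, ← Units.val_mul, inv_mul_cancel, Units.val_one,
      Matrix.map_one _ (map_zero _) (map_one _)]
  have h2 : Dm * Dmi = 1 := by
    rw [hDm, hDmi, ← Matrix.map_mul, ← Units.val_mul, mul_inv_cancel, Units.val_one,
      Matrix.map_one _ (map_zero _) (map_one _)]
  have hDmdet : Dm.det = β := by
    rw [hDm]
    have : (M₀ : Matrix (Fin n) (Fin n) ↥F₀) = D₀ := rfl
    rw [this, ← RingHom.mapMatrix_apply, ← RingHom.map_det, hD₀det]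
    rfl
  have hm₀ : (m₀ : Matrix (Fin n) (Fin n) ↥F₀).map F₀.subtype = Dmi * J * Dm := by
    show ((M₀⁻¹ * j₀ * M₀ : GL (Fin n) ↥F₀) : Matrix (Fin n) (Fin n) ↥F₀).map F₀.subtype = _
    rw [Units.val_mul, Units.val_mul, Matrix.map_mul, Matrix.map_mul, hj₀, hJ₀map, hDm, hDmi]
  have hPdet : (P0 * C * Dm).det = 1 := by
    rw [Matrix.det_mul, Matrix.det_mul, hCdet, hDmdet, mul_assoc, ← hδ, mul_inv_cancel₀ hP0]
  let P : Matrix.SpecialLinearGroup (Fin n) F := ⟨P0 * C * Dm, hPdet⟩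
  refine ⟨P, ?_⟩
  rw [Subgroup.mem_comap]
  apply mem_subfield_of_eq F₀ _ (Units.mk0 l hl) m₀
  rw [hm₀, Units.val_mk0, Matrix.SpecialLinearGroup.coe_GL_coe_matrix]
  have hPP : ((P⁻¹ : Matrix.SpecialLinearGroup (Fin n) F) : Matrix (Fin n) (Fin n) F) *
      (P : Matrix (Fin n) (Fin n) F) = 1 := by
    rw [← Matrix.SpecialLinearGroup.coe_mul, inv_mul_cancel, Matrix.SpecialLinearGroup.coe_one]
  have hkey : (x : Matrix (Fin n) (Fin n) F) * (P : Matrix (Fin n) (Fin n) F) =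
      (P : Matrix (Fin n) (Fin n) F) * (l • (Dmi * J * Dm)) := by
    show (x : Matrix (Fin n) (Fin n) F) * (P0 * C * Dm) = (P0 * C * Dm) * (l • (Dmi * J * Dm))
    calc (x : Matrix (Fin n) (Fin n) F) * (P0 * C * Dm)
        = ((x : Matrix (Fin n) (Fin n) F) * P0) * C * Dm := by simp only [mul_assoc]
      _ = P0 * (l • J) * C * Dm := by rw [hx]
      _ = l • (P0 * (J * C) * Dm) := by
          simp only [Matrix.mul_smul, Matrix.smul_mul, mul_assoc]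
      _ = l • (P0 * (C * J) * Dm) := by rw [hCJ]
      _ = l • (P0 * C * (Dm * Dmi) * J * Dm) := by rw [h2]; simp only [mul_assoc, mul_one]
      _ = (P0 * C * Dm) * (l • (Dmi * J * Dm)) := by
          simp only [Matrix.mul_smul, mul_assoc]
  rw [Matrix.SpecialLinearGroup.coe_mul, Matrix.SpecialLinearGroup.coe_mul, mul_assoc, hkey,
    ← mul_assoc, hPP, one_mul]

end Cfsg.Agent.Lib.Helper10.Sub
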