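import Mathlib
import Cfsg.Prelude.Def_GeometricClasses
import Cfsg.Agent.Lib.Helper10.SubA
import Cfsg.Agent.Lib.Helper10.SubB
import Cfsg.Agent.Lib.Helper10.SubE

set_option autoImplicit false

namespace Cfsg.Agent.Lib.Helper10.Sub

open Cfsg.Agent.Lib.Helper10.JT

variable {F : Type*} [Field F] [Fintype F] [CharP F 3] {n : ℕ}

theorem exists_sq_mul (F₀ : Subfield F) (q₀ k : ℕ) (hF₀ : Nat.card ↥F₀ = q₀)
    (hq : Fintype.card F = q₀ ^ k) (hk : k % 2 = 1) (δ : F) (hδ : δ ≠ 0) :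
    ∃ ε β : F, ε ≠ 0 ∧ β ≠ 0 ∧ β ∈ F₀ ∧ δ = ε ^ 2 * β := by
  by_cases hsq : IsSquare δ
  · obtain ⟨r, hr⟩ := hsq
    have hr0 : r ≠ 0 := by
      rintro rfl
      exact hδ (by rw [hr, mul_zero])
    exact ⟨r, 1, hr0, one_ne_zero, F₀.one_mem, by rw [hr, mul_one, sq]⟩
  · obtain ⟨b, hb, hb0, hbsq⟩ := exists_nonsquare_sub F₀ q₀ k hF₀ hq hk
    have h1 : δ ^ (Fintype.card F / 2) = -1 := by
      rcases FiniteField.pow_dichotomy ringChar_ne_two hδ with h | h
      · exact absurd ((FiniteField.isSquare_iff ringChar_ne_two hδ).2 h) hsq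
      · exact h
    have h2 : b ^ (Fintype.card F / 2) = -1 := by
      rcases FiniteField.pow_dichotomy ringChar_ne_two hb0 with h | h
      · exact absurd ((FiniteField.isSquare_iff ringChar_ne_two hb0).2 h) hbsq
      · exact h
    have h3 : IsSquare (δ / b) := by
      rw [FiniteField.isSquare_iff ringChar_ne_two (div_ne_zero hδ hb0), div_pow, h1, h2]
      norm_num
    obtain ⟨r, hr⟩ := h3
    have hr0 : r ≠ 0 := by
      rintro rfl
      rw [mul_zero] at hr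
      exact (div_ne_zero hδ hb0) hr
    refine ⟨r, b, hr0, hb0, hb, ?_⟩
    rw [sq, ← hr, div_mul_cancel₀ _ hb0]

theorem conj_all (hn : 2 ≤ n) (F₀ : Subfield F) (q₀ k : ℕ) (hF₀ : Nat.card ↥F₀ = q₀)
    (hq : Fintype.card F = q₀ ^ k) (hcond : Odd n ∨ k % 2 = 1)
    (x : Matrix.SpecialLinearGroup (Fin n) F)
    (hx3 : ∃ z : F, ((x ^ 3 : Matrix.SpecialLinearGroup (Fin n) F) : Matrix (Fin n) (Fin n) F) =
      z • (1 : Matrix (Fin n) (Fin n) F)) :
    ∃ P : Matrix.SpecialLinearGroup (Fin n) F,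
      P⁻¹ * x * P ∈ (Cfsg.Geo.subfieldSubgroup F₀ (1 : GL (Fin n) F)).comap
        (Matrix.SpecialLinearGroup.toGL : Matrix.SpecialLinearGroup (Fin n) F →* GL (Fin n) F) := by
  classical
  have : Nonempty (Fin n) := ⟨⟨0, by omega⟩⟩
  obtain ⟨z, hz⟩ := hx3
  rw [Matrix.SpecialLinearGroup.coe_pow] at hz
  have hz0 : z ≠ 0 := by
    rintro rfl
    rw [zero_smul] at hz
    have h1 := congrArg Matrix.det hz
    rw [Matrix.det_pow, x.2, one_pow, Matrix.det_zero] at h1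
    exact one_ne_zero h1
  obtain ⟨l, hl⟩ := exists_cube_root z
  have hl0 : l ≠ 0 := by
    rintro rfl
    exact hz0 (by rw [← hl]; ring)
  obtain ⟨u, hu⟩ : ∃ u : Matrix (Fin n) (Fin n) F, u = l⁻¹ • (x : Matrix (Fin n) (Fin n) F) :=
    ⟨_, rfl⟩
  have hxu : (x : Matrix (Fin n) (Fin n) F) = l • u := by
    rw [hu, smul_smul, mul_inv_cancel₀ hl0, one_smul]
  have hu3 : u ^ 3 = 1 := by
    rw [hu, smul_pow, hz, smul_smul, inv_pow, hl, inv_mul_cancel₀ hz0, one_smul]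
  have hun : (u - 1) ^ 3 = 0 := by
    rw [sub_pow_char_of_commute 3 (Commute.one_right u), hu3, one_pow, sub_self]
  obtain ⟨t, d, hd, e, hconj⟩ := exists_jordan u ⟨3, hun⟩
  obtain ⟨c, hc⟩ := hconj
  have hc' : (c : Matrix (Fin n) (Fin n) F) * Matrix.reindex e e (Cfsg.jordanTypeMatrix d F) =
      u * (c : Matrix (Fin n) (Fin n) F) := hc
  have hcdet : (c : Matrix (Fin n) (Fin n) F).det ≠ 0 := by
    have h1 : (c : Matrix (Fin n) (Fin n) F) * ((c⁻¹ : (Matrix (Fin n) (Fin n) F)ˣ) :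
        Matrix (Fin n) (Fin n) F) = 1 := by
      rw [← Units.val_mul, mul_inv_cancel, Units.val_one]
    intro h0
    have h2 := congrArg Matrix.det h1
    rw [Matrix.det_mul, h0, zero_mul, Matrix.det_one] at h2
    exact zero_ne_one h2
  -- parts are at most 3
  let ψ := Matrix.reindexAlgEquiv F F e
  have hJ3 : (Cfsg.jordanTypeMatrix d F - 1) ^ 3 = 0 := by
    apply ψ.injective
    rw [map_zero, map_pow, map_sub, map_one]
    have h1 : (c : Matrix (Fin n) (Fin n) F) * (ψ (Cfsg.jordanTypeMatrix d F) - 1) =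
        (u - 1) * (c : Matrix (Fin n) (Fin n) F) := by
      rw [mul_sub, sub_mul, mul_one, one_mul]
      exact congrArg (· - (c : Matrix (Fin n) (Fin n) F)) hc'
    have h2 : (c : Matrix (Fin n) (Fin n) F) * (ψ (Cfsg.jordanTypeMatrix d F) - 1) ^ 3 =
        (u - 1) ^ 3 * (c : Matrix (Fin n) (Fin n) F) := by
      rw [pow_succ, pow_succ, pow_one, pow_succ, pow_succ, pow_one, ← mul_assoc, ← mul_assoc, h1,
        mul_assoc (u - 1), h1, mul_assoc, mul_assoc, h1]
      simp only [mul_assoc]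
    rw [hun, zero_mul] at h2
    have h3 : ((c⁻¹ : (Matrix (Fin n) (Fin n) F)ˣ) : Matrix (Fin n) (Fin n) F) *
        ((c : Matrix (Fin n) (Fin n) F) * (ψ (Cfsg.jordanTypeMatrix d F) - 1) ^ 3) = 0 := by
      rw [h2, mul_zero]
    rwa [← mul_assoc, ← Units.val_mul, inv_mul_cancel, Units.val_one, one_mul] at h3
  have hd3 : ∀ k, d k ≤ 3 := le_three_of_cube d hd hJ3
  have hsum : ∑ k, d k = n := by
    have := Fintype.card_congr e
    rw [Fintype.card_sigma, Fintype.card_fin] at this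
    simpa using this
  have Hdet : ∀ δ : F, δ ≠ 0 → ∃ (k0 : Fin t) (ε β : F), ε ≠ 0 ∧ β ≠ 0 ∧ β ∈ F₀ ∧
      δ = ε ^ (d k0) * β := by
    intro δ hδ
    by_cases h1 : ∃ k0, d k0 = 1
    · obtain ⟨k0, hk0⟩ := h1
      exact ⟨k0, δ, 1, hδ, one_ne_zero, F₀.one_mem, by rw [hk0, pow_one, mul_one]⟩
    by_cases h3 : ∃ k0, d k0 = 3
    · obtain ⟨k0, hk0⟩ := h3
      obtain ⟨ε, hε⟩ := exists_cube_root δ
      have hε0 : ε ≠ 0 := by
        rintro rfl
        exact hδ (by rw [← hε]; ring)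
      exact ⟨k0, ε, 1, hε0, one_ne_zero, F₀.one_mem, by rw [hk0, hε, mul_one]⟩
    push Not at h1 h3
    have h2 : ∀ k, d k = 2 := by
      intro k
      have := hd k
      have := hd3 k
      have := h1 k
      have := h3 k
      omega
    have hk : k % 2 = 1 := by
      rcases hcond with ho | hk
      · exfalso
        have : n = 2 * t := by
          rw [← hsum]
          simp [h2, mul_comm]
        rw [this] at ho
        exact (Nat.not_odd_iff_even.2 (even_two_mul t)) ho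
      · exact hk
    obtain ⟨ε, β, hε, hβ, hβ0, hδe⟩ := exists_sq_mul F₀ q₀ k hF₀ hq hk δ hδ
    let a := e.symm ⟨0, by omega⟩
    exact ⟨a.1, ε, β, hε, hβ, hβ0, by rw [h2, hδe]⟩
  refine conj_into_subfield (by omega) F₀ d e Hdet x l hl0 (c : Matrix (Fin n) (Fin n) F) hcdet ?_
  rw [hxu, Matrix.smul_mul, ← hc', Matrix.mul_smul]

end Cfsg.Agent.Lib.Helper10.Sub
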