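import Mathlib
import Cfsg.Agent.Lib.Helper10.SubF

set_option autoImplicit false

namespace Cfsg.Agent.Lib.Helper10.Sf

open Cfsg.Agent.Lib.Helper10.JT Cfsg.Agent.Lib.Helper10.Sub

variable {F : Type*} [Field F] [Fintype F] [CharP F 2] {n : ℕ}

theorem le_two_of_sq {K : Type*} [Field K] {t : ℕ} (d : Fin t → ℕ) (hd : ∀ k, 1 ≤ d k)
    (h : (Cfsg.jordanTypeMatrix d K - 1) ^ 2 = 0) (k : Fin t) : d k ≤ 2 := by
  have h1 := rank_jordanType_pow (F := K) d hd 2
  rw [h, Matrix.rank_zero] at h1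
  have h2 := (Finset.sum_eq_zero_iff.1 h1.symm) k (Finset.mem_univ k)
  omega

theorem conj_all_two (hn : 2 ≤ n) (F₀ : Subfield F)
    (x : Matrix.SpecialLinearGroup (Fin n) F) (z : F)
    (hz : (x : Matrix (Fin n) (Fin n) F) * (x : Matrix (Fin n) (Fin n) F) =
      z • (1 : Matrix (Fin n) (Fin n) F)) :
    ∃ P : Matrix.SpecialLinearGroup (Fin n) F,
      P⁻¹ * x * P ∈ (Cfsg.Geo.subfieldSubgroup F₀ (1 : GL (Fin n) F)).comap
        (Matrix.SpecialLinearGroup.toGL : Matrix.SpecialLinearGroup (Fin n) F →* GL (Fin n) F) := by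
  classical
  have : Nonempty (Fin n) := ⟨⟨0, by omega⟩⟩
  have hsqrt : ∀ y : F, ∃ c : F, c * c = y := by
    intro y
    have hinj : Function.Injective (frobenius F 2) := frobenius_inj F 2
    have hsurj : Function.Surjective (frobenius F 2) := Finite.surjective_of_injective hinj
    obtain ⟨c, hc⟩ := hsurj y
    refine ⟨c, ?_⟩
    rw [← hc, frobenius_def, sq]
  have hz0 : z ≠ 0 := by
    rintro rfl
    rw [zero_smul] at hz
    have h1 := congrArg Matrix.det hz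
    rw [Matrix.det_mul, x.2, one_mul, Matrix.det_zero] at h1
    exact one_ne_zero h1
  obtain ⟨l, hl⟩ := hsqrt z
  have hl0 : l ≠ 0 := by
    rintro rfl
    exact hz0 (by rw [← hl]; ring)
  obtain ⟨u, hu⟩ : ∃ u : Matrix (Fin n) (Fin n) F, u = l⁻¹ • (x : Matrix (Fin n) (Fin n) F) :=
    ⟨_, rfl⟩
  have hxu : (x : Matrix (Fin n) (Fin n) F) = l • u := by
    rw [hu, smul_smul, mul_inv_cancel₀ hl0, one_smul]
  have hu2 : u ^ 2 = 1 := by
    rw [hu, smul_pow, sq (x : Matrix (Fin n) (Fin n) F), hz, smul_smul, inv_pow, sq l, hl,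
      inv_mul_cancel₀ hz0, one_smul]
  have hun : (u - 1) ^ 2 = 0 := by
    rw [sub_pow_char_of_commute 2 (Commute.one_right u), hu2, one_pow, sub_self]
  obtain ⟨t, d, hd, e, hconj⟩ := exists_jordan u ⟨2, hun⟩
  obtain ⟨c, hc⟩ := hconj
  have hc' : (c : Matrix (Fin n) (Fin n) F) * Matrix.reindex e e (Cfsg.jordanTypeMatrix d F) =
      u * (c : Matrix (Fin n) (Fin n) F) := hc
  have hcdet : (c : Matrix (Fin n) (Fin n) F).det ≠ 0 := by
    have h1 : (c : Matrix (Fin n) (Fin n) F) * ((c⁻¹ : (Matrix (Fin n) (Fin n) F)ˣ) :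
        Matrix (Fin n) (Fin n) F) = 1 := by
      rw [← Units.val_mul, mul_inv_cancel, Units.val_one]
    intro h0
    have h2 := congrArg Matrix.det h1
    rw [Matrix.det_mul, h0, zero_mul, Matrix.det_one] at h2
    exact zero_ne_one h2
  let ψ := Matrix.reindexAlgEquiv F F e
  have hJ2 : (Cfsg.jordanTypeMatrix d F - 1) ^ 2 = 0 := by
    apply ψ.injective
    rw [map_zero, map_pow, map_sub, map_one]
    have h1 : (c : Matrix (Fin n) (Fin n) F) * (ψ (Cfsg.jordanTypeMatrix d F) - 1) =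
        (u - 1) * (c : Matrix (Fin n) (Fin n) F) := by
      rw [mul_sub, sub_mul, mul_one, one_mul]
      exact congrArg (· - (c : Matrix (Fin n) (Fin n) F)) hc'
    have h2 : (c : Matrix (Fin n) (Fin n) F) * (ψ (Cfsg.jordanTypeMatrix d F) - 1) ^ 2 =
        (u - 1) ^ 2 * (c : Matrix (Fin n) (Fin n) F) := by
      rw [pow_succ, pow_one, pow_succ, pow_one, ← mul_assoc, h1, mul_assoc, h1, mul_assoc]
    rw [hun, zero_mul] at h2
    have h3 : ((c⁻¹ : (Matrix (Fin n) (Fin n) F)ˣ) : Matrix (Fin n) (Fin n) F) *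
        ((c : Matrix (Fin n) (Fin n) F) * (ψ (Cfsg.jordanTypeMatrix d F) - 1) ^ 2) = 0 := by
      rw [h2, mul_zero]
    rwa [← mul_assoc, ← Units.val_mul, inv_mul_cancel, Units.val_one, one_mul] at h3
  have hd2 : ∀ k, d k ≤ 2 := le_two_of_sq d hd hJ2
  have Hdet : ∀ δ : F, δ ≠ 0 → ∃ (k0 : Fin t) (ε β : F), ε ≠ 0 ∧ β ≠ 0 ∧ β ∈ F₀ ∧
      δ = ε ^ (d k0) * β := by
    intro δ hδ
    let a := e.symm ⟨0, by omega⟩
    have h1 := hd a.1
    have h2 := hd2 a.1
    by_cases h3 : d a.1 = 1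
    · exact ⟨a.1, δ, 1, hδ, one_ne_zero, F₀.one_mem, by rw [h3, pow_one, mul_one]⟩
    · have h4 : d a.1 = 2 := by omega
      obtain ⟨ε, hε⟩ := hsqrt δ
      have hε0 : ε ≠ 0 := by
        rintro rfl
        exact hδ (by rw [← hε]; ring)
      exact ⟨a.1, ε, 1, hε0, one_ne_zero, F₀.one_mem, by rw [h4, sq, hε, mul_one]⟩
  refine conj_into_subfield (by omega) F₀ d e Hdet x l hl0 (c : Matrix (Fin n) (Fin n) F) hcdet ?_
  rw [hxu, Matrix.smul_mul, ← hc', Matrix.mul_smul]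

end Cfsg.Agent.Lib.Helper10.Sf
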