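import Mathlib
import Cfsg.Agent.Lib.Helper10.SubC
import Cfsg.Agent.Lib.Helper10.ExtF

set_option autoImplicit false

namespace Cfsg.Agent.Lib.Helper10.Sf

open Cfsg.Agent.Lib.Helper10.Sub Matrix Module

variable {F : Type*} [Field F] {n : ℕ}

theorem conj_sub (F₀ : Subfield F) (x : Matrix.SpecialLinearGroup (Fin n) F) (l : F) (hl : l ≠ 0)
    (P0 : Matrix (Fin n) (Fin n) F) (hP0 : P0.det ≠ 0) (m₀ : GL (Fin n) ↥F₀)
    (hx : (x : Matrix (Fin n) (Fin n) F) * P0 =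
      P0 * (l • (m₀ : Matrix (Fin n) (Fin n) ↥F₀).map F₀.subtype))
    (hadj : ∀ δ : F, δ ≠ 0 → ∃ C : Matrix (Fin n) (Fin n) F,
      C * ((m₀ : Matrix (Fin n) (Fin n) ↥F₀).map F₀.subtype) =
        ((m₀ : Matrix (Fin n) (Fin n) ↥F₀).map F₀.subtype) * C ∧ C.det = δ) :
    ∃ P : Matrix.SpecialLinearGroup (Fin n) F,
      P⁻¹ * x * P ∈ (Cfsg.Geo.subfieldSubgroup F₀ (1 : GL (Fin n) F)).comap
        (Matrix.SpecialLinearGroup.toGL : Matrix.SpecialLinearGroup (Fin n) F →* GL (Fin n) F) := by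
  classical
  obtain ⟨M, hM⟩ : ∃ M : Matrix (Fin n) (Fin n) F,
      M = (m₀ : Matrix (Fin n) (Fin n) ↥F₀).map F₀.subtype := ⟨_, rfl⟩
  rw [← hM] at hx hadj
  obtain ⟨C, hC1, hC2⟩ := hadj (P0.det)⁻¹ (inv_ne_zero hP0)
  have hPdet : (P0 * C).det = 1 := by
    rw [Matrix.det_mul, hC2, mul_inv_cancel₀ hP0]
  let P : Matrix.SpecialLinearGroup (Fin n) F := ⟨P0 * C, hPdet⟩
  refine ⟨P, ?_⟩
  rw [Subgroup.mem_comap]
  have hkey : (x : Matrix (Fin n) (Fin n) F) * (P : Matrix (Fin n) (Fin n) F) =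
      (P : Matrix (Fin n) (Fin n) F) * (l • M) := by
    show (x : Matrix (Fin n) (Fin n) F) * (P0 * C) = (P0 * C) * (l • M)
    calc (x : Matrix (Fin n) (Fin n) F) * (P0 * C)
        = ((x : Matrix (Fin n) (Fin n) F) * P0) * C := by rw [Matrix.mul_assoc]
      _ = P0 * (l • (M * C)) := by rw [hx, Matrix.mul_assoc, Matrix.smul_mul]
      _ = P0 * (l • (C * M)) := by rw [hC1]
      _ = (P0 * C) * (l • M) := by rw [Matrix.mul_assoc, Matrix.mul_smul C]
  have hPP : ((P⁻¹ : Matrix.SpecialLinearGroup (Fin n) F) : Matrix (Fin n) (Fin n) F) *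
      (P : Matrix (Fin n) (Fin n) F) = 1 := by
    rw [← Matrix.SpecialLinearGroup.coe_mul, inv_mul_cancel, Matrix.SpecialLinearGroup.coe_one]
  refine mem_subfield_of_eq F₀ _ (Units.mk0 l hl) m₀ ?_
  rw [Matrix.SpecialLinearGroup.coe_GL_coe_matrix, Matrix.SpecialLinearGroup.coe_mul,
    Matrix.SpecialLinearGroup.coe_mul, Matrix.mul_assoc, hkey, ← Matrix.mul_assoc, hPP,
    Matrix.one_mul, Units.val_mk0, hM]

theorem conj_square (h2 : (2 : F) ≠ 0) (hn : 1 ≤ n) (F₀ : Subfield F)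
    (x : Matrix.SpecialLinearGroup (Fin n) F) (l : F) (hl0 : l ≠ 0)
    (hx : (x : Matrix (Fin n) (Fin n) F) * (x : Matrix (Fin n) (Fin n) F) =
      (l * l) • (1 : Matrix (Fin n) (Fin n) F)) :
    ∃ P : Matrix.SpecialLinearGroup (Fin n) F,
      P⁻¹ * x * P ∈ (Cfsg.Geo.subfieldSubgroup F₀ (1 : GL (Fin n) F)).comap
        (Matrix.SpecialLinearGroup.toGL : Matrix.SpecialLinearGroup (Fin n) F →* GL (Fin n) F) := by
  classical
  obtain ⟨X, hX⟩ : ∃ X : Matrix (Fin n) (Fin n) F, X = (x : Matrix (Fin n) (Fin n) F) := ⟨_, rfl⟩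
  rw [← hX] at hx
  obtain ⟨a', j, bV, hsum, hbl, hbr⟩ := Cfsg.Agent.Lib.Helper10.Ext.eigen_basis h2 X l hl0 hx
  let e : Fin a' ⊕ Fin j ≃ Fin n := finSumFinEquiv.trans (finCongr hsum)
  let b' : Basis (Fin n) F (Fin n → F) := bV.reindex e
  let sgn : Fin n → ↥F₀ := fun i => Sum.elim (fun _ => (1 : ↥F₀)) (fun _ => (-1 : ↥F₀)) (e.symm i)
  have hsgn2 : ∀ i, sgn i * sgn i = 1 := by
    intro i
    show Sum.elim (fun _ => (1 : ↥F₀)) (fun _ => (-1 : ↥F₀)) (e.symm i) *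
      Sum.elim (fun _ => (1 : ↥F₀)) (fun _ => (-1 : ↥F₀)) (e.symm i) = 1
    rcases e.symm i with s | s
    · simp
    · simp
  have hb' : ∀ i, X *ᵥ b' i = (l * (sgn i : F)) • b' i := by
    intro i
    have h1 : b' i = bV (e.symm i) := by
      rw [Basis.reindex_apply]
    rw [h1]
    show X *ᵥ bV (e.symm i) =
      (l * ((Sum.elim (fun _ => (1 : ↥F₀)) (fun _ => (-1 : ↥F₀)) (e.symm i) : ↥F₀) : F)) •
        bV (e.symm i)
    rcases e.symm i with s | s
    · rw [hbl]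
      simp
    · rw [hbr]
      simp
  let P0 : Matrix (Fin n) (Fin n) F := (Pi.basisFun F (Fin n)).toMatrix b'
  let P0' : Matrix (Fin n) (Fin n) F := b'.toMatrix (Pi.basisFun F (Fin n))
  have hPP' : P0 * P0' = 1 := Basis.toMatrix_mul_toMatrix_flip _ _
  have hP0det : P0.det ≠ 0 := by
    intro h0
    have h3 := congrArg Matrix.det hPP'
    rw [Matrix.det_mul, h0, zero_mul, Matrix.det_one] at h3
    exact zero_ne_one h3
  have hEentry : ∀ i s, P0 i s = b' s i := by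
    intro i s
    show (Pi.basisFun F (Fin n)).toMatrix b' i s = b' s i
    rw [Basis.toMatrix_apply, Pi.basisFun_repr]
  let m₀ : GL (Fin n) ↥F₀ := ⟨Matrix.diagonal sgn, Matrix.diagonal sgn,
    by rw [Matrix.diagonal_mul_diagonal, ← Matrix.diagonal_one]; congr 1; funext i; exact hsgn2 i,
    by rw [Matrix.diagonal_mul_diagonal, ← Matrix.diagonal_one]; congr 1; funext i; exact hsgn2 i⟩
  have hm₀ : (m₀ : Matrix (Fin n) (Fin n) ↥F₀).map F₀.subtype =
      Matrix.diagonal (fun i => (sgn i : F)) := by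
    show (Matrix.diagonal sgn).map F₀.subtype = _
    rw [Matrix.diagonal_map (map_zero _)]
    rfl
  have hxP : X * P0 = P0 * (l • (m₀ : Matrix (Fin n) (Fin n) ↥F₀).map F₀.subtype) := by
    rw [hm₀, Matrix.mul_smul]
    ext i s
    rw [Matrix.smul_apply, Matrix.mul_diagonal, hEentry]
    have hXE : (X * P0) i s = (X *ᵥ b' s) i := by
      rw [Matrix.mul_apply, Matrix.mulVec, dotProduct]
      apply Finset.sum_congr rfl
      intro t _
      rw [hEentry]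
    rw [hXE, hb', Pi.smul_apply, smul_eq_mul, smul_eq_mul]
    ring
  rw [hX] at hxP
  refine conj_sub F₀ x l hl0 P0 hP0det m₀ hxP ?_
  intro δ _
  let i₀ : Fin n := ⟨0, by omega⟩
  refine ⟨Matrix.diagonal (Function.update (fun _ => (1 : F)) i₀ δ), ?_, ?_⟩
  · rw [hm₀, Matrix.diagonal_mul_diagonal, Matrix.diagonal_mul_diagonal]
    congr 1
    funext i
    rw [mul_comm]
  · rw [Matrix.det_diagonal, Finset.prod_update_of_mem (Finset.mem_univ _)]
    simp

theorem not_conj_nonsq (hn : 1 ≤ n) (F₀ : Subfield F)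
    (hsq : ∀ a : ↥F₀, IsSquare (a : F))
    (x : Matrix.SpecialLinearGroup (Fin n) F) (z : F) (hz : ¬ IsSquare z)
    (hx : (x : Matrix (Fin n) (Fin n) F) * (x : Matrix (Fin n) (Fin n) F) =
      z • (1 : Matrix (Fin n) (Fin n) F))
    (P : Matrix.SpecialLinearGroup (Fin n) F) :
    P⁻¹ * x * P ∉ (Cfsg.Geo.subfieldSubgroup F₀ (1 : GL (Fin n) F)).comap
      (Matrix.SpecialLinearGroup.toGL : Matrix.SpecialLinearGroup (Fin n) F →* GL (Fin n) F) := by
  classical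
  intro hP
  rw [Subgroup.mem_comap] at hP
  obtain ⟨c, m₀, hcm⟩ := eq_of_mem_subfield F₀ _ hP
  rw [Matrix.SpecialLinearGroup.coe_GL_coe_matrix] at hcm
  have hsq' : ((P⁻¹ * x * P : Matrix.SpecialLinearGroup (Fin n) F) : Matrix (Fin n) (Fin n) F) *
      ((P⁻¹ * x * P : Matrix.SpecialLinearGroup (Fin n) F) : Matrix (Fin n) (Fin n) F) =
      z • (1 : Matrix (Fin n) (Fin n) F) := by
    have h1 : (P⁻¹ * x * P) * (P⁻¹ * x * P) = P⁻¹ * (x * x) * P := by group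
    rw [← Matrix.SpecialLinearGroup.coe_mul, h1, Matrix.SpecialLinearGroup.coe_mul,
      Matrix.SpecialLinearGroup.coe_mul, Matrix.SpecialLinearGroup.coe_mul, hx, Matrix.mul_smul,
      Matrix.smul_mul, Matrix.mul_one, ← Matrix.SpecialLinearGroup.coe_mul, inv_mul_cancel,
      Matrix.SpecialLinearGroup.coe_one]
  rw [hcm, Matrix.smul_mul, Matrix.mul_smul, smul_smul, ← Matrix.map_mul] at hsq'
  let i₀ : Fin n := ⟨0, by omega⟩
  have h3 := congrFun (congrFun hsq' i₀) i₀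
  rw [Matrix.smul_apply, Matrix.map_apply, Matrix.smul_apply, Matrix.one_apply_eq, smul_eq_mul,
    smul_eq_mul, mul_one] at h3
  obtain ⟨r, hr⟩ := hsq (((m₀ : Matrix (Fin n) (Fin n) ↥F₀) * (m₀ : Matrix (Fin n) (Fin n) ↥F₀)) i₀ i₀)
  apply hz
  refine ⟨(c : F) * r, ?_⟩
  rw [← h3]
  show (c : F) * (c : F) * (F₀.subtype _) = _
  rw [Subfield.coe_subtype, hr]
  ring

end Cfsg.Agent.Lib.Helper10.Sf
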