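import Mathlib
import Cfsg.Agent.Lib.Helper10.ExtG

set_option autoImplicit false

namespace Cfsg.Agent.Lib.Helper10.Sf

open Matrix Module
open Cfsg.Agent.Lib.Helper10.Alt

variable {F : Type*} [Field F] [Fintype F]

theorem card_odd_of_two_ne (h2 : (2 : F) ≠ 0) : Fintype.card F % 2 = 1 := by
  have hrc : ringChar F ≠ 2 := by
    intro h
    apply h2
    have := CharP.cast_eq_zero F (ringChar F)
    rw [h] at this
    exact_mod_cast this
  exact FiniteField.odd_card_of_char_ne_two hrc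

theorem nt_key (h2 : (2 : F) ≠ 0) (m : ℕ) (hm : m ≠ 0) (y : F) (hy1 : y ^ m = 1)
    (hy2 : y ^ (Fintype.card F / 2) = -1) :
    padicValNat 2 (Fintype.card F - 1) < padicValNat 2 (2 * m) := by
  by_contra hle
  push Not at hle
  have hodd := card_odd_of_two_ne h2
  obtain ⟨N, hN⟩ : ∃ N, N = Fintype.card F - 1 := ⟨_, rfl⟩
  obtain ⟨hq, hqdef⟩ : ∃ hq, hq = Fintype.card F / 2 := ⟨_, rfl⟩
  rw [← hN] at hle
  rw [← hqdef] at hy2
  have hN2 : N = 2 * hq := by omega
  obtain ⟨u, hu⟩ := pow_padicValNat_dvd (p := 2) (n := N)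
  obtain ⟨m', hm'⟩ := pow_padicValNat_dvd (p := 2) (n := 2 * m)
  have hnd := pow_succ_padicValNat_not_dvd (p := 2) (n := 2 * m) (by omega)
  obtain ⟨v, hv⟩ : ∃ v, v = padicValNat 2 N := ⟨_, rfl⟩
  obtain ⟨w, hw⟩ : ∃ w, w = padicValNat 2 (2 * m) := ⟨_, rfl⟩
  rw [← hv] at hu hle
  rw [← hw] at hm' hnd hle
  have hodd' : Odd m' := by
    by_contra hne
    have hev : Even m' := Nat.not_odd_iff_even.1 hne
    obtain ⟨r, hr⟩ := hev
    apply hnd
    refine ⟨r, ?_⟩
    rw [hm', hr]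
    ring
  obtain ⟨d, hd⟩ : ∃ d, v = d + w := ⟨v - w, by omega⟩
  have hkey : hq * m' = 2 ^ d * u * m := by
    have h5 : 2 * (hq * m') = 2 * (2 ^ d * u * m) := by
      calc 2 * (hq * m') = N * m' := by rw [hN2]; ring
        _ = 2 ^ d * u * (2 ^ w * m') := by rw [hu, hd, pow_add]; ring
        _ = 2 * (2 ^ d * u * m) := by rw [← hm']; ring
    exact Nat.eq_of_mul_eq_mul_left (by norm_num) h5
  have h6 : y ^ (hq * m') = -1 := by
    rw [pow_mul, hy2, hodd'.neg_one_pow]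
  have h7 : y ^ (hq * m') = 1 := by
    rw [hkey, mul_comm, pow_mul, hy1, one_pow]
  rw [h7] at h6
  apply h2
  linear_combination h6

theorem exists_y (h2 : (2 : F) ≠ 0) (m : ℕ) (hm : m ≠ 0)
    (hlt : padicValNat 2 (Fintype.card F - 1) < padicValNat 2 (2 * m)) :
    ∃ y : F, y ^ m = 1 ∧ y ^ (Fintype.card F / 2) = -1 := by
  classical
  have hodd := card_odd_of_two_ne h2
  obtain ⟨N, hN⟩ : ∃ N, N = Fintype.card F - 1 := ⟨_, rfl⟩
  obtain ⟨hq, hqdef⟩ : ∃ hq, hq = Fintype.card F / 2 := ⟨_, rfl⟩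
  rw [← hN] at hlt
  rw [← hqdef]
  have hc := Fintype.one_lt_card (α := F)
  have hN2 : N = 2 * hq := by omega
  have hq0 : 0 < hq := by omega
  have hN0 : N ≠ 0 := by omega
  obtain ⟨u, hu⟩ := pow_padicValNat_dvd (p := 2) (n := N)
  have hndN := pow_succ_padicValNat_not_dvd (p := 2) hN0
  obtain ⟨m', hm'⟩ := pow_padicValNat_dvd (p := 2) (n := 2 * m)
  obtain ⟨v, hv⟩ : ∃ v, v = padicValNat 2 N := ⟨_, rfl⟩
  obtain ⟨w, hw⟩ : ∃ w, w = padicValNat 2 (2 * m) := ⟨_, rfl⟩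
  rw [← hv] at hu hlt hndN
  rw [← hw] at hm' hlt
  have huodd : Odd u := by
    by_contra hne
    have hev : Even u := Nat.not_odd_iff_even.1 hne
    obtain ⟨r, hr⟩ := hev
    apply hndN
    refine ⟨r, ?_⟩
    rw [hu, hr]
    ring
  have hdvdm : 2 ^ v ∣ m := by
    obtain ⟨d, hd⟩ : ∃ d, w = v + 1 + d := ⟨w - v - 1, by omega⟩
    have h5 : 2 * m = 2 * (2 ^ v * (2 ^ d * m')) := by
      rw [hm', hd, pow_add, pow_add]
      ring
    have h6 := Nat.eq_of_mul_eq_mul_left (by norm_num : 0 < 2) h5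
    exact ⟨_, h6⟩
  obtain ⟨g, hg⟩ := IsCyclic.exists_generator (α := Fˣ)
  have hord : orderOf g = N := by
    rw [orderOf_eq_card_of_forall_mem_zpowers hg, Nat.card_eq_fintype_card, Fintype.card_units, hN]
  refine ⟨(g : F) ^ u, ?_, ?_⟩
  · obtain ⟨c, hc'⟩ := hdvdm
    rw [hc', ← pow_mul, ← mul_assoc, mul_comm u, ← hu, pow_mul, ← Units.val_pow_eq_pow_val, ← hord,
      pow_orderOf_eq_one, Units.val_one, one_pow]
  · have hh2 : ((g : F) ^ u) ^ hq * ((g : F) ^ u) ^ hq = 1 := by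
      rw [← pow_add, ← pow_mul, ← Units.val_pow_eq_pow_val]
      have : u * (hq + hq) = N * u := by rw [hN2]; ring
      rw [this, pow_mul, ← hord, pow_orderOf_eq_one, one_pow, Units.val_one]
    have hh1 : ((g : F) ^ u) ^ hq ≠ 1 := by
      intro h
      rw [← pow_mul, ← Units.val_pow_eq_pow_val, Units.val_eq_one] at h
      have h3 := orderOf_dvd_of_pow_eq_one h
      rw [hord, hN2] at h3
      obtain ⟨c, hc'⟩ := h3
      have h4 : u = 2 * c := by
        have : hq * u = hq * (2 * c) := by rw [mul_comm hq u, hc']; ring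
        exact Nat.eq_of_mul_eq_mul_left hq0 this
      rw [h4] at huodd
      exact (Nat.not_odd_iff_even.2 (even_two_mul c)) huodd
    have h3 : (((g : F) ^ u) ^ hq - 1) * (((g : F) ^ u) ^ hq + 1) = 0 := by
      linear_combination hh2
    rcases mul_eq_zero.1 h3 with h | h
    · exact absurd (sub_eq_zero.1 h) hh1
    · exact eq_neg_of_add_eq_zero_left h

theorem half_sq (r : ℕ) : (2 * r + 1) ^ 2 / 2 = 2 * r * (r + 1) := by
  have : (2 * r + 1) ^ 2 = 2 * (2 * r * (r + 1)) + 1 := by ring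
  omega

theorem sq_of_mem (h2 : (2 : F) ≠ 0) (F₀ : Subfield F) (q₀ : ℕ) (hF₀ : Nat.card ↥F₀ = q₀)
    (hq : Fintype.card F = q₀ ^ 2) (a : ↥F₀) : IsSquare (a : F) := by
  classical
  by_cases ha : a = 0
  · rw [ha]
    exact ⟨0, by simp⟩
  have hrc : ringChar F ≠ 2 := by
    intro h
    apply h2
    have := CharP.cast_eq_zero F (ringChar F)
    rw [h] at this
    exact_mod_cast this
  have ha' : (a : F) ≠ 0 := by
    intro h
    apply ha
    exact Subtype.ext h
  rw [FiniteField.isSquare_iff hrc ha']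
  let _ : Fintype ↥F₀ := Fintype.ofFinite _
  have hc0 : Fintype.card ↥F₀ = q₀ := by rw [← hF₀, Nat.card_eq_fintype_card]
  have h1 : a ^ (q₀ - 1) = 1 := by
    rw [← hc0]
    exact FiniteField.pow_card_sub_one_eq_one a ha
  have h1' : (a : F) ^ (q₀ - 1) = 1 := by
    have := congrArg (fun t : ↥F₀ => (t : F)) h1
    simpa using this
  have hodd := card_odd_of_two_ne h2
  have hq₀odd : Odd q₀ := by
    rw [hq] at hodd
    have : Odd (q₀ ^ 2) := Nat.odd_iff.2 hodd
    exact (Nat.odd_pow_iff (by norm_num)).1 this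
  obtain ⟨r, hr⟩ := hq₀odd
  rw [hq, hr, half_sq, pow_mul]
  have h3 : q₀ - 1 = 2 * r := by omega
  rw [← h3, h1', one_pow]

theorem even_half (q₀ : ℕ) (hq₀ : Odd q₀) : Even (q₀ ^ 2 / 2) := by
  obtain ⟨r, hr⟩ := hq₀
  rw [hr, half_sq, mul_assoc]
  exact even_two_mul _

theorem exists_bad (m : ℕ) (z : F) (hdet : (-z) ^ m = 1) :
    ∃ x : Matrix.SpecialLinearGroup (Fin (m + m)) F,
      (x : Matrix (Fin (m + m)) (Fin (m + m)) F) * (x : Matrix (Fin (m + m)) (Fin (m + m)) F) =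
        z • (1 : Matrix (Fin (m + m)) (Fin (m + m)) F) := by
  classical
  let e : Fin m ⊕ Fin m ≃ Fin (m + m) := finSumFinEquiv
  have hd : (Matrix.reindex e e (FB 0 (fun _ => z) 1 0)).det = 1 := by
    rw [Matrix.det_reindex_self, FB_det]
    simp only [Pi.zero_apply, Pi.one_apply, mul_zero, mul_one, zero_sub, Finset.prod_const,
      Finset.card_univ, Fintype.card_fin]
    exact hdet
  refine ⟨⟨_, hd⟩, ?_⟩
  show Matrix.reindex e e (FB 0 (fun _ => z) 1 0) * Matrix.reindex e e (FB 0 (fun _ => z) 1 0) = _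
  rw [Matrix.reindex_apply, Matrix.submatrix_mul_equiv, FB_mul]
  have h1 : FB (fun i => (0 : Fin m → F) i * (0 : Fin m → F) i + z * (1 : Fin m → F) i)
      (fun i => (0 : Fin m → F) i * z + z * (0 : Fin m → F) i)
      (fun i => (1 : Fin m → F) i * (0 : Fin m → F) i + (0 : Fin m → F) i * (1 : Fin m → F) i)
      (fun i => (1 : Fin m → F) i * z + (0 : Fin m → F) i * (0 : Fin m → F) i) =
      z • (1 : Matrix (Fin m ⊕ Fin m) (Fin m ⊕ Fin m) F) := by
    rw [← Cfsg.Agent.Lib.Helper10.Ext.FB_one m, Cfsg.Agent.Lib.Helper10.Ext.FB_smul]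
    congr 1
    · funext i; simp
    · funext i; simp
    · funext i; simp
    · funext i; simp
  rw [h1]
  ext i j
  rw [Matrix.submatrix_apply, Matrix.smul_apply, Matrix.smul_apply, Matrix.one_apply,
    Matrix.one_apply]
  simp only [EmbeddingLike.apply_eq_iff_eq]

end Cfsg.Agent.Lib.Helper10.Sf
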