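import Mathlib
import Cfsg.Prelude.Def_Local
import Cfsg.Prelude.Def_Balance
import Cfsg.Agent.S1280
import Cfsg.Agent.S1282
import Cfsg.Agent.Lib.Helper13.CoprimeSylow
import Cfsg.Agent.Lib.Helper13.CoprimeSylow2

/-!
# The transitivity theorem for solvable signalizer functors (helper10)

`θ(C_G(A)) = ⋂ θ(a)` permutes transitively the maximal `q`-subgroups in the family of a solvable
`A`-signalizer functor, `A` of rank at least `3`.
-/

set_option autoImplicit false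

namespace Cfsg.Agent.Lib.Helper10.Signalizer

open Cfsg
open scoped Pointwise

universe u

variable {G : Type u} [Group G]

/-- conjugate of a subgroup -/
abbrev cjs (c : G) (U : Subgroup G) : Subgroup G := U.map (MulAut.conj c).toMonoidHom

theorem mem_cjs {c x : G} {U : Subgroup G} : x ∈ cjs c U ↔ c⁻¹ * x * c ∈ U :=
  Cfsg.Agent.Lib.Helper13.mem_cj

theorem cjs_cjs (c d : G) (U : Subgroup G) : cjs d (cjs c U) = cjs (d * c) U := by
  ext x
  rw [mem_cjs, mem_cjs, mem_cjs]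
  have : c⁻¹ * (d⁻¹ * x * d) * c = (d * c)⁻¹ * x * (d * c) := by group
  rw [this]

theorem cjs_one (U : Subgroup G) : cjs 1 U = U := by
  ext x
  rw [mem_cjs]
  simp

theorem cjs_mono (c : G) {U V : Subgroup G} (h : U ≤ V) : cjs c U ≤ cjs c V :=
  Subgroup.map_mono h

theorem cjs_inv_cjs (c : G) (U : Subgroup G) : cjs c⁻¹ (cjs c U) = U := by
  rw [cjs_cjs, inv_mul_cancel, cjs_one]

theorem cjs_cjs_inv (c : G) (U : Subgroup G) : cjs c (cjs c⁻¹ U) = U := by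
  rw [cjs_cjs, mul_inv_cancel, cjs_one]

theorem isPGroup_cjs {q : ℕ} (c : G) {U : Subgroup G} (h : IsPGroup q U) : IsPGroup q (cjs c U) :=
  h.map _

theorem le_normalizer_of_conj_mem (A U : Subgroup G)
    (h : ∀ b ∈ A, ∀ u ∈ U, b * u * b⁻¹ ∈ U) : A ≤ Subgroup.normalizer (U : Set G) := by
  intro b hb
  rw [Subgroup.mem_normalizer_iff]
  intro u
  refine ⟨h b hb u, fun hu => ?_⟩
  have := h b⁻¹ (A.inv_mem hb) _ hu
  have e : b⁻¹ * (b * u * b⁻¹) * b⁻¹⁻¹ = u := by group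
  rwa [e] at this

theorem conj_mem_of_le_normalizer {A U : Subgroup G} (h : A ≤ Subgroup.normalizer (U : Set G)) :
    ∀ b ∈ A, ∀ u ∈ U, b * u * b⁻¹ ∈ U :=
  fun _ hb u hu => (Subgroup.mem_normalizer_iff.mp (h hb) u).mp hu

section

variable {p : ℕ} {A : Subgroup G} {θ : G → Subgroup G}

theorem family_of_le {U V : Subgroup G} (hU : U ∈ signalizerFamily p A θ) (hVU : V ≤ U)
    (hV : ∀ b ∈ A, ∀ v ∈ V, b * v * b⁻¹ ∈ V) : V ∈ signalizerFamily p A θ := by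
  obtain ⟨hs, hp, _, hc⟩ := hU
  refine ⟨?_, ?_, hV, ?_⟩
  · haveI := hs
    exact solvable_of_solvable_injective (Subgroup.inclusion_injective hVU)
  · exact fun h => hp (h.trans (Subgroup.card_dvd_of_le hVU))
  · intro a ha ha1
    exact (inf_le_inf_right _ hVU).trans (hc a ha ha1)

theorem theta_mem_family (hθ : IsSolvableSignalizerFunctor p A θ) {a : G} (ha : a ∈ A)
    (ha1 : a ≠ 1) : θ a ∈ signalizerFamily p A θ := by
  obtain ⟨⟨_, h2, h3, h4⟩, hs⟩ := hθ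
  exact ⟨hs a ha ha1, h2 a ha ha1, h3 a ha ha1, fun b hb hb1 => h4 a ha ha1 b hb hb1⟩

theorem mem_theta_of_mem_inf {c : G} (hc : c ∈ signalizerInf A θ) {a : G} (ha : a ∈ A)
    (ha1 : a ≠ 1) : c ∈ θ a := by
  unfold signalizerInf at hc
  exact (Subgroup.mem_iInf.mp hc) ⟨a, ha, ha1⟩

theorem commute_of_mem_inf (hθ : IsSignalizerFunctor p A θ) {c : G}
    (hc : c ∈ signalizerInf A θ) {a : G} (ha : a ∈ A) : a * c = c * a := by
  by_cases ha1 : a = 1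
  · rw [ha1, one_mul, mul_one]
  · have h1 := hθ.1 a ha ha1 (mem_theta_of_mem_inf hc ha ha1)
    rw [Subgroup.mem_centralizer_iff] at h1
    exact h1 a rfl

theorem inf_centralizer_le_signalizerInf {H : Subgroup G} (hH : H ∈ signalizerFamily p A θ) :
    H ⊓ Subgroup.centralizer (A : Set G) ≤ signalizerInf A θ := by
  rintro x ⟨hxH, hxC⟩
  unfold signalizerInf
  rw [Subgroup.mem_iInf]
  rintro ⟨a, ha, ha1⟩
  apply hH.2.2.2 a ha ha1
  refine ⟨hxH, ?_⟩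
  show x ∈ Subgroup.centralizer ({a} : Set G)
  rw [Subgroup.mem_centralizer_iff]
  intro y hy
  rw [Set.mem_singleton_iff] at hy
  rw [hy]
  have hxC' : x ∈ Subgroup.centralizer (A : Set G) := hxC
  rw [Subgroup.mem_centralizer_iff] at hxC'
  exact hxC' a ha

theorem cjs_mem_family (hθ : IsSignalizerFunctor p A θ) {c : G} (hc : c ∈ signalizerInf A θ)
    {U : Subgroup G} (hU : U ∈ signalizerFamily p A θ) : cjs c U ∈ signalizerFamily p A θ := by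
  obtain ⟨hs, hp, hinv, hcen⟩ := hU
  refine ⟨?_, ?_, ?_, ?_⟩
  · haveI := hs
    exact solvable_of_surjective ((MulAut.conj c).toMonoidHom.subgroupMap_surjective U)
  · rw [show Nat.card ↥(cjs c U) = Nat.card U from
      Subgroup.card_map_of_injective (MulAut.conj c).injective]
    exact hp
  · intro b hb x hx
    rw [mem_cjs] at hx ⊢
    have hbc := commute_of_mem_inf hθ hc hb
    have := hinv b hb _ hx
    have e : c⁻¹ * (b * x * b⁻¹) * c = b * (c⁻¹ * x * c) * b⁻¹ := by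
      have h1 : c⁻¹ * b = b * c⁻¹ := by
        rw [inv_mul_eq_iff_eq_mul, ← mul_assoc, hbc.symm, mul_assoc, mul_inv_cancel, mul_one]
      have h2 : b⁻¹ * c = c * b⁻¹ := by
        rw [inv_mul_eq_iff_eq_mul, ← mul_assoc, hbc, mul_assoc, mul_inv_cancel, mul_one]
      calc c⁻¹ * (b * x * b⁻¹) * c = (c⁻¹ * b) * x * (b⁻¹ * c) := by group
        _ = (b * c⁻¹) * x * (c * b⁻¹) := by rw [h1, h2]
        _ = b * (c⁻¹ * x * c) * b⁻¹ := by group
    rw [e]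
    exact this
  · intro a ha ha1
    rintro x ⟨hx, hxa⟩
    have hx' : c⁻¹ * x * c ∈ U := mem_cjs.mp hx
    have hca : c ∈ θ a := mem_theta_of_mem_inf hc ha ha1
    have hac := commute_of_mem_inf hθ hc ha
    have hxa' : x ∈ Subgroup.centralizer ({a} : Set G) := hxa
    rw [Subgroup.mem_centralizer_iff] at hxa'
    have hxa'' : a * x = x * a := hxa' a rfl
    have hmem : c⁻¹ * x * c ∈ U ⊓ Subgroup.centralizer ({a} : Set G) := by
      refine ⟨hx', ?_⟩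
      show c⁻¹ * x * c ∈ Subgroup.centralizer ({a} : Set G)
      rw [Subgroup.mem_centralizer_iff]
      intro y hy
      rw [Set.mem_singleton_iff] at hy
      rw [hy]
      have h1 : a * c⁻¹ = c⁻¹ * a := by
        rw [eq_inv_mul_iff_mul_eq, ← mul_assoc, ← hac, mul_assoc, mul_inv_cancel, mul_one]
      calc a * (c⁻¹ * x * c) = (a * c⁻¹) * x * c := by group
        _ = c⁻¹ * (a * x) * c := by rw [h1]; group
        _ = c⁻¹ * (x * a) * c := by rw [hxa'']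
        _ = c⁻¹ * x * (a * c) := by group
        _ = c⁻¹ * x * (c * a) := by rw [hac]
        _ = c⁻¹ * x * c * a := by group
    have h2 := hcen a ha ha1 hmem
    have : x = c * (c⁻¹ * x * c) * c⁻¹ := by group
    rw [this]
    exact (θ a).mul_mem ((θ a).mul_mem hca h2) ((θ a).inv_mem hca)

/-- maximal `q`-subgroups in the family -/
def IsMaxQ (p : ℕ) (A : Subgroup G) (θ : G → Subgroup G) (q : ℕ) (Q : Subgroup G) : Prop :=
  Q ∈ signalizerFamily p A θ ∧ IsPGroup q Q ∧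
    ∀ R ∈ signalizerFamily p A θ, IsPGroup q R → Q ≤ R → R = Q

theorem IsMaxQ.cjs [Finite G] (hθ : IsSignalizerFunctor p A θ) {q : ℕ} {Q : Subgroup G}
    (hQ : IsMaxQ p A θ q Q) {c : G} (hc : c ∈ signalizerInf A θ) :
    IsMaxQ p A θ q (cjs c Q) := by
  refine ⟨cjs_mem_family hθ hc hQ.1, isPGroup_cjs c hQ.2.1, ?_⟩
  intro R hR hRq hle
  have hc' : c⁻¹ ∈ signalizerInf A θ := (signalizerInf A θ).inv_mem hc
  have h1 : Q ≤ Signalizer.cjs c⁻¹ R := by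
    have := cjs_mono c⁻¹ hle
    rwa [cjs_inv_cjs] at this
  have h2 := hQ.2.2 _ (cjs_mem_family hθ hc' hR) (isPGroup_cjs c⁻¹ hRq) h1
  rw [← h2, cjs_cjs_inv]

theorem exists_isMaxQ [Finite G] {q : ℕ} {U : Subgroup G} (hU : U ∈ signalizerFamily p A θ)
    (hUq : IsPGroup q U) : ∃ Q, IsMaxQ p A θ q Q ∧ U ≤ Q := by
  obtain ⟨Q, hUQ, hQmax⟩ := (Set.toFinite {V : Subgroup G | V ∈ signalizerFamily p A θ ∧
      IsPGroup q V}).exists_le_maximal (a := U) ⟨hU, hUq⟩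
  refine ⟨Q, ⟨hQmax.prop.1, hQmax.prop.2, ?_⟩, hUQ⟩
  intro R hR hRq hle
  exact le_antisymm (hQmax.le_of_ge ⟨hR, hRq⟩ hle) hle


theorem card_lt_of_lt [Finite G] {D X : Subgroup G} (h : D < X) : Nat.card D < Nat.card X := by
  rcases (Subgroup.card_le_of_le h.le).lt_or_eq with h2 | h2
  · exact h2
  · exact absurd (Subgroup.eq_of_le_of_card_ge h.le h2.ge) h.ne

theorem isPGroup_of_isElementaryAbelian (hA : IsElementaryAbelian p A) : IsPGroup p A := by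
  rintro ⟨a, ha⟩
  refine ⟨1, Subtype.ext ?_⟩
  rw [pow_one]
  exact hA.2 a ha

theorem coprime_card_family [Finite G] [hp : Fact p.Prime] (hA : IsElementaryAbelian p A)
    {H : Subgroup G} (hH : H ∈ signalizerFamily p A θ) :
    (Nat.card A).Coprime (Nat.card H) := by
  obtain ⟨k, hk⟩ := (isPGroup_of_isElementaryAbelian hA).exists_card_eq
  rw [hk]
  exact Nat.Coprime.pow_left k ((Nat.Prime.coprime_iff_not_dvd hp.out).mpr hH.2.1)

theorem conj_mem_sup {A D E : Subgroup G} (hD : ∀ b ∈ A, ∀ u ∈ D, b * u * b⁻¹ ∈ D)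
    (hE : ∀ b ∈ A, ∀ u ∈ E, b * u * b⁻¹ ∈ E) : ∀ b ∈ A, ∀ u ∈ D ⊔ E, b * u * b⁻¹ ∈ D ⊔ E := by
  intro b hb u hu
  have h1 : (D ⊔ E).map (MulAut.conj b).toMonoidHom ≤ D ⊔ E := by
    rw [Subgroup.map_sup]
    apply sup_le_sup
    · rintro _ ⟨x, hx, rfl⟩
      exact hD b hb x hx
    · rintro _ ⟨x, hx, rfl⟩
      exact hE b hb x hx
  exact h1 ⟨u, hu, rfl⟩

/-- **Transitivity theorem** (inductive form). -/
theorem transitivity_aux [Finite G] [hp : Fact p.Prime] (hA : IsElementaryAbelian p A)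
    (hA3 : p ^ 3 ≤ Nat.card A) (hθ : IsSolvableSignalizerFunctor p A θ) (q : ℕ) [Fact q.Prime] :
    ∀ n : ℕ, ∀ Q₁ Q₂ : Subgroup G, IsMaxQ p A θ q Q₁ → IsMaxQ p A θ q Q₂ →
      Nat.card G - Nat.card ↥(Q₁ ⊓ Q₂) = n → ∃ c ∈ signalizerInf A θ, cjs c Q₁ = Q₂ := by
  intro n
  induction n using Nat.strong_induction_on with
  | _ n ih =>
  intro Q₁ Q₂ h₁ h₂ hn
  by_cases heq : Q₁ = Q₂
  · exact ⟨1, Subgroup.one_mem _, by rw [cjs_one, heq]⟩
  have hθ' := hθ.1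
  have hqp : q ≠ p := by
    intro h
    apply heq
    have triv : ∀ Q, IsMaxQ p A θ q Q → Q = ⊥ := by
      intro Q hQ
      have h1 := hQ.2.1
      rw [h] at h1
      obtain ⟨k, hk⟩ := h1.exists_card_eq
      have h2 := hQ.1.2.1
      rw [hk] at h2
      have hk0 : k = 0 := by
        by_contra hk0
        exact h2 (dvd_pow_self p hk0)
      rw [hk0, pow_zero] at hk
      exact Subgroup.card_eq_one.mp hk
    rw [triv Q₁ h₁, triv Q₂ h₂]
  have hD₁ : Q₁ ⊓ Q₂ ≠ Q₁ := by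
    intro h
    apply heq
    have hle : Q₁ ≤ Q₂ := by rw [← h]; exact inf_le_right
    exact (h₁.2.2 Q₂ h₂.1 h₂.2.1 hle).symm
  have hD₂ : Q₁ ⊓ Q₂ ≠ Q₂ := by
    intro h
    apply heq
    have hle : Q₂ ≤ Q₁ := by rw [← h]; exact inf_le_left
    exact h₂.2.2 Q₁ h₁.1 h₁.2.1 hle
  have hAQ₁ : A ≤ Subgroup.normalizer (Q₁ : Set G) := le_normalizer_of_conj_mem A Q₁ h₁.1.2.2.1
  have hAQ₂ : A ≤ Subgroup.normalizer (Q₂ : Set G) := le_normalizer_of_conj_mem A Q₂ h₂.1.2.2.1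
  obtain ⟨a, ha, ha1, hE₁, hE₂⟩ := Cfsg.Agent.S1282.result p A hA hA3 q hqp Q₁ Q₂ h₁.2.1 h₂.2.1
    hAQ₁ hAQ₂ hD₁ hD₂
  set D : Subgroup G := Q₁ ⊓ Q₂ with hD
  have hDinv : ∀ b ∈ A, ∀ u ∈ D, b * u * b⁻¹ ∈ D := fun b hb u hu =>
    ⟨h₁.1.2.2.1 b hb u hu.1, h₂.1.2.2.1 b hb u hu.2⟩
  have hDfam : D ∈ signalizerFamily p A θ := family_of_le h₁.1 inf_le_left hDinv
  have hAD : A ≤ Subgroup.normalizer (D : Set G) := le_normalizer_of_conj_mem A D hDinv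
  have hNinv : ∀ b ∈ A, ∀ u ∈ Subgroup.normalizer (D : Set G),
      b * u * b⁻¹ ∈ Subgroup.normalizer (D : Set G) := fun b hb u hu =>
    Subgroup.mul_mem _ (Subgroup.mul_mem _ (hAD hb) hu) (Subgroup.inv_mem _ (hAD hb))
  set M : Subgroup G := θ a ⊓ Subgroup.normalizer (D : Set G) with hM
  have hMinv : ∀ b ∈ A, ∀ u ∈ M, b * u * b⁻¹ ∈ M := fun b hb u hu =>
    ⟨hθ'.2.2.1 a ha ha1 b hb u hu.1, hNinv b hb u hu.2⟩
  have hMfam : M ∈ signalizerFamily p A θ :=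
    family_of_le (theta_mem_family hθ ha ha1) inf_le_left hMinv
  have hA2 : p ^ 2 ≤ Nat.card A :=
    le_trans (Nat.pow_le_pow_right hp.out.pos (by norm_num)) hA3
  have hHfam : D ⊔ M ∈ signalizerFamily p A θ :=
    Cfsg.Agent.S1280.result p A hA hA2 θ hθ D M hDfam hMfam inf_le_right
  set H : Subgroup G := D ⊔ M with hH
  have hcomm : ∀ x ∈ A, ∀ y ∈ A, x * y = y * x := by
    intro x hx y hy
    have := hA.1.is_comm.comm ⟨x, hx⟩ ⟨y, hy⟩
    exact congrArg Subtype.val this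
  have hCinv : ∀ b ∈ A, ∀ u ∈ Subgroup.centralizer ({a} : Set G),
      b * u * b⁻¹ ∈ Subgroup.centralizer ({a} : Set G) := by
    intro b hb u hu
    rw [Subgroup.mem_centralizer_iff] at hu ⊢
    intro y hy
    rw [Set.mem_singleton_iff] at hy
    rw [hy]
    have h1 : a * u = u * a := hu a rfl
    have h2 : a * b = b * a := hcomm a ha b hb
    have h3 : a * b⁻¹ = b⁻¹ * a := by
      rw [eq_inv_mul_iff_mul_eq, ← mul_assoc, ← h2, mul_assoc, mul_inv_cancel, mul_one]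
    calc a * (b * u * b⁻¹) = (a * b) * u * b⁻¹ := by group
      _ = b * (a * u) * b⁻¹ := by rw [h2]; group
      _ = b * u * (a * b⁻¹) := by rw [h1]; group
      _ = b * u * b⁻¹ * a := by rw [h3]; group
  -- the key step for each `Q_i`
  have step : ∀ Q : Subgroup G, IsMaxQ p A θ q Q → D ≤ Q →
      ¬ (Subgroup.normalizer (D : Set G) ⊓ Q ⊓ Subgroup.centralizer {a} ≤ D) →
      ∃ R : Subgroup G, R ≤ H ∧ R ≤ Q ∧ IsPGroup q R ∧ (∀ b ∈ A, ∀ u ∈ R, b * u * b⁻¹ ∈ R) ∧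
        D < R := by
    intro Q hQ hDQ hnot
    set E : Subgroup G := Subgroup.normalizer (D : Set G) ⊓ Q ⊓ Subgroup.centralizer {a} with hE
    have hEQ : E ≤ Q := inf_le_left.trans inf_le_right
    have hEM : E ≤ M := by
      refine le_inf ?_ (inf_le_left.trans inf_le_left)
      exact (le_inf hEQ inf_le_right).trans (hQ.1.2.2.2 a ha ha1)
    have hEinv : ∀ b ∈ A, ∀ u ∈ E, b * u * b⁻¹ ∈ E := fun b hb u hu =>
      ⟨⟨hNinv b hb u hu.1.1, hQ.1.2.2.1 b hb u hu.1.2⟩, hCinv b hb u hu.2⟩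
    refine ⟨D ⊔ E, sup_le le_sup_left (hEM.trans le_sup_right), sup_le hDQ hEQ,
      hQ.2.1.to_le (sup_le hDQ hEQ), conj_mem_sup hDinv hEinv, ?_⟩
    refine lt_of_le_of_ne le_sup_left ?_
    intro h
    apply hnot
    rw [h]
    exact le_sup_right
  obtain ⟨R₁, hR₁H, hR₁Q, hR₁q, hR₁inv, hDR₁⟩ := step Q₁ h₁ inf_le_left hE₁
  obtain ⟨R₂, hR₂H, hR₂Q, hR₂q, hR₂inv, hDR₂⟩ := step Q₂ h₂ inf_le_right hE₂
  have hAH : A ≤ Subgroup.normalizer (H : Set G) := le_normalizer_of_conj_mem A H hHfam.2.2.1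
  have hcop : (Nat.card A).Coprime (Nat.card H) := coprime_card_family hA hHfam
  have hsolv : Group.IsSolvable A ∨ Group.IsSolvable H := Or.inr hHfam.1
  obtain ⟨P₁, hRP₁, hAP₁⟩ := Cfsg.Agent.Lib.Helper13.invariant_psubgroup_le_invariant_sylow A H hAH
    hcop hsolv q R₁ hR₁H hR₁q (le_normalizer_of_conj_mem A R₁ hR₁inv)
  obtain ⟨P₂, hRP₂, hAP₂⟩ := Cfsg.Agent.Lib.Helper13.invariant_psubgroup_le_invariant_sylow A H hAH
    hcop hsolv q R₂ hR₂H hR₂q (le_normalizer_of_conj_mem A R₂ hR₂inv)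
  obtain ⟨c, hcA, hc⟩ := Cfsg.Agent.Lib.Helper13.invariant_sylow_conj A H hAH hcop hsolv q P₁ P₂
    hAP₁ hAP₂
  set S₁ : Subgroup G := (P₁ : Subgroup H).map H.subtype with hS₁
  set S₂ : Subgroup G := (P₂ : Subgroup H).map H.subtype with hS₂
  have hS₁fam : S₁ ∈ signalizerFamily p A θ :=
    family_of_le hHfam (Subgroup.map_subtype_le _) (conj_mem_of_le_normalizer hAP₁)
  have hS₂fam : S₂ ∈ signalizerFamily p A θ :=
    family_of_le hHfam (Subgroup.map_subtype_le _) (conj_mem_of_le_normalizer hAP₂)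
  have hS₁q : IsPGroup q S₁ := P₁.isPGroup'.map H.subtype
  have hS₂q : IsPGroup q S₂ := P₂.isPGroup'.map H.subtype
  have hcInf : (c : G) ∈ signalizerInf A θ :=
    inf_centralizer_le_signalizerInf hHfam ⟨c.2, hcA⟩
  have hS₁₂ : cjs (c : G) S₁ = S₂ := by
    have h1 : (P₂ : Subgroup H) = MulAut.conj c • (P₁ : Subgroup H) := by rw [← hc]; rfl
    rw [hS₂, h1, Cfsg.Agent.Lib.Helper13.map_cj]
    rfl
  obtain ⟨Q₁', hQ₁'max, hS₁Q₁'⟩ := exists_isMaxQ hS₁fam hS₁q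
  obtain ⟨Q₂', hQ₂'max, hS₂Q₂'⟩ := exists_isMaxQ hS₂fam hS₂q
  have hmeasure : ∀ X Y : Subgroup G, D < X ⊓ Y → Nat.card G - Nat.card ↥(X ⊓ Y) < n := by
    intro X Y hlt
    have h1 := card_lt_of_lt hlt
    have h2 : Nat.card ↥(X ⊓ Y) ≤ Nat.card G := Subgroup.card_le_card_group _
    omega
  -- first conjugation
  obtain ⟨c₁, hc₁, hc₁Q⟩ := ih _ (hmeasure Q₁ Q₁' (lt_of_lt_of_le hDR₁
    (le_inf hR₁Q (hRP₁.trans hS₁Q₁')))) Q₁ Q₁' h₁ hQ₁'max rfl
  obtain ⟨c₂, hc₂, hc₂Q⟩ := ih _ (hmeasure Q₂' Q₂ (lt_of_lt_of_le hDR₂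
    (le_inf (hRP₂.trans hS₂Q₂') hR₂Q))) Q₂' Q₂ hQ₂'max h₂ rfl
  have hS₂le : S₂ ≤ cjs (c : G) Q₁' := by
    rw [← hS₁₂]
    exact cjs_mono _ hS₁Q₁'
  obtain ⟨c₃, hc₃, hc₃Q⟩ := ih _ (hmeasure (cjs (c : G) Q₁') Q₂' (lt_of_lt_of_le hDR₂
    (le_inf (hRP₂.trans hS₂le) (hRP₂.trans hS₂Q₂')))) (cjs (c : G) Q₁') Q₂'
    (hQ₁'max.cjs hθ' hcInf) hQ₂'max rfl
  refine ⟨c₂ * (c₃ * ((c : G) * c₁)), ?_, ?_⟩
  · exact Subgroup.mul_mem _ hc₂ (Subgroup.mul_mem _ hc₃ (Subgroup.mul_mem _ hcInf hc₁))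
  · rw [← cjs_cjs, ← cjs_cjs, ← cjs_cjs, hc₁Q, hc₃Q, hc₂Q]

/-- **Transitivity theorem** for solvable signalizer functors. -/
theorem transitivity [Finite G] [Fact p.Prime] (hA : IsElementaryAbelian p A)
    (hA3 : p ^ 3 ≤ Nat.card A) (hθ : IsSolvableSignalizerFunctor p A θ) (q : ℕ) [Fact q.Prime]
    {Q₁ Q₂ : Subgroup G} (h₁ : IsMaxQ p A θ q Q₁) (h₂ : IsMaxQ p A θ q Q₂) :
    ∃ c ∈ signalizerInf A θ, cjs c Q₁ = Q₂ :=
  transitivity_aux hA hA3 hθ q _ Q₁ Q₂ h₁ h₂ rfl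

end

end Cfsg.Agent.Lib.Helper10.Signalizer
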