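import Mathlib

set_option autoImplicit false
set_option linter.unusedSectionVars false

namespace Cfsg.Agent.Lib.Helper10

open Equiv MulAction SubMulAction

variable {α : Type*} [Fintype α] [DecidableEq α]

/-- In a `k`-transitive group one can fix fewer than `k` points pointwise and move a further point anywhere
outside them. -/
theorem exists_fixing_map (G : Subgroup (Perm α)) {k : ℕ} (hG : IsMultiplyPretransitive G α k)
    (hkn : k ≤ Fintype.card α) (B : Finset α) (hB : B.card + 1 ≤ k) {s s' : α} (hs : s ∉ B) (hs' : s' ∉ B) :
    ∃ y ∈ G, (∀ b ∈ B, y b = b) ∧ y s = s' := by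
  have hn : (k : ENat) ≤ ENat.card α := by
    rw [ENat.card_eq_coe_fintype_card]
    exact_mod_cast hkn
  have h1 : IsMultiplyPretransitive (fixingSubgroup G (B : Set α)) (ofFixingSubgroup G (B : Set α)) 1 :=
    ofFixingSubgroup.isMultiplyPretransitive' (G := G) (n := k) (B : Set α)
      (by rw [Set.ncard_coe_finset]; exact hB) hn
  rw [is_one_pretransitive_iff] at h1
  have hsm : s ∈ ofFixingSubgroup G (B : Set α) := by
    rw [mem_ofFixingSubgroup_iff]; exact_mod_cast hs
  have hsm' : s' ∈ ofFixingSubgroup G (B : Set α) := by
    rw [mem_ofFixingSubgroup_iff]; exact_mod_cast hs'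
  obtain ⟨y, hy⟩ := h1.exists_smul_eq ⟨s, hsm⟩ ⟨s', hsm'⟩
  refine ⟨((y : G) : Perm α), (y : G).2, ?_, ?_⟩
  · intro b hb
    have := (mem_fixingSubgroup_iff G).1 y.2 b (by exact_mod_cast hb)
    exact this
  · have := congrArg Subtype.val hy
    exact this
/-- Support of the commutator-like element `g⁻¹ * y * g * y⁻¹` when `y` fixes `supp g \ R` pointwise. -/
theorem support_comm_subset (g y : Perm α) (R : Finset α) (u : α)
    (h1 : ∀ x ∈ g.support, x ∉ R → y x = x)
    (h2 : ∀ x ∈ g.support, x ∉ R → x ≠ u → g x ∉ R) :
    (g⁻¹ * y * g * y⁻¹).support ⊆ R ∪ {u} ∪ R.image y := by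
  intro x hx
  by_contra hcon
  simp only [Finset.mem_union, Finset.mem_singleton, Finset.mem_image, not_or, not_exists, not_and] at hcon
  obtain ⟨⟨hxR, hxu⟩, hxy⟩ := hcon
  rw [Perm.mem_support] at hx
  apply hx
  simp only [Perm.mul_apply]
  by_cases hxS : x ∈ g.support
  · have e1 : y x = x := h1 x hxS hxR
    have e2 : y⁻¹ x = x := by rw [Perm.inv_eq_iff_eq, e1]
    have e3 : g x ∈ g.support := Perm.apply_mem_support.2 hxS
    have e4 : g x ∉ R := h2 x hxS hxR hxu
    have e5 : y (g x) = g x := h1 _ e3 e4
    rw [e2, e5]
    simp
  · have e1 : g x = x := Perm.notMem_support.1 hxS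
    have e2 : y⁻¹ x ∉ g.support := by
      intro hz
      by_cases hzR : y⁻¹ x ∈ R
      · exact hxy _ hzR (by simp)
      · have := h1 _ hz hzR
        have e : y (y⁻¹ x) = x := by simp
        rw [e] at this
        rw [← this] at hz
        exact hxS hz
    have e3 : g (y⁻¹ x) = y⁻¹ x := Perm.notMem_support.1 e2
    rw [e3]
    have e : y (y⁻¹ x) = x := by simp
    rw [e, Perm.inv_eq_iff_eq, e1]

/-- Nontriviality, target outside the support. -/
theorem comm_ne_one_of_target_out (g y : Perm α) {s t : α} (hs : s ∈ g.support) (ht : t ∉ g.support)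
    (hy : y s = t) : g⁻¹ * y * g * y⁻¹ ≠ 1 := by
  intro h
  have h1 := congrArg (fun f : Perm α => f t) h
  simp only [Perm.mul_apply, Perm.one_apply] at h1
  have e1 : y⁻¹ t = s := by rw [Perm.inv_eq_iff_eq, hy]
  rw [e1, Perm.inv_eq_iff_eq, Perm.notMem_support.1 ht, ← hy] at h1
  have := y.injective h1
  exact (Perm.mem_support.1 hs) this

/-- Nontriviality, target inside. -/
theorem comm_ne_one_of_target_in (g y : Perm α) {b : α} (hb : y b = b) (hgb : y (g b) ≠ g b) :
    g⁻¹ * y * g * y⁻¹ ≠ 1 := by
  intro h
  have h1 := congrArg (fun f : Perm α => f b) h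
  simp only [Perm.mul_apply, Perm.one_apply] at h1
  have e1 : y⁻¹ b = b := by rw [Perm.inv_eq_iff_eq, hb]
  rw [e1, Perm.inv_eq_iff_eq] at h1
  exact hgb h1

/-- Existence of almost invariant subsets of the support of every size. -/
theorem exists_almost_invariant [Nonempty α] (g : Perm α) (j : ℕ) (hj : j ≤ g.support.card) :
    ∃ R : Finset α, R ⊆ g.support ∧ R.card = j ∧ ∃ s₀, ∀ x ∈ R, x ≠ s₀ → g⁻¹ x ∈ R := by
  induction j with
  | zero => exact ⟨∅, Finset.empty_subset _, rfl, ⟨Classical.arbitrary α, by simp⟩⟩
  | succ j ih =>
    obtain ⟨R, hRS, hRc, s₀, hs₀⟩ := ih (by omega)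
    by_cases hinv : ∀ x ∈ R, g⁻¹ x ∈ R
    · -- invariant: add any new point
      obtain ⟨v, hvS, hvR⟩ : ∃ v ∈ g.support, v ∉ R := by
        by_contra hcon
        push_neg at hcon
        have : g.support ⊆ R := hcon
        have := Finset.card_le_card this
        omega
      refine ⟨insert v R, ?_, ?_, v, ?_⟩
      · exact Finset.insert_subset hvS hRS
      · rw [Finset.card_insert_of_notMem hvR, hRc]
      · intro x hx hxv
        rcases Finset.mem_insert.1 hx with h | h
        · exact absurd h hxv
        · exact Finset.mem_insert_of_mem (hinv x h)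
    · push_neg at hinv
      obtain ⟨x₀, hx₀R, hx₀⟩ := hinv
      have hx₀s : x₀ = s₀ := by
        by_contra hne
        exact hx₀ (hs₀ x₀ hx₀R hne)
      subst hx₀s
      -- there is u ∈ R with g u ∉ R
      obtain ⟨u, huR, hgu⟩ : ∃ u ∈ R, g u ∉ R := by
        by_contra hcon
        push_neg at hcon
        have himg : R.image g ⊆ R := by
          intro z hz
          obtain ⟨w, hw, rfl⟩ := Finset.mem_image.1 hz
          exact hcon w hw
        have hcard : (R.image g).card = R.card := Finset.card_image_of_injective R g.injective
        have heq : R.image g = R := Finset.eq_of_subset_of_card_le himg (by rw [hcard])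
        have : x₀ ∈ R.image g := by rw [heq]; exact hx₀R
        obtain ⟨w, hw, hwx⟩ := Finset.mem_image.1 this
        apply hx₀
        rw [← hwx]
        simpa using hw
      refine ⟨insert (g u) R, ?_, ?_, x₀, ?_⟩
      · exact Finset.insert_subset (Perm.apply_mem_support.2 (hRS huR)) hRS
      · rw [Finset.card_insert_of_notMem hgu, hRc]
      · intro x hx hxs
        rcases Finset.mem_insert.1 hx with h | h
        · rw [h]
          apply Finset.mem_insert_of_mem
          simpa using huR
        · exact Finset.mem_insert_of_mem (hs₀ x h hxs)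

/-- A nonidentity element of support `m` with `4 ≤ m < 2k - 2` in a `k`-transitive group can be replaced by a
nonidentity element of smaller support. -/
theorem reduce_support (G : Subgroup (Perm α)) {k : ℕ} (hkn : k ≤ Fintype.card α)
    (hG : IsMultiplyPretransitive G α k) {g : Perm α} (hg : g ∈ G) (h4 : 4 ≤ g.support.card)
    (hm : g.support.card < 2 * k - 2) :
    ∃ c ∈ G, c ≠ 1 ∧ c.support.card < g.support.card := by
  have hk4 : 4 ≤ k := by omega
  have hne : g.support.Nonempty := Finset.card_pos.1 (by omega)
  have hα : Nonempty α := ⟨hne.choose⟩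
  by_cases huniv : g.support = Finset.univ
  · -- full support: take a nonidentity element with a fixed point
    have h3 : 2 < (Finset.univ : Finset α).card := by rw [← huniv]; omega
    obtain ⟨a, b, b', -, -, -, hab, hab', hbb'⟩ := Finset.two_lt_card_iff.1 h3
    obtain ⟨y, hyG, hyB, hyb⟩ := exists_fixing_map G hG hkn {a} (by simp; omega)
      (s := b) (s' := b') (by simpa using hab.symm) (by simpa using hab'.symm)
    refine ⟨y, hyG, ?_, ?_⟩
    · intro h1
      rw [h1] at hyb
      exact hbb' hyb
    · have hsub : y.support ⊆ Finset.univ.erase a := by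
        intro x hx
        rw [Finset.mem_erase]
        refine ⟨?_, Finset.mem_univ _⟩
        rintro rfl
        exact (Perm.mem_support.1 hx) (hyB x (by simp))
      have := Finset.card_le_card hsub
      rw [Finset.card_erase_of_mem (Finset.mem_univ _), ← huniv] at this
      omega
  · obtain ⟨t, ht⟩ : ∃ t, t ∉ g.support := by
      by_contra hcon
      push_neg at hcon
      exact huniv (Finset.eq_univ_iff_forall.2 hcon)
    by_cases hmk : g.support.card ≤ k
    · -- small support: fix all but one point of the support
      obtain ⟨s', hs'⟩ := hne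
      obtain ⟨y, hyG, hyB, hys⟩ := exists_fixing_map G hG hkn (g.support.erase s')
        (by rw [Finset.card_erase_of_mem hs']; omega) (s := s') (s' := t) (by simp)
        (fun h => ht (Finset.mem_of_mem_erase h))
      refine ⟨g⁻¹ * y * g * y⁻¹, ?_, comm_ne_one_of_target_out g y hs' ht hys, ?_⟩
      · exact G.mul_mem (G.mul_mem (G.mul_mem (G.inv_mem hg) hyG) hg) (G.inv_mem hyG)
      · have hsub := support_comm_subset g y {s'} (g⁻¹ s')
          (fun x hx hxR => hyB x (Finset.mem_erase.2 ⟨by simpa using hxR, hx⟩))
          (fun x _ _ hxu hgx => hxu (by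
            rw [Finset.mem_singleton] at hgx
            rw [← hgx]; simp))
        have h1 := Finset.card_le_card hsub
        have h2 : (({s'} : Finset α) ∪ {g⁻¹ s'} ∪ ({s'} : Finset α).image y).card ≤ 3 := by
          refine (Finset.card_union_le _ _).trans ?_
          have := Finset.card_union_le ({s'} : Finset α) {g⁻¹ s'}
          simp only [Finset.card_singleton, Finset.image_singleton] at this ⊢
          omega
        omega
    · -- large support
      push_neg at hmk
      set m := g.support.card with hmdef
      obtain ⟨R, hRS, hRc, s₀, hs₀⟩ := exists_almost_invariant g (m - k + 1) (by omega)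
      have hBc : (g.support \ R).card = k - 1 := by
        rw [Finset.card_sdiff_of_subset hRS, hRc]; omega
      by_cases hinv : ∀ x ∈ R, g⁻¹ x ∈ R
      · obtain ⟨s', hs'⟩ : R.Nonempty := Finset.card_pos.1 (by omega)
        obtain ⟨y, hyG, hyB, hys⟩ := exists_fixing_map G hG hkn (g.support \ R)
          (by rw [hBc]; omega) (s := s') (s' := t) (by simp [hs'])
          (fun h => ht (Finset.mem_sdiff.1 h).1)
        refine ⟨g⁻¹ * y * g * y⁻¹, ?_, comm_ne_one_of_target_out g y (hRS hs') ht hys, ?_⟩
        · exact G.mul_mem (G.mul_mem (G.mul_mem (G.inv_mem hg) hyG) hg) (G.inv_mem hyG)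
        · have hsub := support_comm_subset g y R s'
            (fun x hx hxR => hyB x (Finset.mem_sdiff.2 ⟨hx, hxR⟩))
            (fun x _ hxR _ hgx => hxR (by
              have := hinv _ hgx
              simpa using this))
          have h1 := Finset.card_le_card hsub
          have h2 : (R ∪ {s'} ∪ R.image y).card ≤ 2 * (m - k + 1) := by
            have e : R ∪ {s'} = R := by
              rw [Finset.union_eq_left]; simpa using hs'
            rw [e]
            refine (Finset.card_union_le _ _).trans ?_
            have := Finset.card_image_le (s := R) (f := y)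
            omega
          omega
      · push_neg at hinv
        obtain ⟨x₀, hx₀R, hx₀⟩ := hinv
        have hx₀s : x₀ = s₀ := by
          by_contra hne'
          exact hx₀ (hs₀ x₀ hx₀R hne')
        subst hx₀s
        obtain ⟨s'', hs''R, hs''ne⟩ := Finset.exists_mem_ne (s := R) (by omega) x₀
        have hbS : g⁻¹ x₀ ∈ g.support := by
          rw [← Perm.support_inv, Perm.apply_mem_support, Perm.support_inv]
          exact hRS hx₀R
        obtain ⟨y, hyG, hyB, hys⟩ := exists_fixing_map G hG hkn (g.support \ R)
          (by rw [hBc]; omega) (s := x₀) (s' := s'') (by simp [hx₀R]) (by simp [hs''R])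
        have hyb : y (g⁻¹ x₀) = g⁻¹ x₀ := hyB _ (Finset.mem_sdiff.2 ⟨hbS, hx₀⟩)
        have hgb : g (g⁻¹ x₀) = x₀ := by simp
        refine ⟨g⁻¹ * y * g * y⁻¹, ?_, comm_ne_one_of_target_in g y hyb (by rw [hgb, hys]; exact hs''ne), ?_⟩
        · exact G.mul_mem (G.mul_mem (G.mul_mem (G.inv_mem hg) hyG) hg) (G.inv_mem hyG)
        · have hsub := support_comm_subset g y R (g⁻¹ x₀)
            (fun x hx hxR => hyB x (Finset.mem_sdiff.2 ⟨hx, hxR⟩))
            (fun x _ hxR hxu hgx => hxR (by
              have hne' : g x ≠ x₀ := by
                intro h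
                apply hxu
                rw [← h]; simp
              have := hs₀ _ hgx hne'
              simpa using this))
          have h1 := Finset.card_le_card hsub
          have h2 : (R ∪ {g⁻¹ x₀} ∪ R.image y).card ≤ 2 * (m - k + 1) := by
            have e : R ∪ {g⁻¹ x₀} ∪ R.image y = (R ∪ {g⁻¹ x₀}) ∪ (R.image y).erase s'' := by
              ext z
              simp only [Finset.mem_union, Finset.mem_singleton, Finset.mem_erase]
              constructor
              · rintro (h | h)
                · exact Or.inl h
                · by_cases hz : z = s''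
                  · left; left; rw [hz]; exact hs''R
                  · exact Or.inr ⟨hz, h⟩
              · rintro (h | ⟨_, h⟩)
                · exact Or.inl h
                · exact Or.inr h
            rw [e]
            refine (Finset.card_union_le _ _).trans ?_
            have h3 := Finset.card_union_le R {g⁻¹ x₀}
            have h4 : ((R.image y).erase s'').card = (R.image y).card - 1 :=
              Finset.card_erase_of_mem (Finset.mem_image.2 ⟨x₀, hx₀R, hys⟩)
            have h5 := Finset.card_image_le (s := R) (f := y)
            simp only [Finset.card_singleton] at h3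
            omega
          omega

end Cfsg.Agent.Lib.Helper10
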