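import Mathlib
import Cfsg.Agent.Lib.Lead.UniqueOrderP

/-!
# Soft subgroups of p-groups (Héthelyi)

`IsSoft p E`: `E` abelian, self-centralizing, of index `p` in its normalizer.
-/

set_option autoImplicit false

namespace Cfsg.Agent.Lib.Helper10.Soft

open Subgroup

universe u

/-- Soft subgroup. -/
structure IsSoft (p : ℕ) {P : Type u} [Group P] (E : Subgroup P) : Prop where
  comm : ∀ a ∈ E, ∀ b ∈ E, a * b = b * a
  cent : Subgroup.centralizer (E : Set P) ≤ E
  idx : E.relIndex (Subgroup.normalizer (E : Set P)) = p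

section basic

variable {P : Type u} [Group P]

theorem le_or_le_of_relIndex_prime {p : ℕ} (hp : p.Prime) {E X N : Subgroup P}
    (hEX : E ≤ X) (hXN : X ≤ N) (h : E.relIndex N = p) : X ≤ E ∨ N ≤ X := by
  have h1 := Subgroup.relIndex_mul_relIndex E X N hEX hXN
  rw [h] at h1
  rcases (Nat.dvd_prime hp).1 (Dvd.intro _ h1) with h2 | h2
  · left; exact Subgroup.relIndex_eq_one.1 h2
  · right
    rw [h2] at h1
    have : X.relIndex N = 1 := by
      have hp0 := hp.pos
      nlinarith [mul_one p]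
    exact Subgroup.relIndex_eq_one.1 this

/-- conjugate subgroup -/
def cj (g : P) (E : Subgroup P) : Subgroup P := E.map (MulAut.conj g).toMonoidHom

theorem mem_cj {g x : P} {E : Subgroup P} : x ∈ cj g E ↔ g⁻¹ * x * g ∈ E := by
  unfold cj
  constructor
  · rintro ⟨y, hy, rfl⟩
    simpa [mul_assoc] using hy
  · intro h
    exact ⟨g⁻¹ * x * g, h, by simp [mul_assoc]⟩

theorem conj_mem_cj {g x : P} {E : Subgroup P} (hx : x ∈ E) : g * x * g⁻¹ ∈ cj g E := by
  rw [mem_cj]; simpa [mul_assoc] using hx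

theorem cj_le_cj {g : P} {E F : Subgroup P} (h : E ≤ F) : cj g E ≤ cj g F :=
  Subgroup.map_mono h

theorem cj_eq_self_of_mem_normalizer {g : P} {E : Subgroup P}
    (hg : g ∈ Subgroup.normalizer (E : Set P)) : cj g E = E :=
  Subgroup.mem_normalizer_iff_map_conj_eq.1 hg

theorem mem_normalizer_of_cj_eq {g : P} {E : Subgroup P} (h : cj g E = E) :
    g ∈ Subgroup.normalizer (E : Set P) :=
  Subgroup.mem_normalizer_iff_map_conj_eq.2 h

theorem cj_normalizer (g : P) (E : Subgroup P) :
    Subgroup.normalizer ((cj g E : Subgroup P) : Set P) = cj g (Subgroup.normalizer (E : Set P)) :=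
  (Subgroup.map_equiv_normalizer_eq E (MulAut.conj g)).symm

theorem relIndex_cj (g : P) (E F : Subgroup P) : (cj g E).relIndex (cj g F) = E.relIndex F :=
  Subgroup.relIndex_map_map_of_injective E F (MulAut.conj g).injective

theorem cj_cj_inv (g : P) (E : Subgroup P) : cj g⁻¹ (cj g E) = E := by
  ext x; simp [mem_cj, mul_assoc]

theorem cj_inv_cj (g : P) (E : Subgroup P) : cj g (cj g⁻¹ E) = E := by
  ext x; simp [mem_cj, mul_assoc]

theorem index_cj (g : P) (E : Subgroup P) : (cj g E).index = E.index :=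
  Subgroup.index_map_of_bijective (MulAut.conj g).bijective E

theorem IsSoft.of_cj {p : ℕ} {E : Subgroup P} (h : IsSoft p E) (g : P) : IsSoft p (cj g E) := by
  refine ⟨?_, ?_, ?_⟩
  · intro a ha b hb
    rw [mem_cj] at ha hb
    have := h.comm _ ha _ hb
    have h2 : g * ((g⁻¹ * a * g) * (g⁻¹ * b * g)) * g⁻¹ = g * ((g⁻¹ * b * g) * (g⁻¹ * a * g)) * g⁻¹ := by
      rw [this]
    simpa [mul_assoc] using h2
  · intro x hx
    rw [mem_cj]
    apply h.cent
    rw [Subgroup.mem_centralizer_iff] at hx ⊢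
    intro e he
    have := hx (g * e * g⁻¹) (conj_mem_cj he)
    have h2 : g⁻¹ * (g * e * g⁻¹ * x) * g = g⁻¹ * (x * (g * e * g⁻¹)) * g := by rw [this]
    simpa [mul_assoc] using h2
  · rw [cj_normalizer, relIndex_cj]; exact h.idx

/-- Normalizers grow in finite p-groups, relative version. -/
theorem exists_mem_normalizer_not_mem {p : ℕ} [Fact p.Prime] [Finite P] (hP : IsPGroup p P)
    {E K : Subgroup P} (h : E < K) :
    ∃ k ∈ K, k ∉ E ∧ k ∈ Subgroup.normalizer (E : Set P) := by
  haveI : Group.IsNilpotent ↥K := (hP.to_subgroup K).isNilpotent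
  have hnc : NormalizerCondition ↥K := Group.normalizerCondition_of_isNilpotent
  have hlt : E.subgroupOf K < ⊤ := by
    rw [lt_top_iff_ne_top, Ne, Subgroup.subgroupOf_eq_top]
    exact not_le_of_gt h
  obtain ⟨k, hk1, hk2⟩ := SetLike.exists_of_lt (hnc _ hlt)
  refine ⟨k.1, k.2, fun hk => hk2 (Subgroup.mem_subgroupOf.2 hk), ?_⟩
  apply Subgroup.mem_normalizer_fintype
  intro e he
  have he' : (⟨e, h.le he⟩ : ↥K) ∈ E.subgroupOf K := Subgroup.mem_subgroupOf.2 he
  have := (Subgroup.mem_normalizer_iff.1 hk1 _).1 he'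
  exact Subgroup.mem_subgroupOf.1 this

theorem IsSoft.normalizer_le_of_lt {p : ℕ} [Fact p.Prime] [Finite P] (hP : IsPGroup p P)
    {E K : Subgroup P} (h : IsSoft p E) (hEK : E < K) :
    Subgroup.normalizer (E : Set P) ≤ K := by
  obtain ⟨k, hkK, hkE, hkN⟩ := exists_mem_normalizer_not_mem hP hEK
  have hp : p.Prime := Fact.out
  have hX1 : E ≤ E ⊔ Subgroup.zpowers k := le_sup_left
  have hX2 : E ⊔ Subgroup.zpowers k ≤ Subgroup.normalizer (E : Set P) :=
    sup_le Subgroup.le_normalizer ((Subgroup.zpowers_le).2 hkN)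
  rcases le_or_le_of_relIndex_prime hp hX1 hX2 h.idx with h1 | h1
  · exact absurd (h1 (le_sup_right (a := E) (Subgroup.mem_zpowers k))) hkE
  · exact h1.trans (sup_le hEK.le ((Subgroup.zpowers_le).2 hkK))

theorem IsSoft.eq_or_normalizer_le {p : ℕ} [Fact p.Prime] [Finite P] (hP : IsPGroup p P)
    {E K : Subgroup P} (h : IsSoft p E) (hEK : E ≤ K) :
    K = E ∨ Subgroup.normalizer (E : Set P) ≤ K := by
  rcases eq_or_lt_of_le hEK with h1 | h1
  · left; exact h1.symm
  · right; exact h.normalizer_le_of_lt hP h1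

theorem IsSoft.ne_top {p : ℕ} [Fact p.Prime] {E : Subgroup P} (h : IsSoft p E) : E ≠ ⊤ := by
  intro h1
  have h2 := h.idx
  have hp : p.Prime := Fact.out
  rw [h1] at h2
  have : (⊤ : Subgroup P).relIndex (Subgroup.normalizer (((⊤ : Subgroup P)) : Set P)) = 1 :=
    Subgroup.relIndex_eq_one.2 le_top
  rw [this] at h2
  exact hp.one_lt.ne h2

theorem IsSoft.lt_normalizer {p : ℕ} [Fact p.Prime] {E : Subgroup P} (h : IsSoft p E) :
    E < Subgroup.normalizer (E : Set P) := by
  refine lt_of_le_of_ne Subgroup.le_normalizer ?_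
  intro h1
  have h2 := h.idx
  have hp : p.Prime := Fact.out
  have : E.relIndex (Subgroup.normalizer (E : Set P)) = 1 :=
    Subgroup.relIndex_eq_one.2 (le_of_eq h1.symm)
  rw [this] at h2
  exact hp.one_lt.ne h2

theorem conj_mem_centralizer_of_mem_normalizer {N : Subgroup P} {g z : P}
    (hg : g ∈ Subgroup.normalizer (N : Set P)) (hz : z ∈ Subgroup.centralizer (N : Set P)) :
    g⁻¹ * z * g ∈ Subgroup.centralizer (N : Set P) := by
  rw [Subgroup.mem_centralizer_iff] at hz ⊢
  intro n hn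
  have h1 : g * n * g⁻¹ ∈ N := (Subgroup.mem_normalizer_iff.1 hg n).1 hn
  have h2 := hz _ h1
  -- (g n g⁻¹) z = z (g n g⁻¹)
  calc n * (g⁻¹ * z * g) = g⁻¹ * ((g * n * g⁻¹) * z) * g := by group
    _ = g⁻¹ * (z * (g * n * g⁻¹)) * g := by rw [h2]
    _ = g⁻¹ * z * g * n := by group

theorem IsSoft.centralizer_normalizer_le {p : ℕ} {E : Subgroup P} (h : IsSoft p E) :
    Subgroup.centralizer ((Subgroup.normalizer (E : Set P) : Subgroup P) : Set P) ≤ E :=
  (Subgroup.centralizer_le (by exact_mod_cast (Subgroup.le_normalizer (H := E)))).trans h.cent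

/-- for `g ∈ N₂ ∖ N₁`, `E ∩ E^g ≤ Z(N₁)`. -/
theorem IsSoft.inf_cj_le {p : ℕ} [Fact p.Prime] [Finite P] {E : Subgroup P} (h : IsSoft p E)
    {g : P} (hg : g ∈ Subgroup.normalizer ((Subgroup.normalizer (E : Set P) : Subgroup P) : Set P))
    (hg' : g ∉ Subgroup.normalizer (E : Set P)) :
    E ⊓ cj g E ≤ Subgroup.centralizer ((Subgroup.normalizer (E : Set P) : Subgroup P) : Set P) := by
  have hp : p.Prime := Fact.out
  have hF : cj g E ≤ Subgroup.normalizer (E : Set P) := by
    have := cj_le_cj (g := g) (Subgroup.le_normalizer (H := E))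
    rwa [cj_eq_self_of_mem_normalizer hg] at this
  have hsup : E ⊔ cj g E ≤ Subgroup.normalizer (E : Set P) := sup_le Subgroup.le_normalizer hF
  have hN : Subgroup.normalizer (E : Set P) ≤ E ⊔ cj g E := by
    rcases le_or_le_of_relIndex_prime hp le_sup_left hsup h.idx with h1 | h1
    · exfalso
      apply hg'
      apply Subgroup.mem_normalizer_fintype
      intro e he
      exact h1 (le_sup_right (a := E) (conj_mem_cj he))
    · exact h1
  intro z hz
  have hzE : z ∈ E := hz.1
  have hzF : z ∈ cj g E := hz.2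
  have h1 : E ≤ Subgroup.centralizer ({z} : Set P) := by
    intro e he
    rw [Subgroup.mem_centralizer_singleton_iff]
    exact h.comm _ he _ hzE
  have h2 : cj g E ≤ Subgroup.centralizer ({z} : Set P) := by
    intro e he
    rw [Subgroup.mem_centralizer_singleton_iff]
    exact (h.of_cj g).comm _ he _ hzF
  rw [Subgroup.mem_centralizer_iff]
  intro n hn
  have := (hN.trans (sup_le h1 h2)) hn
  rw [Subgroup.mem_centralizer_singleton_iff] at this
  exact this

/-- `|N₂ : N₁| = p` when `N₁ ≠ ⊤`. -/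
theorem IsSoft.relIndex_normalizer_normalizer {p : ℕ} [Fact p.Prime] [Finite P]
    (hP : IsPGroup p P) {E : Subgroup P} (h : IsSoft p E)
    (hN : Subgroup.normalizer (E : Set P) ≠ ⊤) :
    (Subgroup.normalizer (E : Set P)).relIndex
      (Subgroup.normalizer ((Subgroup.normalizer (E : Set P) : Subgroup P) : Set P)) = p := by
  have hp : p.Prime := Fact.out
  set N₁ := Subgroup.normalizer (E : Set P) with hN₁
  set N₂ := Subgroup.normalizer (N₁ : Set P) with hN₂
  set Z₁ := Subgroup.centralizer (N₁ : Set P) with hZ₁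
  have hZE : Z₁ ≤ E := h.centralizer_normalizer_le
  have hEN : E ≤ N₁ := Subgroup.le_normalizer
  have hN12 : N₁ ≤ N₂ := Subgroup.le_normalizer
  -- pick g ∈ N₂ \ N₁
  have hlt : N₁ < (⊤ : Subgroup P) := lt_top_iff_ne_top.2 hN
  obtain ⟨g, -, hg1, hg2⟩ := exists_mem_normalizer_not_mem hP hlt
  have hinf := h.inf_cj_le hg2 hg1
  -- bound on |N₁ : Z₁|
  have hF : (cj g E).relIndex N₁ = p := by
    have := relIndex_cj g E N₁
    rw [cj_eq_self_of_mem_normalizer hg2] at this
    rw [this]; exact h.idx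
  have hb1 : Z₁.relIndex N₁ ≤ p * p := by
    have h1 : Z₁.relIndex N₁ ∣ (E ⊓ cj g E).relIndex N₁ := Subgroup.relIndex_dvd_of_le_left N₁ hinf
    have h2 : (E ⊓ cj g E).relIndex N₁ ≤ E.relIndex N₁ * (cj g E).relIndex N₁ :=
      Subgroup.relIndex_inf_le
    rw [h.idx, hF] at h2
    have h3 : (E ⊓ cj g E).relIndex N₁ ≠ 0 := by
      unfold Subgroup.relIndex
      exact Subgroup.index_ne_zero_of_finite
    exact (Nat.le_of_dvd (Nat.pos_of_ne_zero h3) h1).trans h2
  -- pick e ∈ E \ Z₁
  have hex : ∃ e ∈ E, e ∉ Z₁ := by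
    by_contra hcon
    push Not at hcon
    have h1 : E ≤ Z₁ := hcon
    have h2 : N₁ ≤ Subgroup.centralizer (E : Set P) := Subgroup.le_centralizer_iff.1 h1
    exact absurd (lt_of_lt_of_le h.lt_normalizer (h2.trans h.cent)) (lt_irrefl _)
  obtain ⟨e, heE, heZ⟩ := hex
  -- conjugation by N₂ preserves Z₁
  have hconjZ : ∀ a ∈ N₂, ∀ z, a * z * a⁻¹ ∈ Z₁ → z ∈ Z₁ := by
    intro a ha z hz
    have := conj_mem_centralizer_of_mem_normalizer (N := N₁) ha hz
    simpa [mul_assoc] using this
  -- the map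
  have hmem : ∀ a : ↥N₂, (a : P) * e * (a : P)⁻¹ ∈ N₁ := by
    intro a
    exact (Subgroup.mem_normalizer_iff.1 a.2 e).1 (hEN heE)
  let Ψ : (↥N₂ ⧸ N₁.subgroupOf N₂) → (↥N₁ ⧸ Z₁.subgroupOf N₁) := fun q =>
    QuotientGroup.mk (⟨(q.out : P) * e * (q.out : P)⁻¹, hmem q.out⟩ : ↥N₁)
  have hkey : ∀ a b : ↥N₂,
      ((a : P) * e * (a : P)⁻¹)⁻¹ * ((b : P) * e * (b : P)⁻¹) ∈ Z₁ → (a : P)⁻¹ * (b : P) ∈ N₁ := by
    intro a b hab
    by_contra hk
    have hk2 : (a : P)⁻¹ * (b : P) ∈ N₂ := N₂.mul_mem (N₂.inv_mem a.2) b.2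
    have hinf' := h.inf_cj_le hk2 hk
    set k := (a : P)⁻¹ * (b : P) with hkdef
    -- e⁻¹ * (k e k⁻¹) ∈ Z₁
    have h1 : e⁻¹ * (k * e * k⁻¹) ∈ Z₁ := by
      apply hconjZ (a : P) a.2
      have : (a : P) * (e⁻¹ * (k * e * k⁻¹)) * (a : P)⁻¹
          = ((a : P) * e * (a : P)⁻¹)⁻¹ * ((b : P) * e * (b : P)⁻¹) := by
        rw [hkdef]; group
      rw [this]; exact hab
    have h2 : k * e * k⁻¹ ∈ E := by
      have := E.mul_mem heE (hZE h1)
      simpa [mul_assoc] using this
    have h3 : k * e * k⁻¹ ∈ Z₁ := hinf' ⟨h2, conj_mem_cj heE⟩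
    apply heZ
    have := Z₁.mul_mem h3 (Z₁.inv_mem h1)
    simpa [mul_assoc] using this
  have hΨinj : Function.Injective Ψ := by
    intro q q' hqq
    have h1 := QuotientGroup.eq.1 hqq
    have h2 : ((q.out : P) * e * (q.out : P)⁻¹)⁻¹ * ((q'.out : P) * e * (q'.out : P)⁻¹) ∈ Z₁ := by
      have := Subgroup.mem_subgroupOf.1 h1
      simpa using this
    have h3 := hkey _ _ h2
    have h4 : (QuotientGroup.mk q.out : ↥N₂ ⧸ N₁.subgroupOf N₂) = QuotientGroup.mk q'.out := by
      rw [QuotientGroup.eq, Subgroup.mem_subgroupOf]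
      simpa using h3
    rwa [QuotientGroup.out_eq', QuotientGroup.out_eq'] at h4
  have hΨne : (QuotientGroup.mk (1 : ↥N₁) : ↥N₁ ⧸ Z₁.subgroupOf N₁) ∉ Set.range Ψ := by
    rintro ⟨q, hq⟩
    have h1 := QuotientGroup.eq.1 hq
    have h2 : ((q.out : P) * e * (q.out : P)⁻¹)⁻¹ ∈ Z₁ := by
      have := Subgroup.mem_subgroupOf.1 h1
      simpa using this
    exact heZ (hconjZ _ q.out.2 e (by simpa using Z₁.inv_mem h2))
  have hcard : N₁.relIndex N₂ < Z₁.relIndex N₁ := by
    unfold Subgroup.relIndex Subgroup.index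
    haveI : Fintype (↥N₂ ⧸ N₁.subgroupOf N₂) := Fintype.ofFinite _
    haveI : Fintype (↥N₁ ⧸ Z₁.subgroupOf N₁) := Fintype.ofFinite _
    rw [Nat.card_eq_fintype_card, Nat.card_eq_fintype_card]
    exact Fintype.card_lt_of_injective_of_notMem Ψ hΨinj hΨne
  -- power of p
  obtain ⟨a, ha⟩ := (hP.to_subgroup N₂).index (N₁.subgroupOf N₂)
  have ha' : N₁.relIndex N₂ = p ^ a := ha
  have hne1 : N₁.relIndex N₂ ≠ 1 := by
    intro h1
    have h2 : N₂ ≤ N₁ := Subgroup.relIndex_eq_one.1 h1
    exact hg1 (h2 hg2)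
  have hlt2 : p ^ a < p ^ 2 := by
    rw [← ha', pow_two]; exact lt_of_lt_of_le hcard hb1
  have ha2 : a < 2 := (Nat.pow_lt_pow_iff_right hp.one_lt).1 hlt2
  have ha0 : a ≠ 0 := by
    intro h0; rw [h0, pow_zero] at ha'; exact hne1 ha'
  have : a = 1 := by omega
  rw [ha', this, pow_one]

end basic

section quot

variable {P : Type u} [Group P] (T : Subgroup P) [T.Normal]

/-- image in the quotient `P ⧸ T`. -/
def qm (H : Subgroup P) : Subgroup (P ⧸ T) := H.map (QuotientGroup.mk' T)

variable {T}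

theorem comap_qm {H : Subgroup P} (hT : T ≤ H) : (qm T H).comap (QuotientGroup.mk' T) = H := by
  unfold qm
  apply Subgroup.comap_map_eq_self
  rw [QuotientGroup.ker_mk']; exact hT

theorem qm_comap (K : Subgroup (P ⧸ T)) : qm T (K.comap (QuotientGroup.mk' T)) = K :=
  Subgroup.map_comap_eq_self_of_surjective (QuotientGroup.mk'_surjective T) K

theorem le_comap_mk (K : Subgroup (P ⧸ T)) : T ≤ K.comap (QuotientGroup.mk' T) := by
  intro t ht
  rw [Subgroup.mem_comap]
  have : (QuotientGroup.mk' T) t = 1 := (QuotientGroup.eq_one_iff t).2 ht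
  rw [this]; exact K.one_mem

theorem qm_mono {H K : Subgroup P} (h : H ≤ K) : qm T H ≤ qm T K := Subgroup.map_mono h

theorem qm_le_qm_iff {H K : Subgroup P} (hT : T ≤ K) : qm T H ≤ qm T K ↔ H ≤ K := by
  constructor
  · intro h
    have := Subgroup.comap_mono (f := QuotientGroup.mk' T) h
    rw [comap_qm hT] at this
    exact (Subgroup.le_comap_map _ _).trans this
  · exact qm_mono

theorem mem_qm_iff {H : Subgroup P} (hT : T ≤ H) {g : P} :
    (QuotientGroup.mk' T) g ∈ qm T H ↔ g ∈ H := by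
  rw [← Subgroup.mem_comap, comap_qm hT]

theorem qm_normalizer {H : Subgroup P} (hT : T ≤ H) :
    Subgroup.normalizer ((qm T H : Subgroup (P ⧸ T)) : Set (P ⧸ T))
      = qm T (Subgroup.normalizer (H : Set P)) := by
  have h1 := Subgroup.comap_normalizer_eq_of_surjective (qm T H) (QuotientGroup.mk'_surjective T)
  rw [comap_qm hT] at h1
  rw [← h1, qm_comap]

theorem relIndex_qm {H K : Subgroup P} (hH : T ≤ H) (hK : T ≤ K) :
    (qm T H).relIndex (qm T K) = H.relIndex K := by
  unfold qm
  rw [Subgroup.relIndex_map_map, QuotientGroup.ker_mk', sup_eq_left.2 hH, sup_eq_left.2 hK]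

theorem index_qm {H : Subgroup P} (hT : T ≤ H) : (qm T H).index = H.index := by
  have hk : (QuotientGroup.mk' T).ker ≤ H := by rw [QuotientGroup.ker_mk']; exact hT
  exact Subgroup.index_map_eq (H := H) (f := QuotientGroup.mk' T) (QuotientGroup.mk'_surjective T) hk

theorem qm_eq_top_iff {H : Subgroup P} (hT : T ≤ H) : qm T H = ⊤ ↔ H = ⊤ := by
  constructor
  · intro h
    rw [← comap_qm hT, h, Subgroup.comap_top]
  · intro h
    rw [h]; unfold qm
    rw [← MonoidHom.range_eq_map, MonoidHom.range_eq_top]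
    exact QuotientGroup.mk'_surjective T

variable (T)

/-- preimage of the centralizer of the image of `E`. -/
def cq (E : Subgroup P) : Subgroup P :=
  (Subgroup.centralizer ((qm T E : Subgroup (P ⧸ T)) : Set (P ⧸ T))).comap (QuotientGroup.mk' T)

variable {T}

theorem mem_cq {E : Subgroup P} {g : P} :
    g ∈ cq T E ↔ ∀ e ∈ E, g⁻¹ * e⁻¹ * g * e ∈ T := by
  unfold cq qm
  rw [Subgroup.mem_comap, Subgroup.mem_centralizer_iff]
  constructor
  · intro h e he
    have h1 := h _ (Subgroup.mem_map_of_mem _ he)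
    rw [← QuotientGroup.eq_one_iff]
    have : ((g⁻¹ * e⁻¹ * g * e : P) : P ⧸ T)
        = ((QuotientGroup.mk' T) g)⁻¹ * ((QuotientGroup.mk' T) e)⁻¹ *
          ((QuotientGroup.mk' T) g * (QuotientGroup.mk' T) e) := by
      simp [mul_assoc]
    rw [this, ← h1]; group
  · intro h x hx
    obtain ⟨e, he, rfl⟩ := Subgroup.mem_map.1 hx
    have h1 := (QuotientGroup.eq_one_iff _).2 (h e he)
    have h2 : ((QuotientGroup.mk' T) g)⁻¹ * ((QuotientGroup.mk' T) e)⁻¹ *
          ((QuotientGroup.mk' T) g * (QuotientGroup.mk' T) e) = 1 := by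
      rw [← h1]; simp [mul_assoc]
    have h3 : (QuotientGroup.mk' T) g * (QuotientGroup.mk' T) e
        = (QuotientGroup.mk' T) e * (QuotientGroup.mk' T) g := by
      have := congrArg (fun y => (QuotientGroup.mk' T) e * (QuotientGroup.mk' T) g * y) h2
      simpa [mul_assoc] using this
    exact h3.symm

theorem cq_le_normalizer [Finite P] {E : Subgroup P} (hT : T ≤ E) :
    cq T E ≤ Subgroup.normalizer (E : Set P) := by
  intro g hg
  have hg' : g⁻¹ ∈ cq T E := (cq T E).inv_mem hg
  rw [mem_cq] at hg'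
  apply Subgroup.mem_normalizer_fintype
  intro e he
  have h1 := hg' e⁻¹ (E.inv_mem he)
  have h2 := E.mul_mem (hT h1) he
  simpa [mul_assoc] using h2

theorem le_cq {E : Subgroup P} (hc : ∀ a ∈ E, ∀ b ∈ E, a * b = b * a) : E ≤ cq T E := by
  intro g hg
  rw [mem_cq]
  intro e he
  have : g⁻¹ * e⁻¹ * g * e = 1 := by
    have h1 := hc g hg e he
    calc g⁻¹ * e⁻¹ * g * e = g⁻¹ * e⁻¹ * (g * e) := by group
      _ = g⁻¹ * e⁻¹ * (e * g) := by rw [h1]
      _ = 1 := by group
  rw [this]; exact T.one_mem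

/-- Case 1: `E/T` is soft in `P/T`. -/
theorem IsSoft.qm_of_cq_le {p : ℕ} {E : Subgroup P} (h : IsSoft p E) (hT : T ≤ E)
    (hc : cq T E ≤ E) : IsSoft p (qm T E) := by
  refine ⟨?_, ?_, ?_⟩
  · intro a ha b hb
    obtain ⟨a', ha', rfl⟩ := Subgroup.mem_map.1 ha
    obtain ⟨b', hb', rfl⟩ := Subgroup.mem_map.1 hb
    rw [← map_mul, ← map_mul, h.comm a' ha' b' hb']
  · intro x hx
    obtain ⟨g, rfl⟩ := QuotientGroup.mk'_surjective T x
    have : g ∈ cq T E := by
      unfold cq; rw [Subgroup.mem_comap]; exact hx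
    exact Subgroup.mem_map_of_mem _ (hc this)
  · rw [qm_normalizer hT, relIndex_qm hT (hT.trans Subgroup.le_normalizer)]
    exact h.idx

/-- Case 2: `N₁/T` is soft in `P/T`. -/
theorem IsSoft.qm_normalizer_of_le_cq {p : ℕ} [Fact p.Prime] [Finite P] (hP : IsPGroup p P)
    {E : Subgroup P} (h : IsSoft p E) (hT : T ≤ E)
    (hc : Subgroup.normalizer (E : Set P) ≤ cq T E) (hN : Subgroup.normalizer (E : Set P) ≠ ⊤) :
    IsSoft p (qm T (Subgroup.normalizer (E : Set P))) := by
  have hp : p.Prime := Fact.out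
  set N₁ := Subgroup.normalizer (E : Set P) with hN₁
  have hEN : E ≤ N₁ := Subgroup.le_normalizer
  have hTN : T ≤ N₁ := hT.trans hEN
  obtain ⟨x, hxN, hxE⟩ := SetLike.exists_of_lt h.lt_normalizer
  have hsup : N₁ ≤ E ⊔ Subgroup.zpowers x := by
    have h2 : E ⊔ Subgroup.zpowers x ≤ N₁ := sup_le hEN ((Subgroup.zpowers_le).2 hxN)
    rcases le_or_le_of_relIndex_prime hp le_sup_left h2 h.idx with h1 | h1
    · exact absurd (h1 (le_sup_right (a := E) (Subgroup.mem_zpowers x))) hxE
    · exact h1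
  have ha : qm T N₁ ≤ Subgroup.centralizer ((qm T E : Subgroup (P ⧸ T)) : Set (P ⧸ T)) := by
    unfold qm
    rw [Subgroup.map_le_iff_le_comap]
    exact hc
  set xb := (QuotientGroup.mk' T) x with hxb
  have hxbN : xb ∈ qm T N₁ := Subgroup.mem_map_of_mem _ hxN
  have h1 : qm T N₁ ≤ qm T E ⊔ Subgroup.zpowers xb := by
    calc qm T N₁ ≤ qm T (E ⊔ Subgroup.zpowers x) := qm_mono hsup
      _ = qm T E ⊔ Subgroup.zpowers xb := by
        unfold qm; rw [Subgroup.map_sup, MonoidHom.map_zpowers]
  have h2 : qm T E ≤ Subgroup.centralizer ((qm T N₁ : Subgroup (P ⧸ T)) : Set (P ⧸ T)) :=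
    Subgroup.le_centralizer_iff.1 ha
  have h3 : Subgroup.zpowers xb ≤
      Subgroup.centralizer ((qm T N₁ : Subgroup (P ⧸ T)) : Set (P ⧸ T)) := by
    rw [Subgroup.zpowers_le, Subgroup.mem_centralizer_iff]
    intro y hy
    have h4 : qm T E ≤ Subgroup.centralizer ({xb} : Set (P ⧸ T)) := by
      intro e he
      rw [Subgroup.mem_centralizer_singleton_iff]
      exact (Subgroup.mem_centralizer_iff.1 (ha hxbN)) e he
    have h5 : Subgroup.zpowers xb ≤ Subgroup.centralizer ({xb} : Set (P ⧸ T)) := by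
      rw [Subgroup.zpowers_le, Subgroup.mem_centralizer_singleton_iff]
    have := (h1.trans (sup_le h4 h5)) hy
    rw [Subgroup.mem_centralizer_singleton_iff] at this
    exact this
  have hcomm : qm T N₁ ≤ Subgroup.centralizer ((qm T N₁ : Subgroup (P ⧸ T)) : Set (P ⧸ T)) :=
    h1.trans (sup_le h2 h3)
  refine ⟨?_, ?_, ?_⟩
  · intro a ha' b hb'
    exact (Subgroup.mem_centralizer_iff.1 (hcomm hb')) a ha'
  · intro y hy
    obtain ⟨g, rfl⟩ := QuotientGroup.mk'_surjective T y
    have hg : g ∈ cq T E := by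
      unfold cq; rw [Subgroup.mem_comap]
      exact (Subgroup.centralizer_le (by exact_mod_cast (qm_mono (T := T) hEN))) hy
    exact Subgroup.mem_map_of_mem _ (cq_le_normalizer hT hg)
  · rw [qm_normalizer hTN, relIndex_qm hTN (hTN.trans Subgroup.le_normalizer)]
    exact h.relIndex_normalizer_normalizer hP hN

end quot

section thmA

/-- The conclusion of Theorem A for a pair `(P, E)`. -/
def ChainProp (p : ℕ) {P : Type u} [Group P] (E : Subgroup P) : Prop :=
  (∀ K L : Subgroup P, E ≤ K → E ≤ L → K ≤ L ∨ L ≤ K) ∧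
  (∀ K : Subgroup P, E ≤ K → K ≠ ⊤ →
    K.relIndex (Subgroup.normalizer (K : Set P)) = p)

theorem card_quot_lt {P : Type u} [Group P] [Finite P] (T : Subgroup P) [T.Normal]
    (hT : T ≠ ⊥) : Nat.card (P ⧸ T) < Nat.card P := by
  rw [Subgroup.card_eq_card_quotient_mul_card_subgroup T]
  apply lt_mul_of_one_lt_right Nat.card_pos
  exact (Subgroup.one_lt_card_iff_ne_bot _).mpr hT

theorem chainProp_of_qm {p : ℕ} {P : Type u} [Group P] {T : Subgroup P} [T.Normal]
    {E F : Subgroup P} (hT : T ≤ F) (hEF : E ≤ F)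
    (hF : ChainProp p (qm T F))
    (hover : ∀ K : Subgroup P, E ≤ K → K = E ∨ F ≤ K)
    (hE : E.relIndex (Subgroup.normalizer (E : Set P)) = p) :
    ChainProp p E := by
  refine ⟨?_, ?_⟩
  · intro K L hK hL
    rcases hover K hK with h1 | h1
    · left; rw [h1]; exact hL
    rcases hover L hL with h2 | h2
    · right; rw [h2]; exact hK
    rcases hF.1 (qm T K) (qm T L) (qm_mono h1) (qm_mono h2) with h3 | h3
    · left; exact (qm_le_qm_iff (hT.trans h2)).1 h3
    · right; exact (qm_le_qm_iff (hT.trans h1)).1 h3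
  · intro K hK hKtop
    rcases hover K hK with h1 | h1
    · rw [h1]; exact hE
    have hTK : T ≤ K := hT.trans h1
    have h3 := hF.2 (qm T K) (qm_mono h1) (fun h => hKtop ((qm_eq_top_iff hTK).1 h))
    rw [qm_normalizer hTK, relIndex_qm hTK (hTK.trans Subgroup.le_normalizer)] at h3
    exact h3

theorem chainA (p : ℕ) [Fact p.Prime] : ∀ (n : ℕ) (P : Type u) [Group P] [Finite P],
    Nat.card P ≤ n → IsPGroup p P → ∀ E : Subgroup P, IsSoft p E → ChainProp p E := by
  intro n
  induction n with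
  | zero =>
    intro P _ _ hcard
    exact absurd hcard (by have := Nat.card_pos (α := P); omega)
  | succ n ih =>
    intro P _ _ hcard hP E h
    have hp : p.Prime := Fact.out
    haveI : Nontrivial P := by
      by_contra hnt
      rw [not_nontrivial_iff_subsingleton] at hnt
      exact h.ne_top (Subsingleton.elim _ _)
    set T := Subgroup.center P with hTdef
    have hTbot : T ≠ ⊥ := ne_of_gt hP.bot_lt_center
    have hTE : T ≤ E := (Subgroup.center_le_centralizer _).trans h.cent
    have hcardq : Nat.card (P ⧸ T) ≤ n := by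
      have := card_quot_lt T hTbot
      omega
    have hPq : IsPGroup p (P ⧸ T) := hP.to_quotient T
    set N₁ := Subgroup.normalizer (E : Set P) with hN₁
    have hEN : E ≤ N₁ := Subgroup.le_normalizer
    rcases le_or_le_of_relIndex_prime hp (le_cq (T := T) h.comm) (cq_le_normalizer hTE) h.idx
      with hX | hX
    · -- Case 1
      have hs := h.qm_of_cq_le hTE hX
      have hF := ih (P ⧸ T) hcardq hPq _ hs
      exact chainProp_of_qm hTE le_rfl hF (fun K hK => Or.inr hK) h.idx
    · -- Case 2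
      by_cases hN : N₁ = ⊤
      · have hover : ∀ K : Subgroup P, E ≤ K → K = E ∨ K = ⊤ := by
          intro K hK
          rcases h.eq_or_normalizer_le hP hK with h1 | h1
          · left; exact h1
          · right; rw [← hN₁, hN] at h1; exact top_le_iff.1 h1
        refine ⟨?_, ?_⟩
        · intro K L hK hL
          rcases hover K hK with h1 | h1
          · left; rw [h1]; exact hL
          rcases hover L hL with h2 | h2
          · right; rw [h2]; exact hK
          · left; rw [h2]; exact le_top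
        · intro K hK hKtop
          rcases hover K hK with h1 | h1
          · rw [h1]; exact h.idx
          · exact absurd h1 hKtop
      · have hs := h.qm_normalizer_of_le_cq hP hTE hX hN
        have hF := ih (P ⧸ T) hcardq hPq _ hs
        exact chainProp_of_qm (hTE.trans hEN) hEN hF
          (fun K hK => h.eq_or_normalizer_le hP hK) h.idx

theorem IsSoft.chainProp {p : ℕ} [Fact p.Prime] {P : Type u} [Group P] [Finite P]
    (hP : IsPGroup p P) {E : Subgroup P} (h : IsSoft p E) : ChainProp p E :=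
  chainA p (Nat.card P) P le_rfl hP E h

end thmA

section thmB

variable {P : Type u} [Group P]

theorem cj_eq_self_of_normal {K : Subgroup P} [hK : K.Normal] (y : P) : cj y K = K :=
  cj_eq_self_of_mem_normalizer (by rw [Subgroup.normalizer_eq_top]; exact Subgroup.mem_top y)

theorem mem_normalizer_of_cj_le [Finite P] {J : Subgroup P} {y : P} (h : cj y J ≤ J) :
    y ∈ Subgroup.normalizer (J : Set P) := by
  apply Subgroup.mem_normalizer_fintype
  intro e he
  exact h (conj_mem_cj he)

/-- `⟨E, E^y⟩ = K` for `K` normal, proper, and `y ∉ K`. -/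
theorem IsSoft.sup_cj_eq {p : ℕ} [Fact p.Prime] [Finite P] (hP : IsPGroup p P)
    {E K : Subgroup P} (h : IsSoft p E) (hEK : E ≤ K) [hKn : K.Normal] (hKtop : K ≠ ⊤)
    {y : P} (hy : y ∉ K) : E ⊔ cj y E = K := by
  have hp : p.Prime := Fact.out
  set J := E ⊔ cj y E with hJ
  have hJK : J ≤ K := by
    apply sup_le hEK
    have := cj_le_cj (g := y) hEK
    rwa [cj_eq_self_of_normal (K := K)] at this
  by_contra hne
  have hEJ : E ≤ J := le_sup_left
  have hJtop : J ≠ ⊤ := fun h1 => hKtop (top_le_iff.1 (h1 ▸ hJK))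
  have hCE := h.chainProp hP
  have hCE' := (h.of_cj y).chainProp hP
  -- y normalizes J
  have hyJ : y ∈ Subgroup.normalizer (J : Set P) := by
    rcases hCE'.1 J (cj y J) le_sup_right (cj_le_cj hEJ) with h1 | h1
    · -- J ≤ cj y J, so cj y⁻¹ J ≤ J
      have h2 : cj y⁻¹ J ≤ J := by
        have := cj_le_cj (g := y⁻¹) h1
        rwa [cj_cj_inv] at this
      have := mem_normalizer_of_cj_le h2
      simpa using (Subgroup.normalizer (J : Set P)).inv_mem this
    · exact mem_normalizer_of_cj_le h1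
  have hidx := hCE.2 J hEJ hJtop
  rcases hCE.1 K (Subgroup.normalizer (J : Set P)) hEK (hEJ.trans Subgroup.le_normalizer)
    with h1 | h1
  · rcases le_or_le_of_relIndex_prime hp hJK h1 hidx with h2 | h2
    · exact hne (le_antisymm hJK h2)
    · exact hy (h2 hyJ)
  · exact hy (h1 hyJ)

/-- Key claim: `N₁' ≤ Z(K)`, in the form `N₁ ≤ cq Z(K) E`. -/
theorem IsSoft.normalizer_le_cq_centralizer {p : ℕ} [Fact p.Prime] [Finite P] (hP : IsPGroup p P)
    {E K : Subgroup P} (h : IsSoft p E) (hEK : E < K) [hKn : K.Normal] (hKtop : K ≠ ⊤) :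
    Subgroup.normalizer (E : Set P) ≤ cq (Subgroup.centralizer (K : Set P)) E := by
  have hp : p.Prime := Fact.out
  set T := Subgroup.centralizer (K : Set P) with hT
  have hTE : T ≤ E := (Subgroup.centralizer_le (by exact_mod_cast hEK.le)).trans h.cent
  rcases le_or_le_of_relIndex_prime hp (le_cq (T := T) h.comm) (cq_le_normalizer hTE) h.idx
    with hX | hX
  swap
  · exact hX
  exfalso
  -- K̄ ≠ ⊥
  have hKbar : qm T K ≠ ⊥ := by
    intro h1
    have h2 : K ≤ T := by
      intro k hk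
      have : (QuotientGroup.mk' T) k ∈ qm T K := Subgroup.mem_map_of_mem _ hk
      rw [h1, Subgroup.mem_bot] at this
      exact (QuotientGroup.eq_one_iff k).1 this
    exact absurd (lt_of_lt_of_le hEK (h2.trans hTE)) (lt_irrefl _)
  have : (qm T K).Normal := by
    unfold qm
    exact Subgroup.Normal.map hKn _ (QuotientGroup.mk'_surjective T)
  obtain ⟨wb, hwK, hw1, hwc⟩ :=
    Cfsg.Agent.Lib.Lead.UniqueOrderP.exists_central_of_normal (hP.to_quotient T) (qm T K) hKbar
  obtain ⟨w, rfl⟩ := QuotientGroup.mk'_surjective T wb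
  have hTK : T ≤ K := hTE.trans hEK.le
  have hwK' : w ∈ K := (mem_qm_iff hTK).1 hwK
  have hwT : w ∉ T := fun h1 => hw1 ((QuotientGroup.eq_one_iff w).2 h1)
  have hcomm : ∀ g : P, w⁻¹ * g⁻¹ * w * g ∈ T := by
    intro g
    rw [← QuotientGroup.eq_one_iff]
    have h1 := (Subgroup.mem_center_iff.1 hwc) ((QuotientGroup.mk' T) g)
    have : ((w⁻¹ * g⁻¹ * w * g : P) : P ⧸ T)
        = ((QuotientGroup.mk' T) w)⁻¹ * ((QuotientGroup.mk' T) g)⁻¹ *
          ((QuotientGroup.mk' T) w * (QuotientGroup.mk' T) g) := by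
      simp [mul_assoc]
    rw [this, ← h1]; group
  -- w ∈ E
  have hwE : w ∈ E := hX (mem_cq.2 (fun e _ => hcomm e))
  -- y ∉ K
  obtain ⟨y, -, hyK⟩ := SetLike.exists_of_lt (lt_top_iff_ne_top.2 hKtop)
  have hwF : w ∈ cj y E := by
    rw [mem_cj]
    have h1 := hcomm y
    have h2 := E.mul_mem hwE (hTE h1)
    simpa [mul_assoc] using h2
  have hsup := h.sup_cj_eq hP hEK.le hKtop hyK
  -- w centralizes E ⊔ cj y E = K
  apply hwT
  have h1 : E ≤ Subgroup.centralizer ({w} : Set P) := by
    intro e he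
    rw [Subgroup.mem_centralizer_singleton_iff]
    exact h.comm _ he _ hwE
  have h2 : cj y E ≤ Subgroup.centralizer ({w} : Set P) := by
    intro e he
    rw [Subgroup.mem_centralizer_singleton_iff]
    exact (h.of_cj y).comm _ he _ hwF
  rw [hT, Subgroup.mem_centralizer_iff]
  intro k hk
  have := (sup_le h1 h2) (hsup ▸ hk)
  rw [Subgroup.mem_centralizer_singleton_iff] at this
  exact this

theorem nilpotencyClass_congr {G G' : Type*} [Group G] [Group G'] [Group.IsNilpotent G]
    (e : G ≃* G') : Group.nilpotencyClass G' = Group.nilpotencyClass G := by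
  haveI : Group.IsNilpotent G' := Group.nilpotent_of_mulEquiv e
  apply le_antisymm
  · exact Group.nilpotencyClass_le_of_surjective e.toMonoidHom e.surjective
  · exact Group.nilpotencyClass_le_of_surjective e.symm.toMonoidHom e.symm.surjective

/-- `cl(K) = cl(K/Z(K)) + 1`, with `K/Z(K)` realised as the image of `K` in `P/C_P(K)`. -/
theorem nilpotencyClass_eq_qm_add_one (K : Subgroup P) [hKn : K.Normal]
    [Group.IsNilpotent ↥K] [Nontrivial ↥K] :
    Group.nilpotencyClass ↥K
      = Group.nilpotencyClass ↥(qm (Subgroup.centralizer (K : Set P)) K) + 1 := by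
  set T := Subgroup.centralizer (K : Set P) with hT
  let φ : ↥K →* ↥(qm T K) := (QuotientGroup.mk' T).subgroupMap K
  have hsurj : Function.Surjective φ := MonoidHom.subgroupMap_surjective _ _
  have hker : φ.ker = Subgroup.center ↥K := by
    ext x
    rw [MonoidHom.mem_ker, Subgroup.mem_center_iff]
    constructor
    · intro hx k
      have h1 : ((QuotientGroup.mk' T) (x : P)) = 1 := congrArg Subtype.val hx
      have h2 : (x : P) ∈ T := (QuotientGroup.eq_one_iff _).1 h1
      rw [hT, Subgroup.mem_centralizer_iff] at h2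
      exact Subtype.ext (h2 k k.2)
    · intro hx
      apply Subtype.ext
      have h2 : (x : P) ∈ T := by
        rw [hT, Subgroup.mem_centralizer_iff]
        intro k hk
        exact congrArg Subtype.val (hx ⟨k, hk⟩)
      have h1 : ((QuotientGroup.mk' T) (x : P)) = 1 := (QuotientGroup.eq_one_iff _).2 h2
      exact h1
  let e : (↥K ⧸ Subgroup.center ↥K) ≃* ↥(qm T K) :=
    (QuotientGroup.quotientMulEquivOfEq hker.symm).trans
      (QuotientGroup.quotientKerEquivOfSurjective φ hsurj)
  rw [Group.nilpotencyClass_eq_quotient_center_plus_one (G := ↥K), nilpotencyClass_congr e]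

theorem classB (p : ℕ) [Fact p.Prime] : ∀ (n : ℕ) (P : Type u) [Group P] [Finite P],
    Nat.card P ≤ n → IsPGroup p P → ∀ (E K : Subgroup P) (i : ℕ), IsSoft p E → E ≤ K →
      K.index = p → E.relIndex K = p ^ i → Group.nilpotencyClass ↥K = i + 1 := by
  intro n
  induction n with
  | zero =>
    intro P _ _ hcard
    exact absurd hcard (by have := Nat.card_pos (α := P); omega)
  | succ n ih =>
    intro P _ _ hcard hP E K i h hEK hKidx hrel
    have hp : p.Prime := Fact.out
    haveI : Group.IsNilpotent ↥K := (hP.to_subgroup K).isNilpotent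
    have hKtop : K ≠ ⊤ := by
      intro h1
      rw [h1, Subgroup.index_top] at hKidx
      exact hp.one_lt.ne hKidx
    have hCE := h.chainProp hP
    have hKn : K.Normal := by
      have h1 := hCE.2 K hEK hKtop
      have h2 := Subgroup.relIndex_mul_index (Subgroup.le_normalizer (H := K))
      rw [h1, hKidx] at h2
      have h3 : (Subgroup.normalizer (K : Set P)).index = 1 := by
        have hp0 := hp.pos
        nlinarith [mul_one p]
      rw [Subgroup.index_eq_one] at h3
      exact Subgroup.normalizer_eq_top_iff.1 h3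
    haveI : Nontrivial P := by
      by_contra hnt
      rw [not_nontrivial_iff_subsingleton] at hnt
      exact h.ne_top (Subsingleton.elim _ _)
    have hZbot : Subgroup.center P ≠ ⊥ := ne_of_gt hP.bot_lt_center
    have hZE : Subgroup.center P ≤ E := (Subgroup.center_le_centralizer _).trans h.cent
    haveI : Nontrivial ↥K := by
      rw [Subgroup.nontrivial_iff_ne_bot]
      intro h1
      apply hZbot
      exact le_bot_iff.1 (h1 ▸ (hZE.trans hEK))
    cases i with
    | zero =>
      have hKE' : K ≤ E := Subgroup.relIndex_eq_one.1 (by simpa using hrel)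
      have h1 : Group.nilpotencyClass ↥K ≤ 1 := by
        rw [Group.IsNilpotent.nilpotencyClass_le_one_iff]
        exact ⟨⟨fun a b => Subtype.ext (h.comm a (hKE' a.2) b (hKE' b.2))⟩⟩
      have h0 : Group.nilpotencyClass ↥K ≠ 0 := by
        rw [Ne, Group.nilpotencyClass_zero_iff_subsingleton]
        exact not_subsingleton _
      omega
    | succ j =>
      have hElt : E < K := by
        refine lt_of_le_of_ne hEK ?_
        intro h1
        have h2 : E.relIndex K = 1 := Subgroup.relIndex_eq_one.2 (le_of_eq h1.symm)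
        rw [hrel] at h2
        have h3 : 1 < p ^ (j + 1) := Nat.one_lt_pow (Nat.succ_ne_zero j) hp.one_lt
        exact (ne_of_gt h3) h2
      set T := Subgroup.centralizer (K : Set P) with hT
      haveI : T.Normal := Subgroup.normal_centralizer
      have hTE : T ≤ E := (Subgroup.centralizer_le (by exact_mod_cast hEK)).trans h.cent
      have hTK : T ≤ K := hTE.trans hEK
      have hTbot : T ≠ ⊥ := by
        intro h1
        apply hZbot
        exact le_bot_iff.1 (h1 ▸ Subgroup.center_le_centralizer _)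
      set N₁ := Subgroup.normalizer (E : Set P) with hN₁
      have hN1K : N₁ ≤ K := h.normalizer_le_of_lt hP hElt
      have hN1top : N₁ ≠ ⊤ := fun h1 => hKtop (top_le_iff.1 (h1 ▸ hN1K))
      have hX := h.normalizer_le_cq_centralizer hP hElt hKtop
      have hs := h.qm_normalizer_of_le_cq hP hTE hX hN1top
      have hcardq : Nat.card (P ⧸ T) ≤ n := by
        have := card_quot_lt T hTbot
        omega
      have hTN : T ≤ N₁ := hTE.trans Subgroup.le_normalizer
      have hrel' : N₁.relIndex K = p ^ j := by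
        have h1 := Subgroup.relIndex_mul_relIndex E N₁ K Subgroup.le_normalizer hN1K
        rw [h.idx, hrel, pow_succ, mul_comm] at h1
        exact Nat.eq_of_mul_eq_mul_right hp.pos h1
      have hIH := ih (P ⧸ T) hcardq (hP.to_quotient T) (qm T N₁) (qm T K) j hs (qm_mono hN1K)
        ((index_qm hTK).trans hKidx) ((relIndex_qm hTN hTK).trans hrel')
      rw [nilpotencyClass_eq_qm_add_one K, hIH]

theorem IsSoft.subgroupOf {p : ℕ} [Fact p.Prime] [Finite P] (hP : IsPGroup p P)
    {E Q : Subgroup P} (h : IsSoft p E) (hEQ : E < Q) : IsSoft p (E.subgroupOf Q) := by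
  have hNQ := h.normalizer_le_of_lt hP hEQ
  refine ⟨?_, ?_, ?_⟩
  · intro a ha b hb
    exact Subtype.ext (h.comm _ (Subgroup.mem_subgroupOf.1 ha) _ (Subgroup.mem_subgroupOf.1 hb))
  · intro x hx
    rw [Subgroup.mem_subgroupOf]
    apply h.cent
    rw [Subgroup.mem_centralizer_iff] at hx ⊢
    intro e he
    have := hx ⟨e, hEQ.le he⟩ (Subgroup.mem_subgroupOf.2 he)
    exact congrArg Subtype.val this
  · rw [← Subgroup.subgroupOf_normalizer_eq hEQ.le, Subgroup.relIndex_subgroupOf hNQ]
    exact h.idx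

/-- Theorem B: class of the `i`-th tower member. -/
theorem IsSoft.nilpotencyClass_eq {p : ℕ} [Fact p.Prime] [Finite P] (hP : IsPGroup p P)
    {E K : Subgroup P} (h : IsSoft p E) (hEK : E ≤ K) (hKtop : K ≠ ⊤) {i : ℕ}
    (hidx : K.index * p ^ i = E.index) : Group.nilpotencyClass ↥K = i + 1 := by
  have hp : p.Prime := Fact.out
  have hCE := h.chainProp hP
  set Q := Subgroup.normalizer (K : Set P) with hQ
  have hKQ : K ≤ Q := Subgroup.le_normalizer
  have hrelQ : K.relIndex Q = p := hCE.2 K hEK hKtop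
  have hKltQ : K < Q := by
    refine lt_of_le_of_ne hKQ ?_
    intro h1
    have h2 : K.relIndex Q = 1 := Subgroup.relIndex_eq_one.2 (le_of_eq h1.symm)
    rw [hrelQ] at h2
    exact hp.one_lt.ne' h2
  have hEQ : E < Q := lt_of_le_of_lt hEK hKltQ
  have hs := h.subgroupOf hP hEQ
  have hrel : E.relIndex K = p ^ i := by
    have h1 := Subgroup.relIndex_mul_index hEK
    rw [← hidx, mul_comm] at h1
    have h2 : K.index ≠ 0 := Subgroup.index_ne_zero_of_finite
    exact Nat.eq_of_mul_eq_mul_left (Nat.pos_of_ne_zero h2) h1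
  have hcl := classB p (Nat.card ↥Q) ↥Q le_rfl (hP.to_subgroup Q) (E.subgroupOf Q)
    (K.subgroupOf Q) i hs
    (by intro x hx; exact Subgroup.mem_subgroupOf.2 (hEK (Subgroup.mem_subgroupOf.1 hx)))
    hrelQ ((Subgroup.relIndex_subgroupOf hKQ).trans hrel)
  haveI : Group.IsNilpotent ↥(K.subgroupOf Q) :=
    ((hP.to_subgroup Q).to_subgroup (K.subgroupOf Q)).isNilpotent
  rw [nilpotencyClass_congr (Subgroup.subgroupOfEquivOfLe hKQ), hcl]

end thmB

end Cfsg.Agent.Lib.Helper10.Soft
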