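import Mathlib
import Cfsg.Agent.Lib.Helper5.RegNilD

/-!
# Splitting of a conjugacy class of regular elements in a "unitary" group of an anti-involution
-/

set_option autoImplicit false

namespace Cfsg.Agent.Lib.Helper10.SpReg

open Matrix Cfsg.Agent.Lib.Helper5.RegNil

variable {F : Type*} [Field F] {ι : Type*} [Fintype ι] [DecidableEq ι]
variable {Y : Matrix ι ι F} {n : ℕ} {w : ι → F} {σ : Matrix ι ι F →ₗ[F] Matrix ι ι F}

theorem tau_smul (R : Reg Y n w σ) (c : F) (g : Cen Y) : R.tau (c • g) = c • R.tau g := by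
  apply Subtype.ext
  show σ (c • g.1) = c • σ g.1
  rw [map_smul]

theorem rho_smul (R : Reg Y n w σ) (c : F) (g : Cen Y) : R.rho (c • g) = c * R.rho g := by
  rw [Reg.rho_apply]
  apply R.rhoFun_eq
  show (c • g.1).mulVec w = _
  rw [Matrix.smul_mulVec, R.rhoFun_spec g, smul_smul]
  rfl

theorem rho_of_eigen (R : Reg Y n w σ) (g : Cen Y) (a : F) (h : g.1.mulVec w = a • w) :
    R.rho g = a := by
  rw [Reg.rho_apply]
  exact R.rhoFun_eq g a h

/-- square roots of self-adjoint elements of the commutant with square residue. -/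
theorem exists_sqrt [Finite F] (R : Reg Y n w σ) (h2 : (2 : F) ≠ 0) (e : Cen Y)
    (he : R.tau e = e) (t : F) (ht : t ≠ 0) (hρ : R.rho e = t ^ 2) :
    ∃ h : Cen Y, R.tau h = h ∧ h * h = e := by
  classical
  let A := {x : Cen Y // R.tau x = x ∧ R.rho x = 1}
  have : Finite (Cen Y) := Finite.of_injective (fun x : Cen Y => x.1) Subtype.val_injective
  have : Finite A := Subtype.finite
  let sq : A → A := fun x => ⟨x.1 * x.1, by rw [map_mul, x.2.1], by rw [map_mul, x.2.2, mul_one]⟩
  have hinj : Function.Injective sq := by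
    intro x y hxy
    have h1 : x.1 * x.1 = y.1 * y.1 := congrArg Subtype.val hxy
    have h3 : (x.1 - y.1) * (x.1 + y.1) = 0 := by
      rw [sub_mul, mul_add, mul_add, h1, R.comm y.1 x.1]
      abel
    have hu : IsUnit (x.1 + y.1) := R.isUnit_of_rho _ (by
      rw [map_add, x.2.2, y.2.2, one_add_one_eq_two]
      exact h2)
    have h4 : x.1 - y.1 = 0 := hu.mul_left_eq_zero.1 h3
    exact Subtype.ext (sub_eq_zero.1 h4)
  have hsurj : Function.Surjective sq := Finite.surjective_of_injective hinj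
  have ht2 : t ^ 2 ≠ 0 := pow_ne_zero 2 ht
  let e₁ : A := ⟨(t ^ 2)⁻¹ • e, by rw [tau_smul, he], by
    rw [rho_smul, hρ, inv_mul_cancel₀ ht2]⟩
  obtain ⟨x, hx⟩ := hsurj e₁
  refine ⟨t • x.1, by rw [tau_smul, x.2.1], ?_⟩
  have h5 : x.1 * x.1 = (t ^ 2)⁻¹ • e := congrArg Subtype.val hx
  rw [smul_mul_smul_comm, h5, smul_smul, ← pow_two, mul_inv_cancel₀ ht2, one_smul]

/-- the inverse of an element of the commutant is in the commutant. -/
theorem inv_comm (c d : Matrix ι ι F) (hc : c * Y = Y * c) (h1 : c * d = 1) (h2 : d * c = 1) :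
    d * Y = Y * d := by
  calc d * Y = d * Y * (c * d) := by rw [h1, mul_one]
    _ = d * (Y * c) * d := by simp only [mul_assoc]
    _ = d * (c * Y) * d := by rw [hc]
    _ = (d * c) * Y * d := by simp only [mul_assoc]
    _ = Y * d := by rw [h2, one_mul]

section conj

variable (R : Reg Y n w σ) (U₀ : Matrix ι ι F) (hU₀ : U₀ * σ U₀ = 1)

include R hU₀ in
/-- the Gram element of a transporter lies in the commutant. -/
theorem gram_comm (g gi : Matrix ι ι F) (h1 : g * gi = 1) (h1' : gi * g = 1)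
    (hX : (g * U₀ * gi) * σ (g * U₀ * gi) = 1) :
    (σ g * g) * U₀ = U₀ * (σ g * g) := by
  have hX' : σ (g * U₀ * gi) * (g * U₀ * gi) = 1 := mul_eq_one_comm.mp hX
  have hV : σ U₀ * U₀ = 1 := mul_eq_one_comm.mp hU₀
  rw [R.hσmul, R.hσmul] at hX'
  have hs : σ g * σ gi = 1 := by rw [← R.hσmul, h1', R.hσone]
  have h3 : σ U₀ * (σ g * g) * U₀ = σ g * g := by
    calc σ U₀ * (σ g * g) * U₀
        = (σ g * σ gi) * σ U₀ * (σ g * g) * U₀ * (gi * g) := by
          rw [hs, one_mul, h1', mul_one]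
      _ = σ g * (σ gi * (σ U₀ * σ g) * (g * U₀ * gi)) * g := by simp only [mul_assoc]
      _ = σ g * g := by rw [hX', mul_one]
  calc σ g * g * U₀ = (U₀ * σ U₀) * (σ g * g) * U₀ := by rw [hU₀, one_mul]
    _ = U₀ * (σ U₀ * (σ g * g) * U₀) := by simp only [mul_assoc]
    _ = U₀ * (σ g * g) := by rw [h3]

include R hU₀ in
/-- the classification of `σ`-unitary conjugacy inside a class of regular elements. -/
theorem conj_iff [Finite F] (h2 : (2 : F) ≠ 0)
    (hYU : ∀ g : Matrix ι ι F, g * U₀ = U₀ * g ↔ g * Y = Y * g)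
    (g gi g' gi' : Matrix ι ι F) (h1 : g * gi = 1) (h1' : gi * g = 1)
    (h3 : g' * gi' = 1) (h3' : gi' * g' = 1)
    (hX : (g * U₀ * gi) * σ (g * U₀ * gi) = 1) (hX' : (g' * U₀ * gi') * σ (g' * U₀ * gi') = 1)
    (a a' : F) (ha : (σ g * g).mulVec w = a • w) (ha' : (σ g' * g').mulVec w = a' • w) :
    (∃ s : Matrix ι ι F, s * σ s = 1 ∧ s * (g * U₀ * gi) = (g' * U₀ * gi') * s) ↔
      ∃ t : F, t ≠ 0 ∧ a = t ^ 2 * a' := by
  -- the Gram elements in the commutant
  have hc : (σ g * g) * Y = Y * (σ g * g) := (hYU _).1 (gram_comm R U₀ hU₀ g gi h1 h1' hX)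
  have hc' : (σ g' * g') * Y = Y * (σ g' * g') :=
    (hYU _).1 (gram_comm R U₀ hU₀ g' gi' h3 h3' hX')
  have hs : σ g * σ gi = 1 := by rw [← R.hσmul, h1', R.hσone]
  have hs' : σ gi * σ g = 1 := by rw [← R.hσmul, h1, R.hσone]
  have hs3 : σ g' * σ gi' = 1 := by rw [← R.hσmul, h3', R.hσone]
  have hs3' : σ gi' * σ g' = 1 := by rw [← R.hσmul, h3, R.hσone]
  have hcd : (σ g * g) * (gi * σ gi) = 1 := by
    calc (σ g * g) * (gi * σ gi) = σ g * (g * gi) * σ gi := by simp only [mul_assoc]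
      _ = 1 := by rw [h1, mul_one, hs]
  have hdc : (gi * σ gi) * (σ g * g) = 1 := by
    calc (gi * σ gi) * (σ g * g) = gi * (σ gi * σ g) * g := by simp only [mul_assoc]
      _ = 1 := by rw [hs', mul_one, h1']
  have hcd' : (σ g' * g') * (gi' * σ gi') = 1 := by
    calc (σ g' * g') * (gi' * σ gi') = σ g' * (g' * gi') * σ gi' := by simp only [mul_assoc]
      _ = 1 := by rw [h3, mul_one, hs3]
  have hdc' : (gi' * σ gi') * (σ g' * g') = 1 := by
    calc (gi' * σ gi') * (σ g' * g') = gi' * (σ gi' * σ g') * g' := by simp only [mul_assoc]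
      _ = 1 := by rw [hs3', mul_one, h3']
  have hd' : (gi' * σ gi') * Y = Y * (gi' * σ gi') := inv_comm _ _ hc' hcd' hdc'
  let cg : Cen Y := ⟨σ g * g, (mem_Cen Y _).2 hc⟩
  let cg' : Cen Y := ⟨σ g' * g', (mem_Cen Y _).2 hc'⟩
  let dg' : Cen Y := ⟨gi' * σ gi', (mem_Cen Y _).2 hd'⟩
  have hρ : R.rho cg = a := rho_of_eigen R cg a ha
  have hρ' : R.rho cg' = a' := rho_of_eigen R cg' a' ha'
  have hcgdg : cg' * dg' = 1 := Subtype.ext hcd'
  have hdgcg : dg' * cg' = 1 := Subtype.ext hdc'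
  have hτcg : R.tau cg = cg := by
    apply Subtype.ext
    show σ (σ g * g) = σ g * g
    rw [R.hσmul, R.hσσ]
  have hτdg' : R.tau dg' = dg' := by
    apply Subtype.ext
    show σ (gi' * σ gi') = gi' * σ gi'
    rw [R.hσmul, R.hσσ]
  have ha0 : a ≠ 0 := by
    intro h0
    have hd : (gi * σ gi) * Y = Y * (gi * σ gi) := inv_comm _ _ hc hcd hdc
    let dg : Cen Y := ⟨gi * σ gi, (mem_Cen Y _).2 hd⟩
    have h5 : cg * dg = 1 := Subtype.ext hcd
    have h6 := congrArg R.rho h5
    rw [map_mul, hρ, h0, zero_mul, map_one] at h6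
    exact zero_ne_one h6
  constructor
  · rintro ⟨s, hs1, hs2⟩
    have hs1' : σ s * s = 1 := mul_eq_one_comm.mp hs1
    obtain ⟨hh, hhdef⟩ : ∃ hh : Matrix ι ι F, hh = gi' * s * g := ⟨_, rfl⟩
    have hhU : hh * U₀ = U₀ * hh := by
      have e1 : s * g * U₀ = g' * U₀ * gi' * s * g := by
        calc s * g * U₀ = s * (g * U₀ * gi) * g := by
              simp only [mul_assoc]
              rw [h1', mul_one]
          _ = g' * U₀ * gi' * s * g := by rw [hs2]
      calc hh * U₀ = gi' * (s * g * U₀) := by rw [hhdef]; simp only [mul_assoc]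
        _ = gi' * (g' * U₀ * gi' * s * g) := by rw [e1]
        _ = (gi' * g') * U₀ * (gi' * s * g) := by simp only [mul_assoc]
        _ = U₀ * hh := by rw [h3', one_mul, hhdef]
    have hhY : hh * Y = Y * hh := (hYU _).1 hhU
    let H : Cen Y := ⟨hh, (mem_Cen Y _).2 hhY⟩
    have hsg : s = g' * hh * gi := by
      rw [hhdef]
      calc s = (g' * gi') * s * (g * gi) := by rw [h3, one_mul, h1, mul_one]
        _ = g' * (gi' * s * g) * gi := by simp only [mul_assoc]
    have hkey : σ hh * (σ g' * g') * hh = σ g * g := by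
      have e2 : σ s = σ gi * σ hh * σ g' := by
        rw [hsg, R.hσmul, R.hσmul, mul_assoc]
      calc σ hh * (σ g' * g') * hh
          = (σ g * σ gi) * σ hh * (σ g' * g') * hh * (gi * g) := by
            rw [hs, one_mul, h1', mul_one]
        _ = σ g * ((σ gi * σ hh * σ g') * (g' * hh * gi)) * g := by simp only [mul_assoc]
        _ = σ g * (σ s * s) * g := by rw [← e2, ← hsg]
        _ = σ g * g := by rw [hs1', mul_one]
    have hkey' : R.tau H * cg' * H = cg := Subtype.ext hkey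
    have h7 := congrArg R.rho hkey'
    rw [map_mul, map_mul, R.rho_tau, hρ, hρ'] at h7
    refine ⟨R.rho H, ?_, ?_⟩
    · intro h0
      rw [h0, zero_mul, zero_mul] at h7
      exact ha0 h7.symm
    · rw [← h7]
      ring
  · rintro ⟨t, ht, hat⟩
    let e : Cen Y := cg * dg'
    have hτe : R.tau e = e := by
      show R.tau (cg * dg') = cg * dg'
      rw [map_mul, hτcg, hτdg']
    have hρdg' : a' * R.rho dg' = 1 := by
      have := congrArg R.rho hcgdg
      rw [map_mul, hρ', map_one] at this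
      exact this
    have hρe : R.rho e = t ^ 2 := by
      show R.rho (cg * dg') = t ^ 2
      rw [map_mul, hρ, hat, mul_assoc, hρdg', mul_one]
    obtain ⟨H, hτH, hHH⟩ := exists_sqrt R h2 e hτe t ht hρe
    have hHσ : σ H.1 = H.1 := congrArg Subtype.val hτH
    have hHcg : H * cg' * H = cg := by
      calc H * cg' * H = (H * H) * cg' := by
            rw [mul_assoc, R.comm cg' H, ← mul_assoc]
        _ = cg * (dg' * cg') := by rw [hHH]; show cg * dg' * cg' = _; rw [mul_assoc]
        _ = cg := by rw [hdgcg, mul_one]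
    have hHcg' : H.1 * (σ g' * g') * H.1 = σ g * g := congrArg Subtype.val hHcg
    have hHU : H.1 * U₀ = U₀ * H.1 := (hYU _).2 ((mem_Cen Y _).1 H.2)
    refine ⟨g' * H.1 * gi, ?_, ?_⟩
    · apply mul_eq_one_comm.mp
      rw [R.hσmul, R.hσmul, hHσ]
      calc σ gi * (H.1 * σ g') * (g' * H.1 * gi)
          = σ gi * (H.1 * (σ g' * g') * H.1) * gi := by simp only [mul_assoc]
        _ = σ gi * (σ g * g) * gi := by rw [hHcg']
        _ = (σ gi * σ g) * (g * gi) := by simp only [mul_assoc]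
        _ = 1 := by rw [hs', h1, mul_one]
    · calc g' * H.1 * gi * (g * U₀ * gi) = g' * H.1 * (gi * g) * U₀ * gi := by
            simp only [mul_assoc]
        _ = g' * (H.1 * U₀) * gi := by rw [h1', mul_one]; simp only [mul_assoc]
        _ = g' * (U₀ * H.1) * gi := by rw [hHU]
        _ = g' * U₀ * (gi' * g') * H.1 * gi := by rw [h3', mul_one]; simp only [mul_assoc]
        _ = g' * U₀ * gi' * (g' * H.1 * gi) := by simp only [mul_assoc]

end conj

end Cfsg.Agent.Lib.Helper10.SpReg
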