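import Mathlib
import Cfsg.Agent.Lib.Helper10.SpRegB
import Cfsg.Agent.Lib.Helper10.SpRegC
import Cfsg.Agent.Lib.Helper5.RegNilF

/-!
# Regular unipotent classes of `Sp_2m(q)`, `q` odd
-/

set_option autoImplicit false

namespace Cfsg.Agent.Lib.Helper10.SpReg

open Matrix Cfsg.Agent.Lib.Helper5.RegNil

variable {F : Type*} [Field F] {m : ℕ}

/-- the regular data attached to a regular unipotent symplectic matrix. -/
theorem exists_reg_data (h2 : (2 : F) ≠ 0) (hm : 1 ≤ m)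
    (U : Matrix (Fin m ⊕ Fin m) (Fin m ⊕ Fin m) F) (hUmem : U ∈ symplecticGroup (Fin m) F)
    (hnil : (U - 1) ^ (2 * m) = 0) (hreg : (U - 1).rank = 2 * m - 1) :
    ∃ (Y : Matrix (Fin m ⊕ Fin m) (Fin m ⊕ Fin m) F) (w : Fin m ⊕ Fin m → F),
      Reg Y (2 * m) w sAdj ∧
      ∀ g : Matrix (Fin m ⊕ Fin m) (Fin m ⊕ Fin m) F, g * U = U * g ↔ g * Y = Y * g := by
  classical
  set V : Matrix (Fin m ⊕ Fin m) (Fin m ⊕ Fin m) F := sAdj U with hV
  have hUV : U * V = 1 := (mem_symplectic_iff_sAdj U).1 hUmem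
  have hVU : V * U = 1 := mul_eq_one_comm.mp hUV
  have hcUV : Commute U V := by
    show U * V = V * U
    rw [hUV, hVU]
  set N : Matrix (Fin m ⊕ Fin m) (Fin m ⊕ Fin m) F := U - 1 with hN
  set Y : Matrix (Fin m ⊕ Fin m) (Fin m ⊕ Fin m) F := U - V with hY
  have hσY : sAdj Y = -Y := by
    rw [hY, map_sub, hV, sAdj_sAdj]
    abel
  have hYfac : Y = N * (V * (U + 1)) := by
    rw [hN, hY, ← mul_assoc, sub_mul, one_mul, hUV, sub_mul, one_mul, mul_add, mul_one, hVU]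
    abel
  have hcNV : Commute N V := (hcUV.sub_left (Commute.one_left V))
  have hcNU1 : Commute N (U + 1) :=
    ((Commute.refl U).sub_left (Commute.one_left U)).add_right
      ((Commute.one_right U).sub_left (Commute.one_left 1))
  have hcNW : Commute N (V * (U + 1)) := hcNV.mul_right hcNU1
  have hYn : Y ^ (2 * m) = 0 := by
    rw [hYfac, hcNW.mul_pow, hnil, zero_mul]
  have hdetV : IsUnit V.det := Matrix.isUnit_det_of_left_inverse hUV
  have hdetU1 : IsUnit (U + 1).det := by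
    rw [← Matrix.isUnit_iff_isUnit_det]
    have hnilN : IsNilpotent N := ⟨2 * m, hnil⟩
    have hu : IsUnit (algebraMap F (Matrix (Fin m ⊕ Fin m) (Fin m ⊕ Fin m) F) 2) :=
      (IsUnit.mk0 (2 : F) h2).map _
    have h3 := hnilN.isUnit_add_left_of_commute hu (Algebra.commute_algebraMap_right 2 N)
    have h4 : algebraMap F (Matrix (Fin m ⊕ Fin m) (Fin m ⊕ Fin m) F) 2 + N = U + 1 := by
      rw [map_ofNat, hN, ← one_add_one_eq_two]
      abel
    rw [h4] at h3
    exact h3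
  have hrank : Y.rank = 2 * m - 1 := by
    rw [hYfac, Matrix.rank_mul_eq_left_of_isUnit_det _ _ (by
      rw [Matrix.det_mul]
      exact hdetV.mul hdetU1), hreg]
  have hcard : Fintype.card (Fin m ⊕ Fin m) = 2 * m := card_sum_fin
  obtain ⟨⟨w, hw, hYw⟩, hind, hrep⟩ := matrix_regular Y (n := 2 * m) (by omega) hcard hYn hrank
  have R : Reg Y (2 * m) w sAdj :=
    ⟨by omega, hYn, hw, hYw, hind, hrep, sAdj_mul, sAdj_one, sAdj_sAdj, hσY⟩
  have hUY : U * Y = Y * U := by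
    rw [hY, mul_sub, sub_mul, hUV, hVU]
  refine ⟨Y, w, R, ?_⟩
  intro g
  constructor
  · intro h1
    have h3 : g * V = V * g := by
      calc g * V = V * (U * g) * V := by
            rw [← mul_assoc, hVU, one_mul]
        _ = V * g := by rw [← h1, mul_assoc, mul_assoc, hUV, mul_one]
    rw [hY, mul_sub, sub_mul, h1, h3]
  · intro hg
    exact comm_of_comm Y hrep g U hg hUY

/-- the standard similitude of multiplier `a`. -/
def Dm (m : ℕ) (a : F) : Matrix (Fin m ⊕ Fin m) (Fin m ⊕ Fin m) F :=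
  Matrix.fromBlocks (a • 1) 0 0 1

theorem sAdj_Dm (a : F) : sAdj (Dm m a) = Matrix.fromBlocks 1 0 0 (a • 1) := by
  rw [sAdj_apply]
  unfold Dm Matrix.J
  simp only [Matrix.fromBlocks_transpose, Matrix.fromBlocks_neg, Matrix.fromBlocks_multiply,
    Matrix.transpose_zero, Matrix.transpose_one, Matrix.transpose_smul,
    Matrix.zero_mul, Matrix.mul_zero, Matrix.neg_mul, Matrix.mul_neg, Matrix.one_mul,
    Matrix.mul_one, neg_neg, neg_zero, add_zero, zero_add]

theorem Dm_mul_Dm (a b : F) : Dm m a * Dm m b = Dm m (a * b) := by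
  unfold Dm
  rw [Matrix.fromBlocks_multiply]
  simp only [Matrix.zero_mul, Matrix.mul_zero, add_zero, zero_add, Matrix.mul_one,
    Matrix.smul_mul, Matrix.one_mul, smul_smul]

theorem Dm_one : Dm m (1 : F) = 1 := by
  unfold Dm
  rw [one_smul, Matrix.fromBlocks_one]

theorem sAdj_Dm_mul (a : F) : sAdj (Dm m a) * Dm m a = a • 1 := by
  rw [sAdj_Dm]
  unfold Dm
  rw [Matrix.fromBlocks_multiply]
  simp only [Matrix.zero_mul, Matrix.mul_zero, add_zero, zero_add, Matrix.mul_one,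
    Matrix.one_mul]
  rw [← Matrix.fromBlocks_one, Matrix.fromBlocks_smul, smul_zero]

theorem Dm_mul_sAdj (a : F) : Dm m a * sAdj (Dm m a) = a • 1 := by
  rw [sAdj_Dm]
  unfold Dm
  rw [Matrix.fromBlocks_multiply]
  simp only [Matrix.zero_mul, Matrix.mul_zero, add_zero, zero_add, Matrix.mul_one,
    Matrix.one_mul]
  rw [← Matrix.fromBlocks_one, Matrix.fromBlocks_smul, smul_zero]

/-- conjugation preserves regular nilpotency. -/
theorem reg_conj {ι : Type*} [Fintype ι] [DecidableEq ι] (g gi U : Matrix ι ι F)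
    (h1 : g * gi = 1) (h1' : gi * g = 1) (k r : ℕ) (hnil : (U - 1) ^ k = 0)
    (hrank : (U - 1).rank = r) :
    (g * U * gi - 1) ^ k = 0 ∧ (g * U * gi - 1).rank = r := by
  have e : g * U * gi - 1 = g * (U - 1) * gi := by
    rw [mul_sub, sub_mul, mul_one, h1]
  have hp : ∀ j : ℕ, (g * (U - 1) * gi) ^ j = g * (U - 1) ^ j * gi := by
    intro j
    induction j with
    | zero => rw [pow_zero, pow_zero, mul_one, h1]
    | succ j ih =>
      rw [pow_succ, ih, pow_succ]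
      calc g * (U - 1) ^ j * gi * (g * (U - 1) * gi)
          = g * (U - 1) ^ j * (gi * g) * (U - 1) * gi := by simp only [mul_assoc]
        _ = g * ((U - 1) ^ j * (U - 1)) * gi := by rw [h1', mul_one]; simp only [mul_assoc]
  constructor
  · rw [e, hp, hnil, mul_zero, zero_mul]
  · rw [e, Matrix.rank_mul_eq_left_of_isUnit_det _ _ (Matrix.isUnit_det_of_left_inverse h1),
      Matrix.rank_mul_eq_right_of_isUnit_det _ _ (Matrix.isUnit_det_of_left_inverse h1'), hrank]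

/-- conjugacy in the symplectic group in matrix terms. -/
theorem isConj_symplectic_iff (A B : symplecticGroup (Fin m) F) :
    IsConj A B ↔ ∃ s : Matrix (Fin m ⊕ Fin m) (Fin m ⊕ Fin m) F, s * sAdj s = 1 ∧
      s * (A : Matrix (Fin m ⊕ Fin m) (Fin m ⊕ Fin m) F) =
        (B : Matrix (Fin m ⊕ Fin m) (Fin m ⊕ Fin m) F) * s := by
  rw [isConj_iff]
  constructor
  · rintro ⟨c, hc⟩
    rw [mul_inv_eq_iff_eq_mul] at hc
    refine ⟨c.1, (mem_symplectic_iff_sAdj _).1 c.2, ?_⟩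
    exact congrArg Subtype.val hc
  · rintro ⟨s, hs1, hs2⟩
    refine ⟨⟨s, (mem_symplectic_iff_sAdj _).2 hs1⟩, ?_⟩
    rw [mul_inv_eq_iff_eq_mul]
    exact Subtype.ext hs2

theorem main [Fintype F] {q : ℕ} (hF : Fintype.card F = q) (hq : Odd q) (hm : 1 ≤ m) :
    Nat.card {C : ConjClasses ↥(Matrix.symplecticGroup (Fin m) F) //
      ∃ u : Matrix.symplecticGroup (Fin m) F, ConjClasses.mk u = C ∧
        ((u : Matrix (Fin m ⊕ Fin m) (Fin m ⊕ Fin m) F) - 1) ^ (2 * m) = 0 ∧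
        ((u : Matrix (Fin m ⊕ Fin m) (Fin m ⊕ Fin m) F) - 1).rank = 2 * m - 1} = 2 := by
  classical
  have h2 : (2 : F) ≠ 0 := by
    apply Ring.two_ne_zero
    intro h
    have := FiniteField.even_card_of_char_two h
    rw [hF] at this
    rw [Nat.odd_iff] at hq
    omega
  obtain ⟨u₀, hu₀nil, hu₀rank⟩ := exists_reg_symplectic (F := F) h2 hm
  obtain ⟨U₀, hU₀def⟩ : ∃ U₀ : Matrix (Fin m ⊕ Fin m) (Fin m ⊕ Fin m) F, U₀ = u₀.1 := ⟨_, rfl⟩
  have hU₀mem : U₀ ∈ symplecticGroup (Fin m) F := by rw [hU₀def]; exact u₀.2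
  have hU₀nil : (U₀ - 1) ^ (2 * m) = 0 := by rw [hU₀def]; exact hu₀nil
  have hU₀rank : (U₀ - 1).rank = 2 * m - 1 := by rw [hU₀def]; exact hu₀rank
  have hU₀ : U₀ * sAdj U₀ = 1 := (mem_symplectic_iff_sAdj U₀).1 hU₀mem
  obtain ⟨Y, w, R, hYU⟩ := exists_reg_data h2 hm U₀ hU₀mem hU₀nil hU₀rank
  -- similitude conjugates
  have hDD : ∀ a : Fˣ, Dm m (a : F) * Dm m ((a⁻¹ : Fˣ) : F) = 1 := by
    intro a
    rw [Dm_mul_Dm, ← Units.val_mul, mul_inv_cancel, Units.val_one, Dm_one]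
  have hDD' : ∀ a : Fˣ, Dm m ((a⁻¹ : Fˣ) : F) * Dm m (a : F) = 1 := by
    intro a
    rw [Dm_mul_Dm, ← Units.val_mul, inv_mul_cancel, Units.val_one, Dm_one]
  let X : Fˣ → Matrix (Fin m ⊕ Fin m) (Fin m ⊕ Fin m) F :=
    fun a => Dm m (a : F) * U₀ * Dm m ((a⁻¹ : Fˣ) : F)
  have hXu : ∀ a : Fˣ, X a * sAdj (X a) = 1 := by
    intro a
    show Dm m (a : F) * U₀ * Dm m ((a⁻¹ : Fˣ) : F) *
      sAdj (Dm m (a : F) * U₀ * Dm m ((a⁻¹ : Fˣ) : F)) = 1
    rw [sAdj_mul, sAdj_mul]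
    calc Dm m (a : F) * U₀ * Dm m ((a⁻¹ : Fˣ) : F) *
          (sAdj (Dm m ((a⁻¹ : Fˣ) : F)) * (sAdj U₀ * sAdj (Dm m (a : F))))
        = Dm m (a : F) * U₀ * (Dm m ((a⁻¹ : Fˣ) : F) * sAdj (Dm m ((a⁻¹ : Fˣ) : F))) *
            sAdj U₀ * sAdj (Dm m (a : F)) := by simp only [mul_assoc]
      _ = ((a⁻¹ : Fˣ) : F) • (Dm m (a : F) * (U₀ * sAdj U₀) * sAdj (Dm m (a : F))) := by
          rw [Dm_mul_sAdj]
          simp only [Matrix.mul_smul, Matrix.smul_mul, mul_one, mul_assoc]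
      _ = 1 := by
          rw [hU₀, mul_one, Dm_mul_sAdj, smul_smul, ← Units.val_mul, inv_mul_cancel,
            Units.val_one, one_smul]
  have hXmem : ∀ a : Fˣ, X a ∈ symplecticGroup (Fin m) F :=
    fun a => (mem_symplectic_iff_sAdj _).2 (hXu a)
  have hXreg : ∀ a : Fˣ, (X a - 1) ^ (2 * m) = 0 ∧ (X a - 1).rank = 2 * m - 1 :=
    fun a => reg_conj _ _ U₀ (hDD a) (hDD' a) _ _ hU₀nil hU₀rank
  have hXinv : ∀ a : Fˣ, (sAdj (Dm m (a : F)) * Dm m (a : F)).mulVec w = (a : F) • w := by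
    intro a
    rw [sAdj_Dm_mul, Matrix.smul_mulVec, Matrix.one_mulVec]
  let T := {C : ConjClasses ↥(Matrix.symplecticGroup (Fin m) F) //
      ∃ u : Matrix.symplecticGroup (Fin m) F, ConjClasses.mk u = C ∧
        ((u : Matrix (Fin m ⊕ Fin m) (Fin m ⊕ Fin m) F) - 1) ^ (2 * m) = 0 ∧
        ((u : Matrix (Fin m ⊕ Fin m) (Fin m ⊕ Fin m) F) - 1).rank = 2 * m - 1}
  let Φ₀ : Fˣ → T := fun a => ⟨ConjClasses.mk ⟨X a, hXmem a⟩, ⟨⟨X a, hXmem a⟩, rfl, hXreg a⟩⟩
  let H : Subgroup Fˣ := (powMonoidHom 2 : Fˣ →* Fˣ).range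
  have key : ∀ a a' : Fˣ, Φ₀ a = Φ₀ a' ↔ a⁻¹ * a' ∈ H := by
    intro a a'
    rw [Subtype.ext_iff]
    show ConjClasses.mk (⟨X a, hXmem a⟩ : symplecticGroup (Fin m) F) =
      ConjClasses.mk ⟨X a', hXmem a'⟩ ↔ _
    rw [ConjClasses.mk_eq_mk_iff_isConj, isConj_symplectic_iff]
    show (∃ s : Matrix (Fin m ⊕ Fin m) (Fin m ⊕ Fin m) F, s * sAdj s = 1 ∧ s * X a = X a' * s) ↔ _
    rw [conj_iff R U₀ hU₀ h2 hYU _ _ _ _ (hDD a) (hDD' a) (hDD a') (hDD' a') (hXu a) (hXu a')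
      (a : F) (a' : F) (hXinv a) (hXinv a')]
    constructor
    · rintro ⟨t, ht, hat⟩
      refine ⟨(Units.mk0 t ht)⁻¹, ?_⟩
      rw [powMonoidHom_apply]
      apply Units.ext
      simp only [Units.val_pow_eq_pow_val, Units.val_mul, Units.val_inv_eq_inv_val, Units.val_mk0]
      rw [hat]
      have ha' : (a' : F) ≠ 0 := Units.ne_zero a'
      field_simp
    · rintro ⟨x, hx⟩
      rw [powMonoidHom_apply] at hx
      refine ⟨((x⁻¹ : Fˣ) : F), Units.ne_zero _, ?_⟩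
      have h3 : a' = x ^ 2 * a := by
        rw [hx, mul_comm (a⁻¹ * a') a, ← mul_assoc, mul_inv_cancel, one_mul]
      rw [h3]
      simp only [Units.val_pow_eq_pow_val, Units.val_mul, Units.val_inv_eq_inv_val]
      have hx0 : (x : F) ≠ 0 := Units.ne_zero x
      field_simp
  have hsurjΦ : Function.Surjective Φ₀ := by
    rintro ⟨C, u, hu, hunil, hurank⟩
    obtain ⟨g, gi, hg1, hg2, hg3⟩ := exists_intertwine (U₀ - 1) (u.1 - 1) (n := 2 * m) (by omega)
      card_sum_fin hU₀nil hU₀rank hunil hurank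
    have hgU : g * U₀ = u.1 * g := by
      have := hg3
      rw [mul_sub, sub_mul, mul_one, one_mul] at this
      exact sub_left_injective this
    have huX : u.1 = g * U₀ * gi := by
      rw [hgU, mul_assoc, hg1, mul_one]
    have hXg : (g * U₀ * gi) * sAdj (g * U₀ * gi) = 1 := by
      rw [← huX]
      exact (mem_symplectic_iff_sAdj _).1 u.2
    have hcomm : (sAdj g * g) * Y = Y * (sAdj g * g) :=
      (hYU _).1 (gram_comm R U₀ hU₀ g gi hg1 hg2 hXg)
    obtain ⟨a, ha⟩ := R.exists_eigen _ hcomm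
    have ha0 : a ≠ 0 := by
      intro h0
      have hs : sAdj g * sAdj gi = 1 := by rw [← sAdj_mul, hg2, sAdj_one]
      have hs' : sAdj gi * sAdj g = 1 := by rw [← sAdj_mul, hg1, sAdj_one]
      have h5 : (gi * sAdj gi) * (sAdj g * g) = 1 := by
        calc (gi * sAdj gi) * (sAdj g * g) = gi * (sAdj gi * sAdj g) * g := by
              simp only [mul_assoc]
          _ = 1 := by rw [hs', mul_one, hg2]
      have h6 : ((gi * sAdj gi) * (sAdj g * g)).mulVec w =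
          (1 : Matrix (Fin m ⊕ Fin m) (Fin m ⊕ Fin m) F).mulVec w := by rw [h5]
      rw [← Matrix.mulVec_mulVec, ha, h0, zero_smul, Matrix.mulVec_zero, Matrix.one_mulVec] at h6
      exact R.hw h6.symm
    refine ⟨Units.mk0 a ha0, ?_⟩
    rw [Subtype.ext_iff]
    show ConjClasses.mk (⟨X (Units.mk0 a ha0), hXmem _⟩ : symplecticGroup (Fin m) F) = C
    rw [← hu, ConjClasses.mk_eq_mk_iff_isConj, isConj_symplectic_iff]
    show ∃ s : Matrix (Fin m ⊕ Fin m) (Fin m ⊕ Fin m) F, s * sAdj s = 1 ∧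
      s * X (Units.mk0 a ha0) = u.1 * s
    rw [huX]
    rw [conj_iff R U₀ hU₀ h2 hYU _ _ _ _ (hDD _) (hDD' _) hg1 hg2 (hXu _) hXg
      ((Units.mk0 a ha0 : Fˣ) : F) a (hXinv _) ha]
    exact ⟨1, one_ne_zero, by rw [one_pow, one_mul, Units.val_mk0]⟩
  let Φ : Fˣ ⧸ H → T := Quotient.lift Φ₀ (by
    intro a b hab
    rw [key]
    exact QuotientGroup.leftRel_apply.mp hab)
  have hΦbij : Function.Bijective Φ := by
    constructor
    · intro x y
      induction x using Quotient.inductionOn with | _ a => ?_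
      induction y using Quotient.inductionOn with | _ b => ?_
      intro h
      have h' : Φ₀ a = Φ₀ b := h
      rw [key] at h'
      exact Quotient.sound (QuotientGroup.leftRel_apply.mpr h')
    · intro t
      obtain ⟨d, hd⟩ := hsurjΦ t
      exact ⟨Quotient.mk _ d, hd⟩
  rw [← Nat.card_congr (Equiv.ofBijective Φ hΦbij)]
  have hidx : H.index = (Nat.card Fˣ).gcd 2 := IsCyclic.index_powMonoidHom_range Fˣ 2
  have hcard : Nat.card Fˣ = q - 1 := by
    rw [Nat.card_eq_fintype_card, Fintype.card_units, hF]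
  rw [hcard] at hidx
  have hq1 : 2 ∣ q - 1 := by
    obtain ⟨k, hk⟩ := hq
    exact ⟨k, by omega⟩
  have hq3 : 0 < q - 1 := by
    have := Fintype.one_lt_card (α := F)
    rw [hF] at this
    omega
  have : (q - 1).gcd 2 = 2 := Nat.gcd_eq_right hq1
  rw [this] at hidx
  exact hidx

end Cfsg.Agent.Lib.Helper10.SpReg
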