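import Mathlib

set_option autoImplicit false

namespace Cfsg.Agent.Lib.Helper10.Stein

/-- Abstract Steinberg data: elements `x i j t` satisfying the Steinberg relations. -/
structure StData (n : ℕ) (K : Type*) [Field K] (G : Type*) [Group G] where
  x : Fin n → Fin n → K → G
  x_add : ∀ i j, i ≠ j → ∀ t u, x i j (t + u) = x i j t * x i j u
  x_comm : ∀ i j k l, i ≠ j → k ≠ l → i ≠ l → j ≠ k → ∀ t u,
    x i j t * x k l u = x k l u * x i j t
  x_rel : ∀ i j l, i ≠ j → j ≠ l → i ≠ l → ∀ t u,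
    x i j t * x j l u * (x i j t)⁻¹ * (x j l u)⁻¹ = x i l (t * u)

variable {n : ℕ} {K : Type*} [Field K] {G : Type*} [Group G] (S : StData n K G)

namespace StData

theorem x_zero {i j : Fin n} (h : i ≠ j) : S.x i j 0 = 1 := by
  have := S.x_add i j h 0 0
  rw [add_zero] at this
  exact left_eq_mul.mp this

theorem x_neg {i j : Fin n} (h : i ≠ j) (t : K) : (S.x i j t)⁻¹ = S.x i j (-t) := by
  apply inv_eq_of_mul_eq_one_right
  rw [← S.x_add i j h, add_neg_cancel, S.x_zero h]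

theorem cj_comm {i j k l : Fin n} (hij : i ≠ j) (hkl : k ≠ l) (hil : i ≠ l) (hjk : j ≠ k)
    (t u : K) : MulAut.conj (S.x i j t) (S.x k l u) = S.x k l u := by
  rw [MulAut.conj_apply, S.x_comm i j k l hij hkl hil hjk, mul_inv_cancel_right]

theorem cj_rel1 {i j l : Fin n} (hij : i ≠ j) (hjl : j ≠ l) (hil : i ≠ l) (t u : K) :
    MulAut.conj (S.x i j t) (S.x j l u) = S.x i l (t * u) * S.x j l u := by
  rw [MulAut.conj_apply]
  exact eq_mul_of_mul_inv_eq (S.x_rel i j l hij hjl hil t u)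

theorem cj_rel2 {i j k : Fin n} (hij : i ≠ j) (hki : k ≠ i) (hkj : k ≠ j) (t u : K) :
    MulAut.conj (S.x i j t) (S.x k i u) = S.x k j (-(t * u)) * S.x k i u := by
  have h := S.cj_rel1 hki hij hkj u t
  rw [MulAut.conj_apply] at h ⊢
  have h' : S.x k i u * S.x i j t = S.x k j (u * t) * S.x i j t * S.x k i u :=
    mul_inv_eq_iff_eq_mul.mp h
  rw [← S.x_neg hkj, mul_comm t u]
  calc S.x i j t * S.x k i u * (S.x i j t)⁻¹
      = (S.x k j (u * t))⁻¹ * (S.x k j (u * t) * S.x i j t * S.x k i u) * (S.x i j t)⁻¹ := by group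
    _ = (S.x k j (u * t))⁻¹ * (S.x k i u * S.x i j t) * (S.x i j t)⁻¹ := by rw [h']
    _ = (S.x k j (u * t))⁻¹ * S.x k i u := by group

/-- `w_ij(u)` -/
def w (i j : Fin n) (u : K) : G := S.x i j u * S.x j i (-u⁻¹) * S.x i j u

/-- `h_ij(u)` -/
def h (i j : Fin n) (u : K) : G := S.w i j u * S.w i j (-1)

theorem conj_w (a b : Fin n) (u : K) (X : G) : MulAut.conj (S.w a b u) X =
    MulAut.conj (S.x a b u) (MulAut.conj (S.x b a (-u⁻¹)) (MulAut.conj (S.x a b u) X)) := by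
  simp only [w, map_mul, MulAut.mul_apply]

theorem w_inv {i j : Fin n} (hij : i ≠ j) (u : K) : (S.w i j u)⁻¹ = S.w i j (-u) := by
  unfold w
  rw [mul_inv_rev, mul_inv_rev, S.x_neg hij, S.x_neg hij.symm, neg_neg, inv_neg, neg_neg, mul_assoc]

/-- cancel `x(a) * Y * x(b)` when `x` commutes with `Y`. -/
theorem sandwich {i j : Fin n} (hij : i ≠ j) (Y : G) (a b : K)
    (hc : ∀ t, S.x i j t * Y = Y * S.x i j t) (hab : a + b = 0) :
    S.x i j a * Y * S.x i j b = Y := by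
  rw [hc, mul_assoc, ← S.x_add i j hij, hab, S.x_zero hij, mul_one]

theorem W1 {a b k : Fin n} (hab : a ≠ b) (hak : a ≠ k) (hbk : b ≠ k) {u : K} (hu : u ≠ 0)
    (t : K) : MulAut.conj (S.w a b u) (S.x a k t) = S.x b k (-u⁻¹ * t) := by
  rw [conj_w, S.cj_comm hab hak hak hab.symm, S.cj_rel1 hab.symm hak hbk, map_mul,
    S.cj_rel1 hab hbk hak, S.cj_comm hab hak hak hab.symm]
  have e : u * (-u⁻¹ * t) + t = 0 := by field_simp; ring
  exact S.sandwich hak _ _ _ (fun s => S.x_comm a k b k hak hbk hak hbk.symm s _) e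

theorem W2 {a b k : Fin n} (hab : a ≠ b) (hak : a ≠ k) (hbk : b ≠ k) {u : K} (hu : u ≠ 0)
    (t : K) : MulAut.conj (S.w a b u) (S.x b k t) = S.x a k (u * t) := by
  rw [conj_w, S.cj_rel1 hab hbk hak, map_mul, S.cj_rel1 hab.symm hak hbk,
    S.cj_comm hab.symm hbk hbk hab]
  have e : -u⁻¹ * (u * t) + t = 0 := by field_simp; ring
  rw [S.sandwich hbk _ _ _ (fun s => S.x_comm b k a k hbk hak hbk hak.symm s _) e,
    S.cj_comm hab hak hak hab.symm]

theorem W3 {a b k : Fin n} (hab : a ≠ b) (hak : a ≠ k) (hbk : b ≠ k) {u : K} (hu : u ≠ 0)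
    (t : K) : MulAut.conj (S.w a b u) (S.x k a t) = S.x k b (-(u * t)) := by
  rw [conj_w, S.cj_rel2 hab hak.symm hbk.symm, map_mul, S.cj_rel2 hab.symm hbk.symm hak.symm,
    S.cj_comm hab.symm hak.symm hab.symm hak]
  have e : -(-u⁻¹ * -(u * t)) + t = 0 := by field_simp; ring
  rw [S.sandwich hak.symm _ _ _ (fun s => S.x_comm k a k b hak.symm hbk.symm hbk.symm hak s _) e,
    S.cj_comm hab hbk.symm hab hbk]

theorem W4 {a b k : Fin n} (hab : a ≠ b) (hak : a ≠ k) (hbk : b ≠ k) {u : K} (hu : u ≠ 0)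
    (t : K) : MulAut.conj (S.w a b u) (S.x k b t) = S.x k a (u⁻¹ * t) := by
  rw [conj_w, S.cj_comm hab hbk.symm hab hbk, S.cj_rel2 hab.symm hbk.symm hak.symm, map_mul,
    S.cj_rel2 hab hak.symm hbk.symm, S.cj_comm hab hbk.symm hab hbk]
  have e : -(u * -(-u⁻¹ * t)) + t = 0 := by field_simp; ring
  rw [S.sandwich hbk.symm _ _ _ (fun s => S.x_comm k b k a hbk.symm hak.symm hak.symm hbk s _) e]
  congr 1; ring

theorem W5 {a b k l : Fin n} (hab : a ≠ b) (hkl : k ≠ l) (hak : a ≠ k) (hbk : b ≠ k)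
    (hal : a ≠ l) (hbl : b ≠ l) (u t : K) :
    MulAut.conj (S.w a b u) (S.x k l t) = S.x k l t := by
  rw [conj_w, S.cj_comm hab hkl hal hbk, S.cj_comm hab.symm hkl hbl hak, S.cj_comm hab hkl hal hbk]

theorem x_eq_comm {i j l : Fin n} (hij : i ≠ j) (hjl : j ≠ l) (hil : i ≠ l) (t u : K) :
    S.x i l (t * u) = S.x i j t * S.x j l u * (S.x i j t)⁻¹ * (S.x j l u)⁻¹ :=
  (S.x_rel i j l hij hjl hil t u).symm

theorem W6 {a b c : Fin n} (hab : a ≠ b) (hac : a ≠ c) (hbc : b ≠ c) {u : K} (hu : u ≠ 0)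
    (t : K) : MulAut.conj (S.w a b u) (S.x a b t) = S.x b a (-(u⁻¹ * u⁻¹) * t) := by
  have h1 : S.x a b t = S.x a c t * S.x c b 1 * (S.x a c t)⁻¹ * (S.x c b 1)⁻¹ := by
    rw [← S.x_eq_comm hac hbc.symm hab, mul_one]
  rw [h1, map_mul, map_mul, map_mul, map_inv, map_inv, S.W1 hab hac hbc hu, S.W4 hab hac hbc hu,
    ← S.x_eq_comm hbc hac.symm hab.symm]
  congr 1; ring

theorem W7 {a b c : Fin n} (hab : a ≠ b) (hac : a ≠ c) (hbc : b ≠ c) {u : K} (hu : u ≠ 0)
    (t : K) : MulAut.conj (S.w a b u) (S.x b a t) = S.x a b (-(u * u) * t) := by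
  have h1 : S.x b a t = S.x b c t * S.x c a 1 * (S.x b c t)⁻¹ * (S.x c a 1)⁻¹ := by
    rw [← S.x_eq_comm hbc hac.symm hab.symm, mul_one]
  rw [h1, map_mul, map_mul, map_mul, map_inv, map_inv, S.W2 hab hac hbc hu, S.W3 hab hac hbc hu,
    ← S.x_eq_comm hac hbc.symm hab]
  congr 1; ring

theorem exists_third (hn : 3 ≤ n) (i j : Fin n) : ∃ k : Fin n, k ≠ i ∧ k ≠ j := by
  classical
  have hc : ({i, j} : Finset (Fin n)).card < (Finset.univ : Finset (Fin n)).card := by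
    rw [Finset.card_univ, Fintype.card_fin]
    exact lt_of_le_of_lt (Finset.card_insert_le _ _) (by rw [Finset.card_singleton]; omega)
  obtain ⟨k, -, hk⟩ := Finset.exists_mem_notMem_of_card_lt_card hc
  simp only [Finset.mem_insert, Finset.mem_singleton, not_or] at hk
  exact ⟨k, hk.1, hk.2⟩

/-- `g` acts on the root elements via the permutation `σ` with multipliers `m`. -/
def ActM (g : G) (σ : Equiv.Perm (Fin n)) (m : Fin n → K) : Prop :=
  (∀ i, m i ≠ 0) ∧
    ∀ i j, i ≠ j → ∀ t, MulAut.conj g (S.x i j t) = S.x (σ i) (σ j) (m i / m j * t)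

theorem ActM.one : S.ActM 1 1 (fun _ => 1) := by
  refine ⟨fun _ => one_ne_zero, fun i j _ t => ?_⟩
  simp

theorem ActM.mul {g g' : G} {σ σ' : Equiv.Perm (Fin n)} {m m' : Fin n → K}
    (h : S.ActM g σ m) (h' : S.ActM g' σ' m') :
    S.ActM (g * g') (σ * σ') (fun i => m (σ' i) * m' i) := by
  refine ⟨fun i => mul_ne_zero (h.1 _) (h'.1 _), fun i j hij t => ?_⟩
  rw [map_mul, MulAut.mul_apply, h'.2 i j hij, h.2 _ _ (σ'.injective.ne hij), Equiv.Perm.mul_apply,
    Equiv.Perm.mul_apply]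
  congr 1
  have := h.1 (σ' i); have := h.1 (σ' j); have := h'.1 i; have := h'.1 j
  field_simp

theorem ActM.inv {g : G} {σ : Equiv.Perm (Fin n)} {m : Fin n → K} (h : S.ActM g σ m) :
    S.ActM g⁻¹ σ⁻¹ (fun i => (m (σ⁻¹ i))⁻¹) := by
  refine ⟨fun i => inv_ne_zero (h.1 _), fun i j hij t => ?_⟩
  have hij' : σ⁻¹ i ≠ σ⁻¹ j := σ⁻¹.injective.ne hij
  have e := h.2 _ _ hij' ((m (σ⁻¹ i))⁻¹ / (m (σ⁻¹ j))⁻¹ * t)
  have ei : σ (σ⁻¹ i) = i := by simp
  have ej : σ (σ⁻¹ j) = j := by simp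
  rw [ei, ej] at e
  have e2 : m (σ⁻¹ i) / m (σ⁻¹ j) * ((m (σ⁻¹ i))⁻¹ / (m (σ⁻¹ j))⁻¹ * t) = t := by
    have := h.1 (σ⁻¹ i); have := h.1 (σ⁻¹ j)
    field_simp
  rw [e2] at e
  rw [← e, map_inv, MulAut.inv_apply_self]

theorem ActM.congr {g : G} {σ σ' : Equiv.Perm (Fin n)} {m m' : Fin n → K} (h : S.ActM g σ m)
    (hσ : σ = σ') (hm : ∀ i, m i = m' i) : S.ActM g σ' m' := by
  have : m = m' := funext hm
  subst hσ; subst this; exact h

/-- multipliers of `w_ab(u)` -/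
def mW (a b : Fin n) (u : K) : Fin n → K := fun i => if i = a then -u⁻¹ else if i = b then u else 1

/-- multipliers of `h_ab(u)` -/
def dH (a b : Fin n) (u : K) : Fin n → K := fun i => if i = a then u else if i = b then u⁻¹ else 1

theorem actM_w (hn : 3 ≤ n) {a b : Fin n} (hab : a ≠ b) {u : K} (hu : u ≠ 0) :
    S.ActM (S.w a b u) (Equiv.swap a b) (mW a b u) := by
  refine ⟨fun i => ?_, fun i j hij t => ?_⟩
  · unfold mW; split_ifs
    · exact neg_ne_zero.mpr (inv_ne_zero hu)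
    · exact hu
    · exact one_ne_zero
  · obtain ⟨c, hca, hcb⟩ := exists_third hn a b
    unfold mW
    by_cases hia : i = a
    · subst hia
      by_cases hjb : j = b
      · subst hjb
        rw [Equiv.swap_apply_left, Equiv.swap_apply_right, S.W6 hij hca.symm hcb.symm hu]
        simp only [if_true, if_neg hij.symm]
        congr 1; field_simp
      · rw [Equiv.swap_apply_left, Equiv.swap_apply_of_ne_of_ne hij.symm hjb,
          S.W1 hab hij (Ne.symm hjb) hu]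
        simp only [if_true, if_neg hij.symm, if_neg hjb]
        congr 1; field_simp
    · by_cases hib : i = b
      · subst hib
        by_cases hja : j = a
        · subst hja
          rw [Equiv.swap_apply_left, Equiv.swap_apply_right, S.W7 hab hca.symm hcb.symm hu]
          simp only [if_true, if_neg hab.symm]
          congr 1; field_simp
        · rw [Equiv.swap_apply_right, Equiv.swap_apply_of_ne_of_ne hja hij.symm,
            S.W2 hab (Ne.symm hja) hij hu]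
          simp only [if_true, if_neg hab.symm, if_neg hja, if_neg hij.symm]
          congr 1; field_simp
      · by_cases hja : j = a
        · subst hja
          rw [Equiv.swap_apply_of_ne_of_ne hia hib, Equiv.swap_apply_left,
            S.W3 hab hij.symm (Ne.symm hib) hu]
          simp only [if_true, if_neg hia, if_neg hib]
          congr 1; field_simp
        · by_cases hjb : j = b
          · subst hjb
            rw [Equiv.swap_apply_of_ne_of_ne hia hib, Equiv.swap_apply_right,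
              S.W4 hab (Ne.symm hia) hij.symm hu]
            simp only [if_true, if_neg hia, if_neg hib, if_neg hab.symm]
            congr 1; field_simp
          · rw [Equiv.swap_apply_of_ne_of_ne hia hib, Equiv.swap_apply_of_ne_of_ne hja hjb,
              S.W5 hab hij (Ne.symm hia) (Ne.symm hib) (Ne.symm hja) (Ne.symm hjb)]
            simp only [if_neg hia, if_neg hib, if_neg hja, if_neg hjb]
            congr 1; field_simp

theorem ActM.conj_w {g : G} {σ : Equiv.Perm (Fin n)} {m : Fin n → K} (hg : S.ActM g σ m)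
    {i j : Fin n} (hij : i ≠ j) {v : K} (hv : v ≠ 0) :
    MulAut.conj g (S.w i j v) = S.w (σ i) (σ j) (m i / m j * v) := by
  unfold w
  rw [map_mul, map_mul, hg.2 i j hij, hg.2 j i hij.symm]
  have e : m j / m i * -v⁻¹ = -(m i / m j * v)⁻¹ := by
    have := hg.1 i; have := hg.1 j
    field_simp
  rw [e]

theorem w_inv' {i j : Fin n} (hij : i ≠ j) (u : K) : S.w i j (-u) = (S.w i j u)⁻¹ :=
  (S.w_inv hij u).symm

theorem ActM.conj_h {g : G} {σ : Equiv.Perm (Fin n)} {m : Fin n → K} (hg : S.ActM g σ m)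
    {i j : Fin n} (hij : i ≠ j) {v : K} (hv : v ≠ 0) :
    MulAut.conj g (S.h i j v) =
      S.h (σ i) (σ j) (m i / m j * v) * (S.h (σ i) (σ j) (m i / m j))⁻¹ := by
  have hσ : σ i ≠ σ j := σ.injective.ne hij
  unfold h
  rw [map_mul, hg.conj_w S hij hv, hg.conj_w S hij (neg_ne_zero.mpr one_ne_zero), mul_neg, mul_one,
    S.w_inv' hσ, mul_inv_rev, S.w_inv' hσ]
  group

theorem actM_h (hn : 3 ≤ n) {a b : Fin n} (hab : a ≠ b) {u : K} (hu : u ≠ 0) :
    S.ActM (S.h a b u) 1 (dH a b u) := by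
  have h1 := (S.actM_w hn hab hu).mul S (S.actM_w hn hab (neg_ne_zero.mpr (one_ne_zero (α := K))))
  refine h1.congr S (Equiv.swap_mul_self a b) (fun i => ?_)
  unfold mW dH
  by_cases hia : i = a
  · subst hia
    rw [Equiv.swap_apply_left]
    simp [hab.symm]
  · by_cases hib : i = b
    · subst hib
      rw [Equiv.swap_apply_right]
      simp [hia]
    · simp [hia, hib, Equiv.swap_apply_of_ne_of_ne hia hib]

/-- `w_ij(u) = w_ji(-u⁻¹)` -/
theorem w_symm (hn : 3 ≤ n) {i j : Fin n} (hij : i ≠ j) {u : K} (hu : u ≠ 0) :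
    S.w i j u = S.w j i (-u⁻¹) := by
  have h1 := (S.actM_w hn hij hu).conj_w S hij hu
  rw [MulAut.conj_apply, mul_inv_cancel_right, Equiv.swap_apply_left, Equiv.swap_apply_right] at h1
  rw [h1]
  congr 1
  unfold mW
  simp only [if_true, if_neg hij.symm]
  field_simp

theorem h_one {i j : Fin n} (hij : i ≠ j) : S.h i j 1 = 1 := by
  unfold h
  rw [S.w_inv' hij, mul_inv_cancel]

/-- `h_ji(u) = h_ij(u)⁻¹` -/
theorem h_symm (hn : 3 ≤ n) {i j : Fin n} (hij : i ≠ j) {u : K} (hu : u ≠ 0) :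
    S.h j i u = (S.h i j u)⁻¹ := by
  -- conj by w_ij(-1) of w_ij(-u⁻¹) is w_ji(u⁻¹) = w_ij(-u)
  have hm1 : (-1 : K) ≠ 0 := neg_ne_zero.mpr one_ne_zero
  have h1 := (S.actM_w hn hij hm1).conj_w S hij (neg_ne_zero.mpr (inv_ne_zero hu))
  rw [Equiv.swap_apply_left, Equiv.swap_apply_right] at h1
  have e1 : mW i j (-1 : K) i / mW i j (-1 : K) j * -u⁻¹ = u⁻¹ := by
    unfold mW
    simp only [if_true, if_neg hij.symm]
    field_simp
  rw [e1, S.w_symm hn hij.symm (inv_ne_zero hu), inv_inv, MulAut.conj_apply, S.w_inv' hij,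
    inv_inv] at h1
  -- h1 : w(1)⁻¹ * w(-u⁻¹) * w(1) = w(-u)
  unfold h
  rw [S.w_symm hn hij.symm hu, S.w_symm hn hij.symm hm1, mul_inv_rev]
  have e2 : -(-1 : K)⁻¹ = 1 := by norm_num
  rw [e2, S.w_inv' hij 1, inv_inv, S.w_inv hij u, ← h1]
  group

/-- `h_ij(u) = h_kj(u) * h_ki(u)⁻¹` -/
theorem h_tri (hn : 3 ≤ n) {i j k : Fin n} (hij : i ≠ j) (hki : k ≠ i) (hkj : k ≠ j) {u : K}
    (hu : u ≠ 0) : S.h i j u = S.h k j u * (S.h k i u)⁻¹ := by
  -- w_ij(u) = conj (h_kj u) (w_ij 1)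
  have h1 := (S.actM_h hn hkj hu).conj_w S hij (one_ne_zero (α := K))
  have e1 : dH k j u i / dH k j u j * 1 = u := by
    unfold dH
    simp only [if_neg hki.symm, if_neg hij, if_true, if_neg hkj.symm]
    field_simp
  rw [e1, Equiv.Perm.one_apply, Equiv.Perm.one_apply, MulAut.conj_apply] at h1
  -- conj (w_ij 1) (h_kj u) = h_ki u
  have h2 := (S.actM_w hn hij (one_ne_zero (α := K))).conj_h S hkj hu
  have e2 : mW i j (1 : K) k / mW i j (1 : K) j = 1 := by
    unfold mW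
    simp only [if_neg hki, if_neg hkj, if_neg hij.symm, if_true]
    field_simp
  rw [e2, one_mul, Equiv.swap_apply_of_ne_of_ne hki hkj, Equiv.swap_apply_right, S.h_one hki,
    inv_one, mul_one, MulAut.conj_apply] at h2
  rw [← h2]
  have e3 : S.h i j u = S.w i j u * (S.w i j 1)⁻¹ := by
    unfold h; rw [S.w_inv' hij]
  rw [e3, ← h1]
  group

theorem y_eq {i j : Fin n} (hij : i ≠ j) {s : K} (hs : s ≠ 0) :
    S.x j i s = S.x i j s⁻¹ * S.w i j (-s⁻¹) * S.x i j s⁻¹ := by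
  unfold w
  rw [inv_neg, inv_inv, neg_neg, ← S.x_neg hij]
  group

theorem w_mul_x (hn : 3 ≤ n) {i j : Fin n} (hij : i ≠ j) {v : K} (hv : v ≠ 0) (t : K) :
    S.w i j v * S.x i j t = S.x j i (-(v⁻¹ * v⁻¹) * t) * S.w i j v := by
  obtain ⟨c, hci, hcj⟩ := exists_third hn i j
  have h := S.W6 hij hci.symm hcj.symm hv t
  rw [MulAut.conj_apply] at h
  exact mul_inv_eq_iff_eq_mul.mp h

/-- the rank one relation `w(p) w(r) = w(p²/(p+r)) w(pr/(p+r))` -/
theorem w_mul (hn : 3 ≤ n) {i j : Fin n} (hij : i ≠ j) {p r : K} (hp : p ≠ 0) (hr : r ≠ 0)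
    (hpr : p + r ≠ 0) :
    S.w i j p * S.w i j r = S.w i j (p ^ 2 / (p + r)) * S.w i j (p * r / (p + r)) := by
  set q : K := p * r / (p + r) with hq
  have hq0 : q ≠ 0 := div_ne_zero (mul_ne_zero hp hr) hpr
  set c : K := (p + r) / p ^ 2 with hc
  have hc0 : c ≠ 0 := div_ne_zero hpr (pow_ne_zero 2 hp)
  have E : S.x j i (-p⁻¹) * S.x j i (-r⁻¹) = S.x j i (-q⁻¹) := by
    rw [← S.x_add j i hij.symm]
    congr 1
    rw [hq]; field_simp; ring
  rw [S.y_eq hij (neg_ne_zero.mpr (inv_ne_zero hp)), S.y_eq hij (neg_ne_zero.mpr (inv_ne_zero hr)),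
    S.y_eq hij (neg_ne_zero.mpr (inv_ne_zero hq0))] at E
  simp only [inv_neg, inv_inv, neg_neg] at E
  -- E : x(-p) w(p) x(-p) * (x(-r) w(r) x(-r)) = x(-q) w(q) x(-q)
  have E2 : S.w i j p * S.x i j (-p + -r) * S.w i j r =
      S.x i j (p + -q) * S.w i j q * S.x i j (-q + r) := by
    rw [S.x_add i j hij, S.x_add i j hij, S.x_add i j hij]
    calc S.w i j p * (S.x i j (-p) * S.x i j (-r)) * S.w i j r
        = (S.x i j (-p))⁻¹ * (S.x i j (-p) * S.w i j p * S.x i j (-p) *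
            (S.x i j (-r) * S.w i j r * S.x i j (-r))) * (S.x i j (-r))⁻¹ := by group
      _ = (S.x i j (-p))⁻¹ * (S.x i j (-q) * S.w i j q * S.x i j (-q)) * (S.x i j (-r))⁻¹ := by
          rw [E]
      _ = S.x i j p * S.x i j (-q) * S.w i j q * (S.x i j (-q) * S.x i j r) := by
          rw [S.x_neg hij, S.x_neg hij, neg_neg, neg_neg]; group
  rw [S.w_mul_x hn hij hp, mul_assoc (S.x i j (p + -q)), S.w_mul_x hn hij hq0] at E2
  have e1 : -(p⁻¹ * p⁻¹) * (-p + -r) = c := by rw [hc]; field_simp; ring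
  have e2 : -(q⁻¹ * q⁻¹) * (-q + r) = -c := by rw [hc, hq]; field_simp; ring
  have e3 : p + -q = c⁻¹ := by rw [hc, hq]; field_simp; ring
  rw [e1, e2, e3] at E2
  -- E2 : y(c) w(p) w(r) = x(c⁻¹) (y(-c) w(q))
  have e4 : p ^ 2 / (p + r) = c⁻¹ := by rw [hc]; field_simp
  rw [e4, S.w_symm hn hij (inv_ne_zero hc0), inv_inv]
  have e5 : S.w j i (-c) = S.x j i (-c) * S.x i j c⁻¹ * S.x j i (-c) := by
    unfold w; rw [inv_neg, neg_neg]
  rw [e5, ← S.x_neg hij.symm]
  calc S.w i j p * S.w i j r = (S.x j i c)⁻¹ * (S.x j i c * S.w i j p * S.w i j r) := by group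
    _ = (S.x j i c)⁻¹ * (S.x i j c⁻¹ * (S.x j i (-c) * S.w i j q)) := by rw [E2]
    _ = (S.x j i c)⁻¹ * S.x i j c⁻¹ * (S.x j i c)⁻¹ * S.w i j q := by
        rw [← S.x_neg hij.symm]; group

end StData

end Cfsg.Agent.Lib.Helper10.Stein
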