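import Mathlib
import Cfsg.Agent.Lib.Helper10.SteinA

set_option autoImplicit false

namespace Cfsg.Agent.Lib.Helper10.Stein

section general
variable {G : Type*} [Group G]

theorem comm_mul_left' (a b c : G)
    (hz : ∀ g : G, g * (b * c * b⁻¹ * c⁻¹) = (b * c * b⁻¹ * c⁻¹) * g) :
    (a * b) * c * (a * b)⁻¹ * c⁻¹ = (a * c * a⁻¹ * c⁻¹) * (b * c * b⁻¹ * c⁻¹) := by
  have h1 : a * b * c * (a * b)⁻¹ * c⁻¹ = a * (b * c * b⁻¹ * c⁻¹) * (c * a⁻¹ * c⁻¹) := by group
  rw [h1, hz a, hz (a * c * a⁻¹ * c⁻¹)]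
  group

theorem comm_mul_right' (a b c : G)
    (hz : ∀ g : G, g * (a * c * a⁻¹ * c⁻¹) = (a * c * a⁻¹ * c⁻¹) * g) :
    a * (b * c) * a⁻¹ * (b * c)⁻¹ = (a * b * a⁻¹ * b⁻¹) * (a * c * a⁻¹ * c⁻¹) := by
  have h1 : a * (b * c) * a⁻¹ * (b * c)⁻¹ =
      (a * b * a⁻¹ * b⁻¹) * (b * (a * c * a⁻¹ * c⁻¹)) * b⁻¹ := by group
  rw [h1, hz b]
  group

theorem comm_center_left (z a c : G) (hz : ∀ g : G, g * z = z * g) :
    (z * a) * c * (z * a)⁻¹ * c⁻¹ = a * c * a⁻¹ * c⁻¹ := by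
  have h1 : (z * a) * c * (z * a)⁻¹ * c⁻¹ = z * (a * c * a⁻¹) * z⁻¹ * c⁻¹ := by group
  rw [h1, ← hz]
  group

theorem comm_center_right (z a c : G) (hz : ∀ g : G, g * z = z * g) :
    a * (z * c) * a⁻¹ * (z * c)⁻¹ = a * c * a⁻¹ * c⁻¹ := by
  have h1 : a * (z * c) * a⁻¹ * (z * c)⁻¹ = a * z * (c * a⁻¹ * c⁻¹) * z⁻¹ := by group
  rw [h1, hz a, mul_assoc z, ← hz]
  group

theorem central_inv (z : G) (hz : ∀ g : G, g * z = z * g) : ∀ g : G, g * z⁻¹ = z⁻¹ * g := by
  intro g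
  have := hz g
  calc g * z⁻¹ = z⁻¹ * (z * g) * z⁻¹ := by group
    _ = z⁻¹ * (g * z) * z⁻¹ := by rw [this]
    _ = z⁻¹ * g := by group

end general

theorem exists_nonsq_pair {K : Type*} [Field K] [Finite K] (h2 : ringChar K ≠ 2) :
    ∃ r : K, r ≠ 0 ∧ r ≠ 1 ∧ ¬ IsSquare r ∧ ¬ IsSquare (1 - r) := by
  by_contra hcon
  push Not at hcon
  obtain ⟨ν, hν⟩ := FiniteField.exists_nonsquare h2
  have hne0 : ∀ r : K, ¬ IsSquare r → r ≠ 0 := fun r hr h0 => hr (h0 ▸ IsSquare.zero)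
  have hne1 : ∀ r : K, ¬ IsSquare r → r ≠ 1 := fun r hr h1 => hr (h1 ▸ IsSquare.one)
  have stepA : ∀ r : K, ¬ IsSquare r → ¬ IsSquare (r - 1) := by
    intro r hr hsq
    have hr0 := hne0 r hr
    have hr1 := hne1 r hr
    have hri : ¬ IsSquare r⁻¹ := fun h => hr (isSquare_inv.mp h)
    have h1 := hcon r⁻¹ (inv_ne_zero hr0) (hne1 _ hri) hri
    have hr1' : r - 1 ≠ 0 := sub_ne_zero.mpr hr1
    have e : r = (r - 1) / (1 - r⁻¹) := by
      have : 1 - r⁻¹ = (r - 1) / r := by field_simp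
      rw [this]; field_simp
    exact hr (e ▸ IsSquare.div hsq h1)
  have stepB : ¬ IsSquare (-1 : K) := by
    intro hm1
    have h1 := hcon ν (hne0 ν hν) (hne1 ν hν) hν
    have e : ν - 1 = -1 * (1 - ν) := by ring
    exact stepA ν hν (e ▸ IsSquare.mul hm1 h1)
  have stepC : ∀ k : ℕ, ¬ IsSquare (-1 - (k : K)) ∨ -1 - (k : K) = 0 := by
    intro k
    induction k with
    | zero => left; simpa using stepB
    | succ k ih =>
      left
      rcases ih with h | h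
      · have := stepA _ h
        have e : -1 - ((k + 1 : ℕ) : K) = -1 - (k : K) - 1 := by push_cast; ring
        rw [e]; exact this
      · have e : -1 - ((k + 1 : ℕ) : K) = -1 := by
          push_cast
          have : -1 - ((k : K) + 1) = (-1 - (k : K)) - 1 := by ring
          rw [this, h]; ring
        rw [e]; exact stepB
  haveI : Fact (ringChar K).Prime := ⟨CharP.char_is_prime K (ringChar K)⟩
  have hp2 : 2 ≤ ringChar K := (Fact.out : (ringChar K).Prime).two_le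
  have hc := stepC (ringChar K - 2)
  have e : -1 - ((ringChar K - 2 : ℕ) : K) = 1 := by
    rw [Nat.cast_sub hp2, CharP.cast_eq_zero K (ringChar K)]
    push_cast; ring
  rw [e] at hc
  rcases hc with h | h
  · exact h IsSquare.one
  · exact one_ne_zero h

variable {n : ℕ} {K : Type*} [Field K] {G : Type*} [Group G] (S : StData n K G)

namespace StData

/-- the symbol `h(t) h(u) h(tu)⁻¹` -/
def f (i j : Fin n) (t u : K) : G := S.h i j t * S.h i j u * (S.h i j (t * u))⁻¹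

theorem h_mul_eq (i j : Fin n) (t u : K) : S.h i j t * S.h i j u = S.f i j t u * S.h i j (t * u) := by
  unfold f; group

theorem conj_h_h1 (hn : 3 ≤ n) {i j k : Fin n} (hij : i ≠ j) (hik : i ≠ k) (hjk : j ≠ k)
    {t u : K} (ht : t ≠ 0) (hu : u ≠ 0) :
    MulAut.conj (S.h i k t) (S.h i j u) = S.h i j (t * u) * (S.h i j t)⁻¹ := by
  have h := (S.actM_h hn hik ht).conj_h S hij hu
  have e : dH i k t i / dH i k t j = t := by
    unfold dH
    simp only [if_true, if_neg hij.symm, if_neg hjk]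
    field_simp
  rw [e, Equiv.Perm.one_apply, Equiv.Perm.one_apply] at h
  exact h

theorem conj_h_h2 (hn : 3 ≤ n) {i j : Fin n} (hij : i ≠ j)
    {t u : K} (ht : t ≠ 0) (hu : u ≠ 0) :
    MulAut.conj (S.h i j t) (S.h i j u) = S.h i j (t * t * u) * (S.h i j (t * t))⁻¹ := by
  have h := (S.actM_h hn hij ht).conj_h S hij hu
  have e : dH i j t i / dH i j t j = t * t := by
    unfold dH
    simp only [if_true, if_neg hij.symm]
    field_simp
  rw [e, Equiv.Perm.one_apply, Equiv.Perm.one_apply] at h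
  exact h

section symbols

variable (hn : 3 ≤ n)
  (hcen : ∀ i j : Fin n, i ≠ j → ∀ t u : K, t ≠ 0 → u ≠ 0 →
    ∀ g : G, g * S.f i j t u = S.f i j t u * g)
include hn hcen

theorem Bc_eq {i j k : Fin n} (hij : i ≠ j) (hik : i ≠ k) (hjk : j ≠ k)
    {t u : K} (ht : t ≠ 0) (hu : u ≠ 0) :
    S.h i k t * S.h i j u * (S.h i k t)⁻¹ * (S.h i j u)⁻¹ = (S.f i j u t)⁻¹ := by
  have h := S.conj_h_h1 hn hij hik hjk ht hu
  rw [MulAut.conj_apply] at h
  rw [h]
  unfold f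
  rw [mul_comm u t]
  group

theorem f_mul_right {i j : Fin n} (hij : i ≠ j) {t t' u : K} (ht : t ≠ 0) (ht' : t' ≠ 0)
    (hu : u ≠ 0) : S.f i j u (t * t') = S.f i j u t * S.f i j u t' := by
  obtain ⟨k, hki, hkj⟩ := exists_third hn i j
  have hik := hki.symm
  have hjk := hkj.symm
  have hz : ∀ g : G, g * (S.h i k t' * S.h i j u * (S.h i k t')⁻¹ * (S.h i j u)⁻¹) =
      (S.h i k t' * S.h i j u * (S.h i k t')⁻¹ * (S.h i j u)⁻¹) * g := by
    rw [S.Bc_eq hn hcen hij hik hjk ht' hu]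
    exact central_inv _ (hcen i j hij u t' hu ht')
  have E1 := comm_mul_left' (S.h i k t) (S.h i k t') (S.h i j u) hz
  rw [S.h_mul_eq i k t t', comm_center_left _ _ _ (hcen i k hik t t' ht ht'),
    S.Bc_eq hn hcen hij hik hjk (mul_ne_zero ht ht') hu, S.Bc_eq hn hcen hij hik hjk ht hu,
    S.Bc_eq hn hcen hij hik hjk ht' hu] at E1
  have E2 : S.f i j u (t * t') = S.f i j u t' * S.f i j u t := by
    rw [← inv_inj, E1, mul_inv_rev]
  rw [E2, hcen i j hij u t hu ht]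

theorem f_mul_left {i j : Fin n} (hij : i ≠ j) {u u' t : K} (hu : u ≠ 0) (hu' : u' ≠ 0)
    (ht : t ≠ 0) : S.f i j (u * u') t = S.f i j u t * S.f i j u' t := by
  obtain ⟨k, hki, hkj⟩ := exists_third hn i j
  have hik := hki.symm
  have hjk := hkj.symm
  have hz : ∀ g : G, g * (S.h i k t * S.h i j u' * (S.h i k t)⁻¹ * (S.h i j u')⁻¹) =
      (S.h i k t * S.h i j u' * (S.h i k t)⁻¹ * (S.h i j u')⁻¹) * g := by
    rw [S.Bc_eq hn hcen hij hik hjk ht hu']
    exact central_inv _ (hcen i j hij u' t hu' ht)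
  have E1 := comm_mul_right' (S.h i k t) (S.h i j u) (S.h i j u') hz
  rw [S.h_mul_eq i j u u', comm_center_right _ _ _ (hcen i j hij u u' hu hu'),
    S.Bc_eq hn hcen hij hik hjk ht (mul_ne_zero hu hu'), S.Bc_eq hn hcen hij hik hjk ht hu,
    S.Bc_eq hn hcen hij hik hjk ht hu'] at E1
  have E2 : S.f i j (u * u') t = S.f i j u' t * S.f i j u t := by
    rw [← inv_inj, E1, mul_inv_rev]
  rw [E2, hcen i j hij u t hu ht]

theorem f_skew {i j : Fin n} (hij : i ≠ j) {t u : K} (ht : t ≠ 0) (hu : u ≠ 0) :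
    S.f i j t u * S.f i j u t = 1 := by
  have c1 : S.h i j t * S.h i j u * (S.h i j t)⁻¹ * (S.h i j u)⁻¹ =
      S.f i j t u * (S.f i j u t)⁻¹ := by
    have : S.h i j t * S.h i j u * (S.h i j t)⁻¹ * (S.h i j u)⁻¹ =
        (S.h i j t * S.h i j u) * (S.h i j u * S.h i j t)⁻¹ := by group
    rw [this, S.h_mul_eq, S.h_mul_eq, mul_comm u t]
    group
  have c2 : S.h i j t * S.h i j u * (S.h i j t)⁻¹ * (S.h i j u)⁻¹ = (S.f i j u (t * t))⁻¹ := by
    have h := S.conj_h_h2 hn hij ht hu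
    rw [MulAut.conj_apply] at h
    rw [h]
    unfold f
    rw [mul_comm u (t * t)]
    group
  rw [c1, S.f_mul_right hn hcen hij ht ht hu] at c2
  have : S.f i j t u = (S.f i j u t)⁻¹ := by
    calc S.f i j t u = (S.f i j t u * (S.f i j u t)⁻¹) * S.f i j u t := by group
      _ = (S.f i j u t * S.f i j u t)⁻¹ * S.f i j u t := by rw [c2]
      _ = (S.f i j u t)⁻¹ := by group
  rw [this, inv_mul_cancel]

omit hn hcen in
theorem f_one_left {i j : Fin n} (hij : i ≠ j) (u : K) : S.f i j 1 u = 1 := by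
  unfold f; rw [S.h_one hij, one_mul, one_mul, mul_inv_cancel]

omit hn hcen in
theorem f_one_right {i j : Fin n} (hij : i ≠ j) (t : K) : S.f i j t 1 = 1 := by
  unfold f; rw [S.h_one hij, mul_one, mul_one, mul_inv_cancel]

theorem f_inv_left {i j : Fin n} (hij : i ≠ j) {t u : K} (ht : t ≠ 0) (hu : u ≠ 0) :
    S.f i j t⁻¹ u = (S.f i j t u)⁻¹ := by
  have h := S.f_mul_left hn hcen hij ht (inv_ne_zero ht) hu
  rw [mul_inv_cancel₀ ht, S.f_one_left hij] at h
  exact (inv_eq_of_mul_eq_one_right h.symm).symm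

omit hcen in
theorem conj_w1_h {i j : Fin n} (hij : i ≠ j) {v : K} (hv : v ≠ 0) :
    MulAut.conj (S.w i j 1) (S.h i j v) = S.h i j v⁻¹ := by
  have key : ∀ s : K, s ≠ 0 → MulAut.conj (S.w i j 1) (S.w i j s) = S.w i j s⁻¹ := by
    intro s hs
    have h := (S.actM_w hn hij (one_ne_zero (α := K))).conj_w S hij hs
    rw [Equiv.swap_apply_left, Equiv.swap_apply_right] at h
    have e : mW i j (1 : K) i / mW i j (1 : K) j * s = -s := by
      unfold mW
      simp only [if_true, if_neg hij.symm]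
      field_simp
    rw [e, S.w_symm hn hij.symm (neg_ne_zero.mpr hs), inv_neg, neg_neg] at h
    exact h
  unfold h
  rw [map_mul, key v hv, key (-1) (neg_ne_zero.mpr one_ne_zero)]
  norm_num

omit hn hcen in
theorem w_eq_h_mul {i j : Fin n} (hij : i ≠ j) (v : K) : S.w i j v = S.h i j v * S.w i j 1 := by
  unfold h
  rw [S.w_inv' hij 1]
  group

omit hcen in
theorem hh_rel {i j : Fin n} (hij : i ≠ j) {p r : K} (hp : p ≠ 0) (hr : r ≠ 0)
    (hpr : p + r ≠ 0) :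
    S.h i j p * S.h i j r⁻¹ = S.h i j (p ^ 2 / (p + r)) * S.h i j (p * r / (p + r))⁻¹ := by
  have hq0 : p * r / (p + r) ≠ 0 := div_ne_zero (mul_ne_zero hp hr) hpr
  have h := S.w_mul hn hij hp hr hpr
  rw [S.w_eq_h_mul hij p, S.w_eq_h_mul hij r, S.w_eq_h_mul hij (p ^ 2 / (p + r)),
    S.w_eq_h_mul hij (p * r / (p + r))] at h
  have k1 := S.conj_w1_h hn hij hr
  have k2 := S.conj_w1_h hn hij hq0
  rw [MulAut.conj_apply] at k1 k2
  rw [← k1, ← k2]
  calc S.h i j p * (S.w i j 1 * S.h i j r * (S.w i j 1)⁻¹)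
      = (S.h i j p * S.w i j 1 * (S.h i j r * S.w i j 1)) * ((S.w i j 1)⁻¹ * (S.w i j 1)⁻¹) := by
        group
    _ = (S.h i j (p ^ 2 / (p + r)) * S.w i j 1 * (S.h i j (p * r / (p + r)) * S.w i j 1)) *
        ((S.w i j 1)⁻¹ * (S.w i j 1)⁻¹) := by rw [h]
    _ = _ := by group

theorem f_steinberg {i j : Fin n} (hij : i ≠ j) {s : K} (hs : s ≠ 0) (hs1 : s ≠ 1) :
    S.f i j s (1 - s) = 1 := by
  have h1s : 1 - s ≠ 0 := sub_ne_zero.mpr (Ne.symm hs1)
  obtain ⟨p, hp⟩ : ∃ p : K, p = s⁻¹ := ⟨_, rfl⟩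
  have hp0 : p ≠ 0 := by rw [hp]; exact inv_ne_zero hs
  have hp1 : p - 1 ≠ 0 := by
    rw [hp]; intro h
    apply hs1
    have : s⁻¹ = 1 := sub_eq_zero.mp h
    rw [← inv_inv s, this, inv_one]
  have hr0 : p / (p - 1) ≠ 0 := div_ne_zero hp0 hp1
  have hpr : p + p / (p - 1) ≠ 0 := by
    have : p + p / (p - 1) = p ^ 2 / (p - 1) := by field_simp; ring
    rw [this]; exact div_ne_zero (pow_ne_zero 2 hp0) hp1
  have h := S.hh_rel hn hij hp0 hr0 hpr
  have hs' : s = p⁻¹ := by rw [hp, inv_inv]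
  have e0 : p + p / (p - 1) = p ^ 2 / (p - 1) := by field_simp; ring
  have e1 : (p / (p - 1))⁻¹ = 1 - s := by rw [hs']; field_simp
  have e2 : p ^ 2 / (p + p / (p - 1)) = p - 1 := by rw [e0]; field_simp
  have e3 : (p * (p / (p - 1)) / (p + p / (p - 1)))⁻¹ = 1 := by
    rw [inv_eq_one, e0]; field_simp
  rw [e1, e2, e3, S.h_one hij, mul_one] at h
  -- h : h p * h (1 - s) = h (p - 1)
  have e4 : p * (1 - s) = p - 1 := by rw [hs']; field_simp
  have h2 : S.f i j p (1 - s) = 1 := by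
    unfold f; rw [h, e4, mul_inv_cancel]
  have h3 := S.f_inv_left hn hcen hij hs h1s
  rw [← hp, h2] at h3
  exact inv_eq_one.mp h3.symm

theorem f_pow_left {i j : Fin n} (hij : i ≠ j) {t u : K} (ht : t ≠ 0) (hu : u ≠ 0) (a : ℕ) :
    S.f i j (t ^ a) u = (S.f i j t u) ^ a := by
  induction a with
  | zero => rw [pow_zero, pow_zero, S.f_one_left hij]
  | succ a ih =>
    rw [pow_succ, pow_succ, S.f_mul_left hn hcen hij (pow_ne_zero a ht) ht hu, ih]

theorem f_pow_right {i j : Fin n} (hij : i ≠ j) {t u : K} (ht : t ≠ 0) (hu : u ≠ 0) (a : ℕ) :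
    S.f i j t (u ^ a) = (S.f i j t u) ^ a := by
  induction a with
  | zero => rw [pow_zero, pow_zero, S.f_one_right hij]
  | succ a ih =>
    rw [pow_succ, pow_succ, S.f_mul_right hn hcen hij (pow_ne_zero a hu) hu ht, ih]

theorem f_trivial [Finite K] {i j : Fin n} (hij : i ≠ j) {t u : K} (ht : t ≠ 0) (hu : u ≠ 0) :
    S.f i j t u = 1 := by
  classical
  obtain ⟨ζ, hζ⟩ := IsCyclic.exists_monoid_generator (α := Kˣ)
  have hz0 : (ζ : K) ≠ 0 := ζ.ne_zero
  have hgen : ∀ v : K, v ≠ 0 → ∃ a : ℕ, (ζ : K) ^ a = v := by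
    intro v hv
    obtain ⟨a, ha⟩ := hζ (Units.mk0 v hv)
    refine ⟨a, ?_⟩
    have := congrArg (fun w : Kˣ => (w : K)) ha
    simpa using this
  set e : G := S.f i j ζ ζ with he
  have hee : e * e = 1 := S.f_skew hn hcen hij hz0 hz0
  have hpow : ∀ a b : ℕ, S.f i j ((ζ : K) ^ a) ((ζ : K) ^ b) = e ^ (b * a) := by
    intro a b
    rw [S.f_pow_left hn hcen hij hz0 (pow_ne_zero b hz0), S.f_pow_right hn hcen hij hz0 hz0,
      ← pow_mul]
  have hodd : ∀ m : ℕ, e ^ (2 * m + 1) = e := by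
    intro m
    rw [pow_succ, pow_mul, pow_two, hee, one_pow, one_mul]
  have he1 : e = 1 := by
    by_cases h2 : ringChar K = 2
    · obtain ⟨s, hs⟩ := FiniteField.isSquare_of_char_two h2 (ζ : K)
      have hs0 : s ≠ 0 := by
        intro h; rw [h, mul_zero] at hs; exact hz0 hs
      obtain ⟨a, ha⟩ := hgen s hs0
      have h1 : e = S.f i j (s * s) ζ := by rw [he, ← hs]
      rw [S.f_mul_left hn hcen hij hs0 hs0 hz0, ← ha] at h1
      have h2 := hpow a 1
      rw [pow_one] at h2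
      rw [h2, one_mul, ← pow_add, ← two_mul, pow_mul, pow_two, hee, one_pow] at h1
      exact h1
    · obtain ⟨r, hr0, hr1, hrs, hrs'⟩ := exists_nonsq_pair (K := K) h2
      have h1r : 1 - r ≠ 0 := sub_ne_zero.mpr (Ne.symm hr1)
      obtain ⟨a, ha⟩ := hgen r hr0
      obtain ⟨b, hb⟩ := hgen (1 - r) h1r
      have hoddexp : ∀ (c : ℕ) (v : K), (ζ : K) ^ c = v → ¬ IsSquare v → Odd c := by
        intro c v hc hv
        rcases Nat.even_or_odd c with hev | hod
        · exfalso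
          obtain ⟨m, hm⟩ := hev
          apply hv
          rw [← hc, hm, pow_add]
          exact ⟨_, rfl⟩
        · exact hod
      have hab : Odd (b * a) := (hoddexp b _ hb hrs').mul (hoddexp a _ ha hrs)
      obtain ⟨m, hm⟩ := hab
      have h1 := S.f_steinberg hn hcen hij hr0 hr1
      rw [← hb, ← ha, hpow, hm, hodd] at h1
      exact h1
  obtain ⟨a, ha⟩ := hgen t ht
  obtain ⟨b, hb⟩ := hgen u hu
  rw [← ha, ← hb, hpow, he1, one_pow]

/-- multiplicativity of `h_ij` over a finite field -/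
theorem h_mul [Finite K] {i j : Fin n} (hij : i ≠ j) {t u : K} (ht : t ≠ 0) (hu : u ≠ 0) :
    S.h i j t * S.h i j u = S.h i j (t * u) := by
  rw [S.h_mul_eq, S.f_trivial hn hcen hij ht hu, one_mul]

end symbols

end StData

end Cfsg.Agent.Lib.Helper10.Stein
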