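import Mathlib
import Cfsg.Agent.Lib.Helper10.SteinB
import Cfsg.Agent.Lib.Helper28.SLn

set_option autoImplicit false

namespace Cfsg.Agent.Lib.Helper10.Stein

open Matrix

/-- Steinberg data together with the homomorphism to `SL_n`. -/
structure StPi (n : ℕ) (K : Type*) [Field K] (G : Type*) [Group G] extends StData n K G where
  π : G →* Matrix.SpecialLinearGroup (Fin n) K
  π_x : ∀ i j (h : i ≠ j) t, π (x i j t) = Matrix.SpecialLinearGroup.transvection h t
  gen : Subgroup.closure {g : G | ∃ i j, i ≠ j ∧ ∃ t, g = x i j t} = ⊤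

variable {n : ℕ} {K : Type*} [Field K] {G : Type*} [Group G] (P : StPi n K G)

namespace StPi

theorem transvection_inj {i j : Fin n} (hij : i ≠ j) {a b : K}
    (h : Matrix.SpecialLinearGroup.transvection hij a = Matrix.SpecialLinearGroup.transvection hij b) :
    a = b := by
  have := congrArg (fun M : Matrix.SpecialLinearGroup (Fin n) K => M.1 i j) h
  simpa [Matrix.SpecialLinearGroup.transvection_coe, hij] using this

theorem π_h {i j : Fin n} (hij : i ≠ j) {u : K} (hu : u ≠ 0) :
    P.π (P.toStData.h i j u) = Matrix.SpecialLinearGroup.diag2n hij u hu := by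
  rw [Cfsg.Agent.Lib.Helper28.diag2n_decompose hij u hu]
  unfold StData.h StData.w
  simp only [map_mul, P.π_x _ _ hij, P.π_x _ _ hij.symm]
  have e : -(-1 : K)⁻¹ = 1 := by norm_num
  rw [e]
  simp only [mul_assoc]

theorem diag2n_mul {i j : Fin n} (hij : i ≠ j) {t u : K} (ht : t ≠ 0) (hu : u ≠ 0) :
    Matrix.SpecialLinearGroup.diag2n hij t ht * Matrix.SpecialLinearGroup.diag2n hij u hu =
      Matrix.SpecialLinearGroup.diag2n hij (t * u) (mul_ne_zero ht hu) := by
  apply Subtype.ext
  rw [Matrix.SpecialLinearGroup.coe_mul, Matrix.SpecialLinearGroup.diag2n_coe,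
    Matrix.SpecialLinearGroup.diag2n_coe, Matrix.SpecialLinearGroup.diag2n_coe,
    Matrix.diagonal_mul_diagonal]
  congr 1
  funext k
  by_cases hki : k = i
  · simp [hki]
  · by_cases hkj : k = j
    · simp [hkj, hij.symm, mul_comm]
    · simp [hki, hkj]

theorem π_f {i j : Fin n} (hij : i ≠ j) {t u : K} (ht : t ≠ 0) (hu : u ≠ 0) :
    P.π (P.toStData.f i j t u) = 1 := by
  unfold StData.f
  rw [map_mul, map_mul, map_inv, P.π_h hij ht, P.π_h hij hu, P.π_h hij (mul_ne_zero ht hu),
    diag2n_mul hij ht hu, mul_inv_cancel]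

/-- an element acting diagonally and in the kernel of `π` is central -/
theorem central_of_actM {z : G} {m : Fin n → K} (hz : P.toStData.ActM z 1 m) (hπ : P.π z = 1) :
    ∀ g : G, g * z = z * g := by
  have hgen : ∀ i j, i ≠ j → ∀ t, P.x i j t * z = z * P.x i j t := by
    intro i j hij t
    have h := hz.2 i j hij t
    rw [Equiv.Perm.one_apply, Equiv.Perm.one_apply] at h
    have h2 := congrArg P.π h
    rw [MulAut.conj_apply, map_mul, map_mul, map_inv, hπ, one_mul, inv_one, mul_one,
      P.π_x _ _ hij, P.π_x _ _ hij] at h2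
    have h3 := transvection_inj hij h2
    rw [← h3, MulAut.conj_apply] at h
    have := mul_inv_eq_iff_eq_mul.mp h
    exact this.symm
  intro g
  have hg : g ∈ Subgroup.closure {g : G | ∃ i j, i ≠ j ∧ ∃ t, g = P.x i j t} := by
    rw [P.gen]; exact Subgroup.mem_top g
  induction hg using Subgroup.closure_induction with
  | mem y hy =>
    obtain ⟨i, j, hij, t, rfl⟩ := hy
    exact hgen i j hij t
  | one => simp
  | mul a b _ _ ha hb => rw [mul_assoc, hb, ← mul_assoc, ha, mul_assoc]
  | inv a _ ha =>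
    calc a⁻¹ * z = a⁻¹ * (z * a) * a⁻¹ := by group
      _ = a⁻¹ * (a * z) * a⁻¹ := by rw [ha]
      _ = z * a⁻¹ := by group

theorem f_central (hn : 3 ≤ n) {i j : Fin n} (hij : i ≠ j) {t u : K} (ht : t ≠ 0) (hu : u ≠ 0) :
    ∀ g : G, g * P.toStData.f i j t u = P.toStData.f i j t u * g := by
  have h1 := ((P.toStData.actM_h hn hij ht).mul _ (P.toStData.actM_h hn hij hu)).mul _
    (P.toStData.actM_h hn hij (mul_ne_zero ht hu)).inv
  have h2 := h1.congr _ (σ' := 1) (by simp) (fun _ => rfl)
  exact P.central_of_actM h2 (P.π_f hij ht hu)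

theorem h_mul' [Finite K] (hn : 3 ≤ n) {i j : Fin n} (hij : i ≠ j) {t u : K} (ht : t ≠ 0)
    (hu : u ≠ 0) : P.toStData.h i j t * P.toStData.h i j u = P.toStData.h i j (t * u) :=
  P.toStData.h_mul hn (fun _ _ hij _ _ ht hu => P.f_central hn hij ht hu) hij ht hu

end StPi

end Cfsg.Agent.Lib.Helper10.Stein
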