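import Mathlib
import Cfsg.Agent.Lib.Helper10.SteinC

set_option autoImplicit false

namespace Cfsg.Agent.Lib.Helper10.Stein

open Matrix

section general
variable {G : Type*} [Group G]

/-- if the generators of `A` normalize `B = closure sB` then `closure (sA ∪ sB) = A * B` -/
theorem mem_closure_union_mul {sA sB : Set G}
    (h1 : ∀ a ∈ sA, ∀ b ∈ sB, a * b * a⁻¹ ∈ Subgroup.closure sB)
    (h2 : ∀ a ∈ sA, ∀ b ∈ sB, a⁻¹ * b * a ∈ Subgroup.closure sB)
    {g : G} (hg : g ∈ Subgroup.closure (sA ∪ sB)) :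
    ∃ a ∈ Subgroup.closure sA, ∃ b ∈ Subgroup.closure sB, g = a * b := by
  have ext : ∀ c : G, (∀ b ∈ sB, c * b * c⁻¹ ∈ Subgroup.closure sB) →
      ∀ b ∈ Subgroup.closure sB, c * b * c⁻¹ ∈ Subgroup.closure sB := by
    intro c hc b hb
    induction hb using Subgroup.closure_induction with
    | mem y hy => exact hc y hy
    | one => simp
    | mul x y _ _ hx hy =>
      have : c * (x * y) * c⁻¹ = (c * x * c⁻¹) * (c * y * c⁻¹) := by group
      rw [this]; exact mul_mem hx hy
    | inv x _ hx =>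
      have : c * x⁻¹ * c⁻¹ = (c * x * c⁻¹)⁻¹ := by group
      rw [this]; exact inv_mem hx
  have hle : Subgroup.closure sA ≤ Subgroup.normalizer (Subgroup.closure sB : Set G) := by
    rw [Subgroup.closure_le]
    intro a ha
    rw [SetLike.mem_coe, Subgroup.mem_normalizer_iff]
    intro b
    constructor
    · exact ext a (h1 a ha) b
    · intro hb
      have := ext a⁻¹ (fun b hb => by simpa using h2 a ha b hb) _ hb
      have e : a⁻¹ * (a * b * a⁻¹) * a⁻¹⁻¹ = b := by group
      rwa [e] at this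
  rw [Subgroup.closure_union] at hg
  have := Subgroup.coe_mul_of_left_le_normalizer_right _ _ hle
  have hg' : g ∈ ((Subgroup.closure sA ⊔ Subgroup.closure sB : Subgroup G) : Set G) := hg
  rw [this, Set.mem_mul] at hg'
  obtain ⟨a, ha, b, hb, rfl⟩ := hg'
  exact ⟨a, ha, b, hb, rfl⟩

end general

variable {n : ℕ} {K : Type*} [Field K] {G : Type*} [Group G] (P : StPi n K G)

/-- row `s` of the matrix is the `s`-th unit row -/
def RowTriv (s : Fin n) (M : Matrix.SpecialLinearGroup (Fin n) K) : Prop :=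
  ∀ v : Fin n → K, (M.1 *ᵥ v) s = v s

theorem rowTriv_one (s : Fin n) : RowTriv s (1 : Matrix.SpecialLinearGroup (Fin n) K) := by
  intro v; simp

theorem rowTriv_mul {s : Fin n} {M M' : Matrix.SpecialLinearGroup (Fin n) K}
    (h : RowTriv s M) (h' : RowTriv s M') : RowTriv s (M * M') := by
  intro v
  rw [Matrix.SpecialLinearGroup.coe_mul, ← Matrix.mulVec_mulVec, h, h']

theorem rowTriv_inv {s : Fin n} {M : Matrix.SpecialLinearGroup (Fin n) K}
    (h : RowTriv s M) : RowTriv s M⁻¹ := by
  intro v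
  have := h ((M⁻¹).1 *ᵥ v)
  rw [Matrix.mulVec_mulVec, ← Matrix.SpecialLinearGroup.coe_mul, mul_inv_cancel] at this
  simpa using this.symm

theorem rowTriv_transvection {s i j : Fin n} (hij : i ≠ j) (his : i ≠ s) (b : K) :
    RowTriv s (Matrix.SpecialLinearGroup.transvection hij b) := by
  intro v
  rw [Cfsg.Agent.Lib.Helper28.transvection_mulVec_apply, if_neg (Ne.symm his), add_zero]

/-- the matrix fixes the unit vector `e_m` -/
def FixE (m : Fin n) (M : Matrix.SpecialLinearGroup (Fin n) K) : Prop :=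
  M.1 *ᵥ (Pi.single m 1) = Pi.single m 1

theorem fixE_one (m : Fin n) : FixE m (1 : Matrix.SpecialLinearGroup (Fin n) K) := by
  unfold FixE; rw [Matrix.SpecialLinearGroup.coe_one, Matrix.one_mulVec]

theorem fixE_mul {m : Fin n} {M M' : Matrix.SpecialLinearGroup (Fin n) K}
    (h : FixE m M) (h' : FixE m M') : FixE m (M * M') := by
  unfold FixE at *
  rw [Matrix.SpecialLinearGroup.coe_mul, ← Matrix.mulVec_mulVec, h', h]

theorem fixE_inv {m : Fin n} {M : Matrix.SpecialLinearGroup (Fin n) K}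
    (h : FixE m M) : FixE m M⁻¹ := by
  unfold FixE at *
  have : (M⁻¹).1 *ᵥ (M.1 *ᵥ Pi.single m 1) = Pi.single m 1 := by
    rw [Matrix.mulVec_mulVec, ← Matrix.SpecialLinearGroup.coe_mul, inv_mul_cancel,
      Matrix.SpecialLinearGroup.coe_one, Matrix.one_mulVec]
  rwa [h] at this

theorem fixE_transvection {m i j : Fin n} (hij : i ≠ j) (hjm : j ≠ m) (b : K) :
    FixE m (Matrix.SpecialLinearGroup.transvection hij b) := by
  unfold FixE
  funext l
  rw [Cfsg.Agent.Lib.Helper28.transvection_mulVec_apply, Pi.single_eq_of_ne hjm, mul_zero]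
  simp

namespace StPi

theorem closure_pred (p : Matrix.SpecialLinearGroup (Fin n) K → Prop) (h1 : p 1)
    (hmul : ∀ M M', p M → p M' → p (M * M')) (hinv : ∀ M, p M → p M⁻¹)
    {s : Set G} (hs : ∀ g ∈ s, p (P.π g)) {g : G} (hg : g ∈ Subgroup.closure s) : p (P.π g) := by
  induction hg using Subgroup.closure_induction with
  | mem y hy => exact hs y hy
  | one => rw [map_one]; exact h1
  | mul x y _ _ hx hy => rw [map_mul]; exact hmul _ _ hx hy
  | inv x _ hx => rw [map_inv]; exact hinv _ hx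

theorem mem_X {i j : Fin n} (hij : i ≠ j) {g : G}
    (hg : g ∈ Subgroup.closure {g : G | ∃ t, g = P.x i j t}) : ∃ t, g = P.x i j t := by
  induction hg using Subgroup.closure_induction with
  | mem y hy => exact hy
  | one => exact ⟨0, (P.toStData.x_zero hij).symm⟩
  | mul x y _ _ hx hy =>
    obtain ⟨t, rfl⟩ := hx
    obtain ⟨u, rfl⟩ := hy
    exact ⟨t + u, (P.x_add i j hij t u).symm⟩
  | inv x _ hx =>
    obtain ⟨t, rfl⟩ := hx
    exact ⟨-t, P.toStData.x_neg hij t⟩

/-- `π (x i j t) = 1` forces `x i j t = 1` -/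
theorem x_eq_one_of_π {i j : Fin n} (hij : i ≠ j) {t : K} (h : P.π (P.x i j t) = 1) :
    P.x i j t = 1 := by
  rw [P.π_x i j hij, ← Matrix.SpecialLinearGroup.transvection_coeff_zero hij] at h
  rw [transvection_inj hij h, P.toStData.x_zero hij]

/-- generators of row `s`, columns `≥ m` -/
def Rgen (s : Fin n) (m : ℕ) : Set G := {g | ∃ j t, s < j ∧ m ≤ j.val ∧ g = P.x s j t}

theorem inj_R (s : Fin n) : ∀ d m : ℕ, n ≤ m + d → ∀ g ∈ Subgroup.closure (P.Rgen s m),
    P.π g = 1 → g = 1 := by
  intro d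
  induction d with
  | zero =>
    intro m hm g hg _
    have : P.Rgen s m = ∅ := by
      ext g; simp only [Rgen, Set.mem_ofPred_eq, Set.mem_empty_iff_false, iff_false]
      rintro ⟨j, t, _, hj, _⟩
      have := j.isLt; omega
    rw [this, Subgroup.closure_empty] at hg
    exact Subgroup.mem_bot.mp hg
  | succ d ih =>
    intro m hm g hg hπ
    by_cases hcol : m < n ∧ s.val < m
    · obtain ⟨hmn, hsm⟩ := hcol
      set jm : Fin n := ⟨m, hmn⟩ with hjm
      have hsj : s < jm := by rw [Fin.lt_def]; exact hsm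
      have hsj' : s ≠ jm := ne_of_lt hsj
      have hsub : P.Rgen s m ⊆ {g : G | ∃ t, g = P.x s jm t} ∪ P.Rgen s (m + 1) := by
        rintro g ⟨j, t, hj1, hj2, rfl⟩
        by_cases hjm' : j = jm
        · left; exact ⟨t, by rw [hjm']⟩
        · right
          refine ⟨j, t, hj1, ?_, rfl⟩
          have : j.val ≠ m := fun h => hjm' (Fin.ext h)
          omega
      have hg' := Subgroup.closure_mono hsub hg
      have hn1 : ∀ a ∈ {g : G | ∃ t, g = P.x s jm t}, ∀ b ∈ P.Rgen s (m + 1),
          a * b * a⁻¹ ∈ Subgroup.closure (P.Rgen s (m + 1)) := by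
        rintro a ⟨t, rfl⟩ b ⟨j, u, hj1, hj2, rfl⟩
        rw [← MulAut.conj_apply, P.toStData.cj_comm hsj' (ne_of_lt hj1) (ne_of_lt hj1)
          (Ne.symm hsj')]
        exact Subgroup.subset_closure ⟨j, u, hj1, hj2, rfl⟩
      have hn2 : ∀ a ∈ {g : G | ∃ t, g = P.x s jm t}, ∀ b ∈ P.Rgen s (m + 1),
          a⁻¹ * b * a ∈ Subgroup.closure (P.Rgen s (m + 1)) := by
        rintro a ⟨t, rfl⟩ b ⟨j, u, hj1, hj2, rfl⟩
        have : (P.x s jm t)⁻¹ * P.x s j u * P.x s jm t =
            MulAut.conj (P.x s jm (-t)) (P.x s j u) := by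
          rw [MulAut.conj_apply, ← P.toStData.x_neg hsj', inv_inv]
        rw [this, P.toStData.cj_comm hsj' (ne_of_lt hj1) (ne_of_lt hj1) (Ne.symm hsj')]
        exact Subgroup.subset_closure ⟨j, u, hj1, hj2, rfl⟩
      obtain ⟨a, ha, b, hb, rfl⟩ := mem_closure_union_mul hn1 hn2 hg'
      obtain ⟨t, rfl⟩ := P.mem_X hsj' ha
      have hbfix : FixE jm (P.π b) := by
        refine P.closure_pred (FixE jm) (fixE_one _) (fun _ _ => fixE_mul) (fun _ => fixE_inv)
          ?_ hb
        rintro g ⟨j, t, hj1, hj2, rfl⟩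
        rw [P.π_x s j (ne_of_lt hj1)]
        apply fixE_transvection
        intro h; rw [h] at hj2; simp [hjm] at hj2
      rw [map_mul, P.π_x s jm hsj'] at hπ
      have h1 := congrArg (fun M : Matrix.SpecialLinearGroup (Fin n) K =>
        (M.1 *ᵥ (Pi.single jm 1 : Fin n → K)) s) hπ
      simp only [Matrix.SpecialLinearGroup.coe_mul, Matrix.SpecialLinearGroup.coe_one,
        Matrix.one_mulVec] at h1
      rw [← Matrix.mulVec_mulVec, hbfix, Cfsg.Agent.Lib.Helper28.transvection_mulVec_apply] at h1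
      simp [hsj'] at h1
      subst h1
      rw [P.toStData.x_zero hsj', one_mul]
      rw [Matrix.SpecialLinearGroup.transvection_coeff_zero, one_mul] at hπ
      exact ih (m + 1) (by omega) b hb hπ
    · have hsub : P.Rgen s m ⊆ P.Rgen s (m + 1) := by
        rintro g ⟨j, t, hj1, hj2, rfl⟩
        refine ⟨j, t, hj1, ?_, rfl⟩
        have := j.isLt
        have : s.val < j.val := hj1
        by_contra hh
        apply hcol
        constructor <;> omega
      exact ih (m + 1) (by omega) g (Subgroup.closure_mono hsub hg) hπ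

/-- generators `x i j t` with `s ≤ i < j` -/
def Ugen (s : ℕ) : Set G := {g | ∃ i j t, s ≤ i.val ∧ i < j ∧ g = P.x i j t}

theorem Ugen_empty {s : ℕ} (hs : n ≤ s) : P.Ugen s = ∅ := by
  ext g; simp only [Ugen, Set.mem_ofPred_eq, Set.mem_empty_iff_false, iff_false]
  rintro ⟨i, j, t, hi, _, _⟩
  have := i.isLt; omega

theorem inj_U : ∀ d s : ℕ, n ≤ s + d → ∀ g ∈ Subgroup.closure (P.Ugen s),
    P.π g = 1 → g = 1 := by
  intro d
  induction d with
  | zero =>
    intro s hs g hg _
    rw [P.Ugen_empty (by omega), Subgroup.closure_empty] at hg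
    exact Subgroup.mem_bot.mp hg
  | succ d ih =>
    intro s hs g hg hπ
    by_cases hsn : s < n
    · set si : Fin n := ⟨s, hsn⟩ with hsi
      have hsub : P.Ugen s ⊆ P.Ugen (s + 1) ∪ P.Rgen si 0 := by
        rintro g ⟨i, j, t, hi, hij, rfl⟩
        by_cases his : i = si
        · right; subst his; exact ⟨j, t, hij, Nat.zero_le _, rfl⟩
        · left
          refine ⟨i, j, t, ?_, hij, rfl⟩
          have : i.val ≠ s := fun h => his (Fin.ext h)
          omega
      have hg' := Subgroup.closure_mono hsub hg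
      have key : ∀ (k l : Fin n) (u : K), s + 1 ≤ k.val → k < l → ∀ (j : Fin n) (t : K), si < j →
          MulAut.conj (P.x k l u) (P.x si j t) ∈ Subgroup.closure (P.Rgen si 0) := by
        intro k l u hk hkl j t hj
        have hsk : si < k := by rw [Fin.lt_def]; simp [hsi]; omega
        have hsl : si < l := lt_trans hsk hkl
        by_cases hkj : k = j
        · subst hkj
          rw [P.toStData.cj_rel2 (ne_of_lt hkl) (ne_of_lt hsk) (ne_of_lt hsl)]
          exact mul_mem (Subgroup.subset_closure ⟨l, _, hsl, Nat.zero_le _, rfl⟩)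
            (Subgroup.subset_closure ⟨k, _, hsk, Nat.zero_le _, rfl⟩)
        · rw [P.toStData.cj_comm (ne_of_lt hkl) (ne_of_lt hj) hkj (ne_of_gt hsl)]
          exact Subgroup.subset_closure ⟨j, t, hj, Nat.zero_le _, rfl⟩
      have hn1 : ∀ a ∈ P.Ugen (s + 1), ∀ b ∈ P.Rgen si 0,
          a * b * a⁻¹ ∈ Subgroup.closure (P.Rgen si 0) := by
        rintro a ⟨k, l, u, hk, hkl, rfl⟩ b ⟨j, t, hj, -, rfl⟩
        rw [← MulAut.conj_apply]
        exact key k l u hk hkl j t hj
      have hn2 : ∀ a ∈ P.Ugen (s + 1), ∀ b ∈ P.Rgen si 0,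
          a⁻¹ * b * a ∈ Subgroup.closure (P.Rgen si 0) := by
        rintro a ⟨k, l, u, hk, hkl, rfl⟩ b ⟨j, t, hj, -, rfl⟩
        have : (P.x k l u)⁻¹ * P.x si j t * P.x k l u =
            MulAut.conj (P.x k l (-u)) (P.x si j t) := by
          rw [MulAut.conj_apply, ← P.toStData.x_neg (ne_of_lt hkl), inv_inv]
        rw [this]
        exact key k l (-u) hk hkl j t hj
      obtain ⟨a, ha, b, hb, rfl⟩ := mem_closure_union_mul hn1 hn2 hg'
      have hrow_a : RowTriv si (P.π a) := by
        refine P.closure_pred (RowTriv si) (rowTriv_one _) (fun _ _ => rowTriv_mul)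
          (fun _ => rowTriv_inv) ?_ ha
        rintro g ⟨k, l, u, hk, hkl, rfl⟩
        rw [P.π_x k l (ne_of_lt hkl)]
        apply rowTriv_transvection
        intro h; rw [h] at hk; simp [hsi] at hk
      have hrow_b : ∀ k : Fin n, k ≠ si → RowTriv k (P.π b) := by
        intro k hk
        refine P.closure_pred (RowTriv k) (rowTriv_one _) (fun _ _ => rowTriv_mul)
          (fun _ => rowTriv_inv) ?_ hb
        rintro g ⟨j, t, hj, -, rfl⟩
        rw [P.π_x si j (ne_of_lt hj)]
        exact rowTriv_transvection _ (Ne.symm hk) _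
      rw [map_mul] at hπ
      have hπ' : P.π b * P.π a = 1 := by
        rw [mul_eq_one_iff_eq_inv] at hπ ⊢
        rw [hπ, inv_inv]
      have ha1 : P.π a = 1 := by
        apply Subtype.ext
        rw [Matrix.SpecialLinearGroup.coe_one]
        apply Matrix.ext_of_mulVec_single
        intro j
        funext k
        rw [Matrix.one_mulVec]
        by_cases hk : k = si
        · rw [hk]; exact hrow_a _
        · have h1 := hrow_b k hk ((P.π a).1 *ᵥ Pi.single j 1)
          rw [Matrix.mulVec_mulVec, ← Matrix.SpecialLinearGroup.coe_mul, hπ',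
            Matrix.SpecialLinearGroup.coe_one, Matrix.one_mulVec] at h1
          exact h1.symm
      have ha' := ih (s + 1) (by omega) a ha ha1
      rw [ha1, one_mul] at hπ
      have hb' := P.inj_R si n 0 (by omega) b hb hπ
      rw [ha', hb', mul_one]
    · rw [P.Ugen_empty (by omega), Subgroup.closure_empty] at hg
      exact Subgroup.mem_bot.mp hg

/-- `π` is injective on the upper unitriangular subgroup -/
theorem inj_U0 {g : G} (hg : g ∈ Subgroup.closure (P.Ugen 0)) (hπ : P.π g = 1) : g = 1 :=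
  P.inj_U n 0 (by omega) g hg hπ

end StPi

end Cfsg.Agent.Lib.Helper10.Stein
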