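import Mathlib
import Cfsg.Agent.Lib.Helper10.SteinD

set_option autoImplicit false

namespace Cfsg.Agent.Lib.Helper10.Stein

open Matrix

variable {n : ℕ} {K : Type*} [Field K] {G : Type*} [Group G] (P : StPi n K G)

namespace StPi

/-- generators of the torus -/
def Hgen : Set G := {g | ∃ i j u, i ≠ j ∧ u ≠ 0 ∧ g = P.toStData.h i j u}

/-- the torus `H` -/
def Hs : Subgroup G := Subgroup.closure P.Hgen

section finite
variable [Finite K] (hn : 3 ≤ n)
include hn

/-- elements acting diagonally centralize every `h_ij(u)` -/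
theorem conj_h_of_diag {g : G} {m : Fin n → K} (hg : P.toStData.ActM g 1 m) {i j : Fin n}
    (hij : i ≠ j) {u : K} (hu : u ≠ 0) : g * P.toStData.h i j u * g⁻¹ = P.toStData.h i j u := by
  have h := hg.conj_h _ hij hu
  rw [Equiv.Perm.one_apply, Equiv.Perm.one_apply, MulAut.conj_apply] at h
  have hc : m i / m j ≠ 0 := div_ne_zero (hg.1 i) (hg.1 j)
  rw [h, mul_comm (m i / m j) u, ← P.h_mul' hn hij hu hc, mul_inv_cancel_right]

theorem h_comm {i j k l : Fin n} (hij : i ≠ j) (hkl : k ≠ l) {t u : K} (ht : t ≠ 0) (hu : u ≠ 0) :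
    P.toStData.h i j t * P.toStData.h k l u = P.toStData.h k l u * P.toStData.h i j t := by
  have h := P.conj_h_of_diag hn (P.toStData.actM_h hn hij ht) hkl hu
  exact mul_inv_eq_iff_eq_mul.mp h

theorem h_inv {i j : Fin n} (hij : i ≠ j) {u : K} (hu : u ≠ 0) :
    (P.toStData.h i j u)⁻¹ = P.toStData.h i j u⁻¹ := by
  apply inv_eq_of_mul_eq_one_right
  rw [P.h_mul' hn hij hu (inv_ne_zero hu), mul_inv_cancel₀ hu, P.toStData.h_one hij]

/-- generators `h_{j b}(u)` with `j ≥ m` -/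
def Hgen' (b : Fin n) (m : ℕ) : Set G :=
  {g | ∃ j u, j ≠ b ∧ m ≤ j.val ∧ u ≠ 0 ∧ g = P.toStData.h j b u}

omit hn in
theorem Hs_le (hn : 3 ≤ n) (b : Fin n) : P.Hs ≤ Subgroup.closure (P.Hgen' b 0) := by
  unfold Hs
  rw [Subgroup.closure_le]
  rintro g ⟨i, j, u, hij, hu, rfl⟩
  have mem : ∀ k : Fin n, k ≠ b → P.toStData.h k b u ∈ Subgroup.closure (P.Hgen' b 0) :=
    fun k hk => Subgroup.subset_closure ⟨k, u, hk, Nat.zero_le _, hu, rfl⟩
  by_cases hjb : j = b
  · subst hjb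
    exact mem i hij
  · by_cases hib : i = b
    · subst hib
      rw [SetLike.mem_coe, P.toStData.h_symm hn (Ne.symm hij) hu]
      exact inv_mem (mem j hjb)
    · rw [SetLike.mem_coe, P.toStData.h_tri hn hij (Ne.symm hib) (Ne.symm hjb) hu,
        P.toStData.h_symm hn hjb hu, P.toStData.h_symm hn hib hu, inv_inv]
      exact mul_mem (inv_mem (mem j hjb)) (mem i hib)

theorem mem_Hone {i j : Fin n} (hij : i ≠ j) {g : G}
    (hg : g ∈ Subgroup.closure {g : G | ∃ u, u ≠ 0 ∧ g = P.toStData.h i j u}) :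
    ∃ u, u ≠ 0 ∧ g = P.toStData.h i j u := by
  induction hg using Subgroup.closure_induction with
  | mem y hy => exact hy
  | one => exact ⟨1, one_ne_zero, (P.toStData.h_one hij).symm⟩
  | mul x y _ _ hx hy =>
    obtain ⟨t, ht, rfl⟩ := hx
    obtain ⟨u, hu, rfl⟩ := hy
    exact ⟨t * u, mul_ne_zero ht hu, P.h_mul' hn hij ht hu⟩
  | inv x _ hx =>
    obtain ⟨t, ht, rfl⟩ := hx
    exact ⟨t⁻¹, inv_ne_zero ht, P.h_inv hn hij ht⟩

theorem inj_H' (b : Fin n) : ∀ d m : ℕ, n ≤ m + d → ∀ g ∈ Subgroup.closure (P.Hgen' b m),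
    P.π g = 1 → g = 1 := by
  intro d
  induction d with
  | zero =>
    intro m hm g hg _
    have : P.Hgen' b m = ∅ := by
      ext g; simp only [Hgen', Set.mem_ofPred_eq, Set.mem_empty_iff_false, iff_false]
      rintro ⟨j, u, _, hj, _, _⟩
      have := j.isLt; omega
    rw [this, Subgroup.closure_empty] at hg
    exact Subgroup.mem_bot.mp hg
  | succ d ih =>
    intro m hm g hg hπ
    by_cases hcol : ∃ hmn : m < n, (⟨m, hmn⟩ : Fin n) ≠ b
    · obtain ⟨hmn, hjb⟩ := hcol
      set jm : Fin n := ⟨m, hmn⟩ with hjm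
      have hsub : P.Hgen' b m ⊆ {g : G | ∃ u, u ≠ 0 ∧ g = P.toStData.h jm b u} ∪
          P.Hgen' b (m + 1) := by
        rintro g ⟨j, u, hj1, hj2, hu, rfl⟩
        by_cases hjm' : j = jm
        · left; exact ⟨u, hu, by rw [hjm']⟩
        · right
          refine ⟨j, u, hj1, ?_, hu, rfl⟩
          have : j.val ≠ m := fun h => hjm' (Fin.ext h)
          omega
      have hg' := Subgroup.closure_mono hsub hg
      have hn1 : ∀ a ∈ {g : G | ∃ u, u ≠ 0 ∧ g = P.toStData.h jm b u}, ∀ c ∈ P.Hgen' b (m + 1),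
          a * c * a⁻¹ ∈ Subgroup.closure (P.Hgen' b (m + 1)) := by
        rintro a ⟨t, ht, rfl⟩ c ⟨j, u, hj1, hj2, hu, rfl⟩
        rw [P.h_comm hn hjb hj1 ht hu, mul_inv_cancel_right]
        exact Subgroup.subset_closure ⟨j, u, hj1, hj2, hu, rfl⟩
      have hn2 : ∀ a ∈ {g : G | ∃ u, u ≠ 0 ∧ g = P.toStData.h jm b u}, ∀ c ∈ P.Hgen' b (m + 1),
          a⁻¹ * c * a ∈ Subgroup.closure (P.Hgen' b (m + 1)) := by
        rintro a ⟨t, ht, rfl⟩ c ⟨j, u, hj1, hj2, hu, rfl⟩
        rw [mul_assoc, ← P.h_comm hn hjb hj1 ht hu, inv_mul_cancel_left]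
        exact Subgroup.subset_closure ⟨j, u, hj1, hj2, hu, rfl⟩
      obtain ⟨a, ha, c, hc, rfl⟩ := mem_closure_union_mul hn1 hn2 hg'
      obtain ⟨u, hu, rfl⟩ := P.mem_Hone hn hjb ha
      have hrow : RowTriv jm (P.π c) := by
        refine P.closure_pred (RowTriv jm) (rowTriv_one _) (fun _ _ => rowTriv_mul)
          (fun _ => rowTriv_inv) ?_ hc
        rintro g ⟨j, u, hj1, hj2, hu, rfl⟩
        rw [P.π_h hj1 hu]
        intro v
        rw [Matrix.SpecialLinearGroup.diag2n_coe, Matrix.mulVec_diagonal]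
        have h1 : jm ≠ j := by
          intro h; rw [← h] at hj2; simp [hjm] at hj2
        rw [if_neg h1, if_neg hjb, one_mul]
      rw [map_mul, P.π_h hjb hu] at hπ
      have h1 := congrArg (fun M : Matrix.SpecialLinearGroup (Fin n) K =>
        (M.1 *ᵥ (Pi.single jm 1 : Fin n → K)) jm) hπ
      simp only [Matrix.SpecialLinearGroup.coe_mul, Matrix.SpecialLinearGroup.coe_one,
        Matrix.one_mulVec] at h1
      rw [← Matrix.mulVec_mulVec, Matrix.SpecialLinearGroup.diag2n_coe, Matrix.mulVec_diagonal,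
        hrow] at h1
      simp at h1
      subst h1
      rw [P.toStData.h_one hjb, one_mul]
      have e1 : Matrix.SpecialLinearGroup.diag2n hjb (1 : K) hu = 1 := by
        rw [← P.π_h hjb hu, P.toStData.h_one hjb, map_one]
      rw [e1, one_mul] at hπ
      exact ih (m + 1) (by omega) c hc hπ
    · have hsub : P.Hgen' b m ⊆ P.Hgen' b (m + 1) := by
        rintro g ⟨j, u, hj1, hj2, hu, rfl⟩
        refine ⟨j, u, hj1, ?_, hu, rfl⟩
        by_contra hh
        apply hcol
        have hjm : j.val = m := by omega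
        refine ⟨hjm ▸ j.isLt, ?_⟩
        intro h
        apply hj1
        rw [← h]
        exact Fin.ext hjm
      exact ih (m + 1) (by omega) g (Subgroup.closure_mono hsub hg) hπ

/-- `π` is injective on the torus -/
theorem inj_H {g : G} (hg : g ∈ P.Hs) (hπ : P.π g = 1) : g = 1 :=
  P.inj_H' hn ⟨0, by omega⟩ n 0 (by omega) g (P.Hs_le hn _ hg) hπ

end finite

end StPi

end Cfsg.Agent.Lib.Helper10.Stein
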