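import Mathlib
import Cfsg.Agent.Lib.Helper10.SteinE

set_option autoImplicit false

namespace Cfsg.Agent.Lib.Helper10.Stein

open Matrix

variable {m : ℕ} {K : Type*} [Field K] {G : Type*} [Group G] (P : StPi (m + 1) K G)

namespace StPi

/-- the upper unitriangular subgroup -/
def U : Subgroup G := Subgroup.closure (P.Ugen 0)

/-- the simple reflections -/
def nk (k : Fin m) : G := P.toStData.w k.castSucc k.succ 1

/-- the monomial subgroup, generated by the simple reflections and the torus -/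
def Ns : Subgroup G := Subgroup.closure ({g | ∃ k : Fin m, g = P.nk k} ∪ (P.Hs : Set G))

theorem cs_ne (k : Fin m) : k.castSucc ≠ k.succ := ne_of_lt (Fin.castSucc_lt_succ)

theorem x_mem_U {i j : Fin (m + 1)} (hij : i < j) (t : K) : P.x i j t ∈ P.U :=
  Subgroup.subset_closure ⟨i, j, t, Nat.zero_le _, hij, rfl⟩

variable (hn : 3 ≤ m + 1)
include hn

theorem act_Hs {h : G} (hh : h ∈ P.Hs) : ∃ mm, P.toStData.ActM h 1 mm := by
  induction hh using Subgroup.closure_induction with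
  | mem y hy =>
    obtain ⟨i, j, u, hij, hu, rfl⟩ := hy
    exact ⟨_, P.toStData.actM_h hn hij hu⟩
  | one => exact ⟨_, StData.ActM.one P.toStData⟩
  | mul x y _ _ hx hy =>
    obtain ⟨m1, h1⟩ := hx
    obtain ⟨m2, h2⟩ := hy
    exact ⟨_, (h1.mul _ h2).congr _ (by simp) (fun _ => rfl)⟩
  | inv x _ hx =>
    obtain ⟨m1, h1⟩ := hx
    exact ⟨_, h1.inv.congr _ (by simp) (fun _ => rfl)⟩

theorem act_nk (k : Fin m) : P.toStData.ActM (P.nk k) (Equiv.swap k.castSucc k.succ)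
    (StData.mW k.castSucc k.succ 1) :=
  P.toStData.actM_w hn (cs_ne k) one_ne_zero

theorem act_Ns {g : G} (hg : g ∈ P.Ns) : ∃ σ mm, P.toStData.ActM g σ mm := by
  induction hg using Subgroup.closure_induction with
  | mem y hy =>
    rcases hy with ⟨k, rfl⟩ | hy
    · exact ⟨_, _, P.act_nk hn k⟩
    · obtain ⟨mm, h⟩ := P.act_Hs hn hy
      exact ⟨1, mm, h⟩
  | one => exact ⟨_, _, StData.ActM.one P.toStData⟩
  | mul x y _ _ hx hy =>
    obtain ⟨s1, m1, h1⟩ := hx
    obtain ⟨s2, m2, h2⟩ := hy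
    exact ⟨_, _, h1.mul _ h2⟩
  | inv x _ hx =>
    obtain ⟨s1, m1, h1⟩ := hx
    exact ⟨_, _, h1.inv⟩

/-- conjugation by an element acting monomially preserves the torus -/
theorem conj_Hs {g : G} {σ : Equiv.Perm (Fin (m + 1))} {mm : Fin (m + 1) → K}
    (hg : P.toStData.ActM g σ mm) {h : G} (hh : h ∈ P.Hs) : g * h * g⁻¹ ∈ P.Hs := by
  induction hh using Subgroup.closure_induction with
  | mem y hy =>
    obtain ⟨i, j, u, hij, hu, rfl⟩ := hy
    have h1 := hg.conj_h _ hij hu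
    rw [MulAut.conj_apply] at h1
    rw [h1]
    have hσ : σ i ≠ σ j := σ.injective.ne hij
    have hc : mm i / mm j ≠ 0 := div_ne_zero (hg.1 i) (hg.1 j)
    exact mul_mem (Subgroup.subset_closure ⟨_, _, _, hσ, mul_ne_zero hc hu, rfl⟩)
      (inv_mem (Subgroup.subset_closure ⟨_, _, _, hσ, hc, rfl⟩))
  | one => simp
  | mul x y _ _ hx hy =>
    have : g * (x * y) * g⁻¹ = (g * x * g⁻¹) * (g * y * g⁻¹) := by group
    rw [this]; exact mul_mem hx hy
  | inv x _ hx =>
    have : g * x⁻¹ * g⁻¹ = (g * x * g⁻¹)⁻¹ := by group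
    rw [this]; exact inv_mem hx

/-- the torus normalizes `U` -/
theorem conj_U_of_diag {g : G} {mm : Fin (m + 1) → K}
    (hg : P.toStData.ActM g 1 mm) {u : G} (hu : u ∈ P.U) : g * u * g⁻¹ ∈ P.U := by
  induction hu using Subgroup.closure_induction with
  | mem y hy =>
    obtain ⟨i, j, t, -, hij, rfl⟩ := hy
    have h1 := hg.2 i j (ne_of_lt hij) t
    rw [MulAut.conj_apply, Equiv.Perm.one_apply, Equiv.Perm.one_apply] at h1
    rw [h1]
    exact P.x_mem_U hij _
  | one => simp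
  | mul x y _ _ hx hy =>
    have : g * (x * y) * g⁻¹ = (g * x * g⁻¹) * (g * y * g⁻¹) := by group
    rw [this]; exact mul_mem hx hy
  | inv x _ hx =>
    have : g * x⁻¹ * g⁻¹ = (g * x * g⁻¹)⁻¹ := by group
    rw [this]; exact inv_mem hx

omit hn in
theorem Hs_le_Ns : P.Hs ≤ P.Ns := by
  intro h hh
  exact Subgroup.subset_closure (Or.inr hh)

omit hn in
theorem nk_mem_Ns (k : Fin m) : P.nk k ∈ P.Ns :=
  Subgroup.subset_closure (Or.inl ⟨k, rfl⟩)

/-- generators of `U` other than the simple root `k` -/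
def Upkgen (k : Fin m) : Set G :=
  {g | ∃ i j t, i < j ∧ ¬ (i = k.castSucc ∧ j = k.succ) ∧ g = P.x i j t}

/-- `U_k`: generated by the positive roots other than the simple root `k` -/
def Upk (k : Fin m) : Subgroup G := Subgroup.closure (P.Upkgen k)

omit hn in
theorem Upk_le_U (k : Fin m) : P.Upk k ≤ P.U := by
  unfold Upk U
  apply Subgroup.closure_mono
  rintro g ⟨i, j, t, hij, -, rfl⟩
  exact ⟨i, j, t, Nat.zero_le _, hij, rfl⟩

omit hn in
/-- conjugating a generator of `U_k` by `x_k(s)` stays in `U_k` -/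
theorem xk_conj_Upkgen (k : Fin m) (s : K) {g : G} (hg : g ∈ P.Upkgen k) :
    MulAut.conj (P.x k.castSucc k.succ s) g ∈ P.Upk k := by
  obtain ⟨i, j, t, hij, hne, rfl⟩ := hg
  have hab := cs_ne k
  have hablt : k.castSucc < k.succ := Fin.castSucc_lt_succ
  by_cases hbi : k.succ = i
  · subst hbi
    have haj : k.castSucc < j := lt_trans hablt hij
    rw [P.toStData.cj_rel1 hab (ne_of_lt hij) (ne_of_lt haj)]
    refine mul_mem (Subgroup.subset_closure ⟨_, _, _, haj, ?_, rfl⟩)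
      (Subgroup.subset_closure ⟨_, _, _, hij, hne, rfl⟩)
    rintro ⟨-, h⟩
    exact (ne_of_lt hij) h.symm
  · by_cases haj : k.castSucc = j
    · subst haj
      have hib : i < k.succ := lt_trans hij hablt
      rw [P.toStData.cj_rel2 hab (ne_of_lt hij) (ne_of_lt hib)]
      refine mul_mem (Subgroup.subset_closure ⟨_, _, _, hib, ?_, rfl⟩)
        (Subgroup.subset_closure ⟨_, _, _, hij, hne, rfl⟩)
      rintro ⟨h, -⟩
      exact (ne_of_lt hij) h
    · rw [P.toStData.cj_comm hab (ne_of_lt hij) haj hbi]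
      exact Subgroup.subset_closure ⟨_, _, _, hij, hne, rfl⟩

omit hn in
theorem conj_mem_closure {sB : Set G} (c : G)
    (hc : ∀ b ∈ sB, MulAut.conj c b ∈ Subgroup.closure sB) :
    ∀ b ∈ Subgroup.closure sB, MulAut.conj c b ∈ Subgroup.closure sB := by
  intro b hb
  induction hb using Subgroup.closure_induction with
  | mem y hy => exact hc y hy
  | one => simp
  | mul x y _ _ hx hy => rw [map_mul]; exact mul_mem hx hy
  | inv x _ hx => rw [map_inv]; exact inv_mem hx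

omit hn in
theorem xk_conj_Upk (k : Fin m) (s : K) {v : G} (hv : v ∈ P.Upk k) :
    MulAut.conj (P.x k.castSucc k.succ s) v ∈ P.Upk k :=
  conj_mem_closure _ (fun _ hb => P.xk_conj_Upkgen k s hb) v hv

omit hn in
/-- `U = U_k X_k` -/
theorem U_decomp (k : Fin m) {u : G} (hu : u ∈ P.U) :
    ∃ v ∈ P.Upk k, ∃ t : K, u = v * P.x k.castSucc k.succ t := by
  have hab := cs_ne k
  have hsub : P.Ugen 0 ⊆ {g : G | ∃ t, g = P.x k.castSucc k.succ t} ∪ P.Upkgen k := by
    rintro g ⟨i, j, t, -, hij, rfl⟩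
    by_cases h : i = k.castSucc ∧ j = k.succ
    · left; exact ⟨t, by rw [h.1, h.2]⟩
    · right; exact ⟨i, j, t, hij, h, rfl⟩
  have hu' := Subgroup.closure_mono hsub hu
  have hn1 : ∀ a ∈ {g : G | ∃ t, g = P.x k.castSucc k.succ t}, ∀ b ∈ P.Upkgen k,
      a * b * a⁻¹ ∈ Subgroup.closure (P.Upkgen k) := by
    rintro a ⟨t, rfl⟩ b hb
    rw [← MulAut.conj_apply]
    exact P.xk_conj_Upkgen k t hb
  have hn2 : ∀ a ∈ {g : G | ∃ t, g = P.x k.castSucc k.succ t}, ∀ b ∈ P.Upkgen k,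
      a⁻¹ * b * a ∈ Subgroup.closure (P.Upkgen k) := by
    rintro a ⟨t, rfl⟩ b hb
    have : (P.x k.castSucc k.succ t)⁻¹ * b * P.x k.castSucc k.succ t =
        MulAut.conj (P.x k.castSucc k.succ (-t)) b := by
      rw [MulAut.conj_apply, ← P.toStData.x_neg hab, inv_inv]
    rw [this]
    exact P.xk_conj_Upkgen k (-t) hb
  obtain ⟨a, ha, b, hb, rfl⟩ := mem_closure_union_mul hn1 hn2 hu'
  obtain ⟨t, rfl⟩ := P.mem_X hab ha
  refine ⟨MulAut.conj (P.x k.castSucc k.succ t) b, P.xk_conj_Upk k t hb, t, ?_⟩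
  rw [MulAut.conj_apply]; group

omit hn in
theorem swap_lt {k : Fin m} {i j : Fin (m + 1)} (hij : i < j)
    (hne : ¬ (i = k.castSucc ∧ j = k.succ)) :
    Equiv.swap k.castSucc k.succ i < Equiv.swap k.castSucc k.succ j ∧
      ¬ (Equiv.swap k.castSucc k.succ i = k.castSucc ∧
        Equiv.swap k.castSucc k.succ j = k.succ) := by
  rw [Equiv.swap_apply_def, Equiv.swap_apply_def]
  split_ifs <;>
    (simp only [Fin.ext_iff, Fin.lt_def, Fin.val_castSucc, Fin.val_succ] at *; omega)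

/-- `w_k(u)` normalizes `U_k` -/
theorem wk_conj_Upk (k : Fin m) {u : K} (hu : u ≠ 0) {v : G} (hv : v ∈ P.Upk k) :
    MulAut.conj (P.toStData.w k.castSucc k.succ u) v ∈ P.Upk k := by
  refine conj_mem_closure _ ?_ v hv
  rintro b ⟨i, j, t, hij, hne, rfl⟩
  have h := (P.toStData.actM_w hn (cs_ne k) hu).2 i j (ne_of_lt hij) t
  rw [h]
  obtain ⟨h1, h2⟩ := swap_lt hij hne
  exact Subgroup.subset_closure ⟨_, _, _, h1, h2, rfl⟩

omit hn in
theorem w_mem_Ns (k : Fin m) {u : K} (hu : u ≠ 0) : P.toStData.w k.castSucc k.succ u ∈ P.Ns := by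
  rw [P.toStData.w_eq_h_mul (cs_ne k)]
  exact mul_mem (P.Hs_le_Ns (Subgroup.subset_closure ⟨_, _, _, cs_ne k, hu, rfl⟩)) (P.nk_mem_Ns k)

/-- the Bruhat multiplication rule for a simple reflection and a root element -/
theorem key_mul (k : Fin m) {ñ : G} (hñ : ñ ∈ P.Ns) (t : K) :
    ∃ u₁ ∈ P.U, ∃ ñ' ∈ P.Ns, ∃ u₂ ∈ P.U,
      P.nk k * P.x k.castSucc k.succ t * ñ = u₁ * ñ' * u₂ := by
  have hab := cs_ne k
  obtain ⟨σ, mm, hact⟩ := P.act_Ns hn hñ
  have hinv := hact.inv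
  have hne : σ⁻¹ k.castSucc ≠ σ⁻¹ k.succ := σ⁻¹.injective.ne hab
  rcases lt_or_gt_of_ne hne with hlt | hgt
  · have e := hinv.2 _ _ hab t
    rw [MulAut.conj_apply, inv_inv] at e
    obtain ⟨c, e⟩ : ∃ c, ñ⁻¹ * P.x k.castSucc k.succ t * ñ =
      P.x (σ⁻¹ k.castSucc) (σ⁻¹ k.succ) c := ⟨_, e⟩
    refine ⟨1, one_mem _, P.nk k * ñ, mul_mem (P.nk_mem_Ns k) hñ, _, P.x_mem_U hlt c, ?_⟩
    rw [← e]; group
  · by_cases ht : t = 0
    · subst ht
      refine ⟨1, one_mem _, P.nk k * ñ, mul_mem (P.nk_mem_Ns k) hñ, 1, one_mem _, ?_⟩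
      rw [P.toStData.x_zero hab]; group
    · have s1 : P.nk k * P.x k.castSucc k.succ t = P.x k.succ k.castSucc (-t) * P.nk k := by
        have := P.toStData.w_mul_x hn hab (one_ne_zero (α := K)) t
        have e : -((1 : K)⁻¹ * 1⁻¹) * t = -t := by simp
        rw [e] at this
        exact this
      have s2 := P.toStData.y_eq hab (neg_ne_zero.mpr ht)
      have e1 : (-t)⁻¹ = -t⁻¹ := inv_neg
      have e2 : -(-t)⁻¹ = t⁻¹ := by rw [inv_neg, neg_neg]
      rw [e2, e1] at s2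
      have h2 := ((P.act_nk hn k).mul _ hact).inv
      have e3 := h2.2 _ _ hab (-t⁻¹)
      have p1 : (Equiv.swap k.castSucc k.succ * σ)⁻¹ k.castSucc = σ⁻¹ k.succ := by
        rw [_root_.mul_inv_rev, Equiv.swap_inv, Equiv.Perm.mul_apply, Equiv.swap_apply_left]
      have p2 : (Equiv.swap k.castSucc k.succ * σ)⁻¹ k.succ = σ⁻¹ k.castSucc := by
        rw [_root_.mul_inv_rev, Equiv.swap_inv, Equiv.Perm.mul_apply, Equiv.swap_apply_right]
      rw [p1, p2, MulAut.conj_apply, inv_inv] at e3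
      obtain ⟨c, e3⟩ : ∃ c, (P.nk k * ñ)⁻¹ * P.x k.castSucc k.succ (-t⁻¹) * (P.nk k * ñ) =
        P.x (σ⁻¹ k.succ) (σ⁻¹ k.castSucc) c := ⟨_, e3⟩
      refine ⟨P.x k.castSucc k.succ (-t⁻¹), P.x_mem_U Fin.castSucc_lt_succ _,
        P.toStData.w k.castSucc k.succ t⁻¹ * (P.nk k * ñ),
        mul_mem (P.w_mem_Ns k (inv_ne_zero ht)) (mul_mem (P.nk_mem_Ns k) hñ), _,
        P.x_mem_U hgt c, ?_⟩
      rw [← e3, s1, s2]
      group

/-- the big cell union `U N U` -/
def InS (g : G) : Prop := ∃ u₁ ∈ P.U, ∃ ñ ∈ P.Ns, ∃ u₂ ∈ P.U, g = u₁ * ñ * u₂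

omit hn in
theorem InS_one : P.InS 1 := ⟨1, one_mem _, 1, one_mem _, 1, one_mem _, by simp⟩

omit hn in
theorem U_mul_InS {u g : G} (hu : u ∈ P.U) (hg : P.InS g) : P.InS (u * g) := by
  obtain ⟨u₁, h1, ñ, h2, u₂, h3, rfl⟩ := hg
  exact ⟨u * u₁, mul_mem hu h1, ñ, h2, u₂, h3, by group⟩

theorem Hs_mul_InS {h g : G} (hh : h ∈ P.Hs) (hg : P.InS g) : P.InS (h * g) := by
  obtain ⟨u₁, h1, ñ, h2, u₂, h3, rfl⟩ := hg
  obtain ⟨mm, hact⟩ := P.act_Hs hn hh
  exact ⟨h * u₁ * h⁻¹, P.conj_U_of_diag hn hact h1, h * ñ, mul_mem (P.Hs_le_Ns hh) h2, u₂, h3,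
    by group⟩

theorem nk_mul_InS (k : Fin m) {g : G} (hg : P.InS g) : P.InS (P.nk k * g) := by
  obtain ⟨u₁, h1, ñ, h2, u₂, h3, rfl⟩ := hg
  obtain ⟨v, hv, t, rfl⟩ := P.U_decomp k h1
  obtain ⟨w₁, hw1, ñ', hñ', w₂, hw2, e⟩ := P.key_mul hn k h2 t
  have hv' := P.wk_conj_Upk hn k (one_ne_zero (α := K)) hv
  rw [MulAut.conj_apply] at hv'
  refine ⟨(P.nk k * v * (P.nk k)⁻¹) * w₁, mul_mem (P.Upk_le_U k hv') hw1, ñ', hñ', w₂ * u₂,
    mul_mem hw2 h3, ?_⟩
  calc P.nk k * (v * P.x k.castSucc k.succ t * ñ * u₂)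
      = (P.nk k * v * (P.nk k)⁻¹) * (P.nk k * P.x k.castSucc k.succ t * ñ) * u₂ := by group
    _ = _ := by rw [e]; group

theorem nk_inv_mul_InS (k : Fin m) {g : G} (hg : P.InS g) : P.InS ((P.nk k)⁻¹ * g) := by
  have e : (P.nk k)⁻¹ = P.toStData.h k.castSucc k.succ (-1) * P.nk k := by
    unfold nk
    rw [P.toStData.w_inv (cs_ne k), ← P.toStData.w_eq_h_mul (cs_ne k)]
  rw [e, mul_assoc]
  exact P.Hs_mul_InS hn (Subgroup.subset_closure
    ⟨_, _, _, cs_ne k, neg_ne_zero.mpr one_ne_zero, rfl⟩) (P.nk_mul_InS hn k hg)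

/-- the generating set consisting of positive root elements and simple reflections -/
def Bgen : Set G := P.Ugen 0 ∪ {g | ∃ k : Fin m, g = P.nk k}

theorem x_succ_mem (k : Fin m) (t : K) :
    P.x k.succ k.castSucc t ∈ Subgroup.closure P.Bgen := by
  have hab := cs_ne k
  have s1 : P.nk k * P.x k.castSucc k.succ (-t) = P.x k.succ k.castSucc t * P.nk k := by
    have := P.toStData.w_mul_x hn hab (one_ne_zero (α := K)) (-t)
    have e : -((1 : K)⁻¹ * 1⁻¹) * -t = t := by simp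
    rw [e] at this
    exact this
  have e : P.x k.succ k.castSucc t = P.nk k * P.x k.castSucc k.succ (-t) * (P.nk k)⁻¹ := by
    rw [s1]; group
  rw [e]
  have h1 : P.nk k ∈ Subgroup.closure P.Bgen := Subgroup.subset_closure (Or.inr ⟨k, rfl⟩)
  have h2 : P.x k.castSucc k.succ (-t) ∈ Subgroup.closure P.Bgen :=
    Subgroup.subset_closure (Or.inl ⟨_, _, _, Nat.zero_le _, Fin.castSucc_lt_succ, rfl⟩)
  exact mul_mem (mul_mem h1 h2) (inv_mem h1)

theorem x_lower_mem : ∀ d : ℕ, ∀ i j : Fin (m + 1), i.val = j.val + d + 1 → ∀ t : K,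
    P.x i j t ∈ Subgroup.closure P.Bgen := by
  intro d
  induction d with
  | zero =>
    intro i j hij t
    have hj : j.val < m := by have := i.isLt; omega
    have e1 : j = (⟨j.val, hj⟩ : Fin m).castSucc := Fin.ext rfl
    have e2 : i = (⟨j.val, hj⟩ : Fin m).succ := Fin.ext (by simp [hij])
    rw [e1, e2]
    exact P.x_succ_mem hn _ t
  | succ d ih =>
    intro i j hij t
    have hj : j.val < m := by have := i.isLt; omega
    set j' : Fin (m + 1) := ⟨j.val + 1, by omega⟩ with hj'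
    have h1 : i ≠ j' := by
      intro h; have := congrArg Fin.val h; simp [hj'] at this; omega
    have h2 : j' ≠ j := by
      intro h; have := congrArg Fin.val h; simp [hj'] at this
    have h3 : i ≠ j := by
      intro h; have := congrArg Fin.val h; omega
    have e := P.toStData.x_eq_comm h1 h2 h3 t 1
    rw [mul_one] at e
    rw [e]
    have m1 := ih i j' (by simp [hj']; omega) t
    have e1 : j = (⟨j.val, hj⟩ : Fin m).castSucc := Fin.ext rfl
    have e2 : j' = (⟨j.val, hj⟩ : Fin m).succ := Fin.ext (by simp [hj'])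
    have m2 : P.x j' j 1 ∈ Subgroup.closure P.Bgen := by
      rw [e2]; nth_rewrite 2 [e1]
      exact P.x_succ_mem hn _ 1
    exact mul_mem (mul_mem (mul_mem m1 m2) (inv_mem m1)) (inv_mem m2)

theorem Bgen_closure : Subgroup.closure P.Bgen = ⊤ := by
  rw [eq_top_iff, ← P.gen, Subgroup.closure_le]
  rintro g ⟨i, j, hij, t, rfl⟩
  rcases lt_or_gt_of_ne hij with h | h
  · exact Subgroup.subset_closure (Or.inl ⟨i, j, t, Nat.zero_le _, h, rfl⟩)
  · have hv : j.val < i.val := h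
    exact P.x_lower_mem hn (i.val - j.val - 1) i j (by omega) t

theorem all_InS (g : G) : P.InS g := by
  have key : ∀ g ∈ Subgroup.closure P.Bgen, ∀ s, P.InS s → P.InS (g * s) := by
    intro g hg
    induction hg using Subgroup.closure_induction'' with
    | mem y hy =>
      intro s hs
      rcases hy with hy | ⟨k, rfl⟩
      · exact P.U_mul_InS (Subgroup.subset_closure hy) hs
      · exact P.nk_mul_InS hn k hs
    | inv_mem y hy =>
      intro s hs
      rcases hy with hy | ⟨k, rfl⟩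
      · exact P.U_mul_InS (inv_mem (Subgroup.subset_closure hy)) hs
      · exact P.nk_inv_mul_InS hn k hs
    | one => intro s hs; rwa [one_mul]
    | mul x y _ _ hx hy =>
      intro s hs
      rw [mul_assoc]
      exact hx _ (hy _ hs)
  have hg : g ∈ Subgroup.closure P.Bgen := by rw [P.Bgen_closure hn]; exact Subgroup.mem_top g
  have := key g hg 1 P.InS_one
  rwa [mul_one] at this

end StPi

end Cfsg.Agent.Lib.Helper10.Stein
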