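import Mathlib
import Cfsg.Agent.Lib.Helper10.SteinF
import Cfsg.Agent.Lib.Helper1.CoxeterA

set_option autoImplicit false

namespace Cfsg.Agent.Lib.Helper10.Stein

open Matrix

section general
variable {Q : Type*} [Group Q]

theorem braid_pow (a b : Q) (e : a * b * a * (b * a * b) = 1) : (a * b) ^ 3 = 1 := by
  have : (a * b) ^ 3 = a * b * a * (b * a * b) := by
    rw [pow_succ, pow_succ, pow_one]; group
  rw [this, e]

theorem braid_pow' (a b : Q) (e : b * a * b * (a * b * a) = 1) : (a * b) ^ 3 = 1 := by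
  have : (a * b) ^ 3 = a * (b * a * b * (a * b * a)) * a⁻¹ := by
    rw [pow_succ, pow_succ, pow_one]; group
  rw [this, e, mul_one, mul_inv_cancel]

theorem comm_pow (a b : Q) (ha : a * a = 1) (hb : b * b = 1) (hc : a * b = b * a) :
    (a * b) ^ 2 = 1 := by
  calc (a * b) ^ 2 = a * (b * a) * b := by rw [pow_succ, pow_one]; group
    _ = a * (a * b) * b := by rw [hc]
    _ = (a * a) * (b * b) := by group
    _ = 1 := by rw [ha, hb, one_mul]

end general

variable {m : ℕ} {K : Type*} [Field K] {G : Type*} [Group G] (P : StPi (m + 1) K G)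

namespace StPi

theorem transvection_apply {n : ℕ} {a b : Fin n} (hab : a ≠ b) (c : K) (p q : Fin n) :
    (Matrix.SpecialLinearGroup.transvection hab c).1 p q =
      (if p = q then 1 else 0) + (if a = p ∧ b = q then c else 0) := by
  rw [Matrix.SpecialLinearGroup.transvection_coe, Matrix.add_apply, Matrix.one_apply,
    Matrix.single_apply]

/-- the permutation through which an element acts is unique -/
theorem actM_unique (hm : 2 ≤ m + 1) {g : G} {σ σ' : Equiv.Perm (Fin (m + 1))}
    {mm mm' : Fin (m + 1) → K}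
    (h : P.toStData.ActM g σ mm) (h' : P.toStData.ActM g σ' mm') : σ = σ' := by
  have key : ∀ i j, i ≠ j → σ i = σ' i := by
    intro i j hij
    have e1 := h.2 i j hij 1
    have e2 := h'.2 i j hij 1
    rw [e1] at e2
    have e3 := congrArg P.π e2
    have hσ : σ i ≠ σ j := σ.injective.ne hij
    have hσ' : σ' i ≠ σ' j := σ'.injective.ne hij
    rw [P.π_x _ _ hσ, P.π_x _ _ hσ'] at e3
    have e4 : (Matrix.SpecialLinearGroup.transvection hσ (mm i / mm j * 1)).1 (σ i) (σ j) =
        (Matrix.SpecialLinearGroup.transvection hσ' (mm' i / mm' j * 1)).1 (σ i) (σ j) := by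
      rw [e3]
    rw [transvection_apply, transvection_apply, if_neg hσ, zero_add, zero_add,
      if_pos ⟨rfl, rfl⟩] at e4
    by_contra hne
    rw [if_neg (fun hh => hne hh.1.symm)] at e4
    have hc : mm i / mm j * 1 ≠ 0 := mul_ne_zero (div_ne_zero (h.1 i) (h.1 j)) one_ne_zero
    exact hc e4
  ext i
  have : ∃ j : Fin (m + 1), i ≠ j := by
    by_cases hi : i.val = 0
    · refine ⟨⟨1, by omega⟩, fun h => ?_⟩
      rw [Fin.ext_iff] at h
      simp only at h
      omega
    · refine ⟨⟨0, by omega⟩, fun h => ?_⟩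
      rw [Fin.ext_iff] at h
      simp only at h
      omega
  obtain ⟨j, hij⟩ := this
  rw [key i j hij]

variable (hn : 3 ≤ m + 1)
include hn

theorem Hs_normal_in_Ns : (P.Hs.subgroupOf P.Ns).Normal := by
  constructor
  intro h hh g
  rw [Subgroup.mem_subgroupOf] at hh ⊢
  obtain ⟨σ, mm, hact⟩ := P.act_Ns hn g.2
  have := P.conj_Hs hn hact hh
  simpa using this

theorem nk_sq_mem (k : Fin m) : P.nk k * P.nk k ∈ P.Hs := by
  have e : P.nk k * P.nk k = (P.toStData.h k.castSucc k.succ (-1))⁻¹ := by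
    unfold nk StData.h
    rw [P.toStData.w_inv' (cs_ne k) 1, _root_.mul_inv_rev, inv_inv]
  rw [e]
  exact inv_mem (Subgroup.subset_closure ⟨_, _, _, cs_ne k, neg_ne_zero.mpr one_ne_zero, rfl⟩)

/-- non-adjacent simple reflections commute -/
theorem nk_comm {i j : Fin m} (h1 : i.val + 1 < j.val) : P.nk i * P.nk j = P.nk j * P.nk i := by
  have hact := P.act_nk hn i
  have e := hact.conj_w _ (cs_ne j) (one_ne_zero (α := K))
  have a1 : j.castSucc ≠ i.castSucc := by
    intro h; have := congrArg Fin.val h; simp at this; omega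
  have a2 : j.castSucc ≠ i.succ := by
    intro h; have := congrArg Fin.val h; simp at this; omega
  have a3 : j.succ ≠ i.castSucc := by
    intro h; have := congrArg Fin.val h; simp at this; omega
  have a4 : j.succ ≠ i.succ := by
    intro h; have := congrArg Fin.val h; simp at this; omega
  rw [Equiv.swap_apply_of_ne_of_ne a1 a2, Equiv.swap_apply_of_ne_of_ne a3 a4] at e
  have c : StData.mW i.castSucc i.succ (1 : K) j.castSucc /
      StData.mW i.castSucc i.succ (1 : K) j.succ * 1 = 1 := by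
    unfold StData.mW
    simp [a1, a2, a3, a4]
  rw [c, MulAut.conj_apply] at e
  exact mul_inv_eq_iff_eq_mul.mp e

/-- braid relation in the form `(a b a⁻¹)(b a b⁻¹) = 1` for adjacent simple reflections -/
theorem nk_braid {i j : Fin m} (h1 : i.val + 1 = j.val) :
    (P.nk i * P.nk j * (P.nk i)⁻¹) * (P.nk j * P.nk i * (P.nk j)⁻¹) = 1 := by
  have e1 := (P.act_nk hn i).conj_w _ (cs_ne j) (one_ne_zero (α := K))
  have e2 := (P.act_nk hn j).conj_w _ (cs_ne i) (one_ne_zero (α := K))
  have b1 : j.castSucc = i.succ := Fin.ext (by simp; omega)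
  have a3 : j.succ ≠ i.castSucc := by
    intro h; have := congrArg Fin.val h; simp at this; omega
  have a4 : j.succ ≠ i.succ := by
    intro h; have := congrArg Fin.val h; simp at this; omega
  have a5 : i.castSucc ≠ i.succ := cs_ne i
  have a6 : i.castSucc ≠ j.succ := Ne.symm a3
  rw [b1, Equiv.swap_apply_right, Equiv.swap_apply_of_ne_of_ne a3 a4] at e1
  have c1 : StData.mW i.castSucc i.succ (1 : K) i.succ /
      StData.mW i.castSucc i.succ (1 : K) j.succ * 1 = 1 := by
    unfold StData.mW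
    simp [a5.symm, a3, a4]
  rw [c1] at e1
  rw [b1, Equiv.swap_apply_of_ne_of_ne a5 a6, Equiv.swap_apply_left] at e2
  have c2 : StData.mW i.succ j.succ (1 : K) i.castSucc /
      StData.mW i.succ j.succ (1 : K) i.succ * 1 = -1 := by
    unfold StData.mW
    simp [a5, a6]
  rw [c2, P.toStData.w_inv' a6 1] at e2
  rw [MulAut.conj_apply] at e1 e2
  have hj : P.nk j = P.toStData.w i.succ j.succ 1 := by unfold nk; rw [b1]
  have hi : P.nk i = P.toStData.w i.castSucc i.succ 1 := rfl
  have e1' : P.nk i * P.nk j * (P.nk i)⁻¹ = P.toStData.w i.castSucc j.succ 1 := by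
    rw [hj]; exact e1
  have e2' : P.nk j * P.nk i * (P.nk j)⁻¹ = (P.toStData.w i.castSucc j.succ 1)⁻¹ := by
    rw [hi]; exact e2
  rw [e1', e2', mul_inv_cancel]

/-- an element of `N` acting through the trivial permutation lies in the torus -/
theorem mem_Hs_of_act_one {g : G} (hg : g ∈ P.Ns) {mm : Fin (m + 1) → K}
    (hact : P.toStData.ActM g 1 mm) : g ∈ P.Hs := by
  classical
  haveI := P.Hs_normal_in_Ns hn
  set nkS : Fin m → ↥P.Ns := fun k => ⟨P.nk k, P.nk_mem_Ns k⟩ with hnkS
  set q : Fin m → ↥P.Ns ⧸ P.Hs.subgroupOf P.Ns := fun k => QuotientGroup.mk (nkS k) with hq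
  have hq2 : ∀ k, q k * q k = 1 := by
    intro k
    rw [hq]
    show (QuotientGroup.mk (nkS k) : ↥P.Ns ⧸ P.Hs.subgroupOf P.Ns) * QuotientGroup.mk (nkS k) = 1
    rw [← QuotientGroup.mk_mul, QuotientGroup.eq_one_iff, Subgroup.mem_subgroupOf]
    exact P.nk_sq_mem hn k
  have hinvq : ∀ k, (q k)⁻¹ = q k := fun k => inv_eq_of_mul_eq_one_left (hq2 k)
  have hbraid : ∀ i j : Fin m, i.val + 1 = j.val →
      q i * q j * q i * (q j * q i * q j) = 1 := by
    intro i j h1
    have e : nkS i * nkS j * (nkS i)⁻¹ * (nkS j * nkS i * (nkS j)⁻¹) = 1 := by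
      apply Subtype.ext
      simpa [hnkS] using P.nk_braid hn h1
    have e2 := congrArg (QuotientGroup.mk (s := P.Hs.subgroupOf P.Ns)) e
    simp only [QuotientGroup.mk_mul, QuotientGroup.mk_inv, QuotientGroup.mk_one] at e2
    have e3 : q i * q j * (q i)⁻¹ * (q j * q i * (q j)⁻¹) = 1 := e2
    rw [hinvq, hinvq] at e3
    exact e3
  have hcomm : ∀ i j : Fin m, i.val + 1 < j.val → q i * q j = q j * q i := by
    intro i j h1
    have e : nkS i * nkS j = nkS j * nkS i := by
      apply Subtype.ext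
      simpa [hnkS] using P.nk_comm hn h1
    have e2 := congrArg (QuotientGroup.mk (s := P.Hs.subgroupOf P.Ns)) e
    simp only [QuotientGroup.mk_mul] at e2
    exact e2
  have hlift : (CoxeterMatrix.A m).IsLiftable q := by
    intro i j
    show (q i * q j) ^ (CoxeterMatrix.A m i j) = 1
    rw [Cfsg.Agent.Lib.Helper1.CoxA.A_apply]
    split_ifs with h1 h2
    · subst h1; rw [pow_one]; exact hq2 i
    · rcases h2 with h2 | h2
      · exact braid_pow' _ _ (hbraid j i h2)
      · exact braid_pow _ _ (hbraid i j h2)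
    · have hne : i.val ≠ j.val := fun h => h1 (Fin.ext h)
      have hc : q i * q j = q j * q i := by
        rcases Nat.lt_or_gt_of_ne hne with h | h
        · exact hcomm i j (by omega)
        · exact (hcomm j i (by omega)).symm
      exact comm_pow _ _ (hq2 i) (hq2 j) hc
  set f := (Cfsg.Agent.Lib.Helper1.CoxA.coxeterSystemPerm m).lift ⟨q, hlift⟩ with hf
  have hfs : ∀ k : Fin m, f (Equiv.swap k.castSucc k.succ) = q k := by
    intro k
    rw [← Cfsg.Agent.Lib.Helper1.CoxA.coxeterSystemPerm_simple]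
    exact (Cfsg.Agent.Lib.Helper1.CoxA.coxeterSystemPerm m).lift_apply_simple hlift k
  have main : ∀ (g : G) (hg : g ∈ P.Ns), ∃ σ mm, P.toStData.ActM g σ mm ∧
      (QuotientGroup.mk ⟨g, hg⟩ : ↥P.Ns ⧸ P.Hs.subgroupOf P.Ns) = f σ := by
    intro g hg
    refine Subgroup.closure_induction
      (p := fun g hg => ∃ σ mm, P.toStData.ActM g σ mm ∧
        (QuotientGroup.mk (⟨g, hg⟩ : ↥P.Ns) : ↥P.Ns ⧸ P.Hs.subgroupOf P.Ns) = f σ)
      ?_ ?_ ?_ ?_ hg
    · intro y hy
      rcases hy with ⟨k, rfl⟩ | hy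
      · exact ⟨_, _, P.act_nk hn k, (hfs k).symm⟩
      · obtain ⟨mm, h⟩ := P.act_Hs hn hy
        refine ⟨1, mm, h, ?_⟩
        rw [map_one, QuotientGroup.eq_one_iff, Subgroup.mem_subgroupOf]
        exact hy
    · exact ⟨1, _, StData.ActM.one P.toStData, by rw [map_one]; rfl⟩
    · intro x y hx hy ihx ihy
      obtain ⟨s1, m1, h1, e1⟩ := ihx
      obtain ⟨s2, m2, h2, e2⟩ := ihy
      refine ⟨s1 * s2, _, h1.mul _ h2, ?_⟩
      rw [map_mul, ← e1, ← e2]
      rfl
    · intro x hx ihx
      obtain ⟨s1, m1, h1, e1⟩ := ihx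
      refine ⟨s1⁻¹, _, h1.inv, ?_⟩
      rw [map_inv, ← e1]
      rfl
  obtain ⟨σ, mm', h1, e1⟩ := main g hg
  have hσ : σ = 1 := P.actM_unique (by omega) h1 hact
  rw [hσ, map_one, QuotientGroup.eq_one_iff, Subgroup.mem_subgroupOf] at e1
  exact e1

end StPi

end Cfsg.Agent.Lib.Helper10.Stein
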