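import Mathlib
import Cfsg.Agent.Lib.Helper10.SteinG

set_option autoImplicit false

namespace Cfsg.Agent.Lib.Helper10.Stein

open Matrix

/-- upper unitriangular -/
def UUT {n : ℕ} {K : Type*} [Field K] (M : Matrix.SpecialLinearGroup (Fin n) K) : Prop :=
  (∀ a b, b < a → M.1 a b = 0) ∧ ∀ a, M.1 a a = 1

theorem uut_one {n : ℕ} {K : Type*} [Field K] : UUT (1 : Matrix.SpecialLinearGroup (Fin n) K) := by
  constructor
  · intro a b hab
    rw [Matrix.SpecialLinearGroup.coe_one, Matrix.one_apply_ne (ne_of_gt hab)]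
  · intro a
    rw [Matrix.SpecialLinearGroup.coe_one, Matrix.one_apply_eq]

theorem uut_mul {n : ℕ} {K : Type*} [Field K] {M M' : Matrix.SpecialLinearGroup (Fin n) K}
    (h : UUT M) (h' : UUT M') : UUT (M * M') := by
  constructor
  · intro a b hab
    rw [Matrix.SpecialLinearGroup.coe_mul, Matrix.mul_apply]
    apply Finset.sum_eq_zero
    intro c _
    rcases lt_or_ge c a with hc | hc
    · rw [h.1 a c hc, zero_mul]
    · rw [h'.1 c b (lt_of_lt_of_le hab hc), mul_zero]
  · intro a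
    rw [Matrix.SpecialLinearGroup.coe_mul, Matrix.mul_apply, Finset.sum_eq_single a]
    · rw [h.2, h'.2, one_mul]
    · intro c _ hca
      rcases lt_or_gt_of_ne hca with hc | hc
      · rw [h.1 a c hc, zero_mul]
      · rw [h'.1 c a hc, mul_zero]
    · intro ha; exact absurd (Finset.mem_univ a) ha

theorem uut_transvection {n : ℕ} {K : Type*} [Field K] {i j : Fin n} (hij : i < j) (t : K) :
    UUT (Matrix.SpecialLinearGroup.transvection (ne_of_lt hij) t) := by
  constructor
  · intro a b hab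
    rw [StPi.transvection_apply, if_neg (ne_of_gt hab), zero_add, if_neg]
    rintro ⟨rfl, rfl⟩
    exact absurd hij (not_lt.mpr (le_of_lt hab))
  · intro a
    rw [StPi.transvection_apply, if_pos rfl, if_neg, add_zero]
    rintro ⟨rfl, h⟩
    exact (ne_of_lt hij) h.symm

/-- diagonal -/
def IsDiagM {n : ℕ} {K : Type*} [Field K] (M : Matrix.SpecialLinearGroup (Fin n) K) : Prop :=
  ∀ a b, a ≠ b → M.1 a b = 0

variable {m : ℕ} {K : Type*} [Field K] {G : Type*} [Group G] (P : StPi (m + 1) K G)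

namespace StPi

theorem uut_of_mem_U {u : G} (hu : u ∈ P.U) : UUT (P.π u) := by
  induction hu using Subgroup.closure_induction'' with
  | mem y hy =>
    obtain ⟨i, j, t, -, hij, rfl⟩ := hy
    rw [P.π_x i j (ne_of_lt hij)]
    exact uut_transvection hij t
  | inv_mem y hy =>
    obtain ⟨i, j, t, -, hij, rfl⟩ := hy
    rw [P.toStData.x_neg (ne_of_lt hij), P.π_x i j (ne_of_lt hij)]
    exact uut_transvection hij _
  | one => rw [map_one]; exact uut_one
  | mul x y _ _ hx hy => rw [map_mul]; exact uut_mul hx hy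

variable [Finite K] (hn : 3 ≤ m + 1)
include hn

theorem diag_of_mem_Hs {h : G} (hh : h ∈ P.Hs) : IsDiagM (P.π h) := by
  induction hh using Subgroup.closure_induction'' with
  | mem y hy =>
    obtain ⟨i, j, u, hij, hu, rfl⟩ := hy
    rw [P.π_h hij hu]
    intro a b hab
    rw [Matrix.SpecialLinearGroup.diag2n_coe, Matrix.diagonal_apply_ne _ hab]
  | inv_mem y hy =>
    obtain ⟨i, j, u, hij, hu, rfl⟩ := hy
    rw [P.h_inv hn hij hu, P.π_h hij (inv_ne_zero hu)]
    intro a b hab
    rw [Matrix.SpecialLinearGroup.diag2n_coe, Matrix.diagonal_apply_ne _ hab]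
  | one =>
    rw [map_one]
    intro a b hab
    rw [Matrix.SpecialLinearGroup.coe_one, Matrix.one_apply_ne hab]
  | mul x y _ _ hx hy =>
    rw [map_mul]
    intro a b hab
    rw [Matrix.SpecialLinearGroup.coe_mul, Matrix.mul_apply]
    apply Finset.sum_eq_zero
    intro c _
    by_cases hc : a = c
    · subst hc; rw [hy a b hab, mul_zero]
    · rw [hx a c hc, zero_mul]

/-- the kernel of `π` is trivial -/
theorem π_ker_trivial {g : G} (hπ : P.π g = 1) : g = 1 := by
  obtain ⟨u₁, h1, ñ, h2, u₂, h3, rfl⟩ := P.all_InS hn g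
  have hu3 : u₁⁻¹ * u₂⁻¹ ∈ P.U := mul_mem (inv_mem h1) (inv_mem h3)
  have e3 : P.π ñ = P.π (u₁⁻¹ * u₂⁻¹) := by
    rw [map_mul, map_mul] at hπ
    rw [map_mul, map_inv, map_inv]
    calc P.π ñ = (P.π u₁)⁻¹ * (P.π u₁ * P.π ñ * P.π u₂) * (P.π u₂)⁻¹ := by group
      _ = _ := by rw [hπ]; group
  obtain ⟨σ, mm, hact⟩ := P.act_Ns hn h2
  have hmono : StrictMono σ := by
    intro i j hij
    by_contra hcon
    have hne : σ i ≠ σ j := σ.injective.ne (ne_of_lt hij)
    have hlt : σ j < σ i := lt_of_le_of_ne (not_lt.mp hcon) (Ne.symm hne)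
    have e := hact.2 i j (ne_of_lt hij) 1
    have e' := congrArg P.π e
    rw [MulAut.conj_apply, map_mul, map_mul, map_inv, e3, ← map_inv, ← map_mul, ← map_mul,
      P.π_x _ _ hne] at e'
    have hmem : u₁⁻¹ * u₂⁻¹ * P.x i j 1 * (u₁⁻¹ * u₂⁻¹)⁻¹ ∈ P.U :=
      mul_mem (mul_mem hu3 (P.x_mem_U hij 1)) (inv_mem hu3)
    have huut := P.uut_of_mem_U hmem
    rw [e'] at huut
    have h0 := huut.1 _ _ hlt
    rw [transvection_apply, if_neg hne, zero_add, if_pos ⟨rfl, rfl⟩] at h0
    exact (mul_ne_zero (div_ne_zero (hact.1 i) (hact.1 j)) one_ne_zero) h0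
  have hσ : σ = 1 := by
    have hmono' : StrictMono (σ⁻¹ : Equiv.Perm (Fin (m + 1))) := by
      intro i j hij
      by_contra hcon
      have := hmono.monotone (not_lt.mp hcon)
      simp at this
      exact absurd hij (not_lt.mpr this)
    ext i
    have a1 : i ≤ σ i := hmono.le_apply
    have a2 : σ i ≤ σ⁻¹ (σ i) := hmono'.le_apply
    simp at a2
    rw [Equiv.Perm.one_apply]
    exact congrArg Fin.val (le_antisymm a2 a1)
  rw [hσ] at hact
  have hñ : ñ ∈ P.Hs := P.mem_Hs_of_act_one hn h2 hact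
  have hdiag := P.diag_of_mem_Hs hn hñ
  have huut := P.uut_of_mem_U hu3
  rw [← e3] at huut
  have hñ1 : P.π ñ = 1 := by
    apply Subtype.ext
    ext a b
    rw [Matrix.SpecialLinearGroup.coe_one]
    by_cases hab : a = b
    · subst hab; rw [huut.2, Matrix.one_apply_eq]
    · rw [hdiag a b hab, Matrix.one_apply_ne hab]
  have hñ' : ñ = 1 := P.inj_H hn hñ hñ1
  subst hñ'
  rw [mul_one] at hπ ⊢
  exact P.inj_U0 (mul_mem h1 h3) hπ

theorem π_injective : Function.Injective P.π :=
  (injective_iff_map_eq_one P.π).mpr (fun _ h => P.π_ker_trivial hn h)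

end StPi

end Cfsg.Agent.Lib.Helper10.Stein
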