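import Mathlib
import Cfsg.Agent.Lib.Helper10.JTB

set_option autoImplicit false

namespace Cfsg.Agent.Lib.Helper10.Sub

open Cfsg.Agent.Lib.Helper10.JT

variable {K : Type*} [Field K] {L : Type*} [Field L] (m : ℕ)

/-- nilpotent part of the unipotent matrix with `m` Jordan blocks of size 2 -/
def Nb (K : Type*) [Field K] : Matrix (Fin m ⊕ Fin m) (Fin m ⊕ Fin m) K := Matrix.fromBlocks 0 0 1 0

/-- the unipotent matrix with `m` Jordan blocks of size 2 -/
def Jb (K : Type*) [Field K] : Matrix (Fin m ⊕ Fin m) (Fin m ⊕ Fin m) K := Matrix.fromBlocks 1 0 1 1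

theorem Jb_sub_one : Jb m K - 1 = Nb m K := by
  unfold Jb Nb
  ext (i | i) (j | j) <;> simp [Matrix.sub_apply, Matrix.one_apply]

theorem Nb_sq : Nb m K ^ 2 = 0 := by
  unfold Nb
  rw [sq, Matrix.fromBlocks_multiply]
  simp

theorem Nb_pow (p : ℕ) (hp : 2 ≤ p) : Nb m K ^ p = 0 := by
  obtain ⟨r, rfl⟩ := Nat.exists_eq_add_of_le hp
  rw [pow_add, Nb_sq, zero_mul]

theorem Nb_rank : (Nb m K).rank = m := by
  have h1 : Nb m K * (Matrix.fromBlocks 0 1 1 0 : Matrix (Fin m ⊕ Fin m) (Fin m ⊕ Fin m) K) =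
      Matrix.fromBlocks 0 0 0 1 := by
    unfold Nb
    rw [Matrix.fromBlocks_multiply]
    simp
  have h2 : IsUnit (Matrix.fromBlocks 0 1 1 0 : Matrix (Fin m ⊕ Fin m) (Fin m ⊕ Fin m) K).det := by
    have h3 : (Matrix.fromBlocks 0 1 1 0 : Matrix (Fin m ⊕ Fin m) (Fin m ⊕ Fin m) K) *
        Matrix.fromBlocks 0 1 1 0 = 1 := by
      rw [Matrix.fromBlocks_multiply]
      simp [Matrix.fromBlocks_one]
    have h4 := congrArg Matrix.det h3
    rw [Matrix.det_mul, Matrix.det_one] at h4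
    exact IsUnit.of_mul_eq_one _ h4
  rw [← Matrix.rank_mul_eq_left_of_isUnit_det _ _ h2, h1, rank_fromBlocks_diag, Matrix.rank_zero,
    Matrix.rank_one, Fintype.card_fin, zero_add]

theorem Jb_map (f : K →+* L) : (Jb m K).map f = Jb m L := by
  unfold Jb
  rw [Matrix.fromBlocks_map]
  simp

theorem isSquare_det_of_comm (g : Matrix (Fin m ⊕ Fin m) (Fin m ⊕ Fin m) K)
    (h : g * Jb m K = Jb m K * g) : IsSquare g.det := by
  have hN : g * Nb m K = Nb m K * g := by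
    rw [← Jb_sub_one, mul_sub, sub_mul, h, mul_one, one_mul]
  rw [← Matrix.fromBlocks_toBlocks g] at hN ⊢
  unfold Nb at hN
  rw [Matrix.fromBlocks_multiply, Matrix.fromBlocks_multiply] at hN
  simp only [Matrix.mul_zero, Matrix.zero_mul, Matrix.mul_one, Matrix.one_mul, zero_add,
    add_zero] at hN
  rw [Matrix.fromBlocks_inj] at hN
  obtain ⟨h1, -, h3, -⟩ := hN
  rw [h1, h3, Matrix.det_fromBlocks_zero₁₂]
  exact ⟨_, rfl⟩

variable {m}

/-- the twisted unipotent element -/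
def xd (δ : K) (i0 : Fin m) : Matrix (Fin m ⊕ Fin m) (Fin m ⊕ Fin m) K :=
  Matrix.fromBlocks 1 0 (Matrix.diagonal (Function.update 1 i0 δ)) 1

/-- the twisting diagonal matrix -/
def Rd (δ : K) (i0 : Fin m) : Matrix (Fin m ⊕ Fin m) (Fin m ⊕ Fin m) K :=
  Matrix.fromBlocks 1 0 0 (Matrix.diagonal (Function.update 1 i0 δ))

theorem xd_mul_Rd (δ : K) (i0 : Fin m) : xd δ i0 * Rd δ i0 = Rd δ i0 * Jb m K := by
  unfold xd Rd Jb
  rw [Matrix.fromBlocks_multiply, Matrix.fromBlocks_multiply]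
  simp

theorem Rd_det (δ : K) (i0 : Fin m) : (Rd δ i0).det = δ := by
  unfold Rd
  rw [Matrix.det_fromBlocks_zero₁₂, Matrix.det_one, one_mul, Matrix.det_diagonal,
    Finset.prod_update_of_mem (Finset.mem_univ i0)]
  simp

theorem xd_det (δ : K) (i0 : Fin m) : (xd δ i0).det = 1 := by
  unfold xd
  rw [Matrix.det_fromBlocks_zero₁₂, Matrix.det_one, one_mul]

theorem xd_sub_one_sq (δ : K) (i0 : Fin m) : (xd δ i0 - 1) ^ 2 = 0 := by
  have h1 : xd δ i0 - 1 = Matrix.fromBlocks 0 0 (Matrix.diagonal (Function.update 1 i0 δ)) 0 := by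
    unfold xd
    ext (i | i) (j | j) <;> simp [Matrix.sub_apply, Matrix.one_apply]
  rw [h1, sq, Matrix.fromBlocks_multiply]
  simp

theorem xd_ne_scalar (δ : K) (hδ : δ ≠ 0) (i0 : Fin m) (z : K) :
    xd δ i0 ≠ z • (1 : Matrix (Fin m ⊕ Fin m) (Fin m ⊕ Fin m) K) := by
  intro h
  have h1 := congrFun (congrFun h (Sum.inr i0)) (Sum.inl i0)
  unfold xd at h1
  simp at h1
  exact hδ h1

end Cfsg.Agent.Lib.Helper10.Sub
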