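import Mathlib
import Cfsg.Prelude.Def_GeometricClasses
import Cfsg.Agent.Lib.Helper10.SubA
import Cfsg.Agent.Lib.Helper10.SubB
import Cfsg.Agent.Lib.Helper10.SubC
import Cfsg.Agent.Lib.Helper10.SubD
import Cfsg.Agent.Lib.Helper10.SubE
import Cfsg.Agent.Lib.Helper10.SubG
import Cfsg.Agent.Lib.Helper10.JTF

set_option autoImplicit false

namespace Cfsg.Agent.Lib.Helper10.Sub

open Cfsg.Agent.Lib.Helper10.JT

theorem Nb_pow_rank {K : Type*} [Field K] (m p : ℕ) :
    (Nb m K ^ p).rank = if p = 0 then m + m else if p = 1 then m else 0 := by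
  rcases Nat.lt_or_ge p 2 with hp | hp
  · interval_cases p
    · rw [pow_zero, Matrix.rank_one, Fintype.card_sum, Fintype.card_fin, if_pos rfl]
    · rw [pow_one, Nb_rank, if_neg (by norm_num), if_pos rfl]
  · rw [Nb_pow m p hp, Matrix.rank_zero, if_neg (by omega), if_neg (by omega)]

variable {F : Type*} [Field F] [Fintype F] [CharP F 3] {n : ℕ}

theorem not_conj (m : ℕ) (hm : 1 ≤ m) (hnm : m + m = n) (F₀ : Subfield F) (q₀ : ℕ)
    (hF₀ : Nat.card ↥F₀ = q₀) (hq : Fintype.card F = q₀ ^ 2) :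
    ∃ x : Matrix.SpecialLinearGroup (Fin n) F,
      (∃ z : F, ((x ^ 3 : Matrix.SpecialLinearGroup (Fin n) F) : Matrix (Fin n) (Fin n) F) =
        z • (1 : Matrix (Fin n) (Fin n) F)) ∧
      (∀ z : F, (x : Matrix (Fin n) (Fin n) F) ≠ z • (1 : Matrix (Fin n) (Fin n) F)) ∧
      ∀ P : Matrix.SpecialLinearGroup (Fin n) F,
        P⁻¹ * x * P ∉ (Cfsg.Geo.subfieldSubgroup F₀ (1 : GL (Fin n) F)).comap
          (Matrix.SpecialLinearGroup.toGL : Matrix.SpecialLinearGroup (Fin n) F →* GL (Fin n) F) := by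
  classical
  have hn0 : 0 < n := by omega
  have : Nonempty (Fin n) := ⟨⟨0, hn0⟩⟩
  let e' : Fin m ⊕ Fin m ≃ Fin n := finSumFinEquiv.trans (finCongr hnm)
  obtain ⟨δ, hδsq⟩ := FiniteField.exists_nonsquare (F := F) ringChar_ne_two
  have hδ0 : δ ≠ 0 := by
    rintro rfl
    exact hδsq ⟨0, by simp⟩
  let i0 : Fin m := ⟨0, hm⟩
  let ψ := Matrix.reindexAlgEquiv F F e'
  let ψ₀ := Matrix.reindexAlgEquiv ↥F₀ ↥F₀ e'
  obtain ⟨xm, hxm⟩ : ∃ xm : Matrix (Fin n) (Fin n) F, xm = ψ (xd δ i0) := ⟨_, rfl⟩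
  have hxdet : xm.det = 1 := by
    rw [hxm]
    show (Matrix.reindex e' e' (xd δ i0)).det = 1
    rw [Matrix.det_reindex_self, xd_det]
  have hxsq : (xm - 1) ^ 2 = 0 := by
    rw [hxm, ← map_one ψ, ← map_sub, ← map_pow, xd_sub_one_sq, map_zero]
  have hx3 : xm ^ 3 = 1 := by
    have h1 : (xm - 1) ^ 3 = 0 := by rw [pow_succ, hxsq, zero_mul]
    rw [sub_pow_char_of_commute 3 (Commute.one_right xm), one_pow] at h1
    exact sub_eq_zero.1 h1
  let x : Matrix.SpecialLinearGroup (Fin n) F := ⟨xm, hxdet⟩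
  have hx3' : x ^ 3 = 1 := by
    apply Subtype.ext
    rw [Matrix.SpecialLinearGroup.coe_pow]
    exact hx3
  refine ⟨x, ⟨1, ?_⟩, ?_, ?_⟩
  · rw [hx3', one_smul]
    rfl
  · intro z hz
    have h1 : xm = z • (1 : Matrix (Fin n) (Fin n) F) := hz
    rw [hxm] at h1
    have h2 := congrArg ψ.symm h1
    rw [AlgEquiv.symm_apply_apply, map_smul, map_one] at h2
    exact xd_ne_scalar δ hδ0 i0 z h2
  · intro P hP
    rw [Subgroup.mem_comap] at hP
    obtain ⟨c, m₀, hy⟩ := eq_of_mem_subfield F₀ _ hP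
    rw [Matrix.SpecialLinearGroup.coe_GL_coe_matrix] at hy
    obtain ⟨y, hydef⟩ : ∃ y : Matrix (Fin n) (Fin n) F,
      y = ((P⁻¹ * x * P : Matrix.SpecialLinearGroup (Fin n) F) : Matrix (Fin n) (Fin n) F) :=
      ⟨_, rfl⟩
    rw [← hydef] at hy
    have hPP : (P : Matrix (Fin n) (Fin n) F) *
        ((P⁻¹ : Matrix.SpecialLinearGroup (Fin n) F) : Matrix (Fin n) (Fin n) F) = 1 := by
      rw [← Matrix.SpecialLinearGroup.coe_mul, mul_inv_cancel, Matrix.SpecialLinearGroup.coe_one]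
    have hE1 : (P : Matrix (Fin n) (Fin n) F) * y = xm * (P : Matrix (Fin n) (Fin n) F) := by
      rw [hydef, Matrix.SpecialLinearGroup.coe_mul, Matrix.SpecialLinearGroup.coe_mul, ← mul_assoc,
        ← mul_assoc, hPP, one_mul]
    have hy3 : y ^ 3 = 1 := by
      rw [hydef, ← Matrix.SpecialLinearGroup.coe_pow]
      have : (P⁻¹ * x * P) ^ 3 = 1 := by
        have h1 : (P⁻¹ * x * P) ^ 3 = P⁻¹ * x ^ 3 * P := by
          rw [pow_succ, pow_succ, pow_one, pow_succ, pow_succ, pow_one]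
          group
        rw [h1, hx3', mul_one, inv_mul_cancel]
      rw [this]
      rfl
    have hPdet : IsUnit (P : Matrix (Fin n) (Fin n) F).det := by
      rw [P.2]
      exact isUnit_one
    have hysq : (y - 1) ^ 2 = 0 := by
      have h1 : (P : Matrix (Fin n) (Fin n) F) * (y - 1) = (xm - 1) * (P : Matrix (Fin n) (Fin n) F) := by
        rw [mul_sub, sub_mul, hE1, mul_one, one_mul]
      have h2 : (P : Matrix (Fin n) (Fin n) F) * (y - 1) ^ 2 = 0 := by
        rw [sq, ← mul_assoc, h1, mul_assoc, h1, ← mul_assoc, ← sq, hxsq, zero_mul]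
      have h3 := congrArg (fun A => ((P⁻¹ : Matrix.SpecialLinearGroup (Fin n) F) : Matrix (Fin n) (Fin n) F) * A) h2
      simp only [mul_zero] at h3
      have hPP' : ((P⁻¹ : Matrix.SpecialLinearGroup (Fin n) F) : Matrix (Fin n) (Fin n) F) *
          (P : Matrix (Fin n) (Fin n) F) = 1 := by
        rw [← Matrix.SpecialLinearGroup.coe_mul, inv_mul_cancel, Matrix.SpecialLinearGroup.coe_one]
      rwa [← mul_assoc, hPP', one_mul] at h3
    -- the scalar lies in the subfield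
    let Φ : Matrix (Fin n) (Fin n) ↥F₀ →+* Matrix (Fin n) (Fin n) F := F₀.subtype.mapMatrix
    have hΦinj : Function.Injective Φ := by
      intro A B hAB
      ext i j
      have := congrFun (congrFun hAB i) j
      exact this
    have hy' : y = (c : F) • Φ (m₀ : Matrix (Fin n) (Fin n) ↥F₀) := hy
    have hc3 : (c : F) ^ 3 ∈ F₀ := by
      have h1 : ((c : F) ^ 3) • Φ ((m₀ : Matrix (Fin n) (Fin n) ↥F₀) ^ 3) = 1 := by
        rw [map_pow, ← smul_pow, ← hy', hy3]
      have h2 := congrFun (congrFun h1 ⟨0, hn0⟩) ⟨0, hn0⟩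
      rw [Matrix.smul_apply, Matrix.one_apply_eq, smul_eq_mul] at h2
      have h3 : (c : F) ^ 3 = (Φ ((m₀ : Matrix (Fin n) (Fin n) ↥F₀) ^ 3) ⟨0, hn0⟩ ⟨0, hn0⟩)⁻¹ :=
        eq_inv_of_mul_eq_one_left h2
      rw [h3]
      exact F₀.inv_mem (Subtype.property _)
    have hc : (c : F) ∈ F₀ := mem_of_cube_mem F₀ hc3
    obtain ⟨h', hh'⟩ : ∃ h' : Matrix (Fin n) (Fin n) ↥F₀,
      h' = (⟨(c : F), hc⟩ : ↥F₀) • (m₀ : Matrix (Fin n) (Fin n) ↥F₀) := ⟨_, rfl⟩
    have hh'y : Φ h' = y := by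
      rw [hy', hh']
      ext i j
      simp [Φ]
    have hh'sq : (h' - 1) ^ 2 = 0 := by
      apply hΦinj
      rw [map_pow, map_sub, map_one, hh'y, hysq, map_zero]
    obtain ⟨t, d, hd, e, M, hM⟩ := exists_jordan h' ⟨2, hh'sq⟩
    have hM' : (M : Matrix (Fin n) (Fin n) ↥F₀) * Matrix.reindex e e (Cfsg.jordanTypeMatrix d ↥F₀) =
        h' * (M : Matrix (Fin n) (Fin n) ↥F₀) := hM
    obtain ⟨J', hJ'⟩ : ∃ J' : Matrix (Fin n) (Fin n) F,
      J' = Matrix.reindex e e (Cfsg.jordanTypeMatrix d F) := ⟨_, rfl⟩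
    have hΦJ : Φ (Matrix.reindex e e (Cfsg.jordanTypeMatrix d ↥F₀)) = J' := by
      rw [hJ']
      show (Matrix.reindex e e (Cfsg.jordanTypeMatrix d ↥F₀)).map F₀.subtype = _
      rw [reindex_map, jordanTypeMatrix_map]
    let uP : (Matrix (Fin n) (Fin n) F)ˣ := Matrix.SpecialLinearGroup.toGL P
    let uM : (Matrix (Fin n) (Fin n) F)ˣ := Units.map Φ.toMonoidHom M
    have huP : (uP : Matrix (Fin n) (Fin n) F) = (P : Matrix (Fin n) (Fin n) F) := rfl
    have huM : (uM : Matrix (Fin n) (Fin n) F) = Φ (M : Matrix (Fin n) (Fin n) ↥F₀) := rfl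
    have hE2 : (uM : Matrix (Fin n) (Fin n) F) * J' = y * (uM : Matrix (Fin n) (Fin n) F) := by
      rw [huM, ← hΦJ, ← map_mul, hM', map_mul, hh'y]
    -- the standard form
    obtain ⟨Jb', hJb'⟩ : ∃ Jb' : Matrix (Fin n) (Fin n) F, Jb' = ψ (Jb m F) := ⟨_, rfl⟩
    obtain ⟨Rm, hRm⟩ : ∃ Rm : Matrix (Fin n) (Fin n) F, Rm = ψ (Rd δ i0) := ⟨_, rfl⟩
    have hRdet : Rm.det = δ := by
      rw [hRm]
      show (Matrix.reindex e' e' (Rd δ i0)).det = δ
      rw [Matrix.det_reindex_self, Rd_det]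
    let uR : (Matrix (Fin n) (Fin n) F)ˣ :=
      Matrix.GeneralLinearGroup.mkOfDetNeZero Rm (by rw [hRdet]; exact hδ0)
    have huR : (uR : Matrix (Fin n) (Fin n) F) = Rm := rfl
    have hE4 : xm * Rm = Rm * Jb' := by
      rw [hxm, hRm, hJb', ← map_mul, ← map_mul, xd_mul_Rd]
    -- conjugacy over F and ranks
    have hconj1 : IsConj J' xm := by
      refine ⟨uP * uM, ?_⟩
      show ((uP * uM : (Matrix (Fin n) (Fin n) F)ˣ) : Matrix (Fin n) (Fin n) F) * J' =
        xm * ((uP * uM : (Matrix (Fin n) (Fin n) F)ˣ) : Matrix (Fin n) (Fin n) F)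
      rw [Units.val_mul, mul_assoc, hE2, ← mul_assoc, huP, hE1, mul_assoc]
    have hconj2 : IsConj Jb' xm := by
      refine ⟨uR, ?_⟩
      show (uR : Matrix (Fin n) (Fin n) F) * Jb' = xm * (uR : Matrix (Fin n) (Fin n) F)
      rw [huR, hE4]
    have hconj3 : IsConj J' Jb' := hconj1.trans hconj2.symm
    have hranks : ∀ p, ∑ k, (d k - p) = (Nb m F ^ p).rank := by
      intro p
      have h1 := rank_pow_of_isConj _ _ hconj3 p
      have h2 : J' - 1 = Matrix.reindexAlgEquiv F F e (Cfsg.jordanTypeMatrix d F - 1) := by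
        rw [hJ', map_sub, map_one]
        rfl
      have h3 : Jb' - 1 = ψ (Nb m F) := by
        rw [hJb', ← Jb_sub_one, map_sub, map_one]
      rw [h2, h3, ← map_pow, ← map_pow] at h1
      have h4 : (Matrix.reindexAlgEquiv F F e ((Cfsg.jordanTypeMatrix d F - 1) ^ p)).rank =
          ((Cfsg.jordanTypeMatrix d F - 1) ^ p).rank := Matrix.rank_reindex e e _
      have h5 : (ψ (Nb m F ^ p)).rank = (Nb m F ^ p).rank := Matrix.rank_reindex e' e' _
      rw [h4, h5, rank_jordanType_pow d hd p] at h1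
      exact h1
    -- conjugacy over the subfield
    have hconj0 : IsConj (ψ₀ (Jb m ↥F₀)) (Matrix.reindex e e (Cfsg.jordanTypeMatrix d ↥F₀)) := by
      apply isConj_of_rank_eq
      · refine ⟨2, ?_⟩
        rw [← map_one ψ₀, ← map_sub, Jb_sub_one, ← map_pow, Nb_sq, map_zero]
      · obtain ⟨r, hr⟩ := jordanType_nilpotent (F := ↥F₀) d
        refine ⟨r, ?_⟩
        have : Matrix.reindex e e (Cfsg.jordanTypeMatrix d ↥F₀) - 1 =
            Matrix.reindexAlgEquiv ↥F₀ ↥F₀ e (Cfsg.jordanTypeMatrix d ↥F₀ - 1) := by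
          rw [map_sub, map_one]
          rfl
        rw [this, ← map_pow, hr, map_zero]
      · intro p
        have h2 : Matrix.reindex e e (Cfsg.jordanTypeMatrix d ↥F₀) - 1 =
            Matrix.reindexAlgEquiv ↥F₀ ↥F₀ e (Cfsg.jordanTypeMatrix d ↥F₀ - 1) := by
          rw [map_sub, map_one]
          rfl
        rw [h2, ← map_one ψ₀, ← map_sub, Jb_sub_one, ← map_pow, ← map_pow]
        have h4 : (Matrix.reindexAlgEquiv ↥F₀ ↥F₀ e ((Cfsg.jordanTypeMatrix d ↥F₀ - 1) ^ p)).rank =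
            ((Cfsg.jordanTypeMatrix d ↥F₀ - 1) ^ p).rank := Matrix.rank_reindex e e _
        have h5 : (ψ₀ (Nb m ↥F₀ ^ p)).rank = (Nb m ↥F₀ ^ p).rank := Matrix.rank_reindex e' e' _
        rw [h4, h5, rank_jordanType_pow d hd p, hranks p, Nb_pow_rank, Nb_pow_rank]
    obtain ⟨S, hS⟩ := hconj0
    have hS' : (S : Matrix (Fin n) (Fin n) ↥F₀) * ψ₀ (Jb m ↥F₀) =
        Matrix.reindex e e (Cfsg.jordanTypeMatrix d ↥F₀) * (S : Matrix (Fin n) (Fin n) ↥F₀) := hS
    let uS : (Matrix (Fin n) (Fin n) F)ˣ := Units.map Φ.toMonoidHom S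
    have huS : (uS : Matrix (Fin n) (Fin n) F) = Φ (S : Matrix (Fin n) (Fin n) ↥F₀) := rfl
    have hΦJb : Φ (ψ₀ (Jb m ↥F₀)) = Jb' := by
      rw [hJb']
      show (Matrix.reindex e' e' (Jb m ↥F₀)).map F₀.subtype = _
      rw [reindex_map, Jb_map]
      rfl
    have hE3 : (uS : Matrix (Fin n) (Fin n) F) * Jb' = J' * (uS : Matrix (Fin n) (Fin n) F) := by
      rw [huS, ← hΦJb, ← map_mul, hS', map_mul, hΦJ]
    -- T
    let uT : (Matrix (Fin n) (Fin n) F)ˣ := uP * uM * uS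
    obtain ⟨Tv, hTv⟩ : ∃ Tv : Matrix (Fin n) (Fin n) F, Tv = (uT : Matrix (Fin n) (Fin n) F) :=
      ⟨_, rfl⟩
    obtain ⟨Ti, hTi⟩ : ∃ Ti : Matrix (Fin n) (Fin n) F,
      Ti = ((uT⁻¹ : (Matrix (Fin n) (Fin n) F)ˣ) : Matrix (Fin n) (Fin n) F) := ⟨_, rfl⟩
    have hTvi : Tv * Ti = 1 := by rw [hTv, hTi, ← Units.val_mul, mul_inv_cancel, Units.val_one]
    have hTiv : Ti * Tv = 1 := by rw [hTv, hTi, ← Units.val_mul, inv_mul_cancel, Units.val_one]
    have hT : xm * Tv = Tv * Jb' := by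
      rw [hTv]
      show xm * ((uP * uM * uS : (Matrix (Fin n) (Fin n) F)ˣ) : Matrix (Fin n) (Fin n) F) =
        ((uP * uM * uS : (Matrix (Fin n) (Fin n) F)ˣ) : Matrix (Fin n) (Fin n) F) * Jb'
      rw [Units.val_mul, Units.val_mul, huP]
      calc xm * ((P : Matrix (Fin n) (Fin n) F) * (uM : Matrix (Fin n) (Fin n) F) *
            (uS : Matrix (Fin n) (Fin n) F))
          = (xm * (P : Matrix (Fin n) (Fin n) F)) * (uM : Matrix (Fin n) (Fin n) F) *
            (uS : Matrix (Fin n) (Fin n) F) := by simp only [mul_assoc]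
        _ = (P : Matrix (Fin n) (Fin n) F) * (y * (uM : Matrix (Fin n) (Fin n) F)) *
            (uS : Matrix (Fin n) (Fin n) F) := by rw [← hE1]; simp only [mul_assoc]
        _ = (P : Matrix (Fin n) (Fin n) F) * (uM : Matrix (Fin n) (Fin n) F) *
            (J' * (uS : Matrix (Fin n) (Fin n) F)) := by rw [← hE2]; simp only [mul_assoc]
        _ = (P : Matrix (Fin n) (Fin n) F) * (uM : Matrix (Fin n) (Fin n) F) *
            (uS : Matrix (Fin n) (Fin n) F) * Jb' := by rw [← hE3]; simp only [mul_assoc]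
    have hTi' : Ti * xm = Jb' * Ti := by
      calc Ti * xm = Ti * xm * (Tv * Ti) := by rw [hTvi, mul_one]
        _ = Ti * (xm * Tv) * Ti := by simp only [mul_assoc]
        _ = Ti * (Tv * Jb') * Ti := by rw [hT]
        _ = (Ti * Tv) * Jb' * Ti := by simp only [mul_assoc]
        _ = Jb' * Ti := by rw [hTiv, one_mul]
    obtain ⟨g, hg⟩ : ∃ g : Matrix (Fin n) (Fin n) F, g = Ti * Rm := ⟨_, rfl⟩
    have hgcomm : g * Jb' = Jb' * g := by
      rw [hg, mul_assoc, ← hE4, ← mul_assoc, hTi', mul_assoc]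
    have hg0 : ψ.symm g * Jb m F = Jb m F * ψ.symm g := by
      apply ψ.injective
      rw [map_mul, map_mul, AlgEquiv.apply_symm_apply, ← hJb']
      exact hgcomm
    have hgsq : IsSquare g.det := by
      have h1 := isSquare_det_of_comm m (ψ.symm g) hg0
      have h2 : (ψ.symm g).det = g.det := by
        show (Matrix.reindex e'.symm e'.symm g).det = g.det
        rw [Matrix.det_reindex_self]
      rwa [h2] at h1
    -- determinants
    have hTg : Tv * g = Rm := by rw [hg, ← mul_assoc, hTvi, one_mul]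
    have hdetT : Tv.det = ((M : Matrix (Fin n) (Fin n) ↥F₀).det : F) *
        ((S : Matrix (Fin n) (Fin n) ↥F₀).det : F) := by
      rw [hTv]
      show ((uP * uM * uS : (Matrix (Fin n) (Fin n) F)ˣ) : Matrix (Fin n) (Fin n) F).det = _
      rw [Units.val_mul, Units.val_mul, Matrix.det_mul, Matrix.det_mul, huP, P.2, one_mul, huM, huS]
      have h1 : ∀ A : Matrix (Fin n) (Fin n) ↥F₀, (Φ A).det = (A.det : F) := by
        intro A
        show (F₀.subtype.mapMatrix A).det = F₀.subtype A.det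
        rw [RingHom.map_det]
      rw [h1, h1]
    have hsqT : IsSquare Tv.det := by
      rw [hdetT]
      exact (isSquare_of_mem_sub F₀ q₀ hF₀ hq (Subtype.property _)).mul
        (isSquare_of_mem_sub F₀ q₀ hF₀ hq (Subtype.property _))
    have hδ' : δ = Tv.det * g.det := by
      rw [← Matrix.det_mul, hTg, hRdet]
    exact hδsq (hδ' ▸ hsqT.mul hgsq)

end Cfsg.Agent.Lib.Helper10.Sub
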