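import Mathlib

set_option autoImplicit false

/-! Index-6 subgroups of the symmetric group of degree 6 (helper10). -/

namespace Cfsg.Agent.Lib.Helper10.SymSix

open Equiv

section abs
variable {Ω : Type*} [Fintype Ω] [DecidableEq Ω]

theorem central_eq_one (h3 : 3 ≤ Fintype.card Ω) (x : Perm Ω)
    (hx : ∀ g : Perm Ω, g * x = x * g) : x = 1 := by
  by_contra hne
  obtain ⟨a, ha⟩ : ∃ a, x a ≠ a := by
    by_contra h; push Not at h; exact hne (Perm.ext h)
  obtain ⟨c, hc⟩ : ∃ c, c ∉ ({a, x a} : Finset Ω) := by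
    by_contra h; push Not at h
    have h1 : Finset.univ ⊆ ({a, x a} : Finset Ω) := fun y _ => h y
    have h2 := Finset.card_le_card h1
    have h3' : ({a, x a} : Finset Ω).card ≤ 2 := Finset.card_le_two
    rw [Finset.card_univ] at h2; omega
  simp only [Finset.mem_insert, Finset.mem_singleton, not_or] at hc
  have h1 := congrArg (fun f : Perm Ω => f a) (hx (swap (x a) c))
  simp only [Perm.mul_apply] at h1
  rw [swap_apply_left, swap_apply_of_ne_of_ne (Ne.symm ha) (Ne.symm hc.1)] at h1
  exact hc.2 h1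

theorem normal_ge_alt (h5 : 5 ≤ Fintype.card Ω) (N : Subgroup (Perm Ω)) [N.Normal]
    (hN : N ≠ ⊥) : alternatingGroup Ω ≤ N := by
  haveI : IsSimpleGroup (alternatingGroup Ω) :=
    alternatingGroup.isSimpleGroup (by rw [Nat.card_eq_fintype_card]; exact h5)
  have hM : (N.subgroupOf (alternatingGroup Ω)).Normal := inferInstance
  rcases hM.eq_bot_or_eq_top with h | h
  · exfalso
    rw [Subgroup.subgroupOf_eq_bot] at h
    obtain ⟨x, hx1⟩ := (Subgroup.ne_bot_iff_exists_ne_one.1 hN)
    have hxN : (x : Perm Ω) ∈ N := x.2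
    apply hx1
    apply Subtype.ext
    apply central_eq_one (by omega)
    intro g
    have h1 : g * x * g⁻¹ * (x : Perm Ω)⁻¹ ∈ N :=
      N.mul_mem (Subgroup.Normal.conj_mem inferInstance _ hxN g) (N.inv_mem hxN)
    have h2 : g * x * g⁻¹ * (x : Perm Ω)⁻¹ ∈ alternatingGroup Ω := by
      rw [Equiv.Perm.mem_alternatingGroup]
      simp only [map_mul, map_inv, Int.units_inv_eq_self]
      generalize Perm.sign (x : Perm Ω) = u
      generalize Perm.sign g = w
      revert u w
      decide
    have h3 := Subgroup.disjoint_def.1 h h1 h2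
    calc g * x = (g * x * g⁻¹ * (x : Perm Ω)⁻¹) * x * g := by group
      _ = x * g := by rw [h3, one_mul]
  · exact Subgroup.subgroupOf_eq_top.1 h

theorem main_abs {X : Type*} [Fintype X] [DecidableEq X] (ρ : Perm Ω →* Perm X) (x0 : X)
    (htrans : ∀ x, ∃ g, ρ g x0 = x)
    (hswap : ∀ a b : Ω, a ≠ b → (ρ (swap a b)).IsSwap)
    (hcard : Fintype.card X = Fintype.card Ω) (h5 : 5 ≤ Fintype.card Ω)
    (hne : ∃ g, ρ g x0 ≠ x0) :
    ∃ a : Ω, ∀ g, ρ g x0 = x0 → g a = a := by
  classical
  set n := Fintype.card Ω with hn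
  let S : Subgroup (Perm Ω) := (MulAction.stabilizer (Perm X) x0).comap ρ
  have hS : ∀ g, g ∈ S ↔ ρ g x0 = x0 := fun g => Iff.rfl
  -- Step A
  have hA : ∀ a b : Ω, a ≠ b →
      (Finset.univ.filter (fun x => ρ (swap a b) x = x)).card = n - 2 := by
    intro a b hab
    have h1 := Equiv.Perm.card_support_eq_two.2 (hswap a b hab)
    have h2 : Finset.univ.filter (fun x => ρ (swap a b) x = x) = (ρ (swap a b)).supportᶜ := by
      ext x; simp [Perm.mem_support]
    rw [h2, Finset.card_compl, h1, hcard]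
  -- Step B
  let τ2 := ((Finset.univ : Finset Ω).offDiag.filter (fun p => swap p.1 p.2 ∈ S)).card
  have hB : ∀ x : X, ((Finset.univ : Finset Ω).offDiag.filter
      (fun p => ρ (swap p.1 p.2) x = x)).card = τ2 := by
    intro x
    obtain ⟨g, rfl⟩ := htrans x
    have hconj : ∀ a b : Ω, (ρ (swap a b) (ρ g x0) = ρ g x0 ↔ swap (g⁻¹ a) (g⁻¹ b) ∈ S) := by
      intro a b
      rw [hS, swap_apply_apply, inv_inv, map_mul, map_mul, Perm.mul_apply, Perm.mul_apply]
      constructor
      · intro h; rw [h, ← Perm.mul_apply, ← map_mul, inv_mul_cancel, map_one, Perm.one_apply]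
      · intro h
        have := congrArg (ρ g) h
        rwa [← Perm.mul_apply, ← map_mul, mul_inv_cancel, map_one, Perm.one_apply] at this
    apply Finset.card_bij (fun p _ => (g⁻¹ p.1, g⁻¹ p.2))
    · intro p hp
      rw [Finset.mem_filter, Finset.mem_offDiag] at hp ⊢
      refine ⟨⟨Finset.mem_univ _, Finset.mem_univ _, fun h => hp.1.2.2 (g⁻¹.injective h)⟩, ?_⟩
      exact (hconj p.1 p.2).1 hp.2
    · intro p _ q _ hpq
      have h1 := congrArg Prod.fst hpq
      have h2 := congrArg Prod.snd hpq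
      exact Prod.ext (g⁻¹.injective h1) (g⁻¹.injective h2)
    · intro q hq
      rw [Finset.mem_filter, Finset.mem_offDiag] at hq
      refine ⟨(g q.1, g q.2), ?_, ?_⟩
      · rw [Finset.mem_filter, Finset.mem_offDiag]
        refine ⟨⟨Finset.mem_univ _, Finset.mem_univ _, fun h => hq.1.2.2 (g.injective h)⟩, ?_⟩
        rw [hconj]
        simpa using hq.2
      · simp
  -- Step C
  have hC : n * τ2 = (n * n - n) * (n - 2) := by
    have h1 : ∑ p ∈ (Finset.univ : Finset Ω).offDiag,
        (Finset.univ.filter (fun x => ρ (swap p.1 p.2) x = x)).card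
        = ∑ x : X, ((Finset.univ : Finset Ω).offDiag.filter
          (fun p => ρ (swap p.1 p.2) x = x)).card := by
      simp_rw [Finset.card_filter]
      exact Finset.sum_comm
    rw [Finset.sum_congr rfl (fun x _ => hB x), Finset.sum_const, Finset.card_univ, hcard,
      smul_eq_mul] at h1
    rw [← h1, Finset.sum_congr rfl (fun p hp => hA p.1 p.2 (Finset.mem_offDiag.1 hp).2.2),
      Finset.sum_const, Finset.offDiag_card, Finset.card_univ, smul_eq_mul]
  have hτ : τ2 = (n - 1) * (n - 2) := by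
    have hnpos : 0 < n := by omega
    apply Nat.eq_of_mul_eq_mul_left hnpos
    rw [hC]
    obtain ⟨m, hm⟩ : ∃ m, n = m + 1 := ⟨n - 1, by omega⟩
    rw [hm]
    simp only [Nat.add_sub_cancel]
    have : (m + 1) * (m + 1) - (m + 1) = (m + 1) * m := by
      have : (m + 1) * (m + 1) = (m + 1) * m + (m + 1) := by ring
      omega
    rw [this]; ring
  -- Step D
  let deg : Ω → ℕ := fun a => (Finset.univ.filter (fun b => a ≠ b ∧ swap a b ∈ S)).card
  have hD : τ2 = ∑ a, deg a := by
    have h1 : (Finset.univ : Finset Ω).offDiag.filter (fun p => swap p.1 p.2 ∈ S)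
        = (Finset.univ : Finset (Ω × Ω)).filter (fun p => p.1 ≠ p.2 ∧ swap p.1 p.2 ∈ S) := by
      ext p; simp [Finset.mem_offDiag]
    show ((Finset.univ : Finset Ω).offDiag.filter (fun p => swap p.1 p.2 ∈ S)).card = _
    rw [h1, Finset.card_filter, Fintype.sum_prod_type]
    apply Finset.sum_congr rfl
    intro a _
    exact (Finset.card_filter (fun b => a ≠ b ∧ swap a b ∈ S) Finset.univ).symm
  -- Step E
  have hsub : ∀ a, Finset.univ.filter (fun b => a ≠ b ∧ swap a b ∈ S) ⊆ Finset.univ.erase a := by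
    intro a b hb
    rw [Finset.mem_filter] at hb
    exact Finset.mem_erase.2 ⟨Ne.symm hb.2.1, Finset.mem_univ _⟩
  have hdegle : ∀ a, deg a ≤ n - 1 := by
    intro a
    have := Finset.card_le_card (hsub a)
    rwa [Finset.card_erase_of_mem (Finset.mem_univ _), Finset.card_univ] at this
  obtain ⟨a, ha⟩ : ∃ a, n - 2 ≤ deg a := by
    by_contra hcon
    push Not at hcon
    have h1 : ∑ a, deg a ≤ ∑ _a : Ω, (n - 3) :=
      Finset.sum_le_sum (fun a _ => by have := hcon a; omega)
    rw [Finset.sum_const, Finset.card_univ, smul_eq_mul, ← hD, hτ, ← hn] at h1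
    obtain ⟨m, hm⟩ : ∃ m, n = m + 3 := ⟨n - 3, by omega⟩
    rw [hm] at h1
    have e1 : m + 3 - 1 = m + 2 := by omega
    have e2 : m + 3 - 2 = m + 1 := by omega
    have e3 : m + 3 - 3 = m := by omega
    rw [e1, e2, e3] at h1
    nlinarith
  -- Step F
  have hdeg_ne : deg a ≠ n - 1 := by
    intro hfull
    have hall : ∀ b, a ≠ b → swap a b ∈ S := by
      intro b hab
      have heq := Finset.eq_of_subset_of_card_le (hsub a) (by
        rw [Finset.card_erase_of_mem (Finset.mem_univ _), Finset.card_univ]; exact hfull.ge)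
      have hb : b ∈ Finset.univ.erase a := Finset.mem_erase.2 ⟨Ne.symm hab, Finset.mem_univ _⟩
      rw [← heq, Finset.mem_filter] at hb
      exact hb.2.2
    have hallswap : ∀ σ : Perm Ω, σ.IsSwap → σ ∈ S := by
      rintro σ ⟨b, c, hbc, rfl⟩
      by_cases hba : b = a
      · subst hba; exact hall c hbc
      by_cases hca : c = a
      · subst hca; rw [swap_comm]; exact hall b (Ne.symm hbc)
      have h1 : swap b c = swap a b * swap a c * (swap a b)⁻¹ := by
        have := swap_apply_apply (swap a b) a c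
        rw [swap_apply_left, swap_apply_of_ne_of_ne hca (Ne.symm hbc)] at this
        exact this
      rw [h1]
      exact S.mul_mem (S.mul_mem (hall b (Ne.symm hba)) (hall c (Ne.symm hca)))
        (S.inv_mem (hall b (Ne.symm hba)))
    have htop : S = ⊤ := by
      rw [eq_top_iff, ← Equiv.Perm.closure_isSwap, Subgroup.closure_le]
      exact fun σ hσ => hallswap σ hσ
    obtain ⟨g, hg⟩ := hne
    apply hg
    rw [← hS, htop]; exact Subgroup.mem_top g
  -- Step G
  have hdeg : deg a = n - 2 := by have := hdegle a; omega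
  set B := Finset.univ.filter (fun b => a ≠ b ∧ swap a b ∈ S) with hBdef
  have haB : a ∉ B := by simp [hBdef]
  have hBcard : B.card = n - 2 := hdeg
  have hcompl : (Finset.univ \ insert a B).card = 1 := by
    rw [Finset.card_sdiff_of_subset (Finset.subset_univ _), Finset.card_univ,
      Finset.card_insert_of_notMem haB, hBcard, ← hn]
    omega
  obtain ⟨c, hc⟩ := Finset.card_eq_one.1 hcompl
  have hcmem : c ∈ Finset.univ \ insert a B := by rw [hc]; exact Finset.mem_singleton_self c
  rw [Finset.mem_sdiff, Finset.mem_insert, not_or] at hcmem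
  have hca : c ≠ a := hcmem.2.1
  have hcS : swap a c ∉ S := by
    intro h; exact hcmem.2.2 (Finset.mem_filter.2 ⟨Finset.mem_univ _, Ne.symm hca, h⟩)
  have hrest : ∀ b, b ≠ a → b ≠ c → swap a b ∈ S := by
    intro b hba hbc
    by_contra h
    have hb : b ∈ Finset.univ \ insert a B := by
      rw [Finset.mem_sdiff, Finset.mem_insert, not_or]
      exact ⟨Finset.mem_univ _, hba, fun hb => h (Finset.mem_filter.1 hb).2.2⟩
    rw [hc, Finset.mem_singleton] at hb
    exact hbc hb
  -- Step H
  have hiso : ∀ e, e ≠ c → swap c e ∉ S := by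
    intro e hec h
    by_cases hea : e = a
    · subst hea; rw [swap_comm] at h; exact hcS h
    · have h1 : swap a c = swap a e * swap e c * (swap a e)⁻¹ := by
        have := swap_apply_apply (swap a e) e c
        rw [swap_apply_right, swap_apply_of_ne_of_ne hca (Ne.symm hec)] at this
        exact this
      apply hcS
      rw [h1]
      have h2 := hrest e hea hec
      exact S.mul_mem (S.mul_mem h2 (by rw [swap_comm]; exact h)) (S.inv_mem h2)
  -- Step I
  refine ⟨c, fun g hg => ?_⟩
  by_contra hgc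
  have hgS : g ∈ S := (hS g).2 hg
  obtain ⟨d, hdc', hd⟩ : ∃ d, d ≠ g c ∧ swap (g c) d ∈ S := by
    by_cases h : g c = a
    · obtain ⟨d, hd⟩ : ∃ d, d ∉ ({a, c} : Finset Ω) := by
        by_contra h'; push Not at h'
        have h1 : Finset.univ ⊆ ({a, c} : Finset Ω) := fun y _ => h' y
        have h2 := Finset.card_le_card h1
        have h3' : ({a, c} : Finset Ω).card ≤ 2 := Finset.card_le_two
        rw [Finset.card_univ] at h2; omega
      simp only [Finset.mem_insert, Finset.mem_singleton, not_or] at hd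
      exact ⟨d, by rw [h]; exact hd.1, by rw [h]; exact hrest d hd.1 hd.2⟩
    · refine ⟨a, Ne.symm h, ?_⟩
      rw [swap_comm]; exact hrest (g c) h hgc
  have h1 : swap (g⁻¹ (g c)) (g⁻¹ d) ∈ S := by
    rw [swap_apply_apply, inv_inv]
    exact S.mul_mem (S.mul_mem (S.inv_mem hgS) hd) hgS
  have h2 : g⁻¹ (g c) = c := by rw [← Perm.mul_apply, inv_mul_cancel, Perm.one_apply]
  rw [h2] at h1
  refine hiso (g⁻¹ d) (fun h => hdc' ?_) h1
  rw [← h, ← Perm.mul_apply, mul_inv_cancel, Perm.one_apply]


end abs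

section cent
variable {Ω : Type*} [Fintype Ω] [DecidableEq Ω]

theorem card_centralizer_congr {G G' : Type*} [Group G] [Group G'] (φ : G ≃* G') (t : G) :
    Nat.card (Subgroup.centralizer ({t} : Set G)) =
      Nat.card (Subgroup.centralizer ({φ t} : Set G')) := by
  refine Nat.card_congr ⟨fun x => ⟨φ x.1, ?_⟩, fun y => ⟨φ.symm y.1, ?_⟩, ?_, ?_⟩
  · rw [Subgroup.mem_centralizer_iff]
    intro h hh
    rw [Set.mem_singleton_iff.1 hh, ← map_mul, ← map_mul]
    congr 1
    exact Subgroup.mem_centralizer_iff.1 x.2 t rfl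
  · rw [Subgroup.mem_centralizer_iff]
    intro h hh
    rw [Set.mem_singleton_iff.1 hh]
    apply φ.injective
    rw [map_mul, map_mul, φ.apply_symm_apply]
    exact Subgroup.mem_centralizer_iff.1 y.2 (φ t) rfl
  · intro x; apply Subtype.ext; exact φ.symm_apply_apply x.1
  · intro y; apply Subtype.ext; exact φ.apply_symm_apply y.1

open Nat in
theorem card_centralizer_replicate (σ : Perm Ω) (k : ℕ) (hk : 1 ≤ k)
    (hσ : σ.cycleType = Multiset.replicate k 2) :
    Nat.card (Subgroup.centralizer ({σ} : Set (Perm Ω))) =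
      (Fintype.card Ω - k * 2)! * 2 ^ k * k ! := by
  rw [Equiv.Perm.nat_card_centralizer, hσ, Multiset.sum_replicate, Multiset.prod_replicate,
    smul_eq_mul]
  have : (Multiset.replicate k 2).toFinset = {2} := by
    ext x
    simp only [Multiset.mem_toFinset, Multiset.mem_replicate, Finset.mem_singleton]
    constructor
    · exact fun h => h.2
    · exact fun h => ⟨by omega, h⟩
  rw [this, Finset.prod_singleton, Multiset.count_replicate_self]


end cent

section six
variable {Ω : Type*} [Fintype Ω] [DecidableEq Ω]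
variable {X : Type*} [Fintype X] [DecidableEq X]

/-- the centralizer order function of involutions of type `2^k` in degree 6 -/
theorem numeric (k k' : ℕ) (hk : 1 ≤ k) (hk3 : k * 2 ≤ 6) (hk' : 1 ≤ k') (hk'3 : k' * 2 ≤ 6)
    (h : (6 - k * 2).factorial * 2 ^ k * k.factorial = (6 - k' * 2).factorial * 2 ^ k' * k'.factorial) :
    (k = 2 ∧ k' = 2) ∨ ((k = 1 ∨ k = 3) ∧ (k' = 1 ∨ k' = 3)) := by
  have h1 : k ≤ 3 := by omega
  have h2 : k' ≤ 3 := by omega
  interval_cases k <;> interval_cases k' <;> simp_all <;> revert h <;> decide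

theorem invol_type (h6 : Fintype.card Ω = 6) (h6' : Fintype.card X = 6)
    (φ : Perm Ω →* Perm X) (hφ : Function.Injective φ) (σ : Perm Ω) (k : ℕ) (hk : 1 ≤ k)
    (hσ : σ.cycleType = Multiset.replicate k 2) :
    ∃ k', 1 ≤ k' ∧ k' * 2 ≤ 6 ∧ (φ σ).cycleType = Multiset.replicate k' 2 ∧
      ((k = 2 ∧ k' = 2) ∨ ((k = 1 ∨ k = 3) ∧ (k' = 1 ∨ k' = 3))) := by
  have hbij : Function.Bijective φ := by
    rw [Fintype.bijective_iff_injective_and_card]
    exact ⟨hφ, by rw [Fintype.card_perm, Fintype.card_perm, h6, h6']⟩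
  let ψ : Perm Ω ≃* Perm X := MulEquiv.ofBijective φ hbij
  have hord0 : orderOf σ = 2 := by
    rw [← Equiv.Perm.lcm_cycleType, hσ]
    obtain ⟨j, rfl⟩ : ∃ j, k = j + 1 := ⟨k - 1, by omega⟩
    clear hσ hk
    induction j with
    | zero => simp
    | succ j ih => rw [Multiset.replicate_succ, Multiset.lcm_cons, ih]; rfl
  have hord : orderOf (φ σ) = 2 := by
    rw [orderOf_injective φ hφ, hord0]
  obtain ⟨k', hk'⟩ := Equiv.Perm.cycleType_prime_order (σ := φ σ)
    (by rw [hord]; exact Nat.prime_two)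
  rw [hord] at hk'
  have hsum := Equiv.Perm.sum_cycleType_le (φ σ)
  rw [hk', Multiset.sum_replicate, smul_eq_mul, h6'] at hsum
  have hsum0 := Equiv.Perm.sum_cycleType_le σ
  rw [hσ, Multiset.sum_replicate, smul_eq_mul, h6] at hsum0
  have h1 := card_centralizer_replicate (φ σ) (k' + 1) (by omega) hk'
  have h2 := card_centralizer_replicate σ k hk hσ
  have h3 := card_centralizer_congr ψ σ
  have h4 : ψ σ = φ σ := rfl
  rw [h4, h1, h2, h6, h6'] at h3
  exact ⟨k' + 1, by omega, hsum, hk', numeric k (k' + 1) hk hsum0 (by omega) hsum h3⟩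

theorem card_type (h6 : Fintype.card Ω = 6) (k : ℕ) (hk : k = 1 ∨ k = 3) :
    (Finset.univ.filter (fun g : Perm Ω => g.cycleType = Multiset.replicate k 2)).card = 15 := by
  have h := Equiv.Perm.card_of_cycleType_mul_eq Ω (Multiset.replicate k 2)
  have hts : (Multiset.replicate k 2).toFinset = {2} := by
    ext x
    simp only [Multiset.mem_toFinset, Multiset.mem_replicate, Finset.mem_singleton]
    constructor
    · exact fun h => h.2
    · rcases hk with rfl | rfl <;> exact fun h => ⟨by omega, h⟩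
  rw [Multiset.sum_replicate, Multiset.prod_replicate, hts, Finset.prod_singleton,
    Multiset.count_replicate_self, smul_eq_mul, h6] at h
  have hcond : (k * 2 ≤ 6 ∧ ∀ a ∈ Multiset.replicate k 2, 2 ≤ a) := by
    refine ⟨by rcases hk with rfl | rfl <;> omega, ?_⟩
    intro a ha
    rw [Multiset.mem_replicate] at ha
    omega
  rw [if_pos hcond] at h
  rcases hk with rfl | rfl
  · have : (6 - 1 * 2).factorial * 2 ^ 1 * (1).factorial = 48 := by decide
    rw [this] at h
    have h720 : (6).factorial = 720 := by decide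
    rw [h720] at h
    omega
  · have : (6 - 3 * 2).factorial * 2 ^ 3 * (3).factorial = 48 := by decide
    rw [this] at h
    have h720 : (6).factorial = 720 := by decide
    rw [h720] at h
    omega

theorem dichotomy (h6 : Fintype.card Ω = 6) (h6' : Fintype.card X = 6)
    (φ : Perm Ω →* Perm X) (hφ : Function.Injective φ) :
    (∀ a b : Ω, a ≠ b → (φ (swap a b)).IsSwap) ∨
    ((∀ a b : Ω, a ≠ b → (φ (swap a b)).cycleType = Multiset.replicate 3 2) ∧
      (∀ t : Perm Ω, t.cycleType = Multiset.replicate 3 2 → (φ t).IsSwap)) := by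
  obtain ⟨a0, b0, hab0⟩ : ∃ a0 b0 : Ω, a0 ≠ b0 := by
    have : 1 < Fintype.card Ω := by omega
    exact Fintype.exists_pair_of_one_lt_card this
  have hct : ∀ a b : Ω, a ≠ b → (swap a b).cycleType = Multiset.replicate 1 2 := by
    intro a b hab
    rw [Multiset.replicate_one]
    exact Equiv.Perm.isSwap_iff_cycleType.1 ⟨a, b, hab, rfl⟩
  have hsame : ∀ a b : Ω, a ≠ b → (φ (swap a b)).cycleType = (φ (swap a0 b0)).cycleType := by
    intro a b hab
    have hc : IsConj (swap a0 b0) (swap a b) := by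
      rw [Equiv.Perm.isConj_iff_cycleType_eq, hct a b hab, hct a0 b0 hab0]
    obtain ⟨g, hg⟩ := isConj_iff.1 hc
    rw [← hg, map_mul, map_mul, map_inv, Equiv.Perm.cycleType_conj]
  obtain ⟨k', hk'1, hk'6, hk', hcase⟩ := invol_type h6 h6' φ hφ (swap a0 b0) 1 le_rfl (hct a0 b0 hab0)
  have hk'13 : k' = 1 ∨ k' = 3 := by
    rcases hcase with h | h
    · omega
    · exact h.2
  rcases hk'13 with rfl | rfl
  · left
    intro a b hab
    rw [Equiv.Perm.isSwap_iff_cycleType, hsame a b hab, hk', Multiset.replicate_one]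
  · right
    have hsw : ∀ a b : Ω, a ≠ b → (φ (swap a b)).cycleType = Multiset.replicate 3 2 := by
      intro a b hab
      rw [hsame a b hab, hk']
    refine ⟨hsw, ?_⟩
    intro t ht
    obtain ⟨k2, hk21, hk26, hk2, hcase2⟩ := invol_type h6 h6' φ hφ t 3 (by norm_num) ht
    have hk213 : k2 = 1 ∨ k2 = 3 := by
      rcases hcase2 with h | h
      · omega
      · exact h.2
    rcases hk213 with rfl | rfl
    · rw [Equiv.Perm.isSwap_iff_cycleType, hk2, Multiset.replicate_one]
    · exfalso
      let S1 := Finset.univ.filter (fun g : Perm Ω => g.cycleType = Multiset.replicate 1 2)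
      let S3 := Finset.univ.filter (fun g : Perm X => g.cycleType = Multiset.replicate 3 2)
      have hsub : S1.image φ ⊆ S3 := by
        intro y hy
        obtain ⟨s, hs, rfl⟩ := Finset.mem_image.1 hy
        have hs' : s.cycleType = Multiset.replicate 1 2 := (Finset.mem_filter.1 hs).2
        rw [Multiset.replicate_one, ← Equiv.Perm.isSwap_iff_cycleType] at hs'
        obtain ⟨a, b, hab, rfl⟩ := hs'
        exact Finset.mem_filter.2 ⟨Finset.mem_univ _, hsw a b hab⟩
      have hcardimg : (S1.image φ).card = 15 := by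
        rw [Finset.card_image_of_injective _ hφ]
        exact card_type h6 1 (Or.inl rfl)
      have hcard3 : S3.card = 15 := card_type h6' 3 (Or.inr rfl)
      have heq : S1.image φ = S3 := Finset.eq_of_subset_of_card_le hsub (by rw [hcardimg, hcard3])
      have hmem : φ t ∈ S3 := Finset.mem_filter.2 ⟨Finset.mem_univ _, hk2⟩
      rw [← heq] at hmem
      obtain ⟨s, hs, hst⟩ := Finset.mem_image.1 hmem
      have hs' : s.cycleType = Multiset.replicate 1 2 := (Finset.mem_filter.1 hs).2
      rw [hφ hst, ht] at hs'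
      have := congrArg Multiset.card hs'
      simp at this

/-- a transitive action of `Perm Ω` on six points is faithful -/
theorem injective_of_trans (h6 : Fintype.card Ω = 6) (h6' : Fintype.card X = 6)
    (ρ : Perm Ω →* Perm X) (x0 : X) (htrans : ∀ x, ∃ g, ρ g x0 = x) : Function.Injective ρ := by
  rw [← MonoidHom.ker_eq_bot_iff]
  by_contra hne
  have hA : alternatingGroup Ω ≤ ρ.ker := normal_ge_alt (by omega) ρ.ker hne
  obtain ⟨a0, b0, hab0⟩ : ∃ a0 b0 : Ω, a0 ≠ b0 :=
    Fintype.exists_pair_of_one_lt_card (by omega)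
  have hall : ∀ x : X, x = x0 ∨ x = ρ (swap a0 b0) x0 := by
    intro x
    obtain ⟨g, rfl⟩ := htrans x
    rcases Int.units_eq_one_or (Perm.sign g) with hs | hs
    · left
      have : g ∈ ρ.ker := hA (Equiv.Perm.mem_alternatingGroup.2 hs)
      rw [MonoidHom.mem_ker] at this
      rw [this, Perm.one_apply]
    · right
      have h1 : g * swap a0 b0 ∈ ρ.ker := by
        apply hA
        rw [Equiv.Perm.mem_alternatingGroup, map_mul, hs, Equiv.Perm.sign_swap hab0]
        decide
      rw [MonoidHom.mem_ker, map_mul] at h1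
      have h2 : ρ g = ρ (swap a0 b0) := by
        have h3 : ρ (swap a0 b0) * ρ (swap a0 b0) = 1 := by
          rw [← map_mul, swap_mul_self, map_one]
        calc ρ g = ρ g * (ρ (swap a0 b0) * ρ (swap a0 b0)) := by rw [h3, mul_one]
          _ = (ρ g * ρ (swap a0 b0)) * ρ (swap a0 b0) := by rw [mul_assoc]
          _ = ρ (swap a0 b0) := by rw [h1, one_mul]
      rw [h2]
  have hsub : (Finset.univ : Finset X) ⊆ {x0, ρ (swap a0 b0) x0} := by
    intro x _
    rcases hall x with h | h
    · rw [h]; exact Finset.mem_insert_self _ _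
    · rw [h]; exact Finset.mem_insert_of_mem (Finset.mem_singleton_self _)
  have := Finset.card_le_card hsub
  have h2 : ({x0, ρ (swap a0 b0) x0} : Finset X).card ≤ 2 := Finset.card_le_two
  rw [Finset.card_univ, h6'] at this
  omega

theorem exists_two_ne (h6' : Fintype.card X = 6) (x0 : X) : ∃ y z : X, y ≠ z ∧ y ≠ x0 ∧ z ≠ x0 := by
  by_contra hcon
  push Not at hcon
  obtain ⟨y, hy⟩ : ∃ y : X, y ≠ x0 := by
    by_contra h; push Not at h
    have : Fintype.card X ≤ 1 := Fintype.card_le_one_iff.2 (fun a b => by rw [h a, h b])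
    omega
  have hsub : (Finset.univ : Finset X) ⊆ {x0, y} := by
    intro z _
    by_cases hz : z = x0
    · rw [hz]; exact Finset.mem_insert_self _ _
    · have : y = z := by
        by_contra hyz
        exact hz (hcon y z hyz hy)
      rw [← this]; exact Finset.mem_insert_of_mem (Finset.mem_singleton_self _)
  have := Finset.card_le_card hsub
  have h2 : ({x0, y} : Finset X).card ≤ 2 := Finset.card_le_two
  rw [Finset.card_univ, h6'] at this
  omega

/-- if a transposition fixes the base point then the stabilizer fixes a point of `Ω` -/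
theorem stab_fixes_of_swap (h6 : Fintype.card Ω = 6) (h6' : Fintype.card X = 6)
    (ρ : Perm Ω →* Perm X) (x0 : X) (htrans : ∀ x, ∃ g, ρ g x0 = x)
    (hsw : ∃ a b : Ω, a ≠ b ∧ ρ (swap a b) x0 = x0) :
    ∃ a : Ω, ∀ g, ρ g x0 = x0 → g a = a := by
  have hinj := injective_of_trans h6 h6' ρ x0 htrans
  rcases dichotomy h6 h6' ρ hinj with hA | ⟨hB, _⟩
  · obtain ⟨y, z, _, hy, _⟩ := exists_two_ne h6' x0
    obtain ⟨g, hg⟩ := htrans y
    exact main_abs ρ x0 htrans hA (by rw [h6, h6']) (by omega) ⟨g, by rw [hg]; exact hy⟩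
  · exfalso
    obtain ⟨a, b, hab, hfix⟩ := hsw
    have h1 := hB a b hab
    have h2 : (ρ (swap a b)).support.card = 6 := by
      rw [← Equiv.Perm.sum_cycleType, h1]; rfl
    have h3 : (ρ (swap a b)).support = Finset.univ := by
      apply Finset.eq_univ_of_card
      rw [h2, h6']
    have h4 : x0 ∈ (ρ (swap a b)).support := by rw [h3]; exact Finset.mem_univ _
    exact (Equiv.Perm.mem_support.1 h4) hfix

/-- if no transposition fixes the base point, the action interchanges the two classes -/
theorem exotic_of_no_swap (h6 : Fintype.card Ω = 6) (h6' : Fintype.card X = 6)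
    (ρ : Perm Ω →* Perm X) (x0 : X) (htrans : ∀ x, ∃ g, ρ g x0 = x)
    (hno : ∀ a b : Ω, a ≠ b → ρ (swap a b) x0 ≠ x0) :
    (∀ a b : Ω, a ≠ b → (ρ (swap a b)).cycleType = Multiset.replicate 3 2) ∧
      (∀ t : Perm Ω, t.cycleType = Multiset.replicate 3 2 → (ρ t).IsSwap) := by
  have hinj := injective_of_trans h6 h6' ρ x0 htrans
  rcases dichotomy h6 h6' ρ hinj with hA | hB
  · exfalso
    let S1 := Finset.univ.filter (fun g : Perm Ω => g.cycleType = Multiset.replicate 1 2)
    let S1' := Finset.univ.filter (fun g : Perm X => g.cycleType = Multiset.replicate 1 2)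
    have hsub : S1.image ρ ⊆ S1' := by
      intro y hy
      obtain ⟨s, hs, rfl⟩ := Finset.mem_image.1 hy
      have hs' : s.cycleType = Multiset.replicate 1 2 := (Finset.mem_filter.1 hs).2
      rw [Multiset.replicate_one, ← Equiv.Perm.isSwap_iff_cycleType] at hs'
      obtain ⟨a, b, hab, rfl⟩ := hs'
      refine Finset.mem_filter.2 ⟨Finset.mem_univ _, ?_⟩
      rw [Multiset.replicate_one, ← Equiv.Perm.isSwap_iff_cycleType]
      exact hA a b hab
    have hcardimg : (S1.image ρ).card = 15 := by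
      rw [Finset.card_image_of_injective _ hinj]
      exact card_type h6 1 (Or.inl rfl)
    have hcard1 : S1'.card = 15 := card_type h6' 1 (Or.inl rfl)
    have heq : S1.image ρ = S1' := Finset.eq_of_subset_of_card_le hsub (by rw [hcardimg, hcard1])
    obtain ⟨y, z, hyz, hy, hz⟩ := exists_two_ne h6' x0
    have hmem : swap y z ∈ S1' := by
      refine Finset.mem_filter.2 ⟨Finset.mem_univ _, ?_⟩
      rw [Multiset.replicate_one, ← Equiv.Perm.isSwap_iff_cycleType]
      exact ⟨y, z, hyz, rfl⟩
    rw [← heq] at hmem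
    obtain ⟨s, hs, hst⟩ := Finset.mem_image.1 hmem
    have hs' : s.cycleType = Multiset.replicate 1 2 := (Finset.mem_filter.1 hs).2
    rw [Multiset.replicate_one, ← Equiv.Perm.isSwap_iff_cycleType] at hs'
    obtain ⟨a, b, hab, rfl⟩ := hs'
    apply hno a b hab
    rw [hst]
    exact swap_apply_of_ne_of_ne hy.symm hz.symm
  · exact hB

/-- if no transposition fixes the base point, some element of type `2^3` does -/
theorem exists_222_of_no_swap (h6 : Fintype.card Ω = 6) (h6' : Fintype.card X = 6)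
    (ρ : Perm Ω →* Perm X) (x0 : X) (htrans : ∀ x, ∃ g, ρ g x0 = x)
    (hno : ∀ a b : Ω, a ≠ b → ρ (swap a b) x0 ≠ x0) :
    ∃ t : Perm Ω, t.cycleType = Multiset.replicate 3 2 ∧ ρ t x0 = x0 := by
  have hinj := injective_of_trans h6 h6' ρ x0 htrans
  obtain ⟨hB1, hB2⟩ := exotic_of_no_swap h6 h6' ρ x0 htrans hno
  have hbij : Function.Bijective ρ := by
    rw [Fintype.bijective_iff_injective_and_card]
    exact ⟨hinj, by rw [Fintype.card_perm, Fintype.card_perm, h6, h6']⟩
  obtain ⟨y, z, hyz, hy, hz⟩ := exists_two_ne h6' x0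
  obtain ⟨t, ht⟩ := hbij.2 (swap y z)
  have hord : orderOf t = 2 := by
    rw [← orderOf_injective ρ hinj, ht]
    exact Equiv.Perm.IsSwap.orderOf ⟨y, z, hyz, rfl⟩
  obtain ⟨k, hk⟩ := Equiv.Perm.cycleType_prime_order (σ := t) (by rw [hord]; exact Nat.prime_two)
  rw [hord] at hk
  obtain ⟨k', hk'1, hk'6, hk', hcase⟩ := invol_type h6 h6' ρ hinj t (k + 1) (by omega) hk
  have hk'1 : k' = 1 := by
    rw [ht] at hk'
    have h1 : (swap y z).cycleType = {2} := Equiv.Perm.isSwap_iff_cycleType.1 ⟨y, z, hyz, rfl⟩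
    rw [h1] at hk'
    have := congrArg Multiset.card hk'
    simpa using this.symm
  refine ⟨t, ?_, ?_⟩
  · rcases hcase with h | h
    · omega
    · rcases h.1 with h1 | h3
      · exfalso
        rw [h1, Multiset.replicate_one, ← Equiv.Perm.isSwap_iff_cycleType] at hk
        obtain ⟨a, b, hab, rfl⟩ := hk
        have := hB1 a b hab
        rw [hk', hk'1] at this
        have := congrArg Multiset.card this
        simp at this
      · rw [hk, h3]
  · rw [ht]
    exact swap_apply_of_ne_of_ne hy.symm hz.symm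

/-- two exotic transitive actions: the stabilizer of one fixes a point of the other -/
theorem exotic_conj {X' : Type*} [Fintype X'] [DecidableEq X']
    (h6 : Fintype.card Ω = 6) (h6' : Fintype.card X = 6) (h6'' : Fintype.card X' = 6)
    (ρ : Perm Ω →* Perm X) (x0 : X) (htrans : ∀ x, ∃ g, ρ g x0 = x)
    (hno : ∀ a b : Ω, a ≠ b → ρ (swap a b) x0 ≠ x0)
    (ρ' : Perm Ω →* Perm X') (x0' : X') (htrans' : ∀ x, ∃ g, ρ' g x0' = x)
    (hno' : ∀ a b : Ω, a ≠ b → ρ' (swap a b) x0' ≠ x0') :
    ∃ x : X, ∀ h, ρ' h x0' = x0' → ρ h x = x := by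
  have hinj := injective_of_trans h6 h6' ρ x0 htrans
  have hbij : Function.Bijective ρ := by
    rw [Fintype.bijective_iff_injective_and_card]
    exact ⟨hinj, by rw [Fintype.card_perm, Fintype.card_perm, h6, h6']⟩
  let ψ : Perm Ω ≃* Perm X := MulEquiv.ofBijective ρ hbij
  let ρ'' : Perm X →* Perm X' := ρ'.comp ψ.symm.toMonoidHom
  have hρ'' : ∀ h, ρ'' (ρ h) = ρ' h := by
    intro h
    change ρ' (ψ.symm (ψ h)) = ρ' h
    rw [ψ.symm_apply_apply]
  have htrans'' : ∀ x, ∃ g, ρ'' g x0' = x := by
    intro x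
    obtain ⟨g, hg⟩ := htrans' x
    exact ⟨ρ g, by rw [hρ'', hg]⟩
  by_cases hsw : ∃ a b : X, a ≠ b ∧ ρ'' (swap a b) x0' = x0'
  · obtain ⟨x, hx⟩ := stab_fixes_of_swap h6' h6'' ρ'' x0' htrans'' hsw
    refine ⟨x, fun h hh => hx (ρ h) ?_⟩
    rw [hρ'', hh]
  · exfalso
    push Not at hsw
    obtain ⟨t, ht, htfix⟩ := exists_222_of_no_swap h6 h6'' ρ' x0' htrans' hno'
    obtain ⟨_, hB2⟩ := exotic_of_no_swap h6 h6' ρ x0 htrans hno
    obtain ⟨a, b, hab, hsab⟩ := hB2 t ht
    apply hsw a b hab
    rw [← hsab, hρ'', htfix]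

end six

section exotic

instance fact5 : Fact (Nat.Prime 5) := ⟨by norm_num⟩

theorem card_perm5 : Nat.card (Perm (Fin 5)) = 120 := by
  rw [Nat.card_perm, Nat.card_fin]; rfl

theorem card_alt5 : Nat.card (alternatingGroup (Fin 5)) = 60 := by
  have := two_mul_nat_card_alternatingGroup (α := Fin 5)
  rw [card_perm5] at this
  omega

theorem index_alt5 : (alternatingGroup (Fin 5)).index = 2 := by
  have := (alternatingGroup (Fin 5)).card_mul_index
  rw [card_alt5, card_perm5] at this
  omega

theorem card_sylow5 (P : Sylow 5 (Perm (Fin 5))) : Nat.card P = 5 ∧ (P : Subgroup (Perm (Fin 5))).index = 24 := by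
  obtain ⟨k, hk⟩ := IsPGroup.iff_card.1 P.isPGroup'
  have h1 := (P : Subgroup (Perm (Fin 5))).card_mul_index
  rw [card_perm5] at h1
  have h2 := P.not_dvd_index
  have h3 : Nat.card (P : Subgroup (Perm (Fin 5))) = 5 ^ k := hk
  rw [h3] at h1
  have hk1 : k ≤ 1 := by
    by_contra hcon
    have : (25 : ℕ) ∣ 120 := by
      have h4 : (25 : ℕ) ∣ 5 ^ k := by
        have : (5 : ℕ) ^ 2 ∣ 5 ^ k := pow_dvd_pow 5 (by omega)
        simpa using this
      exact dvd_trans h4 (Dvd.intro _ h1)
    omega
  interval_cases k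
  · exfalso
    rw [pow_zero, one_mul] at h1
    apply h2
    rw [h1]; decide
  · refine ⟨by rw [h3]; rfl, ?_⟩
    omega

theorem not_normal_sylow5 (P : Sylow 5 (Perm (Fin 5))) : ¬ alternatingGroup (Fin 5) ≤ (P : Subgroup (Perm (Fin 5))) := by
  intro hle
  have := Subgroup.card_le_of_le hle
  rw [card_alt5] at this
  have h5 : Nat.card (P : Subgroup (Perm (Fin 5))) = 5 := (card_sylow5 P).1
  omega

theorem card_sylow_five : Nat.card (Sylow 5 (Perm (Fin 5))) = 6 := by
  obtain ⟨P⟩ : Nonempty (Sylow 5 (Perm (Fin 5))) := inferInstance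
  have h1 := card_sylow_modEq_one 5 (Perm (Fin 5))
  have h2 := P.card_dvd_index
  rw [(card_sylow5 P).2] at h2
  have h3 : Nat.card (Sylow 5 (Perm (Fin 5))) ≠ 1 := by
    intro h
    have h4 := P.card_eq_index_normalizer
    rw [h] at h4
    have h5 : Subgroup.normalizer ((P : Subgroup (Perm (Fin 5))) : Set (Perm (Fin 5))) = ⊤ := Subgroup.index_eq_one.1 h4.symm
    haveI : (P : Subgroup (Perm (Fin 5))).Normal := Subgroup.normalizer_eq_top_iff.1 h5
    apply not_normal_sylow5 P
    apply normal_ge_alt (by simp) (P : Subgroup (Perm (Fin 5)))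
    intro hbot
    have := (card_sylow5 P).1
    rw [hbot] at this
    simp at this
  have h6 : Nat.card (Sylow 5 (Perm (Fin 5))) ≤ 24 := Nat.le_of_dvd (by norm_num) h2
  unfold Nat.ModEq at h1
  generalize Nat.card (Sylow 5 (Perm (Fin 5))) = n at *
  interval_cases n <;> simp_all <;> omega


theorem sylow_action_injective :
    Function.Injective (MulAction.toPermHom (Perm (Fin 5)) (Sylow 5 (Perm (Fin 5)))) := by
  rw [← MonoidHom.ker_eq_bot_iff]
  by_contra hne
  have hA := normal_ge_alt (Ω := Fin 5) (by simp) _ hne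
  obtain ⟨P⟩ : Nonempty (Sylow 5 (Perm (Fin 5))) := inferInstance
  have hle : alternatingGroup (Fin 5) ≤
      Subgroup.normalizer ((P : Subgroup (Perm (Fin 5))) : Set (Perm (Fin 5))) := by
    intro g hg
    have h1 := hA hg
    rw [MonoidHom.mem_ker] at h1
    have h2 : g • P = P := by
      have := congrArg (fun f : Perm (Sylow 5 (Perm (Fin 5))) => f P) h1
      simpa using this
    exact Sylow.smul_eq_iff_mem_normalizer.1 h2
  have h3 := Subgroup.index_dvd_of_le hle
  have h4 : (Subgroup.normalizer ((P : Subgroup (Perm (Fin 5))) : Set (Perm (Fin 5)))).index = 6 := by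
    have := P.card_eq_index_normalizer
    rw [card_sylow_five] at this
    exact this.symm
  rw [h4, index_alt5] at h3
  omega

theorem exists_exotic {Ω : Type*} [Fintype Ω] [DecidableEq Ω] (h6 : Fintype.card Ω = 6) :
    ∃ H₂ : Subgroup (Perm Ω), H₂.index = 6 ∧ (∀ a b : Ω, ∃ g ∈ H₂, g a = b) ∧
      Nonempty (H₂ ≃* Perm (Fin 5)) := by
  classical
  haveI : Fintype (Sylow 5 (Perm (Fin 5))) := Fintype.ofFinite _
  have hc : Fintype.card (Sylow 5 (Perm (Fin 5))) = Fintype.card Ω := by
    rw [← Nat.card_eq_fintype_card, card_sylow_five, h6]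
  let e : Sylow 5 (Perm (Fin 5)) ≃ Ω := Fintype.equivOfCardEq hc
  let α := MulAction.toPermHom (Perm (Fin 5)) (Sylow 5 (Perm (Fin 5)))
  let β : Perm (Fin 5) →* Perm Ω := e.permCongrHom.toMonoidHom.comp α
  have hβ : Function.Injective β := e.permCongrHom.injective.comp sylow_action_injective
  refine ⟨β.range, ?_, ?_, ⟨(MonoidHom.ofInjective hβ).symm⟩⟩
  · have h1 := β.range.card_mul_index
    have h2 : Nat.card β.range = 120 := by
      rw [← Nat.card_congr (MonoidHom.ofInjective hβ).toEquiv, card_perm5]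
    rw [h2, Nat.card_perm, Nat.card_eq_fintype_card, h6] at h1
    have h720 : (6).factorial = 720 := by decide
    omega
  · intro a b
    obtain ⟨g, hg⟩ := MulAction.exists_smul_eq (Perm (Fin 5)) (e.symm a) (e.symm b)
    refine ⟨β g, ⟨g, rfl⟩, ?_⟩
    change e (g • e.symm a) = b
    rw [hg, e.apply_symm_apply]

end exotic

section wrap
universe u
variable {Ω : Type u} [Fintype Ω] [DecidableEq Ω]

omit [DecidableEq Ω] in
theorem index_stabilizer_six (h6 : Fintype.card Ω = 6) (a : Ω) :
    (MulAction.stabilizer (Perm Ω) a).index = 6 := by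
  rw [MulAction.index_stabilizer_of_transitive, Nat.card_eq_fintype_card, h6]

theorem eq_of_le_of_index_eq {G : Type*} [Group G] [Finite G] (H K : Subgroup G) (hle : H ≤ K)
    (hidx : H.index = K.index) : H = K := by
  apply Subgroup.eq_of_le_of_card_ge hle
  have h1 := H.card_mul_index
  have h2 := K.card_mul_index
  have hpos : 0 < K.index := Nat.pos_of_ne_zero (Subgroup.index_ne_zero_of_finite)
  rw [hidx] at h1
  have : Nat.card K * K.index = Nat.card H * K.index := by rw [h1, h2]
  exact le_of_eq (Nat.eq_of_mul_eq_mul_right hpos this)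

/-- the coset action data of an index 6 subgroup -/
theorem coset_action (H : Subgroup (Perm Ω)) (hH : H.index = 6) :
    ∃ (X : Type u) (_ : Fintype X) (_ : DecidableEq X) (ρ : Perm Ω →* Perm X) (x0 : X),
      Fintype.card X = 6 ∧ (∀ x, ∃ g, ρ g x0 = x) ∧ (∀ g, ρ g x0 = x0 ↔ g ∈ H) ∧
      (∀ x, ∃ g, x = ρ g x0) := by
  classical
  have : Fintype (Perm Ω ⧸ H) := Fintype.ofFinite _
  refine ⟨Perm Ω ⧸ H, inferInstance, inferInstance, MulAction.toPermHom (Perm Ω) (Perm Ω ⧸ H),
    ((1 : Perm Ω) : Perm Ω ⧸ H), ?_, ?_, ?_, ?_⟩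
  · rw [← Nat.card_eq_fintype_card, ← Subgroup.index_eq_card, hH]
  · intro x
    obtain ⟨g, rfl⟩ := QuotientGroup.mk_surjective x
    refine ⟨g, ?_⟩
    change g • ((1 : Perm Ω) : Perm Ω ⧸ H) = (g : Perm Ω ⧸ H)
    rw [MulAction.Quotient.smul_mk, smul_eq_mul, mul_one]
  · intro g
    change g • ((1 : Perm Ω) : Perm Ω ⧸ H) = ((1 : Perm Ω) : Perm Ω ⧸ H) ↔ g ∈ H
    rw [MulAction.Quotient.smul_mk, smul_eq_mul, mul_one, QuotientGroup.eq, mul_one, inv_mem_iff]
  · intro x
    obtain ⟨g, rfl⟩ := QuotientGroup.mk_surjective x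
    refine ⟨g, ?_⟩
    change (g : Perm Ω ⧸ H) = g • ((1 : Perm Ω) : Perm Ω ⧸ H)
    rw [MulAction.Quotient.smul_mk, smul_eq_mul, mul_one]

/-- an index 6 subgroup containing a transposition is a point stabilizer -/
theorem eq_stabilizer_of_swap (h6 : Fintype.card Ω = 6) (H : Subgroup (Perm Ω)) (hH : H.index = 6)
    (hsw : ∃ a b : Ω, a ≠ b ∧ swap a b ∈ H) : ∃ a : Ω, H = MulAction.stabilizer (Perm Ω) a := by
  obtain ⟨X, _, _, ρ, x0, hX, htrans, hstab, _⟩ := coset_action H hH
  obtain ⟨a, b, hab, habH⟩ := hsw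
  obtain ⟨c, hc⟩ := stab_fixes_of_swap h6 hX ρ x0 htrans ⟨a, b, hab, (hstab _).2 habH⟩
  refine ⟨c, eq_of_le_of_index_eq _ _ ?_ ?_⟩
  · intro g hg
    rw [MulAction.mem_stabilizer_iff, Perm.smul_def]
    exact hc g ((hstab g).2 hg)
  · rw [hH, index_stabilizer_six h6]

/-- two index 6 subgroups without transpositions are conjugate -/
theorem conj_of_no_swap (h6 : Fintype.card Ω = 6) (H H' : Subgroup (Perm Ω)) (hH : H.index = 6)
    (hH' : H'.index = 6) (hno : ∀ a b : Ω, a ≠ b → swap a b ∉ H)
    (hno' : ∀ a b : Ω, a ≠ b → swap a b ∉ H') :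
    ∃ g : Perm Ω, Subgroup.map (MulAut.conj g).toMonoidHom H' = H := by
  obtain ⟨X, _, _, ρ, x0, hX, htrans, hstab, hsurj⟩ := coset_action H hH
  obtain ⟨X', _, _, ρ', x0', hX', htrans', hstab', _⟩ := coset_action H' hH'
  obtain ⟨x, hx⟩ := exotic_conj h6 hX hX' ρ x0 htrans
    (fun a b hab h => hno a b hab ((hstab _).1 h)) ρ' x0' htrans'
    (fun a b hab h => hno' a b hab ((hstab' _).1 h))
  obtain ⟨g, rfl⟩ := hsurj x
  refine ⟨g⁻¹, eq_of_le_of_index_eq _ _ ?_ ?_⟩
  · rintro _ ⟨h, hh, rfl⟩
    have h1 := hx h ((hstab' h).2 hh)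
    rw [← hstab]
    change ρ (g⁻¹ * h * g⁻¹⁻¹) x0 = x0
    rw [inv_inv, map_mul, map_mul, Perm.mul_apply, Perm.mul_apply, h1, ← Perm.mul_apply,
      ← map_mul, inv_mul_cancel, map_one, Perm.one_apply]
  · rw [hH]
    have : (Subgroup.map (MulAut.conj g⁻¹).toMonoidHom H').index = H'.index :=
      Subgroup.index_map_of_bijective (MulAut.conj g⁻¹).bijective H'
    rw [this, hH']

end wrap

section count
universe u
variable {Ω : Type u} [Fintype Ω] [DecidableEq Ω]

theorem stabilizer_equiv {X : Type*} [Fintype X] [DecidableEq X] (h6' : Fintype.card X = 6) (x0 : X) :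
    Nonempty (MulAction.stabilizer (Perm X) x0 ≃* Perm (Fin 5)) := by
  let f : Perm {x : X // x ≠ x0} →* Perm X := Perm.ofSubtype
  have hf : Function.Injective f := Perm.ofSubtype_injective
  have hrange : f.range = MulAction.stabilizer (Perm X) x0 := by
    ext g
    rw [MulAction.mem_stabilizer_iff, Perm.smul_def]
    constructor
    · rintro ⟨k, rfl⟩
      exact Perm.ofSubtype_apply_of_not_mem k (by simp)
    · intro hg
      have hp : ∀ x : X, x ≠ x0 ↔ g x ≠ x0 := by
        intro x
        constructor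
        · intro hx h
          apply hx
          apply g.injective
          rw [h, hg]
        · intro hx h
          apply hx
          rw [h, hg]
      refine ⟨g.subtypePerm (fun x => (hp x).symm), ?_⟩
      apply Perm.ofSubtype_subtypePerm
      intro x hx
      by_contra h
      exact hx (by rw [h, hg])
  have hcard : Fintype.card {x : X // x ≠ x0} = Fintype.card (Fin 5) := by
    rw [Fintype.card_subtype_compl, Fintype.card_subtype_eq, h6', Fintype.card_fin]
  let e : {x : X // x ≠ x0} ≃ Fin 5 := Fintype.equivOfCardEq hcard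
  have e1 : MulAction.stabilizer (Perm X) x0 ≃* f.range := MulEquiv.subgroupCongr hrange.symm
  exact ⟨e1.trans ((MonoidHom.ofInjective hf).symm.trans e.permCongrHom)⟩

theorem equiv_perm_five (h6 : Fintype.card Ω = 6) (H : Subgroup (Perm Ω)) (hH : H.index = 6) :
    Nonempty (H ≃* Perm (Fin 5)) := by
  obtain ⟨X, _, _, ρ, x0, hX, htrans, hstab, _⟩ := coset_action H hH
  have hinj := injective_of_trans h6 hX ρ x0 htrans
  have hbij : Function.Bijective ρ := by
    rw [Fintype.bijective_iff_injective_and_card]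
    exact ⟨hinj, by rw [Fintype.card_perm, Fintype.card_perm, h6, hX]⟩
  let ψ : Perm Ω ≃* Perm X := MulEquiv.ofBijective ρ hbij
  have hmap : H.map ψ.toMonoidHom = MulAction.stabilizer (Perm X) x0 := by
    ext g
    rw [MulAction.mem_stabilizer_iff, Perm.smul_def]
    constructor
    · rintro ⟨h, hh, rfl⟩
      exact (hstab h).2 hh
    · intro hg
      obtain ⟨h, rfl⟩ := hbij.2 g
      exact ⟨h, (hstab h).1 hg, rfl⟩
  obtain ⟨e2⟩ := stabilizer_equiv hX x0
  exact ⟨(ψ.subgroupMap H).trans ((MulEquiv.subgroupCongr hmap).trans e2)⟩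

end count

section count2
universe u
variable {Ω : Type u} [Fintype Ω] [DecidableEq Ω]

theorem exists_two_ne' (h6 : Fintype.card Ω = 6) (a b : Ω) : ∃ c d : Ω, c ≠ d ∧ c ≠ a ∧ d ≠ a ∧ c ≠ b ∧ d ≠ b := by
  by_contra hcon
  push Not at hcon
  -- at most one point outside {a, b}
  have hsub : ∀ c d : Ω, c ≠ a → c ≠ b → d ≠ a → d ≠ b → c = d := by
    intro c d hca hcb hda hdb
    by_contra hcd
    exact hdb (hcon c d hcd hca hda hcb)
  by_cases hex : ∃ c : Ω, c ≠ a ∧ c ≠ b
  · obtain ⟨c, hca, hcb⟩ := hex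
    have hs : (Finset.univ : Finset Ω) ⊆ {a, b, c} := by
      intro d _
      by_cases hda : d = a
      · rw [hda]; simp
      by_cases hdb : d = b
      · rw [hdb]; simp
      rw [← hsub c d hca hcb hda hdb]; simp
    have := Finset.card_le_card hs
    have h3 : ({a, b, c} : Finset Ω).card ≤ 3 := Finset.card_le_three
    rw [Finset.card_univ, h6] at this
    omega
  · push Not at hex
    have hs : (Finset.univ : Finset Ω) ⊆ {a, b} := by
      intro d _
      by_cases hda : d = a
      · rw [hda]; simp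
      rw [hex d hda]; simp
    have := Finset.card_le_card hs
    have h3 : ({a, b} : Finset Ω).card ≤ 2 := Finset.card_le_two
    rw [Finset.card_univ, h6] at this
    omega

theorem stabilizer_injective (h6 : Fintype.card Ω = 6) (a b : Ω)
    (h : MulAction.stabilizer (Perm Ω) a = MulAction.stabilizer (Perm Ω) b) : a = b := by
  by_contra hab
  obtain ⟨c, d, hcd, hca, hda, hcb, hdb⟩ := exists_two_ne' h6 a b
  have h1 : swap b c ∈ MulAction.stabilizer (Perm Ω) a := by
    rw [MulAction.mem_stabilizer_iff, Perm.smul_def]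
    exact swap_apply_of_ne_of_ne hab hca.symm
  rw [h, MulAction.mem_stabilizer_iff, Perm.smul_def, swap_apply_left] at h1
  exact hcb h1

theorem card_index_six (h6 : Fintype.card Ω = 6) :
    Nat.card {H : Subgroup (Perm Ω) // H.index = 6} = 12 := by
  obtain ⟨H₂, hH₂, htr, _⟩ := exists_exotic h6
  have hmove : ∀ c : Ω, ∃ g ∈ H₂, g c ≠ c := by
    intro c
    obtain ⟨d, e, hde, hd, _⟩ := exists_two_ne' h6 c c
    obtain ⟨g, hg, hgc⟩ := htr c d
    exact ⟨g, hg, by rw [hgc]; exact hd⟩
  have hno₂ : ∀ a b : Ω, a ≠ b → swap a b ∉ H₂ := by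
    intro a b hab hmem
    obtain ⟨c, hc⟩ := eq_stabilizer_of_swap h6 H₂ hH₂ ⟨a, b, hab, hmem⟩
    obtain ⟨g, hg, hgc⟩ := hmove c
    rw [hc, MulAction.mem_stabilizer_iff, Perm.smul_def] at hg
    exact hgc hg
  obtain ⟨X, _, _, ρ, x0, hX, htrans, hstab, _⟩ := coset_action H₂ hH₂
  have hno : ∀ a b : Ω, a ≠ b → ρ (swap a b) x0 ≠ x0 :=
    fun a b hab h => hno₂ a b hab ((hstab _).1 h)
  have hinj := injective_of_trans h6 hX ρ x0 htrans
  have hbij : Function.Bijective ρ := by
    rw [Fintype.bijective_iff_injective_and_card]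
    exact ⟨hinj, by rw [Fintype.card_perm, Fintype.card_perm, h6, hX]⟩
  obtain ⟨hB1, _⟩ := exotic_of_no_swap h6 hX ρ x0 htrans hno
  have hidx : ∀ x : X, ((MulAction.stabilizer (Perm X) x).comap ρ).index = 6 := by
    intro x
    rw [Subgroup.index_comap_of_surjective _ hbij.2, index_stabilizer_six hX]
  let f : Ω ⊕ X → {H : Subgroup (Perm Ω) // H.index = 6} := fun s =>
    match s with
    | Sum.inl a => ⟨MulAction.stabilizer (Perm Ω) a, index_stabilizer_six h6 a⟩
    | Sum.inr x => ⟨(MulAction.stabilizer (Perm X) x).comap ρ, hidx x⟩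
  have hnosw : ∀ (x : X) (a b : Ω), a ≠ b → swap a b ∉ (MulAction.stabilizer (Perm X) x).comap ρ := by
    intro x a b hab hmem
    rw [Subgroup.mem_comap, MulAction.mem_stabilizer_iff, Perm.smul_def] at hmem
    have h1 := hB1 a b hab
    have h2 : (ρ (swap a b)).support.card = 6 := by
      rw [← Equiv.Perm.sum_cycleType, h1]; rfl
    have h3 : (ρ (swap a b)).support = Finset.univ := by
      apply Finset.eq_univ_of_card
      rw [h2, hX]
    have h4 : x ∈ (ρ (swap a b)).support := by rw [h3]; exact Finset.mem_univ _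
    exact (Equiv.Perm.mem_support.1 h4) hmem
  have hfbij : Function.Bijective f := by
    constructor
    · rintro (a | x) (b | y) hab
      · have := congrArg Subtype.val hab
        rw [stabilizer_injective h6 a b this]
      · exfalso
        have h1 := congrArg Subtype.val hab
        obtain ⟨c, d, hcd, hca, hda, _, _⟩ := exists_two_ne' h6 a a
        apply hnosw y c d hcd
        change swap c d ∈ (f (Sum.inr y)).1
        rw [← hab]
        change swap c d ∈ MulAction.stabilizer (Perm Ω) a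
        rw [MulAction.mem_stabilizer_iff, Perm.smul_def]
        exact swap_apply_of_ne_of_ne hca.symm hda.symm
      · exfalso
        obtain ⟨c, d, hcd, hca, hda, _, _⟩ := exists_two_ne' h6 b b
        apply hnosw x c d hcd
        change swap c d ∈ (f (Sum.inr x)).1
        rw [hab]
        change swap c d ∈ MulAction.stabilizer (Perm Ω) b
        rw [MulAction.mem_stabilizer_iff, Perm.smul_def]
        exact swap_apply_of_ne_of_ne hca.symm hda.symm
      · have h1 : (MulAction.stabilizer (Perm X) x).comap ρ = (MulAction.stabilizer (Perm X) y).comap ρ :=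
          congrArg Subtype.val hab
        have h2 : MulAction.stabilizer (Perm X) x = MulAction.stabilizer (Perm X) y := by
          have := congrArg (Subgroup.map ρ) h1
          rwa [Subgroup.map_comap_eq_self_of_surjective hbij.2,
            Subgroup.map_comap_eq_self_of_surjective hbij.2] at this
        rw [stabilizer_injective hX x y h2]
    · rintro ⟨H, hH⟩
      by_cases hsw : ∃ a b : Ω, a ≠ b ∧ swap a b ∈ H
      · obtain ⟨c, hc⟩ := eq_stabilizer_of_swap h6 H hH hsw
        exact ⟨Sum.inl c, Subtype.ext hc.symm⟩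
      · push Not at hsw
        obtain ⟨X', _, _, ρ', x0', hX', htrans', hstab', _⟩ := coset_action H hH
        obtain ⟨x, hx⟩ := exotic_conj h6 hX hX' ρ x0 htrans hno ρ' x0' htrans'
          (fun a b hab h => hsw a b hab ((hstab' _).1 h))
        refine ⟨Sum.inr x, Subtype.ext ?_⟩
        symm
        apply eq_of_le_of_index_eq
        · intro h hh
          rw [Subgroup.mem_comap, MulAction.mem_stabilizer_iff, Perm.smul_def]
          exact hx h ((hstab' h).2 hh)
        · rw [hH, hidx x]
  rw [← Nat.card_congr (Equiv.ofBijective f hfbij), Nat.card_eq_fintype_card, Fintype.card_sum,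
    h6, hX]

end count2

end Cfsg.Agent.Lib.Helper10.SymSix
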