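import Mathlib
import Cfsg.Prelude.Def_OddOrderLocal
import Cfsg.Agent.Lib.Helper2.Cores
import Cfsg.Agent.Lib.Helper2.NilpotentCoprime
import Cfsg.Agent.Lib.Helper6.FittingHall

/-!
# Subgroups of type P: `F(M) = M_F · C_U(M_F)` (helper10)
-/

set_option autoImplicit false

namespace Cfsg.Agent.Lib.Helper10

open Cfsg

/-- Complements in the sense of `IsComplIn` multiply orders. -/
theorem card_of_isComplIn {G : Type*} [Group G] {A B M : Subgroup G} (h : IsComplIn A B M) :
    Nat.card M = Nat.card A * Nat.card B := by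
  obtain ⟨hA, hB, hAB, hM⟩ := h
  rw [← Nat.card_prod]
  symm
  let f : ↥A × ↥B → ↥M := fun ab => ⟨(ab.1 : G) * (ab.2 : G), M.mul_mem (hA ab.1.2) (hB ab.2.2)⟩
  apply Nat.card_congr (Equiv.ofBijective f ⟨?_, ?_⟩)
  · rintro ⟨⟨a, ha⟩, ⟨b, hb⟩⟩ ⟨⟨a', ha'⟩, ⟨b', hb'⟩⟩ hab
    have hab' : a * b = a' * b' := congrArg Subtype.val hab
    have hmem : a'⁻¹ * a ∈ A ⊓ B := by
      refine ⟨A.mul_mem (A.inv_mem ha') ha, ?_⟩
      have : a'⁻¹ * a = b' * b⁻¹ := by
        rw [inv_mul_eq_iff_eq_mul, ← mul_assoc, ← hab']; group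
      show a'⁻¹ * a ∈ B
      rw [this]
      exact B.mul_mem hb' (B.inv_mem hb)
    rw [hAB, Subgroup.mem_bot] at hmem
    have haa : a = a' := by
      have := inv_mul_eq_one.mp hmem
      exact this.symm
    subst haa
    have hbb : b = b' := mul_left_cancel hab'
    subst hbb
    rfl
  · rintro ⟨m, hm⟩
    obtain ⟨a, ha, b, hb, rfl⟩ := hM m hm
    exact ⟨(⟨a, ha⟩, ⟨b, hb⟩), rfl⟩

section

variable {G : Type*} [Group G] [Finite G] {M W₁ U W₂ : Subgroup G}

theorem fittingHallOf_le_fittingOf (M : Subgroup G) : fittingHallOf M ≤ fittingOf M :=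
  Subgroup.map_mono Cfsg.Agent.Lib.Helper6.fittingHall_le_fittingSubgroup

theorem fittingOf_isNilpotent (M : Subgroup G) : Group.IsNilpotent ↥(fittingOf M) := by
  haveI := Cfsg.Agent.Lib.Helper2.fittingSubgroup_isNilpotent (G := ↥M)
  exact Group.nilpotent_of_mulEquiv
    ((fittingSubgroup ↥M).equivMapOfInjective M.subtype M.subtype_injective)

theorem card_fittingHallOf (M : Subgroup G) :
    Nat.card (fittingHallOf M) = Nat.card (fittingHall ↥M) :=
  (Nat.card_congr ((fittingHall ↥M).equivMapOfInjective M.subtype M.subtype_injective).toEquiv).symm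

/-- Order bookkeeping for type-P data: `|M| = |H| |U| |W₁|`, pairwise coprime. -/
theorem typeP_card (hP : IsTypePWith M W₁ U W₂) :
    Nat.card M = Nat.card (fittingHallOf M) * Nat.card U * Nat.card W₁ := by
  rw [card_of_isComplIn hP.W₁_compl, card_of_isComplIn hP.U_compl]

theorem typeP_coprime_H_UW (hP : IsTypePWith M W₁ U W₂) :
    (Nat.card (fittingHallOf M)).Coprime (Nat.card U * Nat.card W₁) := by
  have h1 := Cfsg.Agent.Lib.Helper6.fittingHall_coprime (G := ↥M)
  have h2 := Subgroup.card_mul_index (fittingHall ↥M)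
  have h3 := typeP_card hP
  rw [card_fittingHallOf] at h3 ⊢
  have hpos : 0 < Nat.card (fittingHall ↥M) := Nat.card_pos
  have h4 : (fittingHall ↥M).index = Nat.card U * Nat.card W₁ := by
    have : Nat.card (fittingHall ↥M) * (fittingHall ↥M).index =
        Nat.card (fittingHall ↥M) * (Nat.card U * Nat.card W₁) := by
      rw [h2, h3, mul_assoc]
    exact Nat.eq_of_mul_eq_mul_left hpos this
  rw [← h4]
  exact h1

theorem typeP_coprime_H_U (hP : IsTypePWith M W₁ U W₂) :
    (Nat.card (fittingHallOf M)).Coprime (Nat.card U) :=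
  Nat.Coprime.coprime_dvd_right (Dvd.intro _ rfl) (typeP_coprime_H_UW hP)

/-- `F(M) ∩ U` centralizes `H = M_F`. -/
theorem typeP_fittingOf_inf_le_centralizer (hP : IsTypePWith M W₁ U W₂) :
    fittingOf M ⊓ U ≤ Subgroup.centralizer (fittingHallOf M : Set G) := by
  rintro b ⟨hbF, hbU⟩
  show b ∈ Subgroup.centralizer (fittingHallOf M : Set G)
  rw [Subgroup.mem_centralizer_iff]
  intro a ha
  have hcop : (orderOf a).Coprime (orderOf b) := by
    have h1 : orderOf a ∣ Nat.card (fittingHallOf M) := Subgroup.orderOf_dvd_natCard _ ha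
    have h2 : orderOf b ∣ Nat.card U := Subgroup.orderOf_dvd_natCard _ hbU
    exact Nat.Coprime.coprime_dvd_left h1 (Nat.Coprime.coprime_dvd_right h2 (typeP_coprime_H_U hP))
  exact Cfsg.Agent.Lib.Helper2.commute_of_coprime_orderOf_of_mem (fittingOf M)
    (fittingOf_isNilpotent M) a b (fittingHallOf_le_fittingOf M ha) hbF hcop

/-- Dedekind: `F(M) = H (F(M) ∩ U)` elementwise. -/
theorem typeP_fittingOf_decomp (hP : IsTypePWith M W₁ U W₂) {x : G} (hx : x ∈ fittingOf M) :
    ∃ h ∈ fittingHallOf M, ∃ u ∈ fittingOf M ⊓ U, x = h * u := by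
  obtain ⟨h, hh, u, hu, rfl⟩ := hP.U_compl.2.2.2 x (hP.fitting_le hx)
  refine ⟨h, hh, u, ⟨?_, hu⟩, rfl⟩
  have : u = h⁻¹ * (h * u) := by group
  rw [this]
  exact (fittingOf M).mul_mem ((fittingOf M).inv_mem (fittingHallOf_le_fittingOf M hh)) hx

end

end Cfsg.Agent.Lib.Helper10
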