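import Mathlib

namespace Cfsg.Agent.Lib.Helper10.Us
open Equiv

universe u
variable {α : Type u}

noncomputable def L (x : Perm α) (a : α) : ℕ := Function.minimalPeriod (⇑x) a

lemma pow_apply_eq_iff (x : Perm α) (a : α) (n : ℕ) : (x ^ n) a = a ↔ L x a ∣ n := by
  rw [L, ← Function.isPeriodicPt_iff_minimalPeriod_dvd, Function.IsPeriodicPt, Function.IsFixedPt,
    Equiv.Perm.iterate_eq_pow]

lemma L_dvd {x : Perm α} {k : ℕ} (hk : x ^ (2 ^ k) = 1) (a : α) : L x a ∣ 2 ^ k := by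
  rw [← pow_apply_eq_iff, hk]; rfl

lemma L_pos {x : Perm α} {k : ℕ} (hk : x ^ (2 ^ k) = 1) (a : α) : 0 < L x a :=
  Nat.pos_of_dvd_of_pos (L_dvd hk a) (by positivity)

lemma L_eq_one_iff (x : Perm α) (a : α) : L x a = 1 ↔ x a = a := by
  rw [← Nat.dvd_one, ← pow_apply_eq_iff, pow_one]

lemma L_even {x : Perm α} {k : ℕ} (hk : x ^ (2 ^ k) = 1) {a : α} (ha : x a ≠ a) : 2 ∣ L x a := by
  obtain ⟨i, hi, h⟩ := (Nat.dvd_prime_pow Nat.prime_two).mp (L_dvd hk a)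
  rcases i with _ | i
  · exfalso; apply ha; rw [← L_eq_one_iff]; simpa using h
  · rw [h, pow_succ]; exact dvd_mul_left _ _

lemma pow_comm_apply (x : Perm α) (i j : ℕ) (a : α) : (x ^ i) ((x ^ j) a) = (x ^ j) ((x ^ i) a) := by
  rw [← Perm.mul_apply, ← Perm.mul_apply, ← pow_add, ← pow_add, add_comm]

lemma L_pow_apply (x : Perm α) (a : α) (j : ℕ) : L x ((x ^ j) a) = L x a := by
  apply Nat.dvd_antisymm
  · rw [← pow_apply_eq_iff, pow_comm_apply, (pow_apply_eq_iff x a _).mpr dvd_rfl]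
  · rw [← pow_apply_eq_iff]
    have h := (pow_apply_eq_iff x ((x^j) a) _).mpr dvd_rfl
    rw [pow_comm_apply] at h
    exact (x^j).injective h

lemma L_apply (x : Perm α) (a : α) : L x (x a) = L x a := by
  have := L_pow_apply x a 1
  rwa [pow_one] at this

/-- the partner -/
noncomputable def hp (x : Perm α) (a : α) : α := (x ^ (L x a / 2)) a

lemma L_hp (x : Perm α) (a : α) : L x (hp x a) = L x a := L_pow_apply x a _

lemma hp_ne {x : Perm α} {k : ℕ} (hk : x ^ (2 ^ k) = 1) {a : α} (ha : x a ≠ a) : hp x a ≠ a := by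
  intro h
  rw [hp, pow_apply_eq_iff] at h
  obtain ⟨l, hl⟩ := L_even hk ha
  have hpos := L_pos hk a
  rw [hl, Nat.mul_div_cancel_left _ (by norm_num : 0 < 2)] at h
  have := Nat.le_of_dvd (by omega) h
  omega

lemma hp_hp {x : Perm α} {k : ℕ} (hk : x ^ (2 ^ k) = 1) {a : α} (ha : x a ≠ a) : hp x (hp x a) = a := by
  have h1 : hp x (hp x a) = (x ^ (L x a / 2)) ((x ^ (L x a / 2)) a) := by
    conv_lhs => rw [hp, L_hp]
    rfl
  rw [h1, ← Perm.mul_apply, ← pow_add, pow_apply_eq_iff]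
  obtain ⟨l, hl⟩ := L_even hk ha
  rw [hl, Nat.mul_div_cancel_left _ (by norm_num : 0 < 2)]
  exact ⟨1, by ring⟩

lemma hp_nonfixed {x : Perm α} {a : α} (ha : x a ≠ a) : x (hp x a) ≠ hp x a := by
  rw [Ne, ← L_eq_one_iff, L_hp, L_eq_one_iff]; exact ha

def rho (x : Perm α) (a b : α) : Prop :=
  a = b ∨ (x a ≠ a ∧ x b ≠ b ∧ b = hp x a ∧ a = hp x b) ∨ (x a = a ∧ x b = b)

lemma rho_refl (x : Perm α) (a : α) : rho x a a := Or.inl rfl

lemma rho_symm (x : Perm α) {a b : α} (h : rho x a b) : rho x b a := by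
  rcases h with h | ⟨h1, h2, h3, h4⟩ | ⟨h1, h2⟩
  · exact Or.inl h.symm
  · exact Or.inr (Or.inl ⟨h2, h1, h4, h3⟩)
  · exact Or.inr (Or.inr ⟨h2, h1⟩)

lemma rho_trans (x : Perm α) {a b c : α} (h : rho x a b) (h' : rho x b c) : rho x a c := by
  rcases h with h | ⟨h1, h2, h3, h4⟩ | ⟨h1, h2⟩
  · subst h; exact h'
  · rcases h' with h' | ⟨g1, g2, g3, g4⟩ | ⟨g1, g2⟩
    · subst h'; exact Or.inr (Or.inl ⟨h1, h2, h3, h4⟩)
    · exact Or.inl (h4.trans g3.symm)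
    · exact absurd g1 h2
  · rcases h' with h' | ⟨g1, g2, g3, g4⟩ | ⟨g1, g2⟩
    · subst h'; exact Or.inr (Or.inr ⟨h1, h2⟩)
    · exact absurd h2 g1
    · exact Or.inr (Or.inr ⟨h1, g2⟩)

lemma rho_hp {x : Perm α} {k : ℕ} (hk : x ^ (2 ^ k) = 1) {a : α} (ha : x a ≠ a) :
    rho x a (hp x a) :=
  Or.inr (Or.inl ⟨ha, hp_nonfixed ha, rfl, (hp_hp hk ha).symm⟩)

def rhoS (x : Perm α) : Setoid α := ⟨rho x, ⟨rho_refl x, rho_symm x, rho_trans x⟩⟩

/-- goodness -/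
structure Good (x : Perm α) : Prop where
  pw : ∃ k : ℕ, x ^ (2 ^ k) = 1
  cyc : ∀ a b, x a ≠ a → L x a = L x b → x.SameCycle a b
  fix : ∀ a b c, x a = a → x b = b → x c = c → a = b ∨ a = c ∨ b = c

lemma rho_cls {x : Perm α} (hg : Good x) {a b c : α} (h : rho x a b) (h' : rho x a c) :
    a = b ∨ a = c ∨ b = c := by
  rcases h with h | ⟨h1, h2, h3, h4⟩ | ⟨h1, h2⟩
  · exact Or.inl h
  · rcases h' with h' | ⟨g1, g2, g3, g4⟩ | ⟨g1, g2⟩
    · exact Or.inr (Or.inl h')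
    · exact Or.inr (Or.inr (h3.trans g3.symm))
    · exact absurd g1 h1
  · rcases h' with h' | ⟨g1, g2, g3, g4⟩ | ⟨g1, g2⟩
    · exact Or.inr (Or.inl h')
    · exact absurd h1 g1
    · exact hg.fix a b c h1 h2 g2

/-- generic: classes of size ≤ 2 and `u` moving within classes gives `u*u = 1`. -/
lemma sq_one_of_cls {r : α → α → Prop} (hsymm : ∀ a b, r a b → r b a)
    (hcls : ∀ a b c, r a b → r a c → a = b ∨ a = c ∨ b = c) (u : Perm α)
    (hu : ∀ a, r (u a) a) : u * u = 1 := by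
  ext a
  simp only [Perm.mul_apply, Perm.one_apply]
  rcases hcls (u a) a (u (u a)) (hu a) (hsymm _ _ (hu (u a))) with h | h | h
  · rw [h, h]
  · have h2 : u a = a := u.injective h.symm
    rw [h2, h2]
  · exact h.symm

end Cfsg.Agent.Lib.Helper10.Us
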