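import Mathlib
import Cfsg.Agent.Lib.Helper10.UsA

namespace Cfsg.Agent.Lib.Helper10.Us
open Equiv

universe u
variable {α : Type u}

def IsBlk (R : Subgroup (Perm α)) (a w : α) : Prop :=
  ∀ h ∈ R, (h a = a ∨ h a = w ∨ h w = a ∨ h w = w) →
    ((h a = a ∧ h w = w) ∨ (h a = w ∧ h w = a))

lemma IsBlk.symm {R : Subgroup (Perm α)} {a w : α} (h : IsBlk R a w) : IsBlk R w a := by
  intro g hg hp
  rcases h g hg (by tauto) with ⟨h1, h2⟩ | ⟨h1, h2⟩
  · exact Or.inl ⟨h2, h1⟩
  · exact Or.inr ⟨h2, h1⟩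

lemma IsBlk.conj {R : Subgroup (Perm α)} {a w : α} (h : IsBlk R a w) {g : Perm α} (hg : g ∈ R) :
    IsBlk R (g a) (g w) := by
  intro k hk hp
  have hmem : g⁻¹ * k * g ∈ R := R.mul_mem (R.mul_mem (R.inv_mem hg) hk) hg
  have e1 : ∀ c d : α, (g⁻¹ * k * g) c = d ↔ k (g c) = g d := by
    intro c d
    simp only [Perm.mul_apply, Perm.inv_eq_iff_eq]
  have := h _ hmem (by simpa only [e1] using hp)
  simpa only [e1] using this

theorem exists_blk [Finite α] (R : Subgroup (Perm α)) (hR : IsPGroup 2 R) (a : α)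
    (hmv : ∃ h ∈ R, h a ≠ a) : ∃ w, w ≠ a ∧ IsBlk R a w := by
  classical
  have : Fact (Nat.Prime 2) := ⟨Nat.prime_two⟩
  set St : Subgroup R := (MulAction.stabilizer (Perm α) a).subgroupOf R with hSt
  have memSt : ∀ g : R, g ∈ St ↔ (g : Perm α) a = a := by
    intro g; rw [hSt, Subgroup.mem_subgroupOf, MulAction.mem_stabilizer_iff, Perm.smul_def]
  obtain ⟨n, hn⟩ := IsPGroup.iff_card.mp hR
  obtain ⟨m, hm⟩ := IsPGroup.iff_card.mp (hR.to_subgroup St)
  have hne : St ≠ ⊤ := by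
    obtain ⟨h, hh, hha⟩ := hmv
    intro htop
    have : (⟨h, hh⟩ : R) ∈ St := by rw [htop]; trivial
    exact hha ((memSt _).mp this)
  have hmn : m < n := by
    have h1 : 2 ^ m ∣ 2 ^ n := by rw [← hm, ← hn]; exact Subgroup.card_subgroup_dvd_card St
    have h2 : m ≤ n := (Nat.pow_dvd_pow_iff_le_right (by norm_num)).mp h1
    rcases h2.lt_or_eq with h3 | h3
    · exact h3
    · exfalso; apply hne; rw [← Subgroup.card_eq_iff_eq_top, hm, hn, h3]
  obtain ⟨M, hM, hle⟩ := Sylow.exists_subgroup_card_pow_succ (p := 2) (n := m) (G := R)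
    (by rw [hn]; exact pow_dvd_pow 2 hmn) hm
  have hrel : St.relIndex M = 2 := by
    have h1 := Subgroup.card_mul_index (St.subgroupOf M)
    rw [Nat.card_congr (Subgroup.subgroupOfEquivOfLe hle).toEquiv, hm, hM, pow_succ] at h1
    exact Nat.eq_of_mul_eq_mul_left (by positivity) h1
  obtain ⟨a0, ha0M, hx⟩ := Subgroup.relIndex_eq_two_iff.mp hrel
  have ha0 : a0 ∉ St := by
    rcases hx 1 M.one_mem with ⟨h1, h2⟩ | ⟨h1, h2⟩
    · exact absurd St.one_mem h2
    · simpa using h2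
  have key1 : ∀ b ∈ M, b ∉ St → b * a0 ∈ St := by
    intro b hb hbs
    rcases hx b hb with ⟨h1, h2⟩ | ⟨h1, h2⟩
    · exact h1
    · exact absurd h1 hbs
  have key2 : ∀ b ∈ M, b ∈ St → b * a0 ∉ St := by
    intro b hb hbs
    rcases hx b hb with ⟨h1, h2⟩ | ⟨h1, h2⟩
    · exact absurd hbs h2
    · exact h2
  set w : α := (a0 : Perm α) a with hw
  have hwa : w ≠ a := fun h => ha0 ((memSt a0).mpr h)
  have F1 : ∀ b ∈ M, b ∉ St → (b : Perm α) a = w ∧ (b : Perm α) w = a := by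
    intro b hb hbs
    constructor
    · have h1 : b⁻¹ * a0 ∈ St := key1 b⁻¹ (M.inv_mem hb) (by rwa [inv_mem_iff])
      rw [memSt] at h1
      simp only [Subgroup.coe_mul, Subgroup.coe_inv, Perm.mul_apply, Perm.inv_eq_iff_eq] at h1
      exact h1.symm
    · have h1 := key1 b hb hbs
      rw [memSt] at h1
      simpa only [Subgroup.coe_mul, Perm.mul_apply] using h1
  have F2 : ∀ s ∈ St, (s : Perm α) a = a ∧ (s : Perm α) w = w := by
    intro s hs
    refine ⟨(memSt s).mp hs, ?_⟩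
    have h1 := (F1 (s * a0) (M.mul_mem (hle hs) ha0M) (key2 s (hle hs) hs)).1
    simpa only [Subgroup.coe_mul, Perm.mul_apply] using h1
  have F3 : ∀ h : R, h ∉ M →
      ¬ ((h : Perm α) a = a ∨ (h : Perm α) a = w ∨ (h : Perm α) w = a ∨ (h : Perm α) w = w) := by
    intro h hM'
    rintro (h1 | h1 | h1 | h1)
    · exact hM' (hle ((memSt h).mpr h1))
    · apply hM'
      have : a0⁻¹ * h ∈ St := by
        rw [memSt]
        simp only [Subgroup.coe_mul, Subgroup.coe_inv, Perm.mul_apply, Perm.inv_eq_iff_eq]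
        exact h1
      exact (Subgroup.mul_mem_cancel_left M (M.inv_mem ha0M)).mp (hle this)
    · apply hM'
      have : h * a0 ∈ St := by
        rw [memSt]
        simp only [Subgroup.coe_mul, Perm.mul_apply]
        exact h1
      exact (Subgroup.mul_mem_cancel_right M ha0M).mp (hle this)
    · apply hM'
      have : a0⁻¹ * h * a0 ∈ St := by
        rw [memSt]
        simp only [Subgroup.coe_mul, Subgroup.coe_inv, Perm.mul_apply, Perm.inv_eq_iff_eq]
        exact h1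
      exact (Subgroup.mul_mem_cancel_left M (M.inv_mem ha0M)).mp
        ((Subgroup.mul_mem_cancel_right M ha0M).mp (hle this))
  refine ⟨w, hwa, fun h hh hprem => ?_⟩
  by_cases hM' : (⟨h, hh⟩ : R) ∈ M
  · by_cases hS : (⟨h, hh⟩ : R) ∈ St
    · exact Or.inl (F2 _ hS)
    · exact Or.inr (F1 _ hM' hS)
  · exact absurd hprem (F3 _ hM')

end Cfsg.Agent.Lib.Helper10.Us
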