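import Mathlib
import Cfsg.Agent.Lib.Helper10.UsB

namespace Cfsg.Agent.Lib.Helper10.Us
open Equiv

universe u
variable {α : Type u}

theorem blk_rho [Finite α] {x : Perm α} (hg : Good x) {R : Subgroup (Perm α)} (hxR : x ∈ R)
    {c d : α} (hcd : c ≠ d) (hb : IsBlk R c d) : rho x c d := by
  obtain ⟨k, hk⟩ := hg.pw
  by_cases hc : x c = c
  · rcases hb x hxR (Or.inl hc) with ⟨_, h2⟩ | ⟨h1, _⟩
    · exact Or.inr (Or.inr ⟨hc, h2⟩)
    · exact absurd (hc.symm.trans h1) hcd
  · have hpw : ∀ j : ℕ, x ^ j ∈ R := fun j => R.pow_mem hxR j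
    have hsc : x.SameCycle c d := by
      apply hg.cyc c d hc
      apply Nat.dvd_antisymm
      · rw [← pow_apply_eq_iff]
        have hd : (x ^ L x d) d = d := (pow_apply_eq_iff x d _).mpr dvd_rfl
        rcases hb _ (hpw (L x d)) (Or.inr (Or.inr (Or.inr hd))) with ⟨h1, _⟩ | ⟨_, h2⟩
        · exact h1
        · exact absurd (hd.symm.trans h2).symm hcd
      · rw [← pow_apply_eq_iff]
        have hc' : (x ^ L x c) c = c := (pow_apply_eq_iff x c _).mpr dvd_rfl
        rcases hb _ (hpw (L x c)) (Or.inl hc') with ⟨_, h2⟩ | ⟨h1, _⟩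
        · exact h2
        · exact absurd (hc'.symm.trans h1) hcd
    obtain ⟨j, hj⟩ := hsc.exists_nat_pow_eq
    rcases hb _ (hpw j) (Or.inr (Or.inl hj)) with ⟨h1, _⟩ | ⟨_, h2⟩
    · exact absurd (h1.symm.trans hj) hcd
    · have h3 : (x ^ (j + j)) c = c := by rw [pow_add, Perm.mul_apply, hj, h2]
      rw [pow_apply_eq_iff] at h3
      obtain ⟨l, hl⟩ := L_even hk hc
      have hnd : ¬ L x c ∣ j := by
        intro h; rw [← pow_apply_eq_iff, hj] at h; exact hcd h.symm
      have h4 : l ∣ j := by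
        rw [hl, ← two_mul] at h3
        exact (Nat.mul_dvd_mul_iff_left (by norm_num)).mp h3
      obtain ⟨m, hm⟩ := h4
      have hmodd : m % 2 = 1 := by
        by_contra hcon
        have h0 : m % 2 = 0 := by omega
        apply hnd
        rw [hl, hm]
        obtain ⟨m', hm'⟩ := Nat.dvd_of_mod_eq_zero h0
        rw [hm']; exact ⟨m', by ring⟩
      have hd : d = hp x c := by
        rw [hp, hl, Nat.mul_div_cancel_left _ (by norm_num : 0 < 2), ← hj]
        obtain ⟨m', hm'⟩ : ∃ m', m = 2 * m' + 1 := ⟨m / 2, by omega⟩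
        have hj' : j = l + (L x c) * m' := by rw [hm, hm', hl]; ring
        rw [hj', pow_add, Perm.mul_apply, (pow_apply_eq_iff x c _).mpr (dvd_mul_right _ _)]
      have := rho_hp hk hc
      rwa [← hd] at this

theorem rho_pres [Finite α] {x : Perm α} (hg : Good x) {R : Subgroup (Perm α)}
    (hR : IsPGroup 2 R) (hxR : x ∈ R) {g : Perm α} (hgR : g ∈ R) {a b : α}
    (hab : rho x a b) : rho x (g a) (g b) := by
  by_cases heq : a = b
  · subst heq; exact rho_refl x _
  have key : IsBlk R a b ∨ (∀ h ∈ R, h a = a ∧ h b = b) := by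
    by_cases ha : ∃ h ∈ R, h a ≠ a
    · obtain ⟨w, hw, hblk⟩ := exists_blk R hR a ha
      have h1 := blk_rho hg hxR (Ne.symm hw) hblk
      rcases rho_cls hg hab h1 with h | h | h
      · exact absurd h heq
      · exact absurd h.symm hw
      · left; rw [h]; exact hblk
    · by_cases hb : ∃ h ∈ R, h b ≠ b
      · obtain ⟨w, hw, hblk⟩ := exists_blk R hR b hb
        have h1 := blk_rho hg hxR (Ne.symm hw) hblk
        rcases rho_cls hg (rho_symm x hab) h1 with h | h | h
        · exact absurd h.symm heq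
        · exact absurd h.symm hw
        · left; rw [h]; exact hblk.symm
      · right
        push Not at ha hb
        exact fun h hh => ⟨ha h hh, hb h hh⟩
  rcases key with hblk | hfix
  · exact blk_rho hg hxR (fun h => heq (g.injective h)) (hblk.conj hgR)
  · rw [(hfix g hgR).1, (hfix g hgR).2]; exact hab

end Cfsg.Agent.Lib.Helper10.Us
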