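import Mathlib
import Cfsg.Agent.Lib.Helper10.UsC

namespace Cfsg.Agent.Lib.Helper10.Us
open Equiv

universe u
variable {α : Type u}

/-- perms preserving a relation -/
def NS (s : Setoid α) : Subgroup (Perm α) where
  carrier := {g | ∀ a b, s.r a b ↔ s.r (g a) (g b)}
  one_mem' := fun a b => Iff.rfl
  mul_mem' := by
    intro g h hg hh a b
    rw [Perm.mul_apply, Perm.mul_apply, ← hg, ← hh]
  inv_mem' := by
    intro g hg a b
    have := hg (g⁻¹ a) (g⁻¹ b)
    simpa using this.symm

lemma mem_NS (s : Setoid α) (g : Perm α) : g ∈ NS s ↔ ∀ a b, s.r a b ↔ s.r (g a) (g b) := Iff.rfl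

noncomputable def qhom (s : Setoid α) : NS s →* Perm (Quotient s) where
  toFun g := Quotient.congr (ra := s) (rb := s) g.1 (fun a b => g.2 a b)
  map_one' := by
    ext q; induction q using Quotient.inductionOn; rfl
  map_mul' := by
    intro g h; ext q; induction q using Quotient.inductionOn; rfl

lemma qhom_mk (s : Setoid α) (g : NS s) (a : α) :
    qhom s g (Quotient.mk s a) = Quotient.mk s (g.1 a) := rfl

lemma hp_hp' {x : Perm α} {k : ℕ} (hk : x ^ (2 ^ k) = 1) {a : α} (ha : x a ≠ a) :
    (x ^ (L x a / 2)) (hp x a) = a := by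
  have := hp_hp hk ha
  rwa [hp, L_hp] at this

theorem good_quot [Finite α] {x : Perm α} (hg : Good x) (hxN : x ∈ NS (rhoS x)) :
    Good (qhom (rhoS x) ⟨x, hxN⟩) := by
  obtain ⟨k, hk⟩ := hg.pw
  set xb := qhom (rhoS x) ⟨x, hxN⟩ with hxb
  have hpow : ∀ (j : ℕ) (a : α), (xb ^ j) (Quotient.mk (rhoS x) a) = Quotient.mk (rhoS x) ((x ^ j) a) := by
    intro j a
    rw [hxb, ← map_pow]
    rfl
  have hqe : ∀ a b : α, Quotient.mk (rhoS x) a = Quotient.mk (rhoS x) b ↔ rho x a b := by
    intro a b
    exact Quotient.eq (r := rhoS x)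
  have Q1 : ∀ (j : ℕ) (a : α), (xb ^ j) (Quotient.mk (rhoS x) a) = Quotient.mk (rhoS x) a ↔
      L x a ∣ 2 * j := by
    intro j a
    rw [hpow, hqe]
    constructor
    · rintro (h | ⟨h1, h2, h3, h4⟩ | ⟨h1, h2⟩)
      · rw [pow_apply_eq_iff] at h; exact dvd_mul_of_dvd_right h 2
      · have h5 : (x ^ (L x a / 2 + j)) a = a := by
          rw [pow_add, Perm.mul_apply, h4]; exact hp_hp' hk h2
        rw [pow_apply_eq_iff] at h5
        obtain ⟨l, hl⟩ := L_even hk h2
        rw [hl, Nat.mul_div_cancel_left _ (by norm_num : 0 < 2)] at h5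
        obtain ⟨c, hc⟩ := h5
        rw [hl]
        have : 2 * l ∣ 2 * l + 2 * j := ⟨2 * c, by rw [← mul_add, hc]; ring⟩
        exact (Nat.dvd_add_right dvd_rfl).mp this
      · rw [(L_eq_one_iff x a).mpr h2]; exact one_dvd _
    · intro hdvd
      by_cases ha : x a = a
      · right; right
        have : (x ^ j) a = a := by
          rw [pow_apply_eq_iff, (L_eq_one_iff x a).mpr ha]; exact one_dvd _
        rw [this]; exact ⟨ha, ha⟩
      · obtain ⟨l, hl⟩ := L_even hk ha
        have h4 : l ∣ j := by
          rw [hl] at hdvd; exact (Nat.mul_dvd_mul_iff_left (by norm_num)).mp hdvd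
        obtain ⟨m, hm⟩ := h4
        rcases Nat.even_or_odd' m with ⟨m', hm' | hm'⟩
        · have : (x ^ j) a = a := by
            rw [pow_apply_eq_iff, hl, hm, hm']; exact ⟨m', by ring⟩
          rw [this]; exact rho_refl x a
        · have : (x ^ j) a = hp x a := by
            have hj' : j = l + (L x a) * m' := by rw [hm, hm', hl]; ring
            rw [hp, hj', pow_add, Perm.mul_apply, (pow_apply_eq_iff x a _).mpr (dvd_mul_right _ _),
              hl, Nat.mul_div_cancel_left _ (by norm_num : 0 < 2)]
          rw [this]; exact rho_symm x (rho_hp hk ha)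
  have key : ∀ a b, L x a ∣ 2 → L x b ∣ 2 → L x a = L x b → rho x a b := by
    intro a b h1 h2 h3
    by_cases ha : x a = a
    · have hb : x b = b := by rw [← L_eq_one_iff, ← h3, L_eq_one_iff]; exact ha
      exact Or.inr (Or.inr ⟨ha, hb⟩)
    · have hL2 : L x a = 2 := by
        rcases (Nat.dvd_prime Nat.prime_two).mp h1 with h | h
        · exact absurd ((L_eq_one_iff x a).mp h) ha
        · exact h
      obtain ⟨i, hi⟩ := (hg.cyc a b ha h3).exists_nat_pow_eq
      rcases Nat.even_or_odd' i with ⟨i', hi' | hi'⟩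
      · have : (x ^ i) a = a := by rw [pow_apply_eq_iff, hL2, hi']; exact dvd_mul_right _ _
        rw [← hi, this]; exact rho_refl x a
      · have : (x ^ i) a = hp x a := by
          have hi'' : i = 1 + 2 * i' := by omega
          rw [hp, hL2, hi'', pow_add, Perm.mul_apply,
            (pow_apply_eq_iff x a (2 * i')).mpr (by rw [hL2]; exact dvd_mul_right _ _)]
        rw [← hi, this]; exact rho_hp hk ha
  refine ⟨⟨k, ?_⟩, ?_, ?_⟩
  · rw [hxb, ← map_pow]
    have : (⟨x, hxN⟩ : NS (rhoS x)) ^ 2 ^ k = 1 := Subtype.ext (by rw [Subgroup.coe_pow]; exact hk)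
    rw [this, map_one]
  · intro qa qb
    induction qa using Quotient.inductionOn with | _ a => ?_
    induction qb using Quotient.inductionOn with | _ b => ?_
    intro hne hL
    have hLa : ∀ j, L x a ∣ 2 * j ↔ L x b ∣ 2 * j := fun j => by
      rw [← Q1, ← Q1, pow_apply_eq_iff, pow_apply_eq_iff, hL]
    have hna : ¬ L x a ∣ 2 := by
      intro h; apply hne
      have := (Q1 1 a).mpr (by simpa using h)
      simpa using this
    have ha : x a ≠ a := by
      intro h; apply hna; rw [(L_eq_one_iff x a).mpr h]; exact one_dvd _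
    have hb : x b ≠ b := by
      intro h; apply hna
      have := (hLa 1).mpr (by rw [(L_eq_one_iff x b).mpr h]; exact one_dvd _)
      simpa using this
    obtain ⟨l, hl⟩ := L_even hk ha
    obtain ⟨l', hl'⟩ := L_even hk hb
    have hLL : L x a = L x b := by
      apply Nat.dvd_antisymm
      · have := (hLa l').mpr (by rw [hl'])
        rwa [← hl'] at this
      · have := (hLa l).mp (by rw [hl])
        rwa [← hl] at this
    obtain ⟨i, hi⟩ := (hg.cyc a b ha hLL).exists_nat_pow_eq
    exact ⟨(i : ℤ), by rw [zpow_natCast, hpow, hi]⟩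
  · intro qa qb qc
    induction qa using Quotient.inductionOn with | _ a => ?_
    induction qb using Quotient.inductionOn with | _ b => ?_
    induction qc using Quotient.inductionOn with | _ c => ?_
    intro ha hb hc
    have ha' : L x a ∣ 2 := by
      have := (Q1 1 a).mp (by simpa using ha); simpa using this
    have hb' : L x b ∣ 2 := by
      have := (Q1 1 b).mp (by simpa using hb); simpa using this
    have hc' : L x c ∣ 2 := by
      have := (Q1 1 c).mp (by simpa using hc); simpa using this
    have h3 : L x a = L x b ∨ L x a = L x c ∨ L x b = L x c := by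
      rcases (Nat.dvd_prime Nat.prime_two).mp ha' with h | h <;>
      rcases (Nat.dvd_prime Nat.prime_two).mp hb' with h' | h' <;>
      rcases (Nat.dvd_prime Nat.prime_two).mp hc' with h'' | h'' <;> omega
    rcases h3 with h | h | h
    · exact Or.inl ((hqe a b).mpr (key a b ha' hb' h))
    · exact Or.inr (Or.inl ((hqe a c).mpr (key a c ha' hc' h)))
    · exact Or.inr (Or.inr ((hqe b c).mpr (key b c hb' hc' h)))

end Cfsg.Agent.Lib.Helper10.Us
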