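import Mathlib
import Cfsg.Agent.Lib.Helper10.UsD

namespace Cfsg.Agent.Lib.Helper10.Us
open Equiv

universe u

theorem pgroup_sup : ∀ (n : ℕ) (α : Type u) [Finite α], Nat.card α = n → ∀ x : Perm α, Good x →
    ∀ R1 R2 : Subgroup (Perm α), IsPGroup 2 R1 → IsPGroup 2 R2 → x ∈ R1 → x ∈ R2 →
    IsPGroup 2 ↥(R1 ⊔ R2) := by
  intro n
  induction n using Nat.strong_induction_on with
  | _ n ih =>
    intro α _ hcard x hg R1 R2 h1 h2 hx1 hx2
    obtain ⟨k, hk⟩ := hg.pw
    by_cases hnt : ∃ a b, rho x a b ∧ a ≠ b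
    · have hN : ∀ R : Subgroup (Perm α), IsPGroup 2 R → x ∈ R → R ≤ NS (rhoS x) := by
        intro R hR hxR g hgR a b
        constructor
        · exact fun h => rho_pres hg hR hxR hgR h
        · intro h
          have h' : rho x (g⁻¹ (g a)) (g⁻¹ (g b)) := rho_pres hg hR hxR (R.inv_mem hgR) h
          have h'' : rho x a b := by simpa using h'
          exact h''
      have hxN : x ∈ NS (rhoS x) := hN R1 h1 hx1 hx1
      have hb1 : IsPGroup 2 ((R1.subgroupOf (NS (rhoS x))).map (qhom (rhoS x))) :=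
        (h1.comap_subtype).map (qhom (rhoS x))
      have hb2 : IsPGroup 2 ((R2.subgroupOf (NS (rhoS x))).map (qhom (rhoS x))) :=
        (h2.comap_subtype).map (qhom (rhoS x))
      have hxb1 : qhom (rhoS x) ⟨x, hxN⟩ ∈ (R1.subgroupOf (NS (rhoS x))).map (qhom (rhoS x)) :=
        Subgroup.mem_map.mpr ⟨⟨x, hxN⟩, Subgroup.mem_subgroupOf.mpr hx1, rfl⟩
      have hxb2 : qhom (rhoS x) ⟨x, hxN⟩ ∈ (R2.subgroupOf (NS (rhoS x))).map (qhom (rhoS x)) :=
        Subgroup.mem_map.mpr ⟨⟨x, hxN⟩, Subgroup.mem_subgroupOf.mpr hx2, rfl⟩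
      have hlt : Nat.card (Quotient (rhoS x)) < n := by
        classical
        rw [← hcard]
        let _ := Fintype.ofFinite α
        let _ := Fintype.ofFinite (Quotient (rhoS x))
        rw [Nat.card_eq_fintype_card, Nat.card_eq_fintype_card]
        apply Fintype.card_lt_of_surjective_not_injective (Quotient.mk (rhoS x)) Quotient.mk_surjective
        intro hinj
        obtain ⟨a, b, hab, hne⟩ := hnt
        exact hne (hinj (Quotient.sound hab))
      have IH := ih _ hlt (Quotient (rhoS x)) rfl (qhom (rhoS x) ⟨x, hxN⟩) (good_quot hg hxN) _ _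
        hb1 hb2 hxb1 hxb2
      have hV : R1 ⊔ R2 ≤ ((((R1.subgroupOf (NS (rhoS x))).map (qhom (rhoS x))) ⊔
          ((R2.subgroupOf (NS (rhoS x))).map (qhom (rhoS x)))).comap (qhom (rhoS x))).map
          (NS (rhoS x)).subtype := by
        apply sup_le
        · intro g hg1
          exact Subgroup.mem_map.mpr ⟨⟨g, hN R1 h1 hx1 hg1⟩, Subgroup.mem_comap.mpr
            (Subgroup.mem_sup_left (Subgroup.mem_map.mpr ⟨_, Subgroup.mem_subgroupOf.mpr hg1, rfl⟩)),
            rfl⟩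
        · intro g hg2
          exact Subgroup.mem_map.mpr ⟨⟨g, hN R2 h2 hx2 hg2⟩, Subgroup.mem_comap.mpr
            (Subgroup.mem_sup_right (Subgroup.mem_map.mpr ⟨_, Subgroup.mem_subgroupOf.mpr hg2, rfl⟩)),
            rfl⟩
      rintro ⟨g, hgS⟩
      obtain ⟨g', hg', hgg⟩ := Subgroup.mem_map.mp (hV hgS)
      obtain ⟨m, hm⟩ := IH ⟨qhom (rhoS x) g', hg'⟩
      have hm' : (qhom (rhoS x) g') ^ 2 ^ m = 1 := by
        have := congrArg Subtype.val hm
        simpa using this
      have hu : ∀ a, rho x ((g'.1 ^ 2 ^ m) a) a := by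
        intro a
        have h3 : qhom (rhoS x) (g' ^ 2 ^ m) (Quotient.mk _ a) = Quotient.mk _ a := by
          rw [map_pow, hm']; rfl
        rw [qhom_mk] at h3
        exact Quotient.exact h3
      have hsq := sq_one_of_cls (r := rho x) (fun a b => rho_symm x) (fun a b c => rho_cls hg) (g'.1 ^ 2 ^ m) hu
      refine ⟨m + 1, Subtype.ext ?_⟩
      show g ^ 2 ^ (m + 1) = 1
      rw [← hgg, pow_succ, pow_mul, sq]
      exact hsq
    · push Not at hnt
      have hfix : ∀ a, x a = a := by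
        intro a; by_contra ha
        exact hp_ne hk ha (hnt a (hp x a) (rho_hp hk ha)).symm
      have hsub : ∀ a b : α, a = b := fun a b => hnt a b (Or.inr (Or.inr ⟨hfix a, hfix b⟩))
      intro g
      refine ⟨0, Subtype.ext ?_⟩
      ext a
      exact hsub _ _

theorem unique_sylow_of_good {α : Type u} [Finite α] {x : Perm α} (hg : Good x) :
    ∃! P : Sylow 2 (Perm α), x ∈ P := by
  obtain ⟨k, hk⟩ := hg.pw
  have hz : IsPGroup 2 (Subgroup.zpowers x) := by
    rintro ⟨g, hg'⟩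
    obtain ⟨i, rfl⟩ := Subgroup.mem_zpowers_iff.mp hg'
    refine ⟨k, Subtype.ext ?_⟩
    show (x ^ i) ^ 2 ^ k = 1
    rw [← zpow_natCast, ← zpow_mul, mul_comm, zpow_mul, zpow_natCast, hk, one_zpow]
  obtain ⟨P, hP⟩ := hz.exists_le_sylow
  refine ⟨P, hP (Subgroup.mem_zpowers x), fun Q hxQ => ?_⟩
  have hxP : x ∈ (P : Subgroup (Perm α)) := hP (Subgroup.mem_zpowers x)
  have hT := pgroup_sup _ α rfl x hg P Q P.isPGroup' Q.isPGroup' hxP hxQ
  have e1 := P.is_maximal' hT le_sup_left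
  have e2 := Q.is_maximal' hT le_sup_right
  exact Sylow.ext (e2.symm.trans e1)

end Cfsg.Agent.Lib.Helper10.Us
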