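import Mathlib
import Cfsg.Agent.Lib.Helper10.UsA

namespace Cfsg.Agent.Lib.Helper10.Us
open Equiv

universe u
variable {α : Type u}

lemma zpow_apply_eq_iff (x : Perm α) (a : α) (i : ℤ) : (x ^ i) a = a ↔ (L x a : ℤ) ∣ i := by
  rw [L]
  exact MulAction.zpow_smul_eq_iff_minimalPeriod_dvd (a := x) (b := a)

lemma zpow_apply_eq_zpow_apply_iff (x : Perm α) (a : α) (i j : ℤ) :
    (x ^ i) a = (x ^ j) a ↔ (L x a : ℤ) ∣ i - j := by
  rw [← zpow_apply_eq_iff, sub_eq_neg_add, zpow_add, zpow_neg, Perm.mul_apply, Perm.inv_eq_iff_eq]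

lemma w1 {x : Perm α} {p r : α} (hL : L x p = L x r) (i j : ℤ) :
    (x ^ i) r = (x ^ j) r ↔ (x ^ i) p = (x ^ j) p := by
  rw [zpow_apply_eq_zpow_apply_iff, zpow_apply_eq_zpow_apply_iff, hL]

open Classical in
noncomputable def phi (x : Perm α) (p r : α) (a : α) : α :=
  if h : ∃ i : ℤ, (x ^ i) r = a then (x ^ (Classical.choose h)) p else a

lemma phi_in {x : Perm α} {p r : α} (hL : L x p = L x r) (i : ℤ) :
    phi x p r ((x ^ i) r) = (x ^ i) p := by
  have h : ∃ j : ℤ, (x ^ j) r = (x ^ i) r := ⟨i, rfl⟩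
  rw [phi, dif_pos h]
  exact (w1 hL _ _).mp (Classical.choose_spec h)

lemma phi_out {x : Perm α} {p r a : α} (h : ¬ ∃ i : ℤ, (x ^ i) r = a) : phi x p r a = a := by
  rw [phi, dif_neg h]

lemma phi_r {x : Perm α} {p r : α} (hL : L x p = L x r) : phi x p r r = p := by
  have := phi_in hL (0 : ℤ)
  simpa using this

lemma phi_x {x : Perm α} {p r : α} (hL : L x p = L x r) (a : α) :
    phi x p r (x a) = x (phi x p r a) := by
  by_cases h : ∃ i : ℤ, (x ^ i) r = a
  · obtain ⟨i, rfl⟩ := h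
    have e : x ((x ^ i) r) = (x ^ (1 + i)) r := by rw [zpow_add, zpow_one, Perm.mul_apply]
    rw [e, phi_in hL, phi_in hL, zpow_add, zpow_one, Perm.mul_apply]
  · have h' : ¬ ∃ i : ℤ, (x ^ i) r = x a := by
      rintro ⟨i, hi⟩
      refine h ⟨-1 + i, ?_⟩
      rw [zpow_add, zpow_neg_one, Perm.mul_apply, hi]
      simp
    rw [phi_out h, phi_out h']

lemma phi_cls' {x : Perm α} {p r : α} (hL : L x p = L x r) {a b : α}
    (hab : phi x p r a = phi x p r b)
    (hiff : (∃ i : ℤ, (x ^ i) r = a) ↔ (∃ i : ℤ, (x ^ i) r = b)) : a = b := by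
  by_cases h : ∃ i : ℤ, (x ^ i) r = a
  · obtain ⟨j, rfl⟩ := hiff.mp h
    obtain ⟨i, rfl⟩ := h
    rw [phi_in hL, phi_in hL] at hab
    exact (w1 hL _ _).mpr hab
  · have h' := fun hb => h (hiff.mpr hb)
    rw [phi_out h, phi_out h'] at hab
    exact hab

lemma phi_cls {x : Perm α} {p r : α} (hL : L x p = L x r) (a b c : α)
    (hab : phi x p r a = phi x p r b) (hac : phi x p r a = phi x p r c) :
    a = b ∨ a = c ∨ b = c := by
  by_cases ha : ∃ i : ℤ, (x ^ i) r = a <;> by_cases hb : ∃ i : ℤ, (x ^ i) r = b <;>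
    by_cases hc : ∃ i : ℤ, (x ^ i) r = c
  · exact Or.inl (phi_cls' hL hab (iff_of_true ha hb))
  · exact Or.inl (phi_cls' hL hab (iff_of_true ha hb))
  · exact Or.inr (Or.inl (phi_cls' hL hac (iff_of_true ha hc)))
  · exact Or.inr (Or.inr (phi_cls' hL (hab.symm.trans hac) (iff_of_false hb hc)))
  · exact Or.inr (Or.inr (phi_cls' hL (hab.symm.trans hac) (iff_of_true hb hc)))
  · exact Or.inr (Or.inl (phi_cls' hL hac (iff_of_false ha hc)))
  · exact Or.inl (phi_cls' hL hab (iff_of_false ha hb))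
  · exact Or.inl (phi_cls' hL hab (iff_of_false ha hb))

def BW (x : Perm α) (p r : α) : Subgroup (Perm α) where
  carrier := {g | ∃ i : ℤ, ∀ a, phi x p r (g a) = (x ^ i) (phi x p r a)}
  one_mem' := ⟨0, fun a => by simp⟩
  mul_mem' := by
    rintro g h ⟨i, hi⟩ ⟨j, hj⟩
    exact ⟨i + j, fun a => by rw [Perm.mul_apply, hi, hj, zpow_add, Perm.mul_apply]⟩
  inv_mem' := by
    rintro g ⟨i, hi⟩
    refine ⟨-i, fun a => ?_⟩
    have h1 := hi (g⁻¹ a)
    have h2 : g (g⁻¹ a) = a := by simp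
    rw [h2] at h1
    rw [zpow_neg, Perm.eq_inv_iff_eq, ← h1]

lemma x_mem_BW {x : Perm α} {p r : α} (hL : L x p = L x r) : x ∈ BW x p r :=
  ⟨1, fun a => by rw [zpow_one]; exact phi_x hL a⟩

lemma swap_mem_BW [DecidableEq α] {x : Perm α} {p r : α} (hL : L x p = L x r)
    (hnsc : ¬ ∃ i : ℤ, (x ^ i) r = p) : swap p r ∈ BW x p r := by
  refine ⟨0, fun a => ?_⟩
  rw [zpow_zero, Perm.one_apply]
  by_cases hap : a = p
  · subst hap; rw [swap_apply_left, phi_r hL, phi_out hnsc]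
  · by_cases har : a = r
    · subst har; rw [swap_apply_right, phi_r hL, phi_out hnsc]
    · rw [swap_apply_of_ne_of_ne hap har]

lemma BW_pgroup {x : Perm α} {p r : α} {k : ℕ} (hk : x ^ (2 ^ k) = 1) (hL : L x p = L x r) :
    IsPGroup 2 (BW x p r) := by
  rintro ⟨g, i, hi⟩
  have hpow : ∀ (n : ℕ) (a : α), phi x p r ((g ^ n) a) = (x ^ ((n : ℤ) * i)) (phi x p r a) := by
    intro n
    induction n with
    | zero => intro a; simp
    | succ n ih =>
      intro a
      rw [pow_succ, Perm.mul_apply, ih, hi, ← Perm.mul_apply, ← zpow_add]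
      congr 2
      push_cast; ring
  have hu : ∀ a, phi x p r ((g ^ 2 ^ k) a) = phi x p r a := by
    intro a
    rw [hpow, zpow_mul, zpow_natCast, hk, one_zpow, Perm.one_apply]
  have hsq := sq_one_of_cls (r := fun a b => phi x p r a = phi x p r b) (fun a b h => h.symm)
    (phi_cls hL) (g ^ 2 ^ k) hu
  refine ⟨k + 1, Subtype.ext ?_⟩
  show g ^ 2 ^ (k + 1) = 1
  rw [pow_succ, pow_mul, sq]
  exact hsq

theorem not_bad_of_unique [DecidableEq α] [Fintype α] {x : Perm α} {k : ℕ} (hk : x ^ (2 ^ k) = 1)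
    (huniq : ∃! P : Sylow 2 (Perm α), x ∈ P) (p r r' : α) (h1 : p ≠ r) (h2 : p ≠ r')
    (h3 : r ≠ r') (hL : L x p = L x r) (hL' : L x p = L x r') (hs : ¬ x.SameCycle r p)
    (hs' : ¬ x.SameCycle r' p) : False := by
  obtain ⟨P, hxP, hPu⟩ := huniq
  have hmem : ∀ B : Subgroup (Perm α), IsPGroup 2 B → x ∈ B → B ≤ P := by
    intro B hB hxB
    obtain ⟨Q, hQ⟩ := hB.exists_le_sylow
    have := hPu Q (hQ hxB)
    rw [← this]; exact hQ
  have m1 : swap p r ∈ (P : Subgroup (Perm α)) :=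
    hmem _ (BW_pgroup hk hL) (x_mem_BW hL) (swap_mem_BW hL hs)
  have m2 : swap p r' ∈ (P : Subgroup (Perm α)) :=
    hmem _ (BW_pgroup hk hL') (x_mem_BW hL') (swap_mem_BW hL' hs')
  have m3 := (P : Subgroup (Perm α)).mul_mem m1 m2
  have h3c : (swap p r * swap p r').IsThreeCycle := Perm.isThreeCycle_swap_mul_swap_same h1 h2 h3
  obtain ⟨m, hm⟩ := P.isPGroup' ⟨_, m3⟩
  have hm' : (swap p r * swap p r') ^ 2 ^ m = 1 := by
    have := congrArg Subtype.val hm
    simpa using this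
  have hdvd := orderOf_dvd_of_pow_eq_one hm'
  rw [h3c.orderOf] at hdvd
  have := (Nat.Prime.dvd_of_dvd_pow Nat.prime_three hdvd)
  omega

theorem good_of_unique [DecidableEq α] [Fintype α] {x : Perm α} {k : ℕ} (hk : x ^ (2 ^ k) = 1)
    (huniq : ∃! P : Sylow 2 (Perm α), x ∈ P) : Good x := by
  refine ⟨⟨k, hk⟩, ?_, ?_⟩
  · intro a b ha hL
    by_contra hns
    have hb : x b ≠ b := by rw [Ne, ← L_eq_one_iff, ← hL, L_eq_one_iff]; exact ha
    refine not_bad_of_unique hk huniq a b (x b) ?_ ?_ (Ne.symm hb) hL (by rw [L_apply]; exact hL)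
      (fun h => hns h.symm) ?_
    · rintro rfl; exact hns (Perm.SameCycle.refl _ _)
    · intro h
      apply hns
      have : x.SameCycle a (x b) := by rw [← h]
      exact Perm.sameCycle_apply_right.mp this
    · intro h
      exact hns (Perm.sameCycle_apply_left.mp h).symm
  · intro a b c ha hb hc
    by_contra hcon
    push Not at hcon
    obtain ⟨h1, h2, h3⟩ := hcon
    have hfix : ∀ u v : α, x u = u → u ≠ v → ¬ x.SameCycle u v := by
      rintro u v hu huv ⟨i, hi⟩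
      rw [Perm.zpow_apply_eq_self_of_apply_eq_self hu] at hi
      exact huv hi
    have La := (L_eq_one_iff x a).mpr ha
    have Lb := (L_eq_one_iff x b).mpr hb
    have Lc := (L_eq_one_iff x c).mpr hc
    exact not_bad_of_unique hk huniq a b c h1 h2 h3 (La.trans Lb.symm) (La.trans Lc.symm)
      (hfix b a hb (Ne.symm h1)) (hfix c a hc (Ne.symm h2))

end Cfsg.Agent.Lib.Helper10.Us
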