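import Mathlib
import Cfsg.Agent.Lib.Helper10.UsE
import Cfsg.Agent.Lib.Helper10.UsF

namespace Cfsg.Agent.Lib.Helper10.Us
open Equiv

universe u
variable {α : Type u}

lemma T1 [Fintype α] [DecidableEq α] (x : Perm α) :
    Fintype.card α ≤ x.support.card + 2 ↔
      ∀ a b c, x a = a → x b = b → x c = c → a = b ∨ a = c ∨ b = c := by
  have h1 := Finset.card_add_card_compl x.support
  have hmem : ∀ a, a ∈ x.supportᶜ ↔ x a = a := by intro a; simp [Perm.mem_support]
  constructor
  · intro h a b c ha hb hc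
    by_contra hcon
    push Not at hcon
    have : 2 < x.supportᶜ.card := Finset.two_lt_card.mpr
      ⟨a, (hmem a).mpr ha, b, (hmem b).mpr hb, c, (hmem c).mpr hc, hcon.1, hcon.2.1, hcon.2.2⟩
    omega
  · intro h
    by_contra hcon
    have : 2 < x.supportᶜ.card := by omega
    obtain ⟨a, ha, b, hb, c, hc, h1, h2, h3⟩ := Finset.two_lt_card.mp this
    rcases h a b c ((hmem a).mp ha) ((hmem b).mp hb) ((hmem c).mp hc) with h | h | h <;>
      contradiction

lemma card_support_cycleOf_eq_L [Fintype α] [DecidableEq α] (x : Perm α) {a : α} (ha : x a ≠ a) :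
    (x.cycleOf a).support.card = L x a := by
  have hmem : a ∈ (x.cycleOf a).support :=
    Perm.mem_support_cycleOf_iff.mpr ⟨Perm.SameCycle.refl _ _, Perm.mem_support.mpr ha⟩
  have h := fun n => (Perm.isCycleOn_support_cycleOf x a).pow_apply_eq hmem (n := n)
  apply Nat.dvd_antisymm
  · rw [← h, pow_apply_eq_iff]
  · rw [← pow_apply_eq_iff, h]

lemma T2 [Fintype α] [DecidableEq α] (x : Perm α) :
    x.cycleType.Nodup ↔ ∀ a b, x a ≠ a → L x a = L x b → x.SameCycle a b := by
  constructor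
  · intro hnd a b ha hL
    have hb : x b ≠ b := by rw [Ne, ← L_eq_one_iff, ← hL, L_eq_one_iff]; exact ha
    rw [Perm.cycleType_def] at hnd
    have ma : x.cycleOf a ∈ x.cycleFactorsFinset.val :=
      Finset.mem_val.mpr (Perm.cycleOf_mem_cycleFactorsFinset_iff.mpr (Perm.mem_support.mpr ha))
    have mb : x.cycleOf b ∈ x.cycleFactorsFinset.val :=
      Finset.mem_val.mpr (Perm.cycleOf_mem_cycleFactorsFinset_iff.mpr (Perm.mem_support.mpr hb))
    have heq := Multiset.inj_on_of_nodup_map hnd _ ma _ mb (by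
      simp only [Function.comp_apply]
      rw [card_support_cycleOf_eq_L x ha, card_support_cycleOf_eq_L x hb, hL])
    have hmem : b ∈ (x.cycleOf b).support :=
      Perm.mem_support_cycleOf_iff.mpr ⟨Perm.SameCycle.refl _ _, Perm.mem_support.mpr hb⟩
    rw [← heq] at hmem
    exact (Perm.mem_support_cycleOf_iff.mp hmem).1
  · intro hcyc
    rw [Perm.cycleType_def]
    apply Multiset.Nodup.map_on _ x.cycleFactorsFinset.nodup
    intro c1 hc1 c2 hc2 hcard
    rw [Finset.mem_val] at hc1 hc2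
    obtain ⟨a, ha⟩ := (Perm.mem_cycleFactorsFinset_iff.mp hc1).1.nonempty_support
    obtain ⟨b, hb⟩ := (Perm.mem_cycleFactorsFinset_iff.mp hc2).1.nonempty_support
    have e1 := Perm.cycle_is_cycleOf ha hc1
    have e2 := Perm.cycle_is_cycleOf hb hc2
    have ha' : x a ≠ a := Perm.mem_support.mp (Perm.mem_cycleFactorsFinset_support_le hc1 ha)
    have hb' : x b ≠ b := Perm.mem_support.mp (Perm.mem_cycleFactorsFinset_support_le hc2 hb)
    simp only [Function.comp_apply] at hcard
    rw [e1, e2, card_support_cycleOf_eq_L x ha', card_support_cycleOf_eq_L x hb'] at hcard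
    rw [e1, e2]
    exact (hcyc a b ha' hcard).cycleOf_eq

theorem main [Fintype α] [DecidableEq α] (x : Perm α) (hx : ∃ k : ℕ, orderOf x = 2 ^ k) :
    (∃! P : Sylow 2 (Perm α), x ∈ P) ↔
      (Fintype.card α ≤ x.support.card + 2 ∧ x.cycleType.Nodup) := by
  obtain ⟨k, hk⟩ := hx
  have hk' : x ^ (2 ^ k) = 1 := by rw [← hk]; exact pow_orderOf_eq_one x
  constructor
  · intro huniq
    have hg := good_of_unique hk' huniq
    exact ⟨(T1 x).mpr hg.fix, (T2 x).mpr hg.cyc⟩
  · rintro ⟨h1, h2⟩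
    exact unique_sylow_of_good ⟨⟨k, hk'⟩, (T2 x).mp h2, (T1 x).mp h1⟩

end Cfsg.Agent.Lib.Helper10.Us
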